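import Cfsg.Agent.H41.C3TC.Kw.RChk0
import Cfsg.Agent.H41.C3TC.Kw.RChk1
import Cfsg.Agent.H41.C3TC.Kw.RChk2
import Cfsg.Agent.H41.C3TC.Kw.RChk3
import Cfsg.Agent.H41.C3TC.Kw.RChk4
import Cfsg.Agent.H41.C3TC.Kw.RChk5
import Cfsg.Agent.H41.C3TC.Kw.RChk6
import Cfsg.Agent.H41.C3TC.Kw.RChk7
import Cfsg.Agent.H41.C3TC.Kw.RChk8
import Cfsg.Agent.H41.C3TC.Kw.RChk9
import Cfsg.Agent.H41.C3TC.Kw.RChk10
import Cfsg.Agent.H41.C3TC.Kw.RChk11
import Cfsg.Agent.H41.C3TC.Kw.RChk12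
import Cfsg.Agent.H41.C3TC.Kw.RChk13
import Cfsg.Agent.H41.C3TC.Kw.RChk14
import Cfsg.Agent.H41.C3TC.Kw.RChk15
import Cfsg.Agent.H41.C3TC.Kw.RChk16
import Cfsg.Agent.H41.C3TC.Kw.RChk17
import Cfsg.Agent.H41.C3TC.Kw.RChk18
import Cfsg.Agent.H41.C3TC.Kw.RChk19
import Cfsg.Agent.H41.C3TC.Kw.RChk20
import Cfsg.Agent.H41.C3TC.Kw.RChk21
import Cfsg.Agent.H41.C3TC.Kw.RChk22
import Cfsg.Agent.H41.C3TC.Kw.RChk23
import Cfsg.Agent.H41.C3TC.Kw.RChk24
import Cfsg.Agent.H41.C3TC.Kw.RChk25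
import Cfsg.Agent.H41.C3TC.Kw.RChk26
import Cfsg.Agent.H41.C3TC.Kw.RChk27
import Cfsg.Agent.H41.C3TC.Kw.RChk28
import Cfsg.Agent.H41.C3TC.Kw.RChk29
import Cfsg.Agent.H41.C3TC.Kw.RChk30
import Cfsg.Agent.H41.C3TC.Kw.RChk31

set_option autoImplicit false
set_option linter.all false

namespace Cfsg.Agent.H41.C3P

open Cfsg.Agent.H35

theorem tc3kw_rall : ∀ p, p < 80234 → tc3kw_rf p = true := by
  apply allR_blocks tc3kw_rf 80234 7 627 _ (by decide)
  intro k hk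
  by_cases h0 : k < 20
  · exact tc3kw_rfile_0 k h0 (by omega)
  by_cases h1 : k < 40
  · exact tc3kw_rfile_1 k h1 (by omega)
  by_cases h2 : k < 60
  · exact tc3kw_rfile_2 k h2 (by omega)
  by_cases h3 : k < 80
  · exact tc3kw_rfile_3 k h3 (by omega)
  by_cases h4 : k < 100
  · exact tc3kw_rfile_4 k h4 (by omega)
  by_cases h5 : k < 120
  · exact tc3kw_rfile_5 k h5 (by omega)
  by_cases h6 : k < 140
  · exact tc3kw_rfile_6 k h6 (by omega)
  by_cases h7 : k < 160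
  · exact tc3kw_rfile_7 k h7 (by omega)
  by_cases h8 : k < 180
  · exact tc3kw_rfile_8 k h8 (by omega)
  by_cases h9 : k < 200
  · exact tc3kw_rfile_9 k h9 (by omega)
  by_cases h10 : k < 220
  · exact tc3kw_rfile_10 k h10 (by omega)
  by_cases h11 : k < 240
  · exact tc3kw_rfile_11 k h11 (by omega)
  by_cases h12 : k < 260
  · exact tc3kw_rfile_12 k h12 (by omega)
  by_cases h13 : k < 280
  · exact tc3kw_rfile_13 k h13 (by omega)
  by_cases h14 : k < 300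
  · exact tc3kw_rfile_14 k h14 (by omega)
  by_cases h15 : k < 320
  · exact tc3kw_rfile_15 k h15 (by omega)
  by_cases h16 : k < 340
  · exact tc3kw_rfile_16 k h16 (by omega)
  by_cases h17 : k < 360
  · exact tc3kw_rfile_17 k h17 (by omega)
  by_cases h18 : k < 380
  · exact tc3kw_rfile_18 k h18 (by omega)
  by_cases h19 : k < 400
  · exact tc3kw_rfile_19 k h19 (by omega)
  by_cases h20 : k < 420
  · exact tc3kw_rfile_20 k h20 (by omega)
  by_cases h21 : k < 440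
  · exact tc3kw_rfile_21 k h21 (by omega)
  by_cases h22 : k < 460
  · exact tc3kw_rfile_22 k h22 (by omega)
  by_cases h23 : k < 480
  · exact tc3kw_rfile_23 k h23 (by omega)
  by_cases h24 : k < 500
  · exact tc3kw_rfile_24 k h24 (by omega)
  by_cases h25 : k < 520
  · exact tc3kw_rfile_25 k h25 (by omega)
  by_cases h26 : k < 540
  · exact tc3kw_rfile_26 k h26 (by omega)
  by_cases h27 : k < 560
  · exact tc3kw_rfile_27 k h27 (by omega)
  by_cases h28 : k < 580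
  · exact tc3kw_rfile_28 k h28 (by omega)
  by_cases h29 : k < 600
  · exact tc3kw_rfile_29 k h29 (by omega)
  by_cases h30 : k < 620
  · exact tc3kw_rfile_30 k h30 (by omega)
  by_cases h31 : k < 627
  · exact tc3kw_rfile_31 k h31 (by omega)
  exact absurd hk (by omega)

theorem tc3kw_circ_ok : circChk (fullW c3kw_rws c3kw_prels) tc3kw_circT 0 tc3kw_ccert = true := by decide +kernel
theorem tc3kw_hc_ok : allR (fun c => hcChk tc3kw_rsw tc3kw_hc1T tc3kw_hc2T c) 4 2 0 = true := by decide +kernel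
theorem tc3kw_h0 : W.RData.aord (tc3kw_rd.ent 0 1) = 0 := by decide +kernel

end Cfsg.Agent.H41.C3P
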