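import Cfsg.Agent.H41.C3TC.Kw.RTab0
import Cfsg.Agent.H41.C3TC.Kw.RTab1
import Cfsg.Agent.H41.C3TC.Kw.RTab2

set_option autoImplicit false
set_option linter.all false

namespace Cfsg.Agent.H41.C3P

open Cfsg.Agent.H35

noncomputable def tc3kw_rrowT_t : ℕ → ℕ := (nd (nat_lit 80) (nd (nat_lit 40) (nd (nat_lit 16) (nd (nat_lit 8) tc3kw_rrowT_t_c0 tc3kw_rrowT_t_c1) (nd (nat_lit 24) tc3kw_rrowT_t_c2 (nd (nat_lit 32) tc3kw_rrowT_t_c3 tc3kw_rrowT_t_c4))) (nd (nat_lit 56) (nd (nat_lit 48) tc3kw_rrowT_t_c5 tc3kw_rrowT_t_c6) (nd (nat_lit 64) tc3kw_rrowT_t_c7 (nd (nat_lit 72) tc3kw_rrowT_t_c8 tc3kw_rrowT_t_c9)))) (nd (nat_lit 120) (nd (nat_lit 96) (nd (nat_lit 88) tc3kw_rrowT_t_c10 tc3kw_rrowT_t_c11) (nd (nat_lit 104) tc3kw_rrowT_t_c12 (nd (nat_lit 112) tc3kw_rrowT_t_c13 tc3kw_rrowT_t_c14))) (nd (nat_lit 136) (nd (nat_lit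 128) tc3kw_rrowT_t_c15 tc3kw_rrowT_t_c16) (nd (nat_lit 144) tc3kw_rrowT_t_c17 (nd (nat_lit 152) tc3kw_rrowT_t_c18 tc3kw_rrowT_t_c19)))))
noncomputable def tc3kw_rrowT : ℕ → ℕ := fun p => Nat.land (Nat.shiftRight (tc3kw_rrowT_t (Nat.shiftRight p (nat_lit 9))) (Nat.mul (nat_lit 672) (Nat.land p (nat_lit 511)))) (nat_lit 19595533242629369747791401605606558418088927130487463844933662202465281465266200982457647235235528838735010358900495684567911298014908298340170885513171109743249504533143507682501017145381579984990109695)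

noncomputable def tc3kw_circT_c0 : ℕ → List Gen := (nd 32 (nd 16 (nd 8 (nd 4 (nd 2 (nd 1 (lf [.e, .a, .e, .a, .e, .a, .e, .a, .e, .a]) (lf [.a, .d, .a, .b, .a, .d, .a, .b])) (nd 3 (lf [.a, .a]) (lf [.a, .b, .a, .d, .a, .b, .a, .d]))) (nd 6 (nd 5 (lf [.c, .d, .c, .d, .c, .d, .c, .d]) (lf [.c, .c])) (nd 7 (lf [.b, .a, .b, .a, .b, .a, .b, .a, .b, .a]) (lf [.b, .b])))) (nd 12 (nd 10 (nd 9 (lf [.d, .a, .d, .a, .d, .a, .d, .a, .d, .a]) (lf [.d, .d])) (nd 11 (lf [.b, .a, .d, .a, .b, .a, .d, .a]) (lf [.a, .d, .a, .d, .a, .d, .a, .d, .a, .d]))) (nd 14 (nd 13 (lf [.d, .a, .b, .a, .d, .a, .b, .a]) (lf [.c, .a, .c, .a, .c, .a, .c, .a, .c, .a])) (nd 15 (lf [.d, .b, .a, .d, .b, .a, .d, .b, .a, .d, .b, .a, .d, .b, .a]) (lf [.a, .b, .a, .b, .a, .b, .a, .b, .a, .b]))))) (nd 24 (nd 20 (nd 18 (nd 17 (lf [.a, .d, .e, .c, .d, .e,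 .a, .c, .b, .c, .b, .c, .b, .a, .b, .d, .b, .d, .b, .a, .b, .c, .b, .c, .b, .c, .a, .b, .d, .b, .d, .b, .e, .d, .c, .e, .a, .b]) (lf [.d, .c, .a, .c, .d, .c, .a, .c, .d, .c, .a, .c])) (nd 19 (lf [.a, .c, .a, .b, .d, .b, .a, .c, .a, .b, .d, .b]) (lf [.b, .d, .b, .a, .c, .a, .b, .d, .b, .a, .c, .a]))) (nd 22 (nd 21 (lf [.c, .b, .c, .a, .b, .a, .b, .e, .d, .a, .b, .a, .a, .c, .b, .c, .b, .c, .b, .a, .a, .b, .a, .d, .a, .b, .c, .b, .c, .b, .c, .a, .e, .c, .b, .a, .b, .a]) (lf [.b, .d, .b, .d, .c, .e, .a, .c, .b, .c, .b, .c, .b, .a, .c, .d, .a, .b, .a, .c, .a, .b, .c, .b, .c, .b, .c, .a, .c, .a, .b, .a, .d, .c, .e, .b, .a, .b, .a, .c, .b, .c, .b, .a, .d])) (nd 23 (lf [.d, .b, .d, .b, .d, .b, .d, .b, .d, .b, .d, .b]) (lf [.b, .d, .a, .b, .d, .a, .b, .d, .a, .b, .d, .a, .b, .d, .a])))) (nd 28 (nd 26 (nd 25 (lf [.a, .b,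 .d, .a, .b, .d, .a, .b, .d, .a, .b, .d, .a, .b, .d]) (lf [.d, .c, .d, .c, .d, .c, .d, .c])) (nd 27 (lf [.c, .a, .c, .d, .c, .a, .c, .d, .c, .a, .c, .d]) (lf [.b, .a, .c, .a, .b, .d, .b, .a, .c, .a, .b, .d]))) (nd 30 (nd 29 (lf [.d, .a, .b, .d, .a, .b, .d, .a, .b, .d, .a, .b, .d, .a, .b]) (lf [.a, .d, .b, .a, .d, .b, .a, .d, .b, .a, .d, .b, .a, .d, .b])) (nd 31 (lf [.b, .d, .b, .d, .b, .d, .b, .d, .b, .d, .b, .d]) (lf [.a, .b, .a, .d, .c, .d, .b, .e, .a, .c, .b, .c, .b, .c, .b, .a, .c, .b, .d, .b, .d, .b, .c, .a, .b, .c, .b, .c, .b, .c, .a, .c, .b, .d, .b, .d, .b, .c, .e, .c, .b, .c, .b, .c])))))) (nd 48 (nd 40 (nd 36 (nd 34 (nd 33 (lf [.c, .b, .c, .b, .c, .b, .c, .b, .c, .b, .c, .b]) (lf [.c, .a, .b, .c, .d, .c, .d, .b, .e, .c, .b, .d, .b, .d, .b, .c, .c, .d, .a, .b, .a, .c, .c, .b, .d, .b, .d, .b, .c, .c, .a,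 .b, .a, .d, .c, .e, .b, .c, .a, .c, .a, .b, .a])) (nd 35 (lf [.d, .a, .c, .a, .d, .b, .a, .c, .a, .b, .a, .c, .a, .d, .a, .c, .a]) (lf [.a, .c, .a, .c, .a, .c, .a, .c, .a, .c]))) (nd 38 (nd 37 (lf [.e, .e]) (lf [.d, .a, .c, .a, .d, .b, .d, .b, .d, .b, .a, .c, .a, .d, .b])) (nd 39 (lf [.a, .b, .d, .b, .a, .b, .d, .b, .a, .b, .d, .b, .a, .b, .d, .b, .a, .b, .d, .b, .a, .b, .d, .b]) (lf [.b, .a, .d, .b, .a, .d, .b, .a, .d, .b, .a, .d, .b, .a, .d])))) (nd 44 (nd 42 (nd 41 (lf [.d, .b, .a, .b, .d, .b, .a, .b, .d, .b, .a, .b, .d, .b, .a, .b, .d, .b, .a, .b, .d, .b, .a, .b]) (lf [.a, .d, .b, .d, .a, .d, .b, .d, .a, .d, .b, .d, .a, .d, .b, .d, .a, .d, .b, .d, .a, .d, .b, .d])) (nd 43 (lf [.b, .d, .b, .a, .b, .d, .b, .a, .b, .d, .b, .a, .b, .d, .b, .a, .b, .d, .b, .a, .b, .d, .b, .a]) (lf [.d, .b, .d, .b, .d, .b, .a, .c,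 .a, .d, .b, .d, .a, .c, .a]))) (nd 46 (nd 45 (lf [.b, .d, .a, .d, .b, .d, .a, .d, .b, .d, .a, .d, .b, .d, .a, .d, .b, .d, .a, .d, .b, .d, .a, .d]) (lf [.d, .b, .d, .a, .d, .b, .d, .a, .d, .b, .d, .a, .d, .b, .d, .a, .d, .b, .d, .a, .d, .b, .d, .a])) (nd 47 (lf [.d, .a, .d, .b, .d, .a, .d, .b, .d, .a, .d, .b, .d, .a, .d, .b, .d, .a, .d, .b, .d, .a, .d, .b]) (lf [.b, .d, .b, .d, .b, .d, .a, .c, .a, .d, .b, .d, .a, .c, .a]))))) (nd 56 (nd 52 (nd 50 (nd 49 (lf [.b, .a, .b, .d, .b, .a, .b, .d, .b, .a, .b, .d, .b, .a, .b, .d, .b, .a, .b, .d, .b, .a, .b, .d]) (lf [.d, .b, .a, .c, .a, .b, .d, .b, .a, .c, .a, .b])) (nd 51 (lf [.b, .d, .a, .c, .a, .d, .b, .d, .b, .d, .b, .a, .c, .a, .d]) (lf [.a, .c, .a, .d, .b, .d, .b, .d, .b, .a, .c, .a, .d, .b, .d]))) (nd 54 (nd 53 (lf [.b, .c, .b, .c, .b, .c, .b, .c, .b, .c, .b, .c])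 (lf [.b, .a, .c, .a, .b, .a, .c, .a, .b, .a, .c, .a, .b, .a, .c, .a])) (nd 55 (lf [.a, .c, .a, .b, .a, .c, .a, .b, .a, .c, .a, .b, .a, .c, .a, .b]) (lf [.d, .b, .d, .a, .c, .a, .d, .b, .d, .b, .d, .b, .a, .c, .a])))) (nd 60 (nd 58 (nd 57 (lf [.c, .a, .d, .a, .c, .a, .b, .a, .c, .a, .b, .d, .a, .c, .a, .d, .a]) (lf [.c, .a, .b, .d, .a, .c, .a, .d, .a, .c, .a, .d, .a, .c, .a, .b, .a])) (nd 59 (lf [.c, .a, .b, .d, .b, .a, .c, .a, .b, .d, .b, .a]) (lf [.c, .a, .b, .a, .c, .a, .b, .a, .c, .a, .b, .a, .c, .a, .b, .a]))) (nd 62 (nd 61 (lf [.a, .c, .a, .d, .a, .c, .a, .d, .a, .c, .a, .d, .a, .c, .a, .d, .a, .c, .a, .d, .a, .c, .a, .d]) (lf [.a, .d, .b, .a, .c, .a, .b, .a, .c, .a, .d, .a, .c, .a, .d, .a, .c])) (nd 63 (lf [.a, .d, .b, .d, .b, .d, .b, .a, .c, .a, .d, .b, .d, .a, .c]) (lf [.a, .d, .a, .c, .a, .d, .a, .c, .a,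 .b, .a, .c, .a, .b, .d, .a, .c])))))))
noncomputable def tc3kw_circT_c1 : ℕ → List Gen := (nd 96 (nd 80 (nd 72 (nd 68 (nd 66 (nd 65 (lf [.c, .a, .d, .a, .c, .a, .d, .a, .c, .a, .d, .a, .c, .a, .d, .a, .c, .a, .d, .a, .c, .a, .d, .a]) (lf [.a, .c, .d, .c, .a, .c, .d, .c, .a, .c, .d, .c])) (nd 67 (lf [.a, .b, .d, .b, .a, .c, .a, .b, .d, .b, .a, .c]) (lf [.c, .a, .d, .a, .c, .a, .d, .a, .c, .a, .b, .a, .c, .a, .b, .d, .a]))) (nd 70 (nd 69 (lf [.a, .b, .a, .c, .a, .b, .a, .c, .a, .b, .a, .c, .a, .b, .a, .c]) (lf [.a, .d, .a, .c, .a, .d, .a, .c, .a, .d, .a, .c, .a, .d, .a, .c, .a, .d, .a, .c, .a, .d, .a, .c])) (nd 71 (lf [.a, .d, .a, .c, .a, .b, .a, .c, .a, .b, .d, .a, .c, .a, .d, .a, .c]) (lf [.a, .d, .b, .d, .a, .c, .a, .d, .b, .d, .b, .d, .b, .a, .c])))) (nd 76 (nd 74 (nd 73 (lf [.a, .e, .a, .e, .a, .e, .a, .e, .a,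 .e]) (lf [.c, .a, .d, .b, .d, .b, .d, .b, .a, .c, .a, .d, .b, .d, .a])) (nd 75 (lf [.c, .a, .b, .d, .b, .d, .b, .d, .a, .c, .a, .d, .b, .d, .a]) (lf [.d, .b, .a, .c, .a, .b, .a, .c, .a, .d, .a, .c, .a, .d, .a, .c, .a]))) (nd 78 (nd 77 (lf [.a, .c, .a, .d, .a, .c, .a, .d, .a, .c, .a, .b, .a, .c, .a, .b, .d]) (lf [.b, .a, .b, .c, .b, .a, .b, .c, .b, .a, .b, .c, .b, .a, .b, .c])) (nd 79 (lf [.a, .c, .a, .b, .a, .b, .a, .c, .a, .c, .b, .c, .a, .b, .a, .c, .a, .b, .a, .b, .c]) (lf [.a, .b, .a, .c, .a, .c, .a, .b, .a, .b, .c, .a, .b, .c, .b, .c, .b, .a, .c, .b]))))) (nd 88 (nd 84 (nd 82 (nd 81 (lf [.b, .c, .a, .b, .a, .c, .a, .b, .a, .b, .c, .a, .c, .a, .b, .a, .b, .a, .c, .a, .c]) (lf [.b, .c, .b, .a, .c, .b, .a, .b, .a, .c, .a, .c, .a, .b, .a, .b, .c, .a, .b, .c])) (nd 83 (lf [.a, .b, .c, .b, .a, .b, .c, .b, .a, .b,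 .c, .b, .a, .b, .c, .b]) (lf [.c, .b, .d, .a, .d, .b, .c, .a, .b, .e, .a, .c, .b, .d, .b, .d, .b, .c, .a, .a, .c, .b, .c, .b, .c, .b, .a, .a, .c, .b, .d, .b, .d, .b, .c, .a, .a, .b, .c, .b, .c, .b, .c, .a, .e, .a, .b, .a, .b, .c, .a, .b, .a, .c, .b]))) (nd 86 (nd 85 (lf [.d, .a, .c, .a, .b, .a, .c, .a, .b, .d, .a, .c, .a, .d, .a, .c, .a]) (lf [.a, .c, .a, .c, .b, .c, .a, .b, .a, .c, .a, .b, .a, .b, .c, .a, .c, .a, .b, .a, .b])) (nd 87 (lf [.b, .c, .b, .a, .b, .c, .b, .a, .b, .c, .b, .a, .b, .c, .b, .a]) (lf [.c, .d, .c, .a, .c, .d, .c, .a, .c, .d, .c, .a])))) (nd 92 (nd 90 (nd 89 (lf [.c, .b, .c, .d, .a, .c, .a, .c, .a, .b, .c, .b, .a, .b, .a, .d, .b, .c, .b, .d]) (lf [.c, .a, .c, .a, .b, .a, .b, .a, .c, .a, .c, .b, .a, .b, .a, .c, .a, .b, .a, .c, .b])) (nd 91 (lf [.d, .b, .a, .c, .a, .d, .b, .d, .a, .c, .a, .d,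 .b, .d, .b]) (lf [.d, .a, .c, .a, .d, .a, .c, .a, .b, .a, .c, .a, .b, .d, .a, .c, .a]))) (nd 94 (nd 93 (lf [.d, .c, .b, .d, .a, .b, .a, .b, .a, .c, .a, .c, .a, .b, .a, .c, .b, .c, .b, .d, .a, .c, .d, .c, .d, .b, .a]) (lf [.d, .a, .c, .a, .d, .a, .c, .a, .d, .a, .c, .a, .d, .a, .c, .a, .d, .a, .c, .a, .d, .a, .c, .a])) (nd 95 (lf [.a, .c, .b, .a, .b, .c, .a, .c, .d, .c, .b, .c, .b, .d, .b, .d, .c, .d, .b, .c]) (lf [.a, .c, .b, .c, .a, .c, .a, .b, .a, .b, .a, .c, .a, .c, .b, .a, .b, .a, .c, .a, .b])))))) (nd 112 (nd 104 (nd 100 (nd 98 (nd 97 (lf [.b, .a, .c, .b, .a, .b, .a, .c, .a, .c, .a, .b, .a, .b, .c, .a, .b, .c, .b, .c]) (lf [.d, .c, .b, .c, .d, .a, .c, .a, .c, .a, .b, .c, .b, .a, .b, .a, .d, .b, .c, .b])) (nd 99 (lf [.c, .a, .c, .b, .c, .a, .b, .a, .c, .a, .b, .a, .b, .c, .a, .c, .a, .b, .a, .b, .a]) (lf [.b,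 .c, .b, .c, .b, .a, .c, .b, .a, .b, .a, .c, .a, .c, .a, .b, .a, .b, .c, .a]))) (nd 102 (nd 101 (lf [.c, .a, .c, .a, .b, .a, .b, .a, .c, .a, .c, .b, .c, .a, .b, .a, .c, .a, .b, .a, .b]) (lf [.c, .a, .b, .a, .b, .c, .a, .b, .c, .b, .c, .b, .a, .c, .b, .a, .b, .a, .c, .a])) (nd 103 (lf [.a, .b, .a, .c, .a, .b, .a, .b, .c, .a, .c, .a, .b, .a, .b, .a, .c, .a, .c, .b, .c]) (lf [.d, .b, .d, .b, .c, .b, .c, .d, .c, .a, .c, .b, .a, .b, .c, .a, .c, .b, .d, .c])))) (nd 108 (nd 106 (nd 105 (lf [.b, .c, .b, .d, .a, .b, .a, .b, .c, .b, .a, .c, .a, .c, .a, .d, .c, .b, .c, .d]) (lf [.a, .c, .a, .b, .a, .b, .c, .a, .c, .a, .b, .a, .b, .a, .c, .a, .c, .b, .c, .a, .b])) (nd 107 (lf [.c, .a, .b, .a, .b, .a, .c, .a, .c, .b, .a, .b, .a, .c, .a, .b, .a, .c, .b, .c, .a]) (lf [.a, .c, .a, .b, .a, .b, .c, .a, .b, .c, .b, .c, .b, .a, .c,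 .b, .a, .b, .a, .c]))) (nd 110 (nd 109 (lf [.a, .d, .c, .d, .a, .b, .d, .a, .c, .b, .c, .a, .c, .b, .c, .a, .c, .b, .c, .d, .b]) (lf [.d, .c, .d, .a, .b, .d, .a, .c, .b, .c, .a, .c, .b, .c, .a, .c, .b, .c, .d, .b, .a])) (nd 111 (lf [.c, .b, .c, .a, .c, .a, .b, .a, .b, .a, .c, .a, .c, .b, .a, .b, .a, .c, .a, .b, .a]) (lf [.b, .c, .a, .b, .c, .b, .c, .b, .a, .c, .b, .a, .b, .a, .c, .a, .c, .a, .b, .a]))))) (nd 120 (nd 116 (nd 114 (nd 113 (lf [.b, .d, .b, .d, .b, .a, .c, .a, .d, .b, .d, .a, .c, .a, .d]) (lf [.b, .c, .d, .a, .c, .a, .c, .a, .b, .c, .b, .a, .b, .a, .d, .b, .c, .b, .d, .c])) (nd 115 (lf [.b, .d, .c, .b, .c, .d, .a, .c, .a, .c, .a, .b, .c, .b, .a, .b, .a, .d, .b, .c]) (lf [.d, .a, .b, .d, .c, .d, .c, .a, .d, .b, .c, .b, .c, .a, .b, .a, .c, .a, .c, .a, .b, .a, .b, .a, .d, .b, .c]))) (nd 118 (nd 117 (lf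 [.b, .a, .c, .b, .c, .b, .d, .a, .c, .d, .c, .d, .b, .a, .d, .c, .b, .d, .a, .b, .a, .b, .a, .c, .a, .c, .a]) (lf [.d, .b, .d, .b, .c, .a, .b, .a, .d, .e, .a, .c, .a, .b, .c, .a, .b, .c, .b, .a, .c, .d, .b, .d, .a, .b, .c, .b, .e, .c, .b, .d, .b, .d, .b, .c, .d, .a, .b, .a, .c, .b])) (nd 119 (lf [.c, .a, .b, .a, .c, .a, .b, .d, .a, .c, .a, .d, .a, .c, .a, .d, .a]) (lf [.a, .c, .a, .b, .c, .b, .a, .b, .a, .d, .b, .c, .b, .d, .c, .b, .c, .d, .a, .c])))) (nd 124 (nd 122 (nd 121 (lf [.b, .a, .d, .b, .c, .b, .d, .c, .b, .c, .d, .a, .c, .a, .c, .a, .b, .c, .b, .a]) (lf [.c, .d, .a, .c, .a, .c, .a, .b, .c, .b, .a, .b, .a, .d, .b, .c, .b, .d, .c, .b])) (nd 123 (lf [.c, .b, .a, .b, .a, .d, .b, .c, .b, .d, .c, .b, .c, .d, .a, .c, .a, .c, .a, .b]) (lf [.a, .c, .a, .d, .a, .c, .a, .b, .a, .c, .a, .b, .d, .a, .c, .a, .d])))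 (nd 126 (nd 125 (lf [.b, .c, .d, .b, .c, .b, .d, .a, .b, .a, .b, .c, .b, .a, .c, .a, .c, .a, .d, .c]) (lf [.c, .b, .a, .c, .a, .c, .a, .d, .c, .b, .c, .d, .b, .c, .b, .d, .a, .b, .a, .b])) (nd 127 (lf [.a, .c, .a, .d, .c, .b, .c, .d, .b, .c, .b, .d, .a, .b, .a, .b, .c, .b, .a, .c]) (lf [.b, .a, .c, .a, .b, .d, .a, .c, .a, .d, .a, .c, .a, .d, .a, .c, .a])))))))
noncomputable def tc3kw_circT_c2 : ℕ → List Gen := (nd 160 (nd 144 (nd 136 (nd 132 (nd 130 (nd 129 (lf [.b, .a, .c, .b, .c, .a, .c, .a, .b, .a, .b, .a, .c, .a, .c, .b, .a, .b, .a, .c, .a]) (lf [.b, .a, .c, .b, .a, .c, .a, .c, .a, .b, .a, .e, .d, .a, .b, .a, .a, .c, .b, .d, .b, .d, .b, .c, .a, .a, .b, .a, .d, .a, .c, .b, .d, .b, .d, .b, .c, .a, .e, .a, .d, .b, .a, .b, .c, .a, .d, .c, .b, .c])) (nd 131 (lf [.a, .c, .a, .b, .d, .b, .d, .b, .d, .a, .c, .a, .d,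 .b, .d]) (lf [.a, .b, .c, .a, .c, .a, .b, .a, .b, .a, .c, .a, .c, .b, .c, .a, .b, .a, .c, .a, .b]))) (nd 134 (nd 133 (lf [.a, .b, .c, .a, .c, .b, .a, .d, .b, .d, .c, .b, .c, .b, .c, .a, .b, .c, .b, .a, .b, .a, .d, .c]) (lf [.b, .c, .b, .c, .d, .c, .a, .c, .b, .a, .b, .c, .a, .c, .b, .d, .c, .d, .b, .d])) (nd 135 (lf [.d, .b, .d, .a, .c, .a, .b, .d, .b, .d, .b, .d, .a, .c, .a]) (lf [.d, .b, .d, .c, .d, .b, .c, .a, .c, .b, .a, .b, .c, .a, .c, .d, .c, .b, .c, .b])))) (nd 140 (nd 138 (nd 137 (lf [.b, .c, .b, .a, .c, .b, .a, .c, .a, .e, .d, .a, .b, .a, .c, .b, .d, .b, .d, .b, .c, .a, .b, .a, .d, .c, .b, .d, .b, .d, .b, .c, .e, .b, .c, .b, .a, .d, .b, .d, .c, .a]) (lf [.a, .b, .a, .c, .b, .c, .a, .c, .a, .b, .a, .b, .a, .c, .a, .c, .b, .a, .b, .a, .c])) (nd 139 (lf [.c, .b, .a, .b, .c, .b, .a, .b, .c, .b, .a, .b, .c,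 .b, .a, .b]) (lf [.a, .c, .a, .d, .b, .a, .c, .a, .b, .a, .c, .a, .d, .a, .c, .a, .d]))) (nd 142 (nd 141 (lf [.c, .b, .d, .a, .b, .a, .b, .c, .b, .a, .c, .a, .c, .a, .d, .c, .b, .c, .d, .b]) (lf [.d, .b, .c, .b, .d, .a, .b, .a, .b, .c, .b, .a, .c, .a, .c, .a, .d, .c, .b, .c])) (nd 143 (lf [.c, .a, .b, .c, .b, .c, .b, .a, .c, .b, .a, .b, .a, .c, .a, .c, .a, .b, .a, .b]) (lf [.b, .c, .a, .c, .b, .c, .a, .c, .b, .c, .a, .c, .b, .c, .a, .c, .b, .c, .a, .c, .b, .c, .a, .c]))))) (nd 152 (nd 148 (nd 146 (nd 145 (lf [.c, .b, .c, .a, .b, .a, .c, .a, .b, .a, .b, .c, .a, .c, .a, .b, .a, .b, .a, .c, .a]) (lf [.b, .c, .a, .c, .a, .b, .a, .b, .a, .c, .a, .c, .b, .a, .b, .a, .c, .a, .b, .a, .c])) (nd 147 (lf [.c, .d, .a, .b, .d, .c, .b, .c, .a, .c, .b, .c, .a, .c, .b, .c, .a, .d, .b, .a, .d]) (lf [.b, .a, .b, .a, .c, .a, .c,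 .a, .b, .a, .b, .c, .a, .b, .c, .b, .c, .b, .a, .c]))) (nd 150 (nd 149 (lf [.a, .b, .a, .b, .c, .a, .b, .c, .b, .c, .b, .a, .c, .b, .a, .b, .a, .c, .a, .c]) (lf [.c, .b, .d, .a, .b, .a, .b, .a, .c, .a, .c, .a, .b, .a, .c, .b, .c, .b, .d, .a, .c, .d, .c, .d, .b, .a, .d])) (nd 151 (lf [.a, .c, .b, .a, .b, .a, .c, .a, .c, .a, .b, .a, .b, .c, .a, .b, .c, .b, .c, .b]) (lf [.b, .a, .c, .a, .c, .b, .c, .a, .b, .a, .c, .a, .b, .a, .b, .c, .a, .c, .a, .b, .a])))) (nd 156 (nd 154 (nd 153 (lf [.c, .b, .d, .c, .b, .c, .d, .a, .c, .a, .c, .a, .b, .c, .b, .a, .b, .a, .d, .b]) (lf [.c, .b, .d, .b, .d, .c, .d, .b, .c, .a, .c, .b, .a, .b, .c, .a, .c, .d, .c, .b])) (nd 155 (lf [.c, .a, .c, .b, .a, .b, .a, .c, .a, .b, .a, .c, .b, .c, .a, .c, .a, .b, .a, .b, .a]) (lf [.c, .a, .b, .a, .c, .a, .b, .a, .b, .c, .a, .c, .a, .b, .a, .b,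 .a, .c, .a, .c, .b]))) (nd 158 (nd 157 (lf [.c, .b, .a, .c, .b, .a, .b, .a, .c, .a, .c, .a, .b, .a, .b, .c, .a, .b, .c, .b]) (lf [.c, .b, .c, .b, .a, .c, .b, .a, .b, .a, .c, .a, .c, .a, .b, .a, .b, .c, .a, .b])) (nd 159 (lf [.d, .a, .b, .d, .a, .c, .b, .c, .a, .c, .b, .c, .a, .c, .b, .c, .d, .b, .a, .d, .c]) (lf [.b, .a, .d, .c, .d, .a, .b, .d, .a, .c, .b, .c, .a, .c, .b, .c, .a, .c, .b, .c, .d])))))) (nd 176 (nd 168 (nd 164 (nd 162 (nd 161 (lf [.b, .a, .c, .a, .c, .a, .b, .a, .b, .c, .a, .b, .c, .b, .c, .b, .a, .c, .b, .a]) (lf [.c, .d, .c, .a, .c, .b, .a, .b, .c, .a, .c, .b, .d, .c, .d, .b, .d, .b, .c, .b])) (nd 163 (lf [.a, .c, .b, .c, .a, .c, .b, .c, .a, .c, .b, .c, .a, .c, .b, .c, .a, .c, .b, .c, .a, .c, .b, .c]) (lf [.a, .b, .d, .c, .b, .c, .a, .c, .b, .c, .a, .c, .b, .c, .a, .d, .b, .a, .d, .c, .d]))) (nd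 166 (nd 165 (lf [.c, .a, .d, .b, .a, .d, .c, .d, .a, .b, .d, .c, .b, .c, .a, .c, .b, .c, .a, .c, .b]) (lf [.a, .c, .b, .c, .a, .b, .a, .c, .a, .b, .a, .b, .c, .a, .c, .a, .b, .a, .b, .a, .c])) (nd 167 (lf [.c, .b, .c, .a, .c, .b, .c, .a, .d, .b, .a, .d, .c, .d, .a, .b, .d, .c, .b, .c, .a]) (lf [.b, .c, .a, .c, .a, .b, .a, .b, .a, .c, .a, .c, .b, .c, .a, .b, .a, .c, .a, .b, .a])))) (nd 172 (nd 170 (nd 169 (lf [.c, .d, .b, .c, .b, .d, .a, .b, .a, .b, .c, .b, .a, .c, .a, .c, .a, .d, .c, .b]) (lf [.b, .c, .b, .d, .b, .d, .c, .d, .b, .c, .a, .c, .b, .a, .b, .c, .a, .c, .d, .c])) (nd 171 (lf [.b, .d, .a, .b, .a, .b, .c, .b, .a, .c, .a, .c, .a, .d, .c, .b, .c, .d, .b, .c]) (lf [.c, .b, .c, .d, .c, .a, .c, .b, .a, .b, .c, .a, .c, .b, .d, .c, .d, .b, .d, .b]))) (nd 174 (nd 173 (lf [.b, .d, .c, .b, .c, .a, .c, .b, .c, .a,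 .c, .b, .c, .a, .d, .b, .a, .d, .c, .d, .a]) (lf [.a, .d, .c, .d, .a, .b, .d, .c, .b, .c, .a, .c, .b, .c, .a, .c, .b, .c, .a, .d, .b])) (nd 175 (lf [.c, .b, .c, .a, .c, .b, .c, .a, .c, .b, .c, .a, .d, .b, .a, .d, .c, .d, .a, .b, .d]) (lf [.b, .a, .d, .c, .d, .a, .b, .d, .c, .b, .c, .a, .c, .b, .c, .a, .c, .b, .c, .a, .d]))))) (nd 184 (nd 180 (nd 178 (nd 177 (lf [.b, .a, .c, .a, .c, .b, .a, .b, .a, .c, .a, .b, .a, .c, .b, .c, .a, .c, .a, .b, .a]) (lf [.d, .a, .b, .d, .c, .b, .c, .a, .c, .b, .c, .a, .c, .b, .c, .a, .d, .b, .a, .d, .c])) (nd 179 (lf [.a, .b, .c, .a, .b, .c, .b, .c, .b, .a, .c, .b, .a, .b, .a, .c, .a, .c, .a, .b]) (lf [.a, .c, .a, .b, .a, .b, .a, .c, .a, .c, .b, .a, .b, .a, .c, .a, .b, .a, .c, .b, .c]))) (nd 182 (nd 181 (lf [.a, .c, .a, .c, .a, .b, .a, .b, .c, .a, .b, .c, .b, .c, .b, .a, .c, .b, .a,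 .b]) (lf [.b, .a, .b, .c, .a, .b, .c, .b, .c, .b, .a, .c, .b, .a, .b, .a, .c, .a, .c, .a])) (nd 183 (lf [.b, .a, .b, .a, .c, .a, .c, .b, .c, .a, .b, .a, .c, .a, .b, .a, .b, .c, .a, .c, .a]) (lf [.c, .d, .a, .b, .d, .a, .c, .b, .c, .a, .c, .b, .c, .a, .c, .b, .c, .d, .b, .a, .d])))) (nd 188 (nd 186 (nd 185 (lf [.c, .d, .b, .a, .d, .c, .d, .a, .b, .d, .a, .c, .b, .c, .a, .c, .b, .c, .a, .c, .b]) (lf [.b, .d, .a, .c, .b, .c, .a, .c, .b, .c, .a, .c, .b, .c, .d, .b, .a, .d, .c, .d, .a])) (nd 187 (lf [.a, .b, .a, .c, .a, .b, .a, .c, .b, .c, .a, .c, .a, .b, .a, .b, .a, .c, .a, .c, .b]) (lf [.a, .b, .c, .b, .c, .b, .a, .c, .b, .a, .b, .a, .c, .a, .c, .a, .b, .a, .b, .c]))) (nd 190 (nd 189 (lf [.c, .b, .a, .b, .a, .c, .a, .c, .a, .b, .a, .b, .c, .a, .b, .c, .b, .c, .b, .a]) (lf [.c, .a, .c, .b, .a, .c, .d, .a, .b, .a, .b,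 .c, .b, .a, .c, .b, .c, .b, .c, .d, .b, .d, .a, .b])) (nd 191 (lf [.a, .c, .a, .b, .a, .c, .a, .b, .d, .a, .c, .a, .d, .a, .c, .a, .d]) (lf [.c, .b, .a, .c, .b, .c, .b, .c, .d, .b, .d, .a, .b, .c, .a, .c, .b, .a, .c, .d, .a, .b, .a, .b])))))))
noncomputable def tc3kw_circT_c3 : ℕ → List Gen := (nd 224 (nd 208 (nd 200 (nd 196 (nd 194 (nd 193 (lf [.a, .b, .a, .b, .c, .a, .c, .a, .b, .a, .b, .a, .c, .a, .c, .b, .c, .a, .b, .a, .c]) (lf [.a, .d, .c, .b, .d, .a, .b, .a, .b, .a, .c, .a, .c, .a, .b, .a, .c, .b, .c, .b, .d, .a, .c, .d, .c, .d, .b])) (nd 195 (lf [.d, .b, .c, .b, .c, .d, .c, .a, .c, .b, .a, .b, .c, .a, .c, .b, .d, .c, .d, .b]) (lf [.d, .c, .a, .d, .b, .c, .b, .c, .a, .b, .a, .c, .a, .c, .a, .b, .a, .b, .a, .d, .b, .c, .d, .a, .b, .d, .c]))) (nd 198 (nd 197 (lf [.b, .c, .d, .b, .a, .d, .c, .d, .a, .b, .d,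 .a, .c, .b, .c, .a, .c, .b, .c, .a, .c]) (lf [.d, .a, .c, .b, .c, .a, .c, .b, .c, .a, .c, .b, .c, .d, .b, .a, .d, .c, .d, .a, .b])) (nd 199 (lf [.d, .c, .b, .c, .a, .c, .b, .c, .a, .c, .b, .c, .a, .d, .b, .a, .d, .c, .d, .a, .b]) (lf [.a, .d, .a, .b, .c, .b, .c, .b, .c, .a, .e, .c, .b, .a, .b, .a, .c, .b, .c, .a, .b, .a, .b, .e, .d, .a, .b, .a, .a, .c, .b, .c, .b, .c, .b, .a, .a, .b])))) (nd 204 (nd 202 (nd 201 (lf [.b, .c, .a, .b, .a, .b, .e, .d, .a, .b, .a, .a, .c, .b, .c, .b, .c, .b, .a, .a, .b, .a, .d, .a, .b, .c, .b, .c, .b, .c, .a, .e, .c, .b, .a, .b, .a, .c]) (lf [.b, .a, .c, .a, .b, .a, .b, .c, .a, .c, .a, .b, .a, .b, .a, .c, .a, .c, .b, .c, .a])) (nd 203 (lf [.c, .a, .d, .b, .d, .a, .c, .a, .b, .d, .b, .d, .b, .d, .a]) (lf [.b, .d, .c, .d, .b, .c, .a, .c, .b, .a, .b, .c, .a, .c, .d, .c, .b, .c, .b, .d])))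 (nd 206 (nd 205 (lf [.a, .c, .a, .b, .a, .c, .b, .c, .a, .c, .a, .b, .a, .b, .a, .c, .a, .c, .b, .a, .b]) (lf [.b, .c, .a, .c, .b, .c, .d, .b, .a, .d, .c, .d, .a, .b, .d, .a, .c, .b, .c, .a, .c])) (nd 207 (lf [.b, .c, .a, .c, .b, .c, .a, .c, .b, .c, .a, .d, .b, .a, .d, .c, .d, .a, .b, .d, .c]) (lf [.c, .a, .c, .b, .c, .a, .c, .b, .c, .a, .c, .b, .c, .a, .c, .b, .c, .a, .c, .b, .c, .a, .c, .b]))))) (nd 216 (nd 212 (nd 210 (nd 209 (lf [.c, .a, .b, .a, .b, .c, .a, .c, .a, .b, .a, .b, .a, .c, .a, .c, .b, .c, .a, .b, .a]) (lf [.c, .b, .c, .a, .c, .b, .c, .a, .c, .b, .c, .a, .c, .b, .c, .a, .c, .b, .c, .a, .c, .b, .c, .a])) (nd 211 (lf [.a, .b, .d, .a, .c, .b, .c, .a, .c, .b, .c, .a, .c, .b, .c, .d, .b, .a, .d, .c, .d]) (lf [.a, .c, .b, .a, .c, .b, .a, .c, .b, .a, .c, .b, .a, .c, .b, .a, .c, .b, .a, .c, .b, .a, .c, .b])))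 (nd 214 (nd 213 (lf [.c, .a, .c, .a, .b, .a, .b, .c, .a, .b, .c, .b, .c, .b, .a, .c, .b, .a, .b, .a]) (lf [.c, .b, .a, .b, .a, .c, .a, .b, .a, .c, .b, .c, .a, .c, .a, .b, .a, .b, .a, .c, .a])) (nd 215 (lf [.c, .a, .b, .a, .c, .b, .c, .a, .c, .a, .b, .a, .b, .a, .c, .a, .c, .b, .a, .b, .a]) (lf [.b, .a, .b, .a, .c, .a, .b, .a, .c, .b, .c, .a, .c, .a, .b, .a, .b, .a, .c, .a, .c])))) (nd 220 (nd 218 (nd 217 (lf [.c, .d, .b, .c, .a, .c, .b, .a, .b, .c, .a, .c, .d, .c, .b, .c, .b, .d, .b, .d]) (lf [.c, .a, .c, .b, .c, .a, .c, .b, .c, .a, .d, .b, .a, .d, .c, .d, .a, .b, .d, .c, .b])) (nd 219 (lf [.a, .b, .a, .b, .a, .c, .a, .c, .b, .a, .b, .a, .c, .a, .b, .a, .c, .b, .c, .a, .c]) (lf [.a, .b, .a, .b, .a, .c, .a, .c, .b, .c, .a, .b, .a, .c, .a, .b, .a, .b, .c, .a, .c]))) (nd 222 (nd 221 (lf [.c, .a, .d, .b, .d, .a, .c,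 .a, .d, .b, .d, .b, .d, .b, .a]) (lf [.d, .a, .b, .c, .a, .c, .b, .a, .c, .d, .a, .b, .a, .b, .c, .b, .a, .c, .b, .c, .b, .c, .d, .b])) (nd 223 (lf [.d, .a, .b, .a, .b, .c, .b, .a, .c, .a, .c, .a, .d, .c, .b, .c, .d, .b, .c, .b]) (lf [.d, .a, .b, .c, .b, .c, .b, .a, .b, .c, .a, .b, .c, .b, .e, .c, .d, .a, .b, .a, .c, .a, .c, .b, .d, .b, .d, .b, .c, .a, .c, .a, .b, .a, .d, .c, .a, .c, .b, .d, .b, .d, .b, .c, .a, .e, .b, .a, .b, .a, .c, .d, .c, .b])))))) (nd 240 (nd 232 (nd 228 (nd 226 (nd 225 (lf [.d, .c, .d, .a, .b, .d, .c, .b, .c, .a, .c, .b, .c, .a, .c, .b, .c, .a, .d, .b, .a]) (lf [.a, .c, .a, .d, .a, .c, .a, .d, .b, .a, .c, .a, .b, .a, .c, .a, .d])) (nd 227 (lf [.b, .c, .a, .c, .b, .c, .a, .d, .b, .a, .d, .c, .d, .a, .b, .d, .c, .b, .c, .a, .c]) (lf [.c, .a, .b, .c, .a, .b, .c, .a, .b, .c, .a, .b, .c, .a, .b,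 .c, .a, .b, .c, .a, .b, .c, .a, .b]))) (nd 230 (nd 229 (lf [.b, .a, .b, .c, .a, .c, .a, .b, .a, .b, .a, .c, .a, .c, .b, .c, .a, .b, .a, .c, .a]) (lf [.a, .c, .b, .c, .d, .b, .a, .d, .c, .d, .a, .b, .d, .a, .c, .b, .c, .a, .c, .b, .c])) (nd 231 (lf [.d, .b, .a, .d, .c, .d, .a, .b, .d, .a, .c, .b, .c, .a, .c, .b, .c, .a, .c, .b, .c]) (lf [.a, .b, .a, .c, .a, .c, .b, .a, .b, .a, .c, .a, .b, .a, .c, .b, .c, .a, .c, .a, .b])))) (nd 236 (nd 234 (nd 233 (lf [.a, .c, .b, .a, .c, .d, .a, .b, .a, .b, .c, .b, .a, .c, .b, .c, .b, .c, .d, .b, .d, .a, .b, .c]) (lf [.b, .c, .b, .a, .b, .a, .d, .b, .c, .b, .d, .c, .b, .c, .d, .a, .c, .a, .c, .a])) (nd 235 (lf [.c, .a, .b, .a, .b, .a, .c, .a, .c, .b, .c, .a, .b, .a, .c, .a, .b, .a, .b, .c, .a]) (lf [.c, .b, .a, .c, .b, .a, .c, .b, .a, .c, .b, .a, .c, .b, .a, .c, .b, .a, .c, .b,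 .a, .c, .b, .a]))) (nd 238 (nd 237 (lf [.d, .c, .d, .b, .a, .d, .c, .b, .d, .a, .b, .a, .b, .a, .c, .a, .c, .a, .b, .a, .c, .b, .c, .b, .d, .a, .c]) (lf [.b, .c, .d, .c, .a, .c, .b, .a, .b, .c, .a, .c, .b, .d, .c, .d, .b, .d, .b, .c])) (nd 239 (lf [.c, .d, .c, .a, .d, .b, .c, .b, .c, .a, .b, .a, .c, .a, .c, .a, .b, .a, .b, .a, .d, .b, .c, .d, .a, .b, .d]) (lf [.a, .b, .c, .a, .b, .c, .a, .b, .c, .a, .b, .c, .a, .b, .c, .a, .b, .c, .a, .b, .c, .a, .b, .c]))))) (nd 248 (nd 244 (nd 242 (nd 241 (lf [.a, .c, .a, .b, .d, .a, .c, .a, .d, .a, .c, .a, .d, .a, .c, .a, .b]) (lf [.a, .b, .a, .b, .c, .b, .a, .c, .b, .c, .b, .c, .d, .b, .d, .a, .b, .c, .a, .c, .b, .a, .c, .d])) (nd 243 (lf [.c, .a, .d, .a, .c, .a, .d, .b, .a, .c, .a, .b, .a, .c, .a, .d, .a]) (lf [.a, .b, .c, .b, .a, .b, .a, .d, .b, .c, .b, .d, .c, .b, .c, .d,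 .a, .c, .a, .c]))) (nd 246 (nd 245 (lf [.c, .d, .a, .d, .c, .b, .a, .b, .c, .b, .c, .b, .a, .b, .c, .d, .a, .d, .c, .b, .a, .d, .a]) (lf [.b, .c, .d, .a, .b, .d, .c, .d, .c, .a, .d, .b, .c, .b, .c, .a, .b, .a, .c, .a, .c, .a, .b, .a, .b, .a, .d])) (nd 247 (lf [.d, .b, .c, .b, .d, .c, .b, .c, .d, .a, .c, .a, .c, .a, .b, .c, .b, .a, .b, .a]) (lf [.b, .a, .c, .b, .a, .c, .b, .a, .c, .b, .a, .c, .b, .a, .c, .b, .a, .c, .b, .a, .c, .b, .a, .c])))) (nd 252 (nd 250 (nd 249 (lf [.b, .d, .a, .b, .c, .a, .c, .b, .a, .c, .d, .a, .b, .a, .b, .c, .b, .a, .c, .b, .c, .b, .c, .d]) (lf [.d, .b, .a, .d, .c, .d, .a, .b, .d, .c, .b, .c, .a, .c, .b, .c, .a, .c, .b, .c, .a])) (nd 251 (lf [.c, .b, .a, .c, .d, .a, .b, .a, .b, .c, .b, .a, .c, .b, .c, .b, .c, .d, .b, .d, .a, .b, .c, .a]) (lf [.a, .b, .a, .c, .a, .c, .b, .c, .a, .b, .a,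 .c, .a, .b, .a, .b, .c, .a, .c, .a, .b]))) (nd 254 (nd 253 (lf [.a, .d, .a, .c, .d, .a, .d, .c, .b, .a, .b, .c, .b, .c, .b, .a, .b, .c, .d, .a, .d, .c, .b]) (lf [.d, .b, .d, .b, .a, .c, .a, .d, .b, .d, .a, .c, .a, .d, .b])) (nd 255 (lf [.b, .d, .a, .c, .a, .b, .d, .b, .d, .b, .d, .a, .c, .a, .d]) (lf [.b, .c, .b, .d, .c, .b, .c, .d, .a, .c, .a, .c, .a, .b, .c, .b, .a, .b, .a, .d])))))))
noncomputable def tc3kw_circT_c4 : ℕ → List Gen := (nd 288 (nd 272 (nd 264 (nd 260 (nd 258 (nd 257 (lf [.a, .c, .a, .d, .a, .c, .a, .d, .a, .c, .a, .d, .b, .a, .c, .a, .b]) (lf [.a, .c, .b, .a, .d, .b, .d, .c, .b, .c, .b, .c, .a, .b, .c, .b, .a, .b, .a, .d, .c, .a, .b, .c])) (nd 259 (lf [.a, .c, .b, .a, .b, .a, .c, .a, .b, .a, .c, .b, .c, .a, .c, .a, .b, .a, .b, .a, .c]) (lf [.c, .a, .b, .a, .c, .a, .d, .a, .c, .a, .d, .a, .c, .a,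 .d, .b, .a]))) (nd 262 (nd 261 (lf [.c, .a, .b, .c, .b, .a, .b, .a, .d, .c, .a, .b, .c, .a, .c, .b, .a, .d, .b, .d, .c, .b, .c, .b]) (lf [.b, .c, .a, .b, .c, .a, .b, .c, .a, .b, .c, .a, .b, .c, .a, .b, .c, .a, .b, .c, .a, .b, .c, .a])) (nd 263 (lf [.b, .d, .b, .d, .c, .d, .b, .c, .a, .c, .b, .a, .b, .c, .a, .c, .d, .c, .b, .c]) (lf [.b, .a, .c, .a, .b, .a, .c, .b, .c, .a, .c, .a, .b, .a, .b, .a, .c, .a, .c, .b, .a])))) (nd 268 (nd 266 (nd 265 (lf [.c, .b, .c, .b, .d, .b, .d, .c, .d, .b, .c, .a, .c, .b, .a, .b, .c, .a, .c, .d]) (lf [.d, .b, .d, .a, .b, .c, .a, .c, .b, .a, .c, .d, .a, .b, .a, .b, .c, .b, .a, .c, .b, .c, .b, .c])) (nd 267 (lf [.d, .a, .c, .a, .b, .d, .b, .d, .b, .d, .a, .c, .a, .d, .b]) (lf [.c, .a, .b, .c, .a, .c, .b, .a, .d, .b, .d, .c, .b, .c, .b, .c, .a, .b, .c, .b, .a, .b, .a, .d]))) (nd 270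 (nd 269 (lf [.d, .a, .b, .a, .b, .c, .b, .a, .c, .b, .c, .b, .c, .d, .b, .d, .a, .b, .c, .a, .c, .b, .a, .c]) (lf [.a, .c, .b, .c, .a, .c, .b, .c, .a, .c, .b, .c, .d, .b, .a, .d, .c, .d, .a, .b, .d])) (nd 271 (lf [.b, .a, .b, .a, .d, .b, .c, .b, .d, .c, .b, .c, .d, .a, .c, .a, .c, .a, .b, .c]) (lf [.c, .b, .c, .b, .c, .a, .b, .c, .b, .a, .b, .a, .d, .c, .a, .b, .c, .a, .c, .b, .a, .d, .b, .d]))))) (nd 280 (nd 276 (nd 274 (nd 273 (lf [.c, .a, .d, .b, .a, .c, .a, .b, .a, .c, .a, .d, .a, .c, .a, .d, .a]) (lf [.b, .a, .d, .a, .c, .d, .a, .d, .c, .b, .a, .b, .c, .b, .c, .b, .a, .b, .c, .d, .a, .d, .c])) (nd 275 (lf [.b, .a, .d, .b, .d, .c, .b, .c, .b, .c, .a, .b, .c, .b, .a, .b, .a, .d, .c, .a, .b, .c, .a, .c]) (lf [.d, .c, .b, .c, .b, .d, .b, .d, .c, .d, .b, .c, .a, .c, .b, .a, .b, .c, .a, .c]))) (nd 278 (nd 277 (lf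 [.d, .a, .d, .c, .b, .a, .b, .c, .b, .c, .b, .a, .b, .c, .d, .a, .d, .c, .b, .a, .d, .a, .c]) (lf [.c, .b, .c, .a, .b, .a, .c, .a, .c, .a, .b, .a, .b, .a, .d, .b, .c, .d, .a, .b, .d, .c, .d, .c, .a, .d, .b])) (nd 279 (lf [.c, .b, .a, .d, .b, .d, .c, .b, .c, .b, .c, .a, .b, .c, .b, .a, .b, .a, .d, .c, .a, .b, .c, .a]) (lf [.b, .c, .a, .c, .b, .a, .b, .c, .a, .c, .d, .c, .b, .c, .b, .d, .b, .d, .c, .d])))) (nd 284 (nd 282 (nd 281 (lf [.c, .d, .b, .d, .b, .c, .b, .c, .d, .c, .a, .c, .b, .a, .b, .c, .a, .c, .b, .d]) (lf [.b, .c, .a, .c, .b, .a, .d, .b, .d, .c, .b, .c, .b, .c, .a, .b, .c, .b, .a, .b, .a, .d, .c, .a])) (nd 283 (lf [.c, .d, .b, .a, .d, .c, .b, .d, .a, .b, .a, .b, .a, .c, .a, .c, .a, .b, .a, .c, .b, .c, .b, .d, .a, .c, .d]) (lf [.b, .c, .a, .c, .b, .c, .a, .c, .b, .c, .d, .b, .a, .d, .c, .d, .a, .b, .d,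 .a, .c]))) (nd 286 (nd 285 (lf [.d, .a, .c, .d, .a, .d, .c, .b, .a, .b, .c, .b, .c, .b, .a, .b, .c, .d, .a, .d, .c, .b, .a]) (lf [.c, .b, .a, .b, .c, .b, .c, .b, .a, .b, .c, .d, .a, .d, .c, .b, .a, .d, .a, .c, .d, .a, .d])) (nd 287 (lf [.c, .a, .c, .b, .a, .b, .c, .a, .c, .b, .d, .c, .d, .b, .d, .b, .c, .b, .c, .d]) (lf [.d, .a, .c, .a, .c, .a, .b, .c, .b, .a, .b, .a, .d, .b, .c, .b, .d, .c, .b, .c])))))) (nd 304 (nd 296 (nd 292 (nd 290 (nd 289 (lf [.b, .d, .b, .c, .b, .c, .d, .c, .a, .c, .b, .a, .b, .c, .a, .c, .b, .d, .c, .d]) (lf [.d, .c, .b, .a, .d, .a, .c, .d, .a, .d, .c, .b, .a, .b, .c, .b, .c, .b, .a, .b, .c, .d, .a])) (nd 291 (lf [.c, .a, .c, .b, .c, .a, .d, .b, .a, .d, .c, .d, .a, .b, .d, .c, .b, .c, .a, .c, .b]) (lf [.b, .a, .b, .c, .a, .c, .d, .c, .b, .c, .b, .d, .b, .d, .c, .d, .b, .c, .a, .c]))) (nd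 294 (nd 293 (lf [.c, .a, .c, .a, .b, .a, .c, .b, .c, .b, .d, .a, .c, .d, .c, .d, .b, .a, .d, .c, .b, .d, .a, .b, .a, .b, .a]) (lf [.c, .d, .c, .b, .c, .b, .d, .b, .d, .c, .d, .b, .c, .a, .c, .b, .a, .b, .c, .a])) (nd 295 (lf [.d, .b, .d, .a, .c, .a, .d, .b, .d, .a, .c, .a, .b, .d, .b]) (lf [.b, .c, .b, .c, .a, .b, .c, .b, .a, .b, .a, .d, .c, .a, .b, .c, .a, .c, .b, .a, .d, .b, .d, .c])))) (nd 300 (nd 298 (nd 297 (lf [.b, .c, .d, .c, .b, .c, .d, .c, .b, .c, .d, .c, .b, .c, .d, .c, .b, .c, .d, .c, .b, .c, .d, .c]) (lf [.a, .d, .b, .c, .b, .c, .a, .b, .a, .c, .a, .c, .a, .b, .a, .b, .a, .d, .b, .c, .d, .a, .b, .d, .c, .d, .c])) (nd 299 (lf [.b, .a, .d, .c, .b, .d, .a, .b, .a, .b, .a, .c, .a, .c, .a, .b, .a, .c, .b, .c, .b, .d, .a, .c, .d, .c, .d]) (lf [.b, .a, .c, .a, .d, .b, .d, .a, .c, .a, .d, .b, .d, .b, .d])))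 (nd 302 (nd 301 (lf [.b, .c, .d, .b, .d, .a, .b, .c, .a, .c, .b, .a, .c, .d, .a, .b, .a, .b, .c, .b, .a, .c, .b, .c]) (lf [.a, .c, .a, .d, .b, .d, .a, .c, .a, .b, .d, .b, .d, .b, .d])) (nd 303 (lf [.c, .b, .c, .d, .b, .c, .b, .d, .a, .b, .a, .b, .c, .b, .a, .c, .a, .c, .a, .d]) (lf [.d, .b, .a, .d, .c, .b, .d, .a, .b, .a, .b, .a, .c, .a, .c, .a, .b, .a, .c, .b, .c, .b, .d, .a, .c, .d, .c]))))) (nd 312 (nd 308 (nd 306 (nd 305 (lf [.b, .d, .a, .c, .d, .c, .d, .b, .a, .d, .c, .b, .d, .a, .b, .a, .b, .a, .c, .a, .c, .a, .b, .a, .c, .b, .c]) (lf [.c, .b, .c, .b, .d, .a, .c, .d, .c, .d, .b, .a, .d, .c, .b, .d, .a, .b, .a, .b, .a, .c, .a, .c, .a, .b, .a])) (nd 307 (lf [.a, .c, .b, .c, .b, .d, .a, .c, .d, .c, .d, .b, .a, .d, .c, .b, .d, .a, .b, .a, .b, .a, .c, .a, .c, .a, .b]) (lf [.c, .d, .b, .d, .a, .b, .c, .a, .c, .b,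 .a, .c, .d, .a, .b, .a, .b, .c, .b, .a, .c, .b, .c, .b]))) (nd 310 (nd 309 (lf [.d, .c, .b, .c, .d, .b, .c, .b, .d, .a, .b, .a, .b, .c, .b, .a, .c, .a, .c, .a]) (lf [.a, .b, .d, .a, .c, .a, .d, .a, .c, .a, .d, .a, .c, .a, .b, .a, .c])) (nd 311 (lf [.c, .d, .a, .d, .c, .b, .a, .b, .c, .b, .c, .b, .a, .b, .c, .d, .a, .d, .c, .a, .d, .a, .b]) (lf [.c, .b, .d, .a, .c, .d, .c, .d, .b, .a, .d, .c, .b, .d, .a, .b, .a, .b, .a, .c, .a, .c, .a, .b, .a, .c, .b])))) (nd 316 (nd 314 (nd 313 (lf [.b, .a, .c, .b, .c, .b, .c, .d, .b, .d, .a, .b, .c, .a, .c, .b, .a, .c, .d, .a, .b, .a, .b, .c]) (lf [.b, .a, .c, .a, .b, .a, .c, .a, .d, .a, .c, .a, .d, .a, .c, .a, .d])) (nd 315 (lf [.c, .a, .d, .c, .b, .c, .d, .b, .c, .b, .d, .a, .b, .a, .b, .c, .b, .a, .c, .a]) (lf [.c, .b, .a, .b, .c, .d, .a, .d, .c, .b, .a, .d, .a, .c, .d, .a,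 .d, .c, .b, .a, .b, .c, .b]))) (nd 318 (nd 317 (lf [.b, .a, .c, .a, .d, .a, .c, .a, .d, .a, .c, .a, .d, .b, .a, .c, .a]) (lf [.c, .b, .d, .c, .d, .b, .d, .b, .c, .b, .c, .d, .c, .a, .c, .b, .a, .b, .c, .a])) (nd 319 (lf [.d, .c, .a, .c, .b, .a, .b, .c, .a, .c, .b, .d, .c, .d, .b, .d, .b, .c, .b, .c]) (lf [.c, .b, .c, .d, .b, .d, .a, .b, .c, .a, .c, .b, .a, .c, .d, .a, .b, .a, .b, .c, .b, .a, .c, .b])))))))
noncomputable def tc3kw_circT_c5 : ℕ → List Gen := (nd 352 (nd 336 (nd 328 (nd 324 (nd 322 (nd 321 (lf [.c, .a, .c, .a, .b, .c, .b, .a, .b, .a, .d, .b, .c, .b, .d, .c, .b, .c, .d, .a]) (lf [.b, .a, .c, .a, .c, .a, .d, .c, .b, .c, .d, .b, .c, .b, .d, .a, .b, .a, .b, .c])) (nd 323 (lf [.d, .c, .b, .a, .b, .c, .b, .c, .b, .a, .b, .c, .d, .a, .d, .c, .b, .a, .d, .a, .c, .d, .a]) (lf [.c, .b, .c, .b, .a, .b, .c, .d,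 .a, .d, .c, .a, .d, .a, .b, .c, .d, .a, .d, .c, .b, .a, .b]))) (nd 326 (nd 325 (lf [.b, .c, .a, .b, .a, .c, .a, .c, .a, .b, .a, .b, .a, .d, .b, .c, .d, .a, .b, .d, .c, .d, .c, .a, .d, .b, .c]) (lf [.a, .b, .d, .c, .d, .c, .a, .d, .b, .c, .b, .c, .a, .b, .a, .c, .a, .c, .a, .b, .a, .b, .a, .d, .b, .c, .d])) (nd 327 (lf [.c, .d, .a, .b, .a, .b, .c, .b, .a, .c, .b, .c, .b, .c, .d, .b, .d, .a, .b, .c, .a, .c, .b, .a]) (lf [.c, .d, .a, .d, .c, .d, .a, .d, .c, .d, .a, .d, .c, .d, .a, .d, .c, .d, .a, .d, .c, .d, .a, .d])))) (nd 332 (nd 330 (nd 329 (lf [.c, .d, .b, .d, .c, .d, .b, .d, .c, .d, .b, .d, .c, .d, .b, .d, .c, .d, .b, .d, .c, .d, .b, .d]) (lf [.d, .b, .c, .b, .d, .b, .c, .b, .d, .b, .c, .b, .d, .b, .c, .b, .d, .b, .c, .b, .d, .b, .c, .b])) (nd 331 (lf [.c, .d, .a, .b, .d, .c, .d, .c, .a, .d, .b, .c, .b, .c, .a,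 .b, .a, .c, .a, .c, .a, .b, .a, .b, .a, .d, .b]) (lf [.b, .a, .c, .a, .c, .a, .b, .a, .b, .a, .d, .b, .c, .d, .a, .b, .d, .c, .d, .c, .a, .d, .b, .c, .b, .c, .a]))) (nd 334 (nd 333 (lf [.c, .a, .c, .b, .a, .d, .b, .d, .c, .b, .c, .b, .c, .a, .b, .c, .b, .a, .b, .a, .d, .c, .a, .b]) (lf [.b, .c, .a, .b, .c, .b, .a, .b, .a, .d, .c, .a, .b, .c, .a, .c, .b, .a, .d, .b, .d, .c, .b, .c])) (nd 335 (lf [.c, .a, .c, .d, .c, .b, .c, .b, .d, .b, .d, .c, .d, .b, .c, .a, .c, .b, .a, .b]) (lf [.b, .c, .b, .a, .c, .a, .c, .a, .d, .c, .b, .c, .d, .b, .c, .b, .d, .a, .b, .a]))))) (nd 344 (nd 340 (nd 338 (nd 337 (lf [.d, .b, .c, .a, .c, .b, .a, .b, .c, .a, .c, .d, .c, .b, .c, .b, .d, .b, .d, .c]) (lf [.b, .a, .c, .a, .c, .a, .b, .a, .c, .b, .c, .b, .d, .a, .c, .d, .c, .d, .b, .a, .d, .c, .b, .d, .a, .b, .a])) (nd 339 (lf [.a, .c,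 .a, .b, .a, .b, .a, .d, .b, .c, .d, .a, .b, .d, .c, .d, .c, .a, .d, .b, .c, .b, .c, .a, .b, .a, .c]) (lf [.c, .b, .c, .a, .b, .c, .b, .a, .b, .a, .d, .c, .a, .b, .c, .a, .c, .b, .a, .d, .b, .d, .c, .b]))) (nd 342 (nd 341 (lf [.c, .b, .d, .b, .c, .b, .d, .b, .c, .b, .d, .b, .c, .b, .d, .b, .c, .b, .d, .b, .c, .b, .d, .b]) (lf [.c, .b, .a, .d, .a, .c, .d, .a, .d, .c, .b, .a, .b, .c, .b, .c, .b, .a, .b, .c, .d, .a, .d])) (nd 343 (lf [.b, .c, .b, .a, .b, .a, .d, .c, .a, .b, .c, .a, .c, .b, .a, .d, .b, .d, .c, .b, .c, .b, .c, .a]) (lf [.b, .a, .d, .c, .a, .b, .c, .a, .c, .b, .a, .d, .b, .d, .c, .b, .c, .b, .c, .a, .b, .c, .b, .a])))) (nd 348 (nd 346 (nd 345 (lf [.a, .d, .a, .c, .a, .d, .b, .a, .c, .a, .b, .a, .c, .a, .d, .a, .c]) (lf [.a, .c, .d, .c, .d, .b, .a, .d, .c, .b, .d, .a, .b, .a, .b, .a, .c, .a, .c, .a, .b,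 .a, .c, .b, .c, .b, .d])) (nd 347 (lf [.c, .b, .a, .b, .a, .d, .c, .a, .b, .c, .a, .c, .b, .a, .d, .b, .d, .c, .b, .c, .b, .c, .a, .b]) (lf [.b, .c, .a, .c, .b, .a, .c, .d, .a, .b, .a, .b, .c, .b, .a, .c, .b, .c, .b, .c, .d, .b, .d, .a]))) (nd 350 (nd 349 (lf [.c, .a, .b, .c, .b, .a, .b, .a, .d, .b, .c, .b, .d, .c, .b, .c, .d, .a, .c, .a]) (lf [.c, .a, .b, .a, .c, .a, .c, .a, .b, .a, .b, .a, .d, .b, .c, .d, .a, .b, .d, .c, .d, .c, .a, .d, .b, .c, .b])) (nd 351 (lf [.b, .c, .b, .a, .b, .c, .d, .a, .d, .c, .b, .a, .d, .a, .c, .d, .a, .d, .c, .b, .a, .b, .c]) (lf [.d, .b, .d, .c, .d, .b, .d, .c, .d, .b, .d, .c, .d, .b, .d, .c, .d, .b, .d, .c, .d, .b, .d, .c])))))) (nd 368 (nd 360 (nd 356 (nd 354 (nd 353 (lf [.c, .a, .b, .a, .b, .a, .d, .b, .c, .d, .a, .b, .d, .c, .d, .c, .a, .d, .b, .c, .b, .c, .a, .b, .a, .c, .a])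 (lf [.a, .b, .c, .b, .a, .b, .a, .d, .c, .a, .b, .c, .a, .c, .b, .a, .d, .b, .d, .c, .b, .c, .b, .c])) (nd 355 (lf [.d, .c, .b, .c, .d, .c, .b, .c, .d, .c, .b, .c, .d, .c, .b, .c, .d, .c, .b, .c, .d, .c, .b, .c]) (lf [.c, .a, .d, .a, .c, .a, .d, .a, .c, .a, .d, .b, .a, .c, .a, .b, .a]))) (nd 358 (nd 357 (lf [.d, .a, .c, .a, .d, .b, .d, .a, .c, .a, .b, .d, .b, .d, .b]) (lf [.c, .b, .c, .a, .d, .b, .a, .d, .c, .d, .a, .b, .d, .c, .b, .c, .a, .c, .b, .c, .a])) (nd 359 (lf [.c, .a, .d, .b, .c, .b, .c, .a, .b, .a, .c, .a, .c, .a, .b, .a, .b, .a, .d, .b, .c, .d, .a, .b, .d, .c, .d]) (lf [.d, .a, .c, .a, .d, .a, .c, .a, .d, .a, .c, .a, .b, .a, .c, .a, .b])))) (nd 364 (nd 362 (nd 361 (lf [.c, .a, .c, .b, .a, .b, .c, .a, .c, .d, .c, .b, .c, .b, .d, .b, .d, .c, .d, .b]) (lf [.b, .a, .b, .c, .a, .c, .b, .d, .c, .d, .b, .d,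 .b, .c, .b, .c, .d, .c, .a, .c])) (nd 363 (lf [.d, .a, .d, .c, .b, .a, .d, .a, .c, .d, .a, .d, .c, .b, .a, .b, .c, .b, .c, .b, .a, .b, .c]) (lf [.b, .a, .b, .c, .b, .c, .b, .a, .b, .c, .d, .a, .d, .c, .b, .a, .d, .a, .c, .d, .a, .d, .c]))) (nd 366 (nd 365 (lf [.c, .a, .b, .a, .c, .b, .c, .b, .d, .a, .c, .d, .c, .d, .b, .a, .d, .c, .b, .d, .a, .b, .a, .b, .a, .c, .a]) (lf [.b, .c, .b, .d, .a, .c, .d, .c, .d, .b, .a, .d, .c, .b, .d, .a, .b, .a, .b, .a, .c, .a, .c, .a, .b, .a, .c])) (nd 367 (lf [.b, .a, .b, .c, .b, .a, .c, .b, .c, .b, .c, .d, .b, .d, .a, .b, .c, .a, .c, .b, .a, .c, .d, .a]) (lf [.c, .b, .c, .d, .b, .a, .d, .c, .d, .a, .b, .d, .a, .c, .b, .c, .a, .c, .b, .c, .a]))))) (nd 376 (nd 372 (nd 370 (nd 369 (lf [.a, .b, .a, .d, .b, .c, .b, .d, .c, .b, .c, .d, .a, .c, .a, .c, .a, .b, .c, .b]) (lf [.b, .d, .c,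 .b, .c, .b, .c, .a, .b, .c, .b, .a, .b, .a, .d, .c, .a, .b, .c, .a, .c, .b, .a, .d])) (nd 371 (lf [.a, .c, .b, .d, .c, .d, .b, .d, .b, .c, .b, .c, .d, .c, .a, .c, .b, .a, .b, .c]) (lf [.c, .d, .c, .b, .c, .d, .c, .b, .c, .d, .c, .b, .c, .d, .c, .b, .c, .d, .c, .b, .c, .d, .c, .b]))) (nd 374 (nd 373 (lf [.c, .a, .c, .b, .c, .d, .b, .a, .d, .c, .d, .a, .b, .d, .a, .c, .b, .c, .a, .c, .b]) (lf [.c, .b, .c, .b, .a, .b, .c, .d, .a, .d, .c, .b, .a, .d, .a, .c, .d, .a, .d, .c, .b, .a, .b])) (nd 375 (lf [.c, .d, .c, .d, .b, .a, .d, .c, .b, .d, .a, .b, .a, .b, .a, .c, .a, .c, .a, .b, .a, .c, .b, .c, .b, .d, .a]) (lf [.d, .a, .d, .c, .d, .a, .d, .c, .d, .a, .d, .c, .d, .a, .d, .c, .d, .a, .d, .c, .d, .a, .d, .c])))) (nd 380 (nd 378 (nd 377 (lf [.b, .d, .b, .a, .c, .a, .d, .b, .d, .a, .c, .a, .d, .b, .d]) (lf [.d, .b, .d,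 .b, .d, .a, .c, .a, .d, .b, .d, .a, .c, .a, .b])) (nd 379 (lf [.b, .d, .b, .d, .a, .c, .a, .d, .b, .d, .a, .c, .a, .b, .d]) (lf [.c, .b, .c, .b, .c, .d, .b, .d, .a, .b, .c, .a, .c, .b, .a, .c, .d, .a, .b, .a, .b, .c, .b, .a]))) (nd 382 (nd 381 (lf [.d, .b, .c, .b, .c, .a, .b, .a, .c, .a, .c, .a, .b, .a, .b, .a, .d, .b, .c, .d, .a, .b, .d, .c, .d, .c, .a]) (lf [.d, .c, .d, .b, .d, .c, .d, .b, .d, .c, .d, .b, .d, .c, .d, .b, .d, .c, .d, .b, .d, .c, .d, .b])) (nd 383 (lf [.a, .d, .c, .b, .c, .d, .b, .c, .b, .d, .a, .b, .a, .b, .c, .b, .a, .c, .a, .c]) (lf [.a, .c, .d, .a, .d, .c, .b, .a, .b, .c, .b, .c, .b, .a, .b, .c, .d, .a, .d, .c, .b, .a, .d])))))))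
noncomputable def tc3kw_circT_c6 : ℕ → List Gen := (nd 416 (nd 400 (nd 392 (nd 388 (nd 386 (nd 385 (lf [.a, .c, .b, .a, .b, .c, .a, .c, .b, .d, .c, .d, .b, .d, .b, .c, .b, .c, .d, .c]) (lf [.d, .a, .b, .a, .b, .a, .c, .a, .c, .a, .b, .a, .c, .b, .c, .b, .d, .a, .c, .d, .c, .d, .b, .a, .d, .c, .b])) (nd 387 (lf [.b, .a, .b, .c, .b, .a, .c, .a, .c, .a, .d, .c, .b, .c, .d, .b, .c, .b, .d, .a]) (lf [.b, .d, .a, .b, .a, .b, .a, .c, .a, .c, .a, .b, .a, .c, .b, .c, .b, .d, .a, .c, .d, .c, .d, .b, .a, .d, .c]))) (nd 390 (nd 389 (lf [.c, .d, .a, .d, .c, .b, .a, .d, .a, .c, .d, .a, .d, .c, .b, .a, .b, .c, .b, .c, .b, .a, .b]) (lf [.d, .c, .d, .b, .c, .a, .c, .b, .a, .b, .c, .a, .c, .d, .c, .b, .c, .b, .d, .b])) (nd 391 (lf [.c, .b, .a, .b, .c, .a, .c, .b, .d, .c, .d, .b, .d, .b, .c, .b, .c, .d, .c, .a]) (lf [.b, .d, .c,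 .d, .b, .d, .b, .c, .b, .c, .d, .c, .a, .c, .b, .a, .b, .c, .a, .c])))) (nd 396 (nd 394 (nd 393 (lf [.d, .b, .c, .d, .a, .b, .d, .c, .d, .c, .a, .d, .b, .c, .b, .c, .a, .b, .a, .c, .a, .c, .a, .b, .a, .b, .a]) (lf [.a, .b, .a, .b, .a, .d, .b, .c, .d, .a, .b, .d, .c, .d, .c, .a, .d, .b, .c, .b, .c, .a, .b, .a, .c, .a, .c])) (nd 395 (lf [.d, .c, .a, .b, .c, .a, .c, .b, .a, .d, .b, .d, .c, .b, .c, .b, .c, .a, .b, .c, .b, .a, .b, .a]) (lf [.b, .d, .b, .c, .b, .d, .b, .c, .b, .d, .b, .c, .b, .d, .b, .c, .b, .d, .b, .c, .b, .d, .b, .c]))) (nd 398 (nd 397 (lf [.d, .c, .d, .a, .d, .c, .d, .a, .d, .c, .d, .a, .d, .c, .d, .a, .d, .c, .d, .a, .d, .c, .d, .a]) (lf [.a, .d, .c, .b, .a, .b, .c, .b, .c, .b, .a, .b, .c, .d, .a, .d, .c, .b, .a, .d, .a, .c, .d])) (nd 399 (lf [.d, .a, .d, .c, .a, .d, .a, .b, .c, .d, .a, .d, .c, .b,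 .a, .b, .c, .b, .c, .b, .a, .b, .c]) (lf [.c, .b, .c, .d, .c, .b, .c, .d, .c, .b, .c, .d, .c, .b, .c, .d, .c, .b, .c, .d, .c, .b, .c, .d]))))) (nd 408 (nd 404 (nd 402 (nd 401 (lf [.a, .c, .b, .c, .a, .c, .b, .c, .a, .d, .b, .a, .d, .c, .d, .a, .b, .d, .c, .b, .c]) (lf [.b, .a, .c, .d, .a, .b, .a, .b, .c, .b, .a, .c, .b, .c, .b, .c, .d, .b, .d, .a, .b, .c, .a, .c])) (nd 403 (lf [.b, .d, .c, .d, .b, .d, .c, .d, .b, .d, .c, .d, .b, .d, .c, .d, .b, .d, .c, .d, .b, .d, .c, .d]) (lf [.b, .c, .b, .c, .a, .b, .a, .c, .a, .c, .a, .b, .a, .b, .a, .d, .b, .c, .d, .a, .b, .d, .c, .d, .c, .a, .d]))) (nd 406 (nd 405 (lf [.d, .a, .b, .c, .d, .a, .d, .c, .b, .a, .b, .c, .b, .c, .b, .a, .b, .c, .d, .a, .d, .c, .a]) (lf [.c, .a, .c, .a, .b, .a, .b, .a, .d, .b, .c, .d, .a, .b, .d, .c, .d, .c, .a, .d, .b, .c, .b, .c, .a, .b, .a]))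 (nd 407 (lf [.a, .d, .c, .b, .a, .d, .a, .c, .d, .a, .d, .c, .b, .a, .b, .c, .b, .c, .b, .a, .b, .c, .d]) (lf [.a, .c, .d, .a, .b, .a, .b, .c, .b, .a, .c, .b, .c, .b, .c, .d, .b, .d, .a, .b, .c, .a, .c, .b])))) (nd 412 (nd 410 (nd 409 (lf [.c, .b, .c, .a, .c, .b, .c, .a, .c, .b, .c, .d, .b, .a, .d, .c, .d, .a, .b, .d, .a]) (lf [.a, .d, .a, .b, .c, .d, .a, .d, .c, .b, .a, .b, .c, .b, .c, .b, .a, .b, .c, .d, .a, .d, .c])) (nd 411 (lf [.a, .d, .b, .d, .c, .b, .c, .b, .c, .a, .b, .c, .b, .a, .b, .a, .d, .c, .a, .b, .c, .a, .c, .b]) (lf [.c, .b, .c, .a, .c, .b, .c, .d, .b, .a, .d, .c, .d, .a, .b, .d, .a, .c, .b, .c, .a]))) (nd 414 (nd 413 (lf [.b, .c, .b, .c, .b, .a, .b, .c, .d, .a, .d, .c, .b, .a, .d, .a, .c, .d, .a, .d, .c, .b, .a]) (lf [.b, .d, .c, .d, .c, .a, .d, .b, .c, .b, .c, .a, .b, .a, .c, .a, .c, .a, .b, .a,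 .b, .a, .d, .b, .c, .d, .a])) (nd 415 (lf [.a, .b, .c, .a, .c, .d, .c, .b, .c, .b, .d, .b, .d, .c, .d, .b, .c, .a, .c, .b]) (lf [.a, .b, .a, .c, .a, .c, .a, .b, .a, .b, .a, .d, .b, .c, .d, .a, .b, .d, .c, .d, .c, .a, .d, .b, .c, .b, .c])))))) (nd 432 (nd 424 (nd 420 (nd 418 (nd 417 (lf [.a, .c, .a, .c, .a, .b, .a, .b, .a, .d, .b, .c, .d, .a, .b, .d, .c, .d, .c, .a, .d, .b, .c, .b, .c, .a, .b]) (lf [.a, .b, .a, .c, .a, .d, .a, .c, .a, .d, .a, .c, .a, .d, .b, .a, .c])) (nd 419 (lf [.b, .a, .b, .a, .d, .b, .c, .d, .a, .b, .d, .c, .d, .c, .a, .d, .b, .c, .b, .c, .a, .b, .a, .c, .a, .c, .a]) (lf [.b, .a, .b, .c, .d, .a, .d, .c, .b, .a, .d, .a, .c, .d, .a, .d, .c, .b, .a, .b, .c, .b, .c]))) (nd 422 (nd 421 (lf [.a, .c, .a, .d, .b, .d, .a, .c, .a, .d, .b, .d, .b, .d, .b]) (lf [.a, .b, .c, .d, .a, .d, .c, .a, .d, .a, .b,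 .c, .d, .a, .d, .c, .b, .a, .b, .c, .b, .c, .b])) (nd 423 (lf [.a, .c, .a, .c, .b, .a, .b, .a, .c, .a, .b, .a, .c, .b, .c, .a, .c, .a, .b, .a, .b]) (lf [.b, .c, .d, .a, .d, .c, .b, .a, .b, .c, .b, .c, .b, .a, .b, .c, .d, .a, .d, .c, .a, .d, .a])))) (nd 428 (nd 426 (nd 425 (lf [.a, .b, .c, .a, .c, .b, .a, .c, .d, .a, .b, .a, .b, .c, .b, .a, .c, .b, .c, .b, .c, .d, .b, .d]) (lf [.b, .d, .a, .c, .a, .d, .a, .c, .a, .d, .a, .c, .a, .b, .a, .c, .a])) (nd 427 (lf [.b, .c, .b, .d, .b, .c, .b, .d, .b, .c, .b, .d, .b, .c, .b, .d, .b, .c, .b, .d, .b, .c, .b, .d]) (lf [.a, .b, .c, .b, .c, .b, .a, .b, .c, .d, .a, .d, .c, .b, .a, .d, .a, .c, .d, .a, .d, .c, .b]))) (nd 430 (nd 429 (lf [.d, .c, .b, .c, .b, .c, .a, .b, .c, .b, .a, .b, .a, .d, .c, .a, .b, .c, .a, .c, .b, .a, .d, .b]) (lf [.c, .a, .c, .b, .d, .c, .d, .b, .d, .b,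 .c, .b, .c, .d, .c, .a, .c, .b, .a, .b])) (nd 431 (lf [.a, .b, .c, .d, .a, .d, .c, .b, .a, .d, .a, .c, .d, .a, .d, .c, .b, .a, .b, .c, .b, .c, .b]) (lf [.d, .c, .d, .b, .d, .b, .c, .b, .c, .d, .c, .a, .c, .b, .a, .b, .c, .a, .c, .b]))))) (nd 440 (nd 436 (nd 434 (nd 433 (lf [.d, .b, .d, .c, .b, .c, .b, .c, .a, .b, .c, .b, .a, .b, .a, .d, .c, .a, .b, .c, .a, .c, .b, .a]) (lf [.b, .c, .b, .c, .d, .b, .d, .a, .b, .c, .a, .c, .b, .a, .c, .d, .a, .b, .a, .b, .c, .b, .a, .c])) (nd 435 (lf [.a, .c, .a, .c, .a, .b, .c, .b, .a, .b, .a, .d, .b, .c, .b, .d, .c, .b, .c, .d]) (lf [.e, .a, .c, .a, .c, .a, .d, .c, .b, .c, .b, .c, .d, .a, .c, .a, .c, .a, .d, .c, .b, .c, .b, .c, .d, .e, .b, .a, .e, .b, .c, .d, .a, .d, .c, .d, .b, .d, .a, .b, .c, .a, .b, .c, .a, .b, .c, .b, .a, .e, .a, .b]))) (nd 438 (nd 437 (lf [.b, .c, .b, .a,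 .c, .b, .c, .b, .c, .d, .b, .d, .a, .b, .c, .a, .c, .b, .a, .c, .d, .a, .b, .a]) (lf [.e, .d, .b, .a, .b, .d, .c, .d, .a, .d, .c, .d, .b, .a, .b, .d, .c, .d, .a, .d, .c, .e, .a, .e, .a, .b, .c, .b, .c, .b, .a, .c, .a, .c, .a, .d, .a, .c, .b, .c, .b, .c, .a, .e, .a])) (nd 439 (lf [.e, .a, .b, .c, .b, .c, .b, .a, .c, .a, .c, .a, .d, .a, .c, .b, .c, .b, .c, .a, .e, .a, .e, .d, .b, .a, .b, .d, .c, .d, .a, .d, .c, .d, .b, .a, .b, .d, .c, .d, .a, .d, .c, .e, .a]) (lf [.a, .e, .c, .a, .b, .c, .a, .d, .c, .b, .c, .b, .c, .a, .b, .c, .a, .b, .c, .e, .a, .e, .a, .c, .a, .c, .a, .b, .d, .c, .d, .b, .a, .c, .a, .c, .a, .b, .d, .c, .d, .b, .e])))) (nd 444 (nd 442 (nd 441 (lf [.e, .a, .e, .a, .c, .a, .c, .a, .b, .d, .c, .d, .b, .a, .c, .a, .c, .a, .b, .d, .c, .d, .b, .e, .a, .e, .c, .a, .b, .c, .a, .d, .c, .b, .c, .b, .c, .a,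 .b, .c, .a, .b, .c]) (lf [.e, .c, .b, .a, .c, .b, .a, .c, .b, .c, .b, .c, .d, .a, .c, .b, .a, .c, .e, .a, .e, .b, .d, .c, .d, .b, .a, .c, .a, .c, .a, .b, .d, .c, .d, .b, .a, .c, .a, .c, .a, .e, .a])) (nd 443 (lf [.e, .a, .e, .c, .a, .b, .c, .a, .d, .c, .b, .c, .b, .c, .a, .b, .c, .a, .b, .c, .e, .a, .e, .a, .c, .a, .c, .a, .b, .d, .c, .d, .b, .a, .c, .a, .c, .a, .b, .d, .c, .d, .b]) (lf [.a, .e, .c, .d, .a, .d, .c, .d, .b, .a, .b, .d, .c, .d, .a, .d, .c, .d, .b, .a, .b, .d, .e, .a, .e, .a, .c, .b, .c, .b, .c, .a, .d, .a, .c, .a, .c, .a, .b, .c, .b, .c, .b, .a, .e]))) (nd 446 (nd 445 (lf [.a, .e, .d, .b, .a, .b, .d, .c, .d, .a, .d, .c, .d, .b, .a, .b, .d, .c, .d, .a, .d, .c, .e, .a, .e, .a, .b, .c, .b, .c, .b, .a, .c, .a, .c, .a, .d, .a, .c, .b, .c, .b, .c, .a, .e]) (lf [.e, .b, .d, .c, .d, .b, .a, .c, .a, .c, .a,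 .b, .d, .c, .d, .b, .a, .c, .a, .c, .a, .e, .a, .e, .c, .b, .a, .c, .b, .a, .c, .b, .c, .b, .c, .d, .a, .c, .b, .a, .c, .e, .a])) (nd 447 (lf [.b, .d, .c, .d, .b, .d, .b, .a, .b, .d, .b, .d, .c, .d, .b, .d, .b, .a, .b, .d, .e, .a, .e, .c, .d, .a, .b, .d, .c, .d, .b, .c, .b, .c, .b, .a, .c, .b, .a, .c, .b, .c, .b, .a, .b, .a, .e, .a, .e]) (lf [.e, .d, .b, .a, .b, .d, .b, .d, .c, .d, .b, .d, .b, .a, .b, .d, .b, .d, .c, .d, .b, .e, .a, .e, .a, .b, .a, .b, .c, .b, .c, .a, .b, .c, .a, .b, .c, .b, .c, .b, .d, .c, .d, .b, .a, .d, .c, .e, .a])))))))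
noncomputable def tc3kw_circT_c7 : ℕ → List Gen := (nd 480 (nd 464 (nd 456 (nd 452 (nd 450 (nd 449 (lf [.d, .b, .a, .b, .d, .c, .d, .a, .d, .c, .d, .b, .a, .b, .d, .c, .d, .a, .d, .c, .e, .a, .e, .a, .b, .c, .b, .c, .b, .a, .c, .a, .c, .a, .d, .a, .c, .b, .c, .b, .c, .a, .e, .a, .e]) (lf [.c, .e, .c, .b, .d, .a, .b, .a, .b, .c, .c, .d, .a, .b, .a, .c, .c, .b, .a, .b, .a, .d, .b, .c, .c, .a, .b, .a, .d, .c, .e, .c, .b, .e, .b, .a, .b, .c, .a, .c, .a, .b, .d, .b, .c, .a, .d, .a, .b, .e, .b])) (nd 451 (lf [.c, .b, .e, .a, .b, .a, .b, .a, .c, .a, .b, .a, .b, .a, .c, .a, .b, .c, .a, .c, .a, .d, .b, .d, .c, .a, .d, .c, .a, .b, .e, .b, .c, .e, .c, .b, .d, .a, .b, .a, .b, .c, .b, .c, .b, .a, .b, .a, .d, .b, .c, .b, .e]) (lf [.c, .b, .e, .b, .a, .d, .a, .c, .b, .d, .b, .a, .c, .a, .c, .b, .a, .b, .e, .b, .c, .e, .c, .d,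 .a, .b, .a, .c, .c, .b, .d, .a, .b, .a, .b, .c, .c, .a, .b, .a, .d, .c, .c, .b, .a, .b, .a, .d, .b, .c, .e]))) (nd 454 (nd 453 (lf [.c, .b, .e, .b, .d, .c, .b, .c, .a, .d, .b, .c, .a, .c, .a, .b, .c, .b, .c, .b, .e, .b, .c, .e, .d, .b, .d, .b, .d, .c, .d, .a, .b, .a, .c, .d, .b, .d, .b, .d, .c, .a, .b, .a, .d, .c, .e]) (lf [.b, .e, .b, .a, .b, .c, .a, .c, .a, .b, .d, .b, .c, .a, .d, .a, .b, .e, .b, .c, .e, .c, .b, .d, .a, .b, .a, .b, .c, .c, .d, .a, .b, .a, .c, .c, .b, .a, .b, .a, .d, .b, .c, .c, .a, .b, .a, .d, .c, .e, .c])) (nd 455 (lf [.b, .e, .b, .d, .c, .b, .c, .a, .d, .b, .c, .a, .c, .a, .b, .c, .b, .c, .b, .e, .b, .c, .e, .d, .b, .d, .b, .d, .c, .d, .a, .b, .a, .c, .d, .b, .d, .b, .d, .c, .a, .b, .a, .d, .c, .e, .c]) (lf [.c, .e, .b, .c, .d, .a, .b, .a, .c, .b, .c, .a, .b, .a, .d, .c, .e, .c, .b, .e, .b,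 .c, .d, .a, .d, .c, .d, .a, .c, .b, .a, .c, .b, .a, .c, .a, .c, .a, .b, .a, .e, .b])))) (nd 460 (nd 458 (nd 457 (lf [.b, .e, .b, .a, .c, .d, .a, .c, .d, .b, .d, .a, .c, .a, .c, .b, .a, .c, .a, .b, .a, .b, .a, .c, .a, .b, .a, .b, .a, .e, .b, .c, .e, .b, .c, .b, .d, .a, .b, .a, .b, .c, .b, .c, .b, .a, .b, .a, .d, .b, .c, .e, .c]) (lf [.b, .e, .a, .b, .a, .b, .a, .c, .a, .b, .a, .b, .a, .c, .a, .b, .c, .a, .c, .a, .d, .b, .d, .c, .a, .d, .c, .a, .b, .e, .b, .c, .e, .c, .b, .d, .a, .b, .a, .b, .c, .b, .c, .b, .a, .b, .a, .d, .b, .c, .b, .e, .c])) (nd 459 (lf [.c, .e, .c, .d, .a, .b, .a, .c, .c, .b, .d, .a, .b, .a, .b, .c, .c, .a, .b, .a, .d, .c, .c, .b, .a, .b, .a, .d, .b, .c, .e, .c, .b, .e, .b, .a, .d, .a, .c, .b, .d, .b, .a, .c, .a, .c, .b, .a, .b, .e, .b]) (lf [.e, .c, .b, .c, .b, .c, .b, .d, .c, .a, .b, .a, .c,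 .b, .a, .c, .a, .b, .e, .b, .c, .e, .b, .d, .c, .a, .b, .a, .c, .d, .b, .d, .c, .a, .b, .a, .c, .d, .e, .c, .b]))) (nd 462 (nd 461 (lf [.e, .c, .d, .a, .b, .a, .c, .c, .b, .d, .a, .b, .a, .b, .c, .c, .a, .b, .a, .d, .c, .c, .b, .a, .b, .a, .d, .b, .c, .e, .c, .b, .e, .b, .a, .d, .a, .c, .b, .d, .b, .a, .c, .a, .c, .b, .a, .b, .e, .b, .c]) (lf [.b, .e, .b, .a, .d, .a, .c, .b, .d, .b, .a, .c, .a, .c, .b, .a, .b, .e, .b, .c, .e, .c, .d, .a, .b, .a, .c, .c, .b, .d, .a, .b, .a, .b, .c, .c, .a, .b, .a, .d, .c, .c, .b, .a, .b, .a, .d, .b, .c, .e, .c])) (nd 463 (lf [.e, .b, .c, .b, .c, .b, .a, .c, .a, .c, .b, .d, .a, .c, .b, .c, .d, .b, .e, .b, .c, .e, .c, .d, .a, .b, .a, .c, .d, .b, .d, .b, .d, .c, .a, .b, .a, .d, .c, .d, .b, .d, .b, .d, .e, .c, .b]) (lf [.e, .b, .a, .d, .a, .c, .b, .d, .b, .a, .c, .a, .c, .b, .a, .b,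 .e, .b, .c, .e, .c, .d, .a, .b, .a, .c, .c, .b, .d, .a, .b, .a, .b, .c, .c, .a, .b, .a, .d, .c, .c, .b, .a, .b, .a, .d, .b, .c, .e, .c, .b]))))) (nd 472 (nd 468 (nd 466 (nd 465 (lf [.b, .e, .a, .c, .b, .c, .a, .b, .a, .b, .c, .a, .b, .d, .c, .b, .d, .a, .d, .a, .b, .e, .b, .c, .e, .c, .b, .d, .a, .b, .a, .b, .c, .d, .b, .d, .b, .d, .c, .b, .a, .b, .a, .d, .b, .c, .d, .b, .d, .b, .d, .e, .c]) (lf [.b, .e, .b, .c, .d, .a, .d, .c, .d, .a, .c, .b, .a, .c, .b, .a, .c, .a, .c, .a, .b, .a, .e, .b, .c, .e, .b, .c, .d, .a, .b, .a, .c, .b, .c, .a, .b, .a, .d, .c, .e, .c])) (nd 467 (lf [.c, .b, .e, .b, .a, .d, .a, .d, .b, .c, .d, .b, .a, .c, .b, .a, .b, .a, .c, .b, .c, .a, .e, .b, .c, .e, .d, .b, .d, .b, .d, .c, .b, .d, .a, .b, .a, .b, .c, .d, .b, .d, .b, .d, .c, .b, .a, .b, .a, .d, .b, .c, .e]) (lf [.a, .e, .c, .b, .a, .c,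 .b, .a, .c, .b, .c, .b, .c, .d, .a, .c, .b, .a, .c, .e, .a, .e, .b, .d, .c, .d, .b, .a, .c, .a, .c, .a, .b, .d, .c, .d, .b, .a, .c, .a, .c, .a, .e]))) (nd 470 (nd 469 (lf [.a, .e, .a, .b, .c, .b, .c, .b, .a, .c, .a, .c, .a, .d, .a, .c, .b, .c, .b, .c, .a, .e, .a, .e, .d, .b, .a, .b, .d, .c, .d, .a, .d, .c, .d, .b, .a, .b, .d, .c, .d, .a, .d, .c, .e]) (lf [.a, .e, .b, .a, .b, .a, .c, .b, .a, .b, .d, .b, .c, .b, .c, .a, .b, .c, .a, .b, .c, .a, .b, .a, .b, .a, .e, .a, .e, .a, .c, .a, .c, .a, .d, .b, .a, .b, .d, .a, .c, .a, .c, .a, .d, .b, .a, .b, .d, .e])) (nd 471 (lf [.e, .a, .c, .b, .c, .a, .b, .a, .b, .c, .a, .b, .d, .c, .b, .d, .a, .d, .a, .b, .e, .b, .c, .e, .c, .b, .d, .a, .b, .a, .b, .c, .d, .b, .d, .b, .d, .c, .b, .a, .b, .a, .d, .b, .c, .d, .b, .d, .b, .d, .e, .c, .b]) (lf [.b, .e, .b, .c, .b, .c, .b, .a,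 .c, .a, .c, .b, .d, .a, .c, .b, .c, .d, .b, .e, .b, .c, .e, .c, .d, .a, .b, .a, .c, .d, .b, .d, .b, .d, .c, .a, .b, .a, .d, .c, .d, .b, .d, .b, .d, .e, .c])))) (nd 476 (nd 474 (nd 473 (lf [.a, .b, .c, .a, .c, .b, .d, .c, .d, .b, .d, .b, .c, .b, .c, .d, .c, .a, .c, .b]) (lf [.e, .b, .d, .c, .a, .b, .a, .c, .d, .b, .d, .c, .a, .b, .a, .c, .d, .e, .c, .b, .e, .c, .b, .c, .b, .c, .b, .d, .c, .a, .b, .a, .c, .b, .a, .c, .a, .b, .e, .b, .c])) (nd 475 (lf [.c, .b, .e, .c, .b, .d, .a, .b, .d, .a, .c, .b, .c, .b, .a, .c, .b, .c, .a, .e, .b, .c, .e, .d, .c, .a, .b, .a, .c, .d, .c, .b, .d, .a, .b, .a, .b, .c, .d, .c, .a, .b, .a, .c, .d, .c, .b, .a, .b, .a, .d, .b, .c, .e]) (lf [.c, .e, .c, .d, .a, .b, .a, .c, .d, .b, .d, .b, .d, .c, .a, .b, .a, .d, .c, .d, .b, .d, .b, .d, .e, .c, .b, .e, .b, .c, .b, .c, .b, .a, .c, .a, .c,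 .b, .d, .a, .c, .b, .c, .d, .b, .e, .b]))) (nd 478 (nd 477 (lf [.c, .b, .e, .b, .a, .b, .c, .a, .c, .a, .b, .d, .b, .c, .a, .d, .a, .b, .e, .b, .c, .e, .c, .b, .d, .a, .b, .a, .b, .c, .c, .d, .a, .b, .a, .c, .c, .b, .a, .b, .a, .d, .b, .c, .c, .a, .b, .a, .d, .c, .e]) (lf [.c, .b, .e, .a, .b, .a, .c, .a, .c, .a, .b, .c, .a, .b, .c, .a, .d, .c, .d, .a, .d, .c, .b, .e, .b, .c, .e, .c, .d, .a, .b, .a, .c, .b, .c, .a, .b, .a, .d, .c, .b, .e])) (nd 479 (lf [.b, .c, .e, .b, .c, .b, .d, .a, .b, .a, .b, .c, .b, .c, .b, .a, .b, .a, .d, .b, .c, .e, .c, .b, .e, .b, .a, .c, .d, .a, .c, .d, .b, .d, .a, .c, .a, .c, .b, .a, .c, .a, .b, .a, .b, .a, .c, .a, .b, .a, .b, .a, .e]) (lf [.e, .c, .d, .a, .d, .c, .a, .c, .a, .c, .a, .c, .d, .a, .d, .c, .a, .c, .a, .c, .a, .e, .a, .e, .a, .b, .a, .b, .c, .b, .a, .c, .b, .c, .b, .a, .c,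 .a, .d, .b, .d, .c, .a, .c, .b, .e, .a])))))) (nd 496 (nd 488 (nd 484 (nd 482 (nd 481 (lf [.c, .e, .c, .b, .d, .a, .b, .a, .b, .c, .d, .c, .a, .b, .a, .c, .d, .c, .b, .a, .b, .a, .d, .b, .c, .d, .c, .a, .b, .a, .c, .d, .e, .c, .b, .e, .a, .c, .b, .c, .a, .b, .c, .b, .c, .a, .d, .b, .a, .d, .b, .c, .e, .b]) (lf [.c, .e, .d, .c, .a, .b, .a, .c, .d, .c, .b, .d, .a, .b, .a, .b, .c, .d, .c, .a, .b, .a, .c, .d, .c, .b, .a, .b, .a, .d, .b, .c, .e, .c, .b, .e, .c, .b, .d, .a, .b, .d, .a, .c, .b, .c, .b, .a, .c, .b, .c, .a, .e, .b])) (nd 483 (lf [.a, .e, .b, .d, .c, .d, .b, .a, .c, .a, .c, .a, .b, .d, .c, .d, .b, .a, .c, .a, .c, .a, .e, .a, .e, .c, .b, .a, .c, .b, .a, .c, .b, .c, .b, .c, .d, .a, .c, .b, .a, .c, .e]) (lf [.c, .b, .e, .c, .b, .c, .b, .c, .b, .d, .c, .a, .b, .a, .c, .b, .a, .c, .a, .b, .e, .b, .c, .e, .b,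 .d, .c, .a, .b, .a, .c, .d, .b, .d, .c, .a, .b, .a, .c, .d, .e]))) (nd 486 (nd 485 (lf [.e, .b, .a, .c, .a, .b, .c, .a, .b, .a, .c, .d, .b, .c, .b, .c, .b, .c, .e, .b, .c, .e, .d, .c, .a, .b, .a, .c, .d, .b, .d, .c, .a, .b, .a, .c, .d, .b, .e, .c, .b]) (lf [.c, .b, .e, .b, .a, .d, .c, .d, .b, .d, .c, .b, .c, .a, .b, .c, .a, .b, .a, .b, .a, .c, .b, .a, .e, .b, .c, .e, .d, .b, .d, .b, .d, .d, .c, .a, .b, .a, .c, .d, .d, .b, .d, .b, .d, .d, .c, .a, .b, .a, .c, .d, .e])) (nd 487 (lf [.c, .e, .d, .b, .d, .b, .d, .c, .d, .a, .b, .a, .c, .d, .b, .d, .b, .d, .c, .a, .b, .a, .d, .c, .e, .c, .b, .e, .b, .d, .c, .b, .c, .a, .d, .b, .c, .a, .c, .a, .b, .c, .b, .c, .b, .e, .b]) (lf [.b, .c, .e, .d, .c, .a, .b, .a, .c, .d, .b, .d, .c, .a, .b, .a, .c, .d, .b, .e, .c, .b, .e, .b, .a, .c, .a, .b, .c, .a, .b, .a, .c, .d, .b, .c,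 .b, .c, .b, .c, .e])))) (nd 492 (nd 490 (nd 489 (lf [.c, .b, .e, .b, .a, .c, .d, .a, .c, .d, .b, .d, .a, .c, .a, .c, .b, .a, .c, .a, .b, .a, .b, .a, .c, .a, .b, .a, .b, .a, .e, .b, .c, .e, .b, .c, .b, .d, .a, .b, .a, .b, .c, .b, .c, .b, .a, .b, .a, .d, .b, .c, .e]) (lf [.b, .c, .e, .c, .b, .d, .a, .b, .a, .b, .c, .d, .c, .a, .b, .a, .c, .d, .c, .b, .a, .b, .a, .d, .b, .c, .d, .c, .a, .b, .a, .c, .d, .e, .c, .b, .e, .a, .c, .b, .c, .a, .b, .c, .b, .c, .a, .d, .b, .a, .d, .b, .c, .e])) (nd 491 (lf [.a, .e, .a, .c, .a, .c, .a, .b, .d, .c, .d, .b, .a, .c, .a, .c, .a, .b, .d, .c, .d, .b, .e, .a, .e, .c, .a, .b, .c, .a, .d, .c, .b, .c, .b, .c, .a, .b, .c, .a, .b, .c, .e]) (lf [.a, .e, .a, .c, .b, .c, .b, .c, .a, .d, .a, .c, .a, .c, .a, .b, .c, .b, .c, .b, .a, .e, .a, .e, .c, .d, .a, .d, .c, .d, .b, .a, .b, .d, .c, .d,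 .a, .d, .c, .d, .b, .a, .b, .d, .e]))) (nd 494 (nd 493 (lf [.b, .c, .e, .b, .d, .c, .a, .b, .a, .c, .d, .b, .d, .c, .a, .b, .a, .c, .d, .e, .c, .b, .e, .c, .b, .c, .b, .c, .b, .d, .c, .a, .b, .a, .c, .b, .a, .c, .a, .b, .e]) (lf [.c, .e, .b, .c, .b, .d, .a, .b, .a, .b, .c, .b, .c, .b, .a, .b, .a, .d, .b, .c, .e, .c, .b, .e, .b, .a, .c, .d, .a, .c, .d, .b, .d, .a, .c, .a, .c, .b, .a, .c, .a, .b, .a, .b, .a, .c, .a, .b, .a, .b, .a, .e, .b])) (nd 495 (lf [.e, .b, .c, .d, .a, .b, .a, .c, .b, .c, .a, .b, .a, .d, .c, .e, .c, .b, .e, .b, .c, .d, .a, .d, .c, .d, .a, .c, .b, .a, .c, .b, .a, .c, .a, .c, .a, .b, .a, .e, .b, .c]) (lf [.c, .e, .c, .d, .a, .b, .a, .c, .b, .c, .a, .b, .a, .d, .c, .b, .e, .c, .b, .e, .a, .b, .a, .c, .a, .c, .a, .b, .c, .a, .b, .c, .a, .d, .c, .d, .a, .d, .c, .b, .e, .b]))))) (nd 504 (nd 500 (nd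 498 (nd 497 (lf [.e, .c, .b, .d, .a, .b, .a, .b, .c, .d, .c, .a, .b, .a, .c, .d, .c, .b, .a, .b, .a, .d, .b, .c, .d, .c, .a, .b, .a, .c, .d, .e, .c, .b, .e, .a, .c, .b, .c, .a, .b, .c, .b, .c, .a, .d, .b, .a, .d, .b, .c, .e, .b, .c]) (lf [.b, .e, .c, .b, .d, .a, .b, .d, .a, .c, .b, .c, .b, .a, .c, .b, .c, .a, .e, .b, .c, .e, .d, .c, .a, .b, .a, .c, .d, .c, .b, .d, .a, .b, .a, .b, .c, .d, .c, .a, .b, .a, .c, .d, .c, .b, .a, .b, .a, .d, .b, .c, .e, .c])) (nd 499 (lf [.b, .c, .e, .b, .c, .d, .a, .b, .a, .c, .b, .c, .a, .b, .a, .d, .c, .e, .c, .b, .e, .b, .c, .d, .a, .d, .c, .d, .a, .c, .b, .a, .c, .b, .a, .c, .a, .c, .a, .b, .a, .e]) (lf [.c, .e, .d, .c, .a, .b, .a, .c, .d, .b, .d, .c, .a, .b, .a, .c, .d, .b, .e, .c, .b, .e, .b, .a, .c, .a, .b, .c, .a, .b, .a, .c, .d, .b, .c, .b, .c, .b, .c, .e, .b]))) (nd 502 (nd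 501 (lf [.e, .c, .b, .e, .b, .a, .d, .a, .c, .b, .d, .b, .a, .c, .a, .c, .b, .a, .b, .e, .b, .c, .e, .c, .d, .a, .b, .a, .c, .c, .b, .d, .a, .b, .a, .b, .c, .c, .a, .b, .a, .d, .c, .c, .b, .a, .b, .a, .d, .b, .c]) (lf [.e, .c, .d, .a, .b, .a, .c, .b, .c, .a, .b, .a, .d, .c, .b, .e, .c, .b, .e, .a, .b, .a, .c, .a, .c, .a, .b, .c, .a, .b, .c, .a, .d, .c, .d, .a, .d, .c, .b, .e, .b, .c])) (nd 503 (lf [.b, .c, .e, .d, .b, .d, .b, .d, .c, .b, .d, .a, .b, .a, .b, .c, .d, .b, .d, .b, .d, .c, .b, .a, .b, .a, .d, .b, .c, .e, .c, .b, .e, .b, .a, .d, .a, .d, .b, .c, .d, .b, .a, .c, .b, .a, .b, .a, .c, .b, .c, .a, .e]) (lf [.c, .e, .b, .d, .c, .a, .b, .a, .c, .d, .b, .d, .c, .a, .b, .a, .c, .d, .e, .c, .b, .e, .c, .b, .c, .b, .c, .b, .d, .c, .a, .b, .a, .c, .b, .a, .c, .a, .b, .e, .b])))) (nd 508 (nd 506 (nd 505 (lf [.b, .c,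 .a, .d, .b, .a, .d, .c, .d, .a, .b, .d, .c, .b, .c, .a, .c, .b, .c, .a, .c]) (lf [.e, .a, .c, .a, .c, .a, .b, .d, .c, .d, .b, .a, .c, .a, .c, .a, .b, .d, .c, .d, .b, .e, .a, .e, .c, .a, .b, .c, .a, .d, .c, .b, .c, .b, .c, .a, .b, .c, .a, .b, .c, .e, .a])) (nd 507 (lf [.c, .e, .d, .b, .d, .b, .d, .c, .b, .d, .a, .b, .a, .b, .c, .d, .b, .d, .b, .d, .c, .b, .a, .b, .a, .d, .b, .c, .e, .c, .b, .e, .b, .a, .d, .a, .d, .b, .c, .d, .b, .a, .c, .b, .a, .b, .a, .c, .b, .c, .a, .e, .b]) (lf [.b, .e, .a, .b, .c, .a, .b, .a, .b, .a, .c, .b, .a, .c, .b, .c, .d, .b, .d, .c, .d, .a, .b, .e, .b, .c, .e, .d, .c, .a, .b, .a, .c, .d, .d, .b, .d, .b, .d, .d, .c, .a, .b, .a, .c, .d, .d, .b, .d, .b, .d, .e, .c]))) (nd 510 (nd 509 (lf [.c, .e, .c, .b, .d, .a, .b, .a, .b, .c, .d, .b, .d, .b, .d, .c, .b, .a, .b, .a, .d, .b, .c, .d, .b,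 .d, .b, .d, .e, .c, .b, .e, .a, .c, .b, .c, .a, .b, .a, .b, .c, .a, .b, .d, .c, .b, .d, .a, .d, .a, .b, .e, .b]) (lf [.e, .b, .a, .b, .c, .a, .c, .a, .b, .d, .b, .c, .a, .d, .a, .b, .e, .b, .c, .e, .c, .b, .d, .a, .b, .a, .b, .c, .c, .d, .a, .b, .a, .c, .c, .b, .a, .b, .a, .d, .b, .c, .c, .a, .b, .a, .d, .c, .e, .c, .b])) (nd 511 (lf [.a, .b, .a, .b, .a, .c, .a, .b, .a, .b, .a, .c, .a, .b, .c, .a, .c, .a, .d, .b, .d, .c, .a, .d, .c, .a, .b, .e, .b, .c, .e, .c, .b, .d, .a, .b, .a, .b, .c, .b, .c, .b, .a, .b, .a, .d, .b, .c, .b, .e, .c, .b, .e]) (lf [.b, .a, .b, .c, .a, .c, .a, .b, .d, .b, .c, .a, .d, .a, .b, .e, .b, .c, .e, .c, .b, .d, .a, .b, .a, .b, .c, .c, .d, .a, .b, .a, .c, .c, .b, .a, .b, .a, .d, .b, .c, .c, .a, .b, .a, .d, .c, .e, .c, .b, .e])))))))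
noncomputable def tc3kw_circT_c8 : ℕ → List Gen := (nd 544 (nd 528 (nd 520 (nd 516 (nd 514 (nd 513 (lf [.c, .d, .a, .b, .a, .c, .c, .b, .d, .a, .b, .a, .b, .c, .c, .a, .b, .a, .d, .c, .c, .b, .a, .b, .a, .d, .b, .c, .e, .c, .b, .e, .b, .a, .d, .a, .c, .b, .d, .b, .a, .c, .a, .c, .b, .a, .b, .e, .b, .c, .e]) (lf [.e, .c, .b, .e, .b, .a, .b, .c, .a, .c, .a, .b, .d, .b, .c, .a, .d, .a, .b, .e, .b, .c, .e, .c, .b, .d, .a, .b, .a, .b, .c, .c, .d, .a, .b, .a, .c, .c, .b, .a, .b, .a, .d, .b, .c, .c, .a, .b, .a, .d, .c])) (nd 515 (lf [.b, .e, .c, .b, .c, .b, .c, .b, .d, .c, .a, .b, .a, .c, .b, .a, .c, .a, .b, .e, .b, .c, .e, .b, .d, .c, .a, .b, .a, .c, .d, .b, .d, .c, .a, .b, .a, .c, .d, .e, .c]) (lf [.e, .c, .a, .b, .c, .a, .d, .c, .b, .c, .b, .c, .a, .b, .c, .a, .b, .c, .e, .a, .e, .a, .c, .a, .c, .a, .b, .d, .c, .d,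 .b, .a, .c, .a, .c, .a, .b, .d, .c, .d, .b, .e, .a]))) (nd 518 (nd 517 (lf [.a, .e, .a, .b, .a, .b, .c, .b, .a, .c, .b, .c, .b, .a, .c, .a, .d, .b, .d, .c, .a, .c, .b, .e, .a, .e, .c, .d, .a, .d, .c, .a, .c, .a, .c, .a, .c, .d, .a, .d, .c, .a, .c, .a, .c, .a, .e]) (lf [.a, .e, .a, .c, .a, .c, .a, .c, .d, .a, .d, .c, .a, .c, .a, .c, .a, .c, .d, .a, .d, .c, .e, .a, .e, .b, .c, .a, .c, .d, .b, .d, .a, .c, .a, .b, .c, .b, .c, .a, .b, .c, .b, .a, .b, .a, .e])) (nd 519 (lf [.c, .d, .a, .b, .a, .c, .c, .b, .d, .b, .d, .b, .c, .c, .a, .b, .a, .d, .c, .c, .b, .d, .b, .d, .b, .c, .e, .b, .d, .c, .d, .c, .b, .a, .c, .a, .b, .a, .c, .a, .c, .b, .e]) (lf [.b, .d, .c, .d, .a, .b, .a, .c, .b, .c, .b, .c, .e, .c, .b, .d, .b, .d, .b, .c, .a, .c, .b, .c, .b, .c, .b, .a, .c, .b, .d, .b, .d, .b, .c, .a, .b, .c, .b, .c, .b, .c, .a,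 .e])))) (nd 524 (nd 522 (nd 521 (lf [.e, .c, .b, .a, .b, .a, .c, .b, .c, .a, .b, .a, .b, .e, .d, .a, .b, .a, .a, .c, .b, .c, .b, .c, .b, .a, .a, .b, .a, .d, .a, .b, .c, .b, .c, .b, .c, .a]) (lf [.e, .c, .d, .a, .b, .a, .c, .c, .b, .d, .b, .d, .b, .c, .c, .a, .b, .a, .d, .c, .c, .b, .d, .b, .d, .b, .c, .e, .b, .d, .c, .d, .c, .b, .a, .c, .a, .b, .a, .c, .a, .c, .b])) (nd 523 (lf [.e, .c, .d, .b, .d, .b, .d, .a, .b, .c, .b, .c, .a, .b, .a, .b, .e, .c, .d, .a, .b, .a, .c, .a, .c, .b, .c, .b, .c, .b, .a, .c, .a, .b, .a, .d, .c, .a, .b, .c, .b, .c, .b, .c, .a]) (lf [.b, .d, .b, .d, .b, .c, .d, .a, .b, .a, .c, .b, .d, .b, .d, .b, .c, .a, .b, .a, .d, .e, .a, .c, .a, .b, .c, .a, .b, .c, .b, .a, .c, .d, .b, .d, .a, .b, .c, .b, .e, .c]))) (nd 526 (nd 525 (lf [.c, .b, .c, .b, .c, .b, .a, .d, .a, .b, .a, .a, .b, .c, .b, .c,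 .b, .c, .a, .a, .b, .a, .d, .e, .b, .a, .b, .a, .c, .b, .c, .a, .b, .a, .b, .c, .e, .a]) (lf [.d, .c, .d, .c, .b, .a, .c, .a, .b, .a, .c, .a, .c, .b, .e, .c, .d, .a, .b, .a, .c, .c, .b, .d, .b, .d, .b, .c, .c, .a, .b, .a, .d, .c, .c, .b, .d, .b, .d, .b, .c, .e, .b])) (nd 527 (lf [.e, .a, .c, .b, .c, .b, .c, .b, .a, .c, .d, .a, .b, .a, .c, .a, .b, .c, .b, .c, .b, .c, .a, .c, .a, .b, .a, .d, .c, .e, .b, .a, .b, .a, .c, .b, .c, .b, .a, .d, .b, .d, .b, .d, .c]) (lf [.d, .c, .d, .a, .b, .a, .c, .b, .c, .b, .c, .e, .c, .b, .d, .b, .d, .b, .c, .a, .c, .b, .c, .b, .c, .b, .a, .c, .b, .d, .b, .d, .b, .c, .a, .b, .c, .b, .c, .b, .c, .a, .e, .b]))))) (nd 536 (nd 532 (nd 530 (nd 529 (lf [.a, .c, .b, .c, .b, .c, .b, .a, .c, .b, .d, .b, .d, .b, .c, .a, .b, .c, .b, .c, .b, .c, .a, .c, .b, .d, .b, .d, .b, .c, .e, .c, .b, .c, .b,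 .c, .a, .b, .a, .d, .c, .d, .b, .e]) (lf [.c, .b, .a, .b, .a, .c, .b, .c, .a, .b, .a, .b, .e, .d, .a, .b, .a, .a, .c, .b, .c, .b, .c, .b, .a, .a, .b, .a, .d, .a, .b, .c, .b, .c, .b, .c, .a, .e])) (nd 531 (lf [.b, .a, .c, .a, .c, .a, .b, .c, .a, .b, .c, .b, .c, .d, .a, .c, .b, .a, .b, .d, .a, .e, .a, .c, .b, .d, .b, .d, .b, .c, .a, .d, .a, .b, .a, .a, .c, .b, .d, .b, .d, .b, .c, .a, .a, .b, .a, .d, .e, .a]) (lf [.d, .b, .d, .b, .d, .a, .b, .c, .b, .c, .a, .b, .a, .b, .e, .c, .d, .a, .b, .a, .c, .a, .c, .b, .c, .b, .c, .b, .a, .c, .a, .b, .a, .d, .c, .a, .b, .c, .b, .c, .b, .c, .a, .e, .c]))) (nd 534 (nd 533 (lf [.e, .c, .d, .a, .b, .a, .c, .a, .c, .b, .c, .b, .c, .b, .a, .c, .a, .b, .a, .d, .c, .a, .b, .c, .b, .c, .b, .c, .a, .e, .c, .d, .b, .d, .b, .d, .a, .b, .c, .b, .c, .a, .b, .a, .b]) (lf [.a, .b, .a, .c, .b,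 .c, .b, .a, .d, .b, .d, .b, .d, .c, .e, .a, .c, .b, .c, .b, .c, .b, .a, .c, .d, .a, .b, .a, .c, .a, .b, .c, .b, .c, .b, .c, .a, .c, .a, .b, .a, .d, .c, .e, .b])) (nd 535 (lf [.c, .b, .c, .b, .c, .b, .a, .c, .d, .a, .b, .a, .c, .a, .b, .c, .b, .c, .b, .c, .a, .c, .a, .b, .a, .d, .c, .e, .b, .a, .b, .a, .c, .b, .c, .b, .a, .d, .b, .d, .b, .d, .c, .e, .a]) (lf [.c, .b, .a, .c, .b, .a, .b, .c, .b, .c, .b, .a, .d, .b, .c, .d, .c, .a, .b, .a, .b, .e, .a, .c, .b, .d, .b, .d, .b, .c, .a, .c, .d, .a, .b, .a, .c, .a, .c, .b, .d, .b, .d, .b, .c, .a, .c, .a, .b, .a, .d, .c, .e, .b])))) (nd 540 (nd 538 (nd 537 (lf [.c, .b, .c, .b, .c, .e, .c, .b, .d, .b, .d, .b, .c, .a, .c, .b, .c, .b, .c, .b, .a, .c, .b, .d, .b, .d, .b, .c, .a, .b, .c, .b, .c, .b, .c, .a, .e, .b, .d, .c, .d, .a, .b, .a]) (lf [.e, .c, .b, .c, .b, .c, .a, .b,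 .a, .d, .c, .d, .b, .e, .a, .c, .b, .c, .b, .c, .b, .a, .c, .b, .d, .b, .d, .b, .c, .a, .b, .c, .b, .c, .b, .c, .a, .c, .b, .d, .b, .d, .b, .c])) (nd 539 (lf [.c, .a, .e, .d, .a, .b, .a, .c, .b, .d, .b, .d, .b, .c, .a, .b, .a, .d, .c, .b, .d, .b, .d, .b, .c, .e, .b, .c, .b, .a, .d, .b, .d, .c, .a, .b, .c, .b, .a, .c, .b, .a]) (lf [.d, .a, .b, .a, .a, .c, .b, .d, .b, .d, .b, .c, .a, .a, .b, .a, .d, .a, .c, .b, .d, .b, .d, .b, .c, .a, .e, .a, .d, .b, .a, .b, .c, .a, .d, .c, .b, .c, .b, .a, .c, .b, .a, .c, .a, .c, .a, .b, .a, .e]))) (nd 542 (nd 541 (lf [.e, .b, .d, .c, .d, .c, .b, .a, .c, .a, .b, .a, .c, .a, .c, .b, .e, .c, .d, .a, .b, .a, .c, .c, .b, .d, .b, .d, .b, .c, .c, .a, .b, .a, .d, .c, .c, .b, .d, .b, .d, .b, .c]) (lf [.b, .a, .b, .a, .c, .d, .c, .b, .d, .a, .b, .c, .b, .c, .b, .a, .b, .c, .a, .b, .c, .b,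 .e, .c, .d, .a, .b, .a, .c, .a, .c, .b, .d, .b, .d, .b, .c, .a, .c, .a, .b, .a, .d, .c, .a, .c, .b, .d, .b, .d, .b, .c, .a, .e])) (nd 543 (lf [.c, .d, .a, .b, .a, .c, .a, .c, .b, .d, .b, .d, .b, .c, .a, .c, .a, .b, .a, .d, .c, .a, .c, .b, .d, .b, .d, .b, .c, .a, .e, .b, .a, .b, .a, .c, .d, .c, .b, .d, .a, .b, .c, .b, .c, .b, .a, .b, .c, .a, .b, .c, .b, .e]) (lf [.d, .a, .b, .a, .c, .b, .d, .b, .d, .b, .c, .a, .b, .a, .d, .c, .b, .d, .b, .d, .b, .c, .e, .b, .c, .b, .a, .d, .b, .d, .c, .a, .b, .c, .b, .a, .c, .b, .a, .c, .a, .e])))))) (nd 560 (nd 552 (nd 548 (nd 546 (nd 545 (lf [.e, .d, .a, .b, .a, .a, .c, .b, .c, .b, .c, .b, .a, .a, .b, .a, .d, .a, .b, .c, .b, .c, .b, .c, .a, .e, .c, .b, .a, .b, .a, .c, .b, .c, .a, .b, .a, .b]) (lf [.c, .b, .d, .b, .d, .b, .c, .a, .d, .a, .b, .a, .a, .c, .b, .d, .b, .d, .b, .c,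 .a, .a, .b, .a, .d, .e, .a, .b, .a, .c, .a, .c, .a, .b, .c, .a, .b, .c, .b, .c, .d, .a, .c, .b, .a, .b, .d, .a, .e, .a])) (nd 547 (lf [.b, .d, .b, .d, .a, .b, .c, .b, .c, .a, .b, .a, .b, .e, .c, .d, .a, .b, .a, .c, .a, .c, .b, .c, .b, .c, .b, .a, .c, .a, .b, .a, .d, .c, .a, .b, .c, .b, .c, .b, .c, .a, .e, .c, .d]) (lf [.c, .b, .c, .b, .c, .b, .a, .c, .b, .d, .b, .d, .b, .c, .a, .b, .c, .b, .c, .b, .c, .a, .c, .b, .d, .b, .d, .b, .c, .e, .c, .b, .c, .b, .c, .a, .b, .a, .d, .c, .d, .b, .e, .a]))) (nd 550 (nd 549 (lf [.d, .a, .b, .a, .a, .c, .b, .c, .b, .c, .b, .a, .a, .b, .a, .d, .a, .b, .c, .b, .c, .b, .c, .a, .e, .c, .b, .a, .b, .a, .c, .b, .c, .a, .b, .a, .b, .e]) (lf [.a, .b, .a, .a, .c, .b, .d, .b, .d, .b, .c, .a, .a, .b, .a, .d, .a, .c, .b, .d, .b, .d, .b, .c, .a, .e, .a, .d, .b, .a, .b, .c, .a, .d, .c, .b,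 .c, .b, .a, .c, .b, .a, .c, .a, .c, .a, .b, .a, .e, .d])) (nd 551 (lf [.b, .d, .c, .d, .c, .b, .a, .c, .a, .b, .a, .c, .a, .c, .b, .e, .c, .d, .a, .b, .a, .c, .c, .b, .d, .b, .d, .b, .c, .c, .a, .b, .a, .d, .c, .c, .b, .d, .b, .d, .b, .c, .e]) (lf [.c, .b, .d, .b, .d, .b, .c, .c, .d, .a, .b, .a, .c, .c, .b, .d, .b, .d, .b, .c, .c, .a, .b, .a, .d, .c, .e, .b, .c, .a, .c, .a, .b, .a, .c, .a, .b, .c, .d, .c, .d, .b, .e])))) (nd 556 (nd 554 (nd 553 (lf [.d, .a, .b, .a, .c, .a, .c, .b, .d, .b, .d, .b, .c, .a, .c, .a, .b, .a, .d, .c, .a, .c, .b, .d, .b, .d, .b, .c, .a, .e, .b, .a, .b, .a, .c, .d, .c, .b, .d, .a, .b, .c, .b, .c, .b, .a, .b, .c, .a, .b, .c, .b, .e, .c]) (lf [.e, .c, .b, .d, .b, .d, .b, .c, .a, .c, .b, .c, .b, .c, .b, .a, .c, .b, .d, .b, .d, .b, .c, .a, .b, .c, .b, .c, .b, .c, .a, .e, .b, .d, .c, .d, .a,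 .b, .a, .c, .b, .c, .b, .c])) (nd 555 (lf [.b, .d, .a, .d, .b, .c, .b, .c, .a, .b, .a, .c, .b, .a, .b, .a, .e, .a, .c, .b, .c, .b, .c, .b, .a, .a, .c, .b, .d, .b, .d, .b, .c, .a, .a, .b, .c, .b, .c, .b, .c, .a, .a, .c, .b, .d, .b, .d, .b, .c, .a, .e, .b, .a, .c]) (lf [.e, .d, .a, .b, .a, .a, .c, .b, .d, .b, .d, .b, .c, .a, .a, .b, .a, .d, .a, .c, .b, .d, .b, .d, .b, .c, .a, .e, .a, .d, .b, .a, .b, .c, .a, .d, .c, .b, .c, .b, .a, .c, .b, .a, .c, .a, .c, .a, .b, .a]))) (nd 558 (nd 557 (lf [.a, .c, .b, .d, .a, .d, .b, .c, .b, .c, .a, .b, .a, .c, .b, .a, .b, .a, .e, .a, .c, .b, .c, .b, .c, .b, .a, .a, .c, .b, .d, .b, .d, .b, .c, .a, .a, .b, .c, .b, .c, .b, .c, .a, .a, .c, .b, .d, .b, .d, .b, .c, .a, .e, .b]) (lf [.b, .e, .d, .a, .b, .a, .a, .c, .b, .c, .b, .c, .b, .a, .a, .b, .a, .d, .a, .b, .c, .b, .c, .b, .c, .a,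 .e, .c, .b, .a, .b, .a, .c, .b, .c, .a, .b, .a])) (nd 559 (lf [.a, .c, .b, .c, .b, .c, .b, .a, .c, .d, .a, .b, .a, .c, .a, .b, .c, .b, .c, .b, .c, .a, .c, .a, .b, .a, .d, .c, .e, .b, .a, .b, .a, .c, .b, .c, .b, .a, .d, .b, .d, .b, .d, .c, .e]) (lf [.a, .c, .b, .d, .b, .d, .b, .c, .a, .c, .d, .a, .b, .a, .c, .a, .c, .b, .d, .b, .d, .b, .c, .a, .c, .a, .b, .a, .d, .c, .e, .b, .c, .b, .a, .c, .b, .a, .b, .c, .b, .c, .b, .a, .d, .b, .c, .d, .c, .a, .b, .a, .b, .e]))))) (nd 568 (nd 564 (nd 562 (nd 561 (lf [.e, .a, .c, .b, .c, .b, .c, .b, .a, .c, .b, .d, .b, .d, .b, .c, .a, .b, .c, .b, .c, .b, .c, .a, .c, .b, .d, .b, .d, .b, .c, .e, .c, .b, .c, .b, .c, .a, .b, .a, .d, .c, .d, .b]) (lf [.a, .b, .c, .a, .b, .c, .b, .a, .c, .d, .b, .d, .a, .b, .c, .b, .e, .c, .b, .d, .b, .d, .b, .c, .d, .a, .b, .a, .c, .b, .d, .b, .d, .b,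 .c, .a, .b, .a, .d, .e, .a, .c])) (nd 563 (lf [.e, .b, .c, .b, .a, .c, .b, .a, .b, .c, .b, .c, .b, .a, .d, .b, .c, .d, .c, .a, .b, .a, .b, .e, .a, .c, .b, .d, .b, .d, .b, .c, .a, .c, .d, .a, .b, .a, .c, .a, .c, .b, .d, .b, .d, .b, .c, .a, .c, .a, .b, .a, .d, .c]) (lf [.e, .b, .d, .c, .d, .a, .b, .a, .c, .b, .c, .b, .c, .e, .c, .b, .d, .b, .d, .b, .c, .a, .c, .b, .c, .b, .c, .b, .a, .c, .b, .d, .b, .d, .b, .c, .a, .b, .c, .b, .c, .b, .c, .a]))) (nd 566 (nd 565 (lf [.e, .b, .c, .b, .a, .d, .b, .d, .c, .a, .b, .c, .b, .a, .c, .b, .a, .c, .a, .e, .d, .a, .b, .a, .c, .b, .d, .b, .d, .b, .c, .a, .b, .a, .d, .c, .b, .d, .b, .d, .b, .c]) (lf [.a, .e, .d, .a, .b, .a, .a, .c, .b, .d, .b, .d, .b, .c, .a, .a, .b, .a, .d, .a, .c, .b, .d, .b, .d, .b, .c, .a, .e, .a, .d, .b, .a, .b, .c, .a, .d, .c, .b, .c, .b, .a, .c, .b, .a,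 .c, .a, .c, .a, .b])) (nd 567 (lf [.c, .b, .c, .b, .c, .b, .a, .a, .c, .b, .d, .b, .d, .b, .c, .a, .a, .b, .c, .b, .c, .b, .c, .a, .a, .c, .b, .d, .b, .d, .b, .c, .a, .e, .b, .a, .c, .b, .d, .a, .d, .b, .c, .b, .c, .a, .b, .a, .c, .b, .a, .b, .a, .e, .a]) (lf [.a, .c, .a, .b, .c, .a, .b, .c, .b, .a, .c, .d, .b, .d, .a, .b, .c, .b, .e, .c, .b, .d, .b, .d, .b, .c, .d, .a, .b, .a, .c, .b, .d, .b, .d, .b, .c, .a, .b, .a, .d, .e])))) (nd 572 (nd 570 (nd 569 (lf [.a, .b, .a, .a, .c, .b, .c, .b, .c, .b, .a, .a, .b, .a, .d, .a, .b, .c, .b, .c, .b, .c, .a, .e, .c, .b, .a, .b, .a, .c, .b, .c, .a, .b, .a, .b, .e, .d]) (lf [.b, .c, .a, .c, .a, .b, .a, .c, .a, .b, .c, .d, .c, .d, .b, .e, .c, .b, .d, .b, .d, .b, .c, .c, .d, .a, .b, .a, .c, .c, .b, .d, .b, .d, .b, .c, .c, .a, .b, .a, .d, .c, .e])) (nd 571 (lf [.e, .b, .a, .b,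 .a, .c, .d, .c, .b, .d, .a, .b, .c, .b, .c, .b, .a, .b, .c, .a, .b, .c, .b, .e, .c, .d, .a, .b, .a, .c, .a, .c, .b, .d, .b, .d, .b, .c, .a, .c, .a, .b, .a, .d, .c, .a, .c, .b, .d, .b, .d, .b, .c, .a]) (lf [.b, .d, .b, .d, .b, .c, .a, .c, .b, .c, .b, .c, .b, .a, .c, .b, .d, .b, .d, .b, .c, .a, .b, .c, .b, .c, .b, .c, .a, .e, .b, .d, .c, .d, .a, .b, .a, .c, .b, .c, .b, .c, .e, .c]))) (nd 574 (nd 573 (lf [.e, .a, .e, .b, .c, .a, .c, .d, .b, .d, .a, .c, .a, .b, .c, .b, .c, .a, .b, .c, .b, .a, .b, .a, .e, .a, .e, .a, .c, .a, .c, .a, .c, .d, .a, .d, .c, .a, .c, .a, .c, .a, .c, .d, .a, .d, .c]) (lf [.e, .b, .d, .c, .b, .c, .a, .d, .b, .c, .a, .c, .a, .b, .c, .b, .c, .b, .e, .b, .c, .e, .d, .b, .d, .b, .d, .c, .d, .a, .b, .a, .c, .d, .b, .d, .b, .d, .c, .a, .b, .a, .d, .c, .e, .c, .b])) (nd 575 (lf [.c, .b, .e, .c, .d,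 .a, .b, .a, .c, .a, .c, .b, .d, .b, .d, .b, .c, .a, .c, .a, .b, .a, .d, .c, .a, .c, .b, .d, .b, .d, .b, .c, .a, .e, .b, .a, .b, .a, .c, .d, .c, .b, .d, .a, .b, .c, .b, .c, .b, .a, .b, .c, .a, .b]) (lf [.e, .c, .b, .d, .b, .d, .b, .c, .d, .a, .b, .a, .c, .b, .d, .b, .d, .b, .c, .a, .b, .a, .d, .e, .a, .c, .a, .b, .c, .a, .b, .c, .b, .a, .c, .d, .b, .d, .a, .b, .c, .b])))))))
noncomputable def tc3kw_circT_c9 : ℕ → List Gen := (nd 608 (nd 592 (nd 584 (nd 580 (nd 578 (nd 577 (lf [.c, .b, .d, .b, .d, .b, .c, .a, .a, .c, .b, .c, .b, .c, .b, .a, .a, .c, .b, .d, .b, .d, .b, .c, .a, .a, .b, .c, .b, .c, .b, .c, .a, .e, .a, .b, .a, .b, .c, .a, .b, .a, .c, .b, .c, .b, .d, .a, .d, .b, .c, .a, .b, .e, .a]) (lf [.d, .a, .b, .a, .e, .c, .d, .e, .b, .d, .b, .d, .b, .a, .c, .b, .c, .b, .c, .b, .a, .b, .d, .b, .d, .b, .a, .b, .c,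 .b, .c, .b, .c, .a, .e, .d, .c, .e])) (nd 579 (lf [.d, .c, .e, .b, .a, .c, .d, .b, .a, .b, .d, .a, .b, .c, .a, .b, .c, .a, .c, .b, .a, .e, .c, .d, .e, .b, .d, .b, .d, .b, .a, .d, .c, .a, .c, .d, .a, .b, .d, .b, .d, .b, .a, .d, .c, .a, .c, .d, .a, .e]) (lf [.c, .d, .b, .d, .b, .d, .a, .b, .c, .b, .c, .a, .b, .a, .b, .e, .c, .d, .a, .b, .a, .c, .a, .c, .b, .c, .b, .c, .b, .a, .c, .a, .b, .a, .d, .c, .a, .b, .c, .b, .c, .b, .c, .a, .e]))) (nd 582 (nd 581 (lf [.a, .b, .a, .c, .a, .c, .a, .b, .c, .a, .b, .c, .b, .c, .d, .a, .c, .b, .a, .b, .d, .a, .e, .a, .c, .b, .d, .b, .d, .b, .c, .a, .d, .a, .b, .a, .a, .c, .b, .d, .b, .d, .b, .c, .a, .a, .b, .a, .d, .e]) (lf [.a, .c, .b, .c, .b, .c, .b, .a, .a, .c, .b, .d, .b, .d, .b, .c, .a, .a, .b, .c, .b, .c, .b, .c, .a, .a, .c, .b, .d, .b, .d, .b, .c, .a, .e, .b, .a, .c, .b,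 .d, .a, .d, .b, .c, .b, .c, .a, .b, .a, .c, .b, .a, .b, .a, .e])) (nd 583 (lf [.b, .c, .b, .a, .d, .b, .d, .c, .a, .b, .c, .b, .a, .c, .b, .a, .c, .a, .e, .d, .a, .b, .a, .c, .b, .d, .b, .d, .b, .c, .a, .b, .a, .d, .c, .b, .d, .b, .d, .b, .c, .e]) (lf [.a, .b, .a, .c, .b, .d, .b, .d, .b, .c, .a, .b, .a, .d, .c, .b, .d, .b, .d, .b, .c, .e, .b, .c, .b, .a, .d, .b, .d, .c, .a, .b, .c, .b, .a, .c, .b, .a, .c, .a, .e, .d])))) (nd 588 (nd 586 (nd 585 (lf [.a, .b, .a, .c, .b, .c, .a, .b, .a, .b, .c, .e, .a, .c, .b, .c, .b, .c, .b, .a, .d, .a, .b, .a, .a, .b, .c, .b, .c, .b, .c, .a, .a, .b, .a, .d, .e, .b]) (lf [.e, .a, .c, .b, .c, .b, .c, .b, .a, .a, .c, .b, .d, .b, .d, .b, .c, .a, .a, .b, .c, .b, .c, .b, .c, .a, .a, .c, .b, .d, .b, .d, .b, .c, .a, .e, .b, .a, .c, .b, .d, .a, .d, .b, .c, .b, .c, .a, .b, .a, .c, .b, .a,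 .b, .a])) (nd 587 (lf [.b, .d, .b, .d, .b, .c, .c, .d, .a, .b, .a, .c, .c, .b, .d, .b, .d, .b, .c, .c, .a, .b, .a, .d, .c, .e, .b, .c, .a, .c, .a, .b, .a, .c, .a, .b, .c, .d, .c, .d, .b, .e, .c]) (lf [.c, .e, .b, .c, .b, .a, .c, .b, .a, .b, .c, .b, .c, .b, .a, .d, .b, .c, .d, .c, .a, .b, .a, .b, .e, .a, .c, .b, .d, .b, .d, .b, .c, .a, .c, .d, .a, .b, .a, .c, .a, .c, .b, .d, .b, .d, .b, .c, .a, .c, .a, .b, .a, .d]))) (nd 590 (nd 589 (lf [.c, .b, .a, .c, .b, .d, .b, .d, .b, .c, .a, .b, .c, .b, .c, .b, .c, .a, .e, .b, .d, .c, .d, .a, .b, .a, .c, .b, .c, .b, .c, .e, .c, .b, .d, .b, .d, .b, .c, .a, .c, .b, .c, .b]) (lf [.e, .d, .c, .b, .c, .b, .c, .d, .d, .b, .c, .b, .a, .b, .c, .b, .d, .d, .c, .b, .c, .b, .c, .d, .d, .b, .c, .b, .a, .b, .c, .b, .d, .e, .b, .a, .e, .b, .d, .b, .d, .c, .a, .c, .a, .d, .c, .b, .c, .b,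 .a, .c, .b, .a, .c, .a, .b, .a, .b, .a, .e, .a, .b])) (nd 591 (lf [.b, .a, .c, .b, .d, .a, .d, .b, .c, .b, .c, .a, .b, .a, .c, .b, .a, .b, .a, .e, .a, .c, .b, .c, .b, .c, .b, .a, .a, .c, .b, .d, .b, .d, .b, .c, .a, .a, .b, .c, .b, .c, .b, .c, .a, .a, .c, .b, .d, .b, .d, .b, .c, .a, .e]) (lf [.e, .c, .a, .b, .a, .c, .a, .c, .a, .d, .a, .b, .a, .c, .b, .a, .c, .b, .c, .a, .b, .e, .a, .b, .e, .b, .a, .b, .d, .b, .a, .b, .a, .d, .b, .c, .b, .a, .b, .c, .b, .d, .a, .b, .a, .b, .d, .b, .a, .b, .d, .b, .c, .b, .a, .b, .c, .b, .d, .e, .b, .a]))))) (nd 600 (nd 596 (nd 594 (nd 593 (lf [.c, .b, .d, .b, .d, .b, .c, .a, .a, .b, .a, .d, .a, .c, .b, .d, .b, .d, .b, .c, .a, .e, .a, .d, .b, .a, .b, .c, .a, .d, .c, .b, .c, .b, .a, .c, .b, .a, .c, .a, .c, .a, .b, .a, .e, .d, .a, .b, .a, .a]) (lf [.e, .b, .a, .b, .a, .c, .b, .c, .a,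 .b, .a, .b, .c, .e, .a, .c, .b, .c, .b, .c, .b, .a, .d, .a, .b, .a, .a, .b, .c, .b, .c, .b, .c, .a, .a, .b, .a, .d])) (nd 595 (lf [.b, .c, .b, .c, .b, .a, .d, .a, .b, .a, .a, .b, .c, .b, .c, .b, .c, .a, .a, .b, .a, .d, .e, .b, .a, .b, .a, .c, .b, .c, .a, .b, .a, .b, .c, .e, .a, .c]) (lf [.e, .b, .a, .b, .a, .c, .b, .c, .b, .a, .d, .b, .d, .b, .d, .c, .e, .a, .c, .b, .c, .b, .c, .b, .a, .c, .d, .a, .b, .a, .c, .a, .b, .c, .b, .c, .b, .c, .a, .c, .a, .b, .a, .d, .c]))) (nd 598 (nd 597 (lf [.e, .a, .c, .b, .c, .b, .c, .a, .d, .a, .c, .a, .c, .a, .b, .c, .b, .c, .b, .a, .e, .a, .e, .c, .d, .a, .d, .c, .d, .b, .a, .b, .d, .c, .d, .a, .d, .c, .d, .b, .a, .b, .d, .e, .a]) (lf [.d, .c, .b, .c, .b, .c, .d, .d, .b, .c, .b, .a, .b, .c, .b, .d, .d, .c, .b, .c, .b, .c, .d, .d, .b, .c, .b, .a, .b, .c, .b, .d, .e, .b, .a, .e,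 .b, .d, .b, .d, .c, .a, .c, .a, .d, .c, .b, .c, .b, .a, .c, .b, .a, .c, .a, .b, .a, .b, .a, .e, .a, .b, .e])) (nd 599 (lf [.e, .b, .c, .a, .c, .d, .b, .d, .a, .c, .a, .b, .c, .b, .c, .a, .b, .c, .b, .a, .b, .a, .e, .a, .e, .a, .c, .a, .c, .a, .c, .d, .a, .d, .c, .a, .c, .a, .c, .a, .c, .d, .a, .d, .c, .e, .a]) (lf [.a, .c, .a, .d, .b, .a, .b, .d, .a, .c, .a, .c, .a, .d, .b, .a, .b, .d, .e, .a, .e, .b, .a, .b, .a, .c, .b, .a, .b, .d, .b, .c, .b, .c, .a, .b, .c, .a, .b, .c, .a, .b, .a, .b, .a, .e, .a, .e, .a, .c])))) (nd 604 (nd 602 (nd 601 (lf [.d, .e, .a, .e, .b, .a, .b, .a, .c, .b, .a, .b, .d, .b, .c, .b, .c, .a, .b, .c, .a, .b, .c, .a, .b, .a, .b, .a, .e, .a, .e, .a, .c, .a, .c, .a, .d, .b, .a, .b, .d, .a, .c, .a, .c, .a, .d, .b, .a, .b]) (lf [.e, .a, .e, .c, .d, .a, .b, .d, .c, .d, .b, .c, .b, .c, .b, .a, .c,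 .b, .a, .c, .b, .c, .b, .a, .b, .a, .e, .a, .e, .b, .d, .c, .d, .b, .d, .b, .a, .b, .d, .b, .d, .c, .d, .b, .d, .b, .a, .b, .d])) (nd 603 (lf [.a, .b, .d, .c, .d, .b, .c, .b, .c, .b, .a, .c, .b, .a, .c, .b, .c, .b, .a, .b, .a, .e, .a, .e, .b, .d, .c, .d, .b, .d, .b, .a, .b, .d, .b, .d, .c, .d, .b, .d, .b, .a, .b, .d, .e, .a, .e, .c, .d]) (lf [.c, .d, .a, .b, .d, .c, .d, .b, .c, .b, .c, .b, .a, .c, .b, .a, .c, .b, .c, .b, .a, .b, .a, .e, .a, .e, .b, .d, .c, .d, .b, .d, .b, .a, .b, .d, .b, .d, .c, .d, .b, .d, .b, .a, .b, .d, .e, .a, .e]))) (nd 606 (nd 605 (lf [.e, .a, .c, .a, .b, .c, .a, .b, .c, .b, .a, .c, .d, .b, .d, .a, .b, .c, .b, .e, .c, .b, .d, .b, .d, .b, .c, .d, .a, .b, .a, .c, .b, .d, .b, .d, .b, .c, .a, .b, .a, .d]) (lf [.c, .e, .b, .d, .c, .d, .c, .b, .a, .c, .a, .b, .a, .c, .a, .c, .b, .e, .c, .d, .a,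 .b, .a, .c, .c, .b, .d, .b, .d, .b, .c, .c, .a, .b, .a, .d, .c, .c, .b, .d, .b, .d, .b])) (nd 607 (lf [.d, .a, .b, .a, .c, .c, .b, .d, .b, .d, .b, .c, .c, .a, .b, .a, .d, .c, .c, .b, .d, .b, .d, .b, .c, .e, .b, .d, .c, .d, .c, .b, .a, .c, .a, .b, .a, .c, .a, .c, .b, .e, .c]) (lf [.c, .a, .e, .b, .a, .b, .a, .c, .d, .c, .b, .d, .a, .b, .c, .b, .c, .b, .a, .b, .c, .a, .b, .c, .b, .e, .c, .d, .a, .b, .a, .c, .a, .c, .b, .d, .b, .d, .b, .c, .a, .c, .a, .b, .a, .d, .c, .a, .c, .b, .d, .b, .d, .b])))))) (nd 624 (nd 616 (nd 612 (nd 610 (nd 609 (lf [.d, .e, .a, .c, .a, .b, .c, .a, .b, .c, .b, .a, .c, .d, .b, .d, .a, .b, .c, .b, .e, .c, .b, .d, .b, .d, .b, .c, .d, .a, .b, .a, .c, .b, .d, .b, .d, .b, .c, .a, .b, .a]) (lf [.e, .a, .b, .a, .c, .a, .c, .a, .b, .c, .a, .b, .c, .b, .c, .d, .a, .c, .b, .a, .b, .d, .a, .e, .a,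 .c, .b, .d, .b, .d, .b, .c, .a, .d, .a, .b, .a, .a, .c, .b, .d, .b, .d, .b, .c, .a, .a, .b, .a, .d])) (nd 611 (lf [.c, .b, .d, .b, .d, .b, .c, .a, .c, .b, .c, .b, .c, .b, .a, .c, .b, .d, .b, .d, .b, .c, .a, .b, .c, .b, .c, .b, .c, .a, .e, .b, .d, .c, .d, .a, .b, .a, .c, .b, .c, .b, .c, .e]) (lf [.a, .e, .a, .c, .a, .c, .a, .d, .b, .a, .b, .d, .a, .c, .a, .c, .a, .d, .b, .a, .b, .d, .e, .a, .e, .b, .a, .b, .a, .c, .b, .a, .b, .d, .b, .c, .b, .c, .a, .b, .c, .a, .b, .c, .a, .b, .a, .b, .a, .e]))) (nd 614 (nd 613 (lf [.e, .d, .b, .a, .b, .d, .a, .c, .a, .c, .a, .d, .b, .a, .b, .d, .a, .c, .a, .c, .a, .e, .a, .e, .a, .b, .a, .b, .a, .c, .b, .a, .c, .b, .a, .c, .b, .c, .b, .d, .b, .a, .b, .c, .a, .b, .a, .b, .e, .a]) (lf [.e, .a, .d, .b, .a, .b, .c, .a, .d, .c, .b, .c, .b, .a, .c, .b, .a, .c, .a, .c, .a, .b, .a, .e,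 .d, .a, .b, .a, .a, .c, .b, .d, .b, .d, .b, .c, .a, .a, .b, .a, .d, .a, .c, .b, .d, .b, .d, .b, .c, .a])) (nd 615 (lf [.d, .a, .b, .a, .c, .a, .c, .b, .c, .b, .c, .b, .a, .c, .a, .b, .a, .d, .c, .a, .b, .c, .b, .c, .b, .c, .a, .e, .c, .d, .b, .d, .b, .d, .a, .b, .c, .b, .c, .a, .b, .a, .b, .e, .c]) (lf [.e, .b, .d, .b, .d, .b, .a, .c, .b, .c, .b, .c, .b, .a, .b, .d, .b, .d, .b, .a, .b, .c, .b, .c, .b, .c, .a, .e, .d, .c, .e, .d, .a, .b, .a, .e, .c, .d])))) (nd 620 (nd 618 (nd 617 (lf [.c, .b, .c, .b, .c, .d, .a, .c, .a, .c, .a, .d, .c, .b, .c, .b, .c, .d, .a, .c, .a, .c, .a, .e, .b, .a, .e, .a, .b, .c, .b, .a, .c, .b, .a, .c, .b, .a, .d, .b, .d, .c, .d, .a, .d, .c, .b, .e, .a, .b, .e, .d]) (lf [.e, .d, .a, .b, .a, .c, .b, .d, .b, .d, .b, .c, .a, .b, .a, .d, .c, .b, .d, .b, .d, .b, .c, .e, .b, .c, .b, .a, .d, .b,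 .d, .c, .a, .b, .c, .b, .a, .c, .b, .a, .c, .a])) (nd 619 (lf [.e, .a, .c, .b, .d, .b, .d, .b, .c, .a, .d, .a, .b, .a, .a, .c, .b, .d, .b, .d, .b, .c, .a, .a, .b, .a, .d, .e, .a, .b, .a, .c, .a, .c, .a, .b, .c, .a, .b, .c, .b, .c, .d, .a, .c, .b, .a, .b, .d, .a]) (lf [.b, .a, .b, .a, .c, .b, .c, .a, .b, .a, .b, .c, .e, .a, .c, .b, .c, .b, .c, .b, .a, .d, .a, .b, .a, .a, .b, .c, .b, .c, .b, .c, .a, .a, .b, .a, .d, .e]))) (nd 622 (nd 621 (lf [.b, .a, .c, .b, .c, .b, .a, .d, .b, .d, .b, .d, .c, .e, .a, .c, .b, .c, .b, .c, .b, .a, .c, .d, .a, .b, .a, .c, .a, .b, .c, .b, .c, .b, .c, .a, .c, .a, .b, .a, .d, .c, .e, .b, .a]) (lf [.e, .c, .b, .d, .b, .d, .b, .c, .c, .d, .a, .b, .a, .c, .c, .b, .d, .b, .d, .b, .c, .c, .a, .b, .a, .d, .c, .e, .b, .c, .a, .c, .a, .b, .a, .c, .a, .b, .c, .d, .c, .d, .b])) (nd 623 (lf [.c,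 .b, .e, .b, .c, .d, .a, .d, .c, .d, .a, .c, .b, .a, .c, .b, .a, .c, .a, .c, .a, .b, .a, .e, .b, .c, .e, .b, .c, .d, .a, .b, .a, .c, .b, .c, .a, .b, .a, .d, .c, .e]) (lf [.b, .c, .a, .b, .a, .d, .e, .a, .c, .a, .b, .c, .a, .b, .c, .b, .a, .c, .d, .b, .d, .a, .b, .c, .b, .e, .c, .b, .d, .b, .d, .b, .c, .d, .a, .b, .a, .c, .b, .d, .b, .d]))))) (nd 632 (nd 628 (nd 626 (nd 625 (lf [.a, .b, .a, .c, .b, .c, .a, .b, .a, .b, .e, .d, .a, .b, .a, .a, .c, .b, .c, .b, .c, .b, .a, .a, .b, .a, .d, .a, .b, .c, .b, .c, .b, .c, .a, .e, .c, .b]) (lf [.e, .b, .c, .a, .c, .a, .b, .a, .c, .a, .b, .c, .d, .c, .d, .b, .e, .c, .b, .d, .b, .d, .b, .c, .c, .d, .a, .b, .a, .c, .c, .b, .d, .b, .d, .b, .c, .c, .a, .b, .a, .d, .c])) (nd 627 (lf [.b, .e, .c, .d, .a, .b, .a, .c, .a, .c, .b, .d, .b, .d, .b, .c, .a, .c, .a, .b, .a, .d, .c, .a, .c,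 .b, .d, .b, .d, .b, .c, .a, .e, .b, .a, .b, .a, .c, .d, .c, .b, .d, .a, .b, .c, .b, .c, .b, .a, .b, .c, .a, .b, .c]) (lf [.e, .a, .b, .a, .b, .c, .a, .b, .a, .c, .b, .c, .b, .d, .a, .d, .b, .c, .a, .b, .e, .a, .c, .b, .d, .b, .d, .b, .c, .a, .a, .c, .b, .c, .b, .c, .b, .a, .a, .c, .b, .d, .b, .d, .b, .c, .a, .a, .b, .c, .b, .c, .b, .c, .a]))) (nd 630 (nd 629 (lf [.e, .a, .c, .b, .d, .b, .d, .b, .c, .a, .c, .d, .a, .b, .a, .c, .a, .c, .b, .d, .b, .d, .b, .c, .a, .c, .a, .b, .a, .d, .c, .e, .b, .c, .b, .a, .c, .b, .a, .b, .c, .b, .c, .b, .a, .d, .b, .c, .d, .c, .a, .b, .a, .b]) (lf [.a, .c, .a, .c, .a, .d, .c, .b, .c, .d, .b, .c, .b, .d, .a, .b, .a, .b, .c, .b])) (nd 631 (lf [.b, .c, .a, .c, .b, .d, .c, .d, .b, .d, .b, .c, .b, .c, .d, .c, .a, .c, .b, .a]) (lf [.a, .d, .c, .d, .a, .d, .c, .d, .a, .d, .c, .d, .a, .d,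 .c, .d, .a, .d, .c, .d, .a, .d, .c, .d])))) (nd 636 (nd 634 (nd 633 (lf [.c, .b, .a, .d, .b, .d, .c, .a, .b, .c, .b, .a, .c, .b, .a, .c, .a, .e, .d, .a, .b, .a, .c, .b, .d, .b, .d, .b, .c, .a, .b, .a, .d, .c, .b, .d, .b, .d, .b, .c, .e, .b]) (lf [.b, .a, .b, .a, .c, .b, .c, .a, .b, .a, .b, .e, .d, .a, .b, .a, .a, .c, .b, .c, .b, .c, .b, .a, .a, .b, .a, .d, .a, .b, .c, .b, .c, .b, .c, .a, .e, .c])) (nd 635 (lf [.c, .a, .c, .a, .b, .a, .c, .a, .b, .c, .d, .c, .d, .b, .e, .c, .b, .d, .b, .d, .b, .c, .c, .d, .a, .b, .a, .c, .c, .b, .d, .b, .d, .b, .c, .c, .a, .b, .a, .d, .c, .e, .b]) (lf [.b, .c, .b, .c, .b, .a, .c, .d, .a, .b, .a, .c, .a, .b, .c, .b, .c, .b, .c, .a, .c, .a, .b, .a, .d, .c, .e, .b, .a, .b, .a, .c, .b, .c, .b, .a, .d, .b, .d, .b, .d, .c, .e, .a, .c]))) (nd 638 (nd 637 (lf [.e, .c, .b, .e, .b, .a, .c,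 .d, .a, .c, .d, .b, .d, .a, .c, .a, .c, .b, .a, .c, .a, .b, .a, .b, .a, .c, .a, .b, .a, .b, .a, .e, .b, .c, .e, .b, .c, .b, .d, .a, .b, .a, .b, .c, .b, .c, .b, .a, .b, .a, .d, .b, .c]) (lf [.b, .c, .e, .c, .b, .d, .a, .b, .a, .b, .c, .c, .d, .a, .b, .a, .c, .c, .b, .a, .b, .a, .d, .b, .c, .c, .a, .b, .a, .d, .c, .e, .c, .b, .e, .b, .a, .b, .c, .a, .c, .a, .b, .d, .b, .c, .a, .d, .a, .b, .e])) (nd 639 (lf [.b, .a, .d, .b, .d, .c, .a, .b, .c, .b, .a, .c, .b, .a, .c, .a, .e, .d, .a, .b, .a, .c, .b, .d, .b, .d, .b, .c, .a, .b, .a, .d, .c, .b, .d, .b, .d, .b, .c, .e, .b, .c]) (lf [.d, .b, .a, .b, .c, .a, .d, .c, .b, .c, .b, .a, .c, .b, .a, .c, .a, .c, .a, .b, .a, .e, .d, .a, .b, .a, .a, .c, .b, .d, .b, .d, .b, .c, .a, .a, .b, .a, .d, .a, .c, .b, .d, .b, .d, .b, .c, .a, .e, .a])))))))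
noncomputable def tc3kw_circT_c10 : ℕ → List Gen := (nd 672 (nd 656 (nd 648 (nd 644 (nd 642 (nd 641 (lf [.c, .b, .c, .b, .c, .a, .b, .a, .d, .c, .d, .b, .e, .a, .c, .b, .c, .b, .c, .b, .a, .c, .b, .d, .b, .d, .b, .c, .a, .b, .c, .b, .c, .b, .c, .a, .c, .b, .d, .b, .d, .b, .c, .e]) (lf [.e, .d, .c, .a, .b, .a, .c, .d, .b, .d, .c, .a, .b, .a, .c, .d, .b, .e, .c, .b, .e, .b, .a, .c, .a, .b, .c, .a, .b, .a, .c, .d, .b, .c, .b, .c, .b, .c, .e, .b, .c])) (nd 643 (lf [.b, .c, .e, .c, .d, .a, .b, .a, .c, .b, .c, .a, .b, .a, .d, .c, .b, .e, .c, .b, .e, .a, .b, .a, .c, .a, .c, .a, .b, .c, .a, .b, .c, .a, .d, .c, .d, .a, .d, .c, .b, .e]) (lf [.c, .a, .e, .a, .d, .b, .a, .b, .c, .a, .d, .c, .b, .c, .b, .a, .c, .b, .a, .c, .a, .c, .a, .b, .a, .e, .d, .a, .b, .a, .a, .c, .b, .d, .b, .d, .b, .c, .a, .a, .b, .a, .d, .a, .c, .b,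 .d, .b, .d, .b]))) (nd 646 (nd 645 (lf [.e, .c, .d, .a, .b, .a, .c, .a, .c, .b, .d, .b, .d, .b, .c, .a, .c, .a, .b, .a, .d, .c, .a, .c, .b, .d, .b, .d, .b, .c, .a, .e, .b, .a, .b, .a, .c, .d, .c, .b, .d, .a, .b, .c, .b, .c, .b, .a, .b, .c, .a, .b, .c, .b]) (lf [.a, .b, .e, .a, .c, .a, .c, .a, .d, .c, .b, .c, .b, .c, .d, .a, .c, .a, .c, .a, .d, .c, .b, .c, .b, .c, .d, .e, .b, .a, .e, .b, .c, .d, .a, .d, .c, .d, .b, .d, .a, .b, .c, .a, .b, .c, .a, .b, .c, .b, .a, .e])) (nd 647 (lf [.b, .c, .b, .a, .c, .b, .a, .c, .b, .a, .d, .b, .d, .c, .d, .a, .d, .c, .b, .e, .a, .b, .e, .d, .c, .b, .c, .b, .c, .d, .a, .c, .a, .c, .a, .d, .c, .b, .c, .b, .c, .d, .a, .c, .a, .c, .a, .e, .b, .a, .e, .a]) (lf [.a, .b, .e, .d, .c, .b, .c, .b, .c, .d, .a, .c, .a, .c, .a, .d, .c, .b, .c, .b, .c, .d, .a, .c, .a, .c, .a, .e, .b, .a, .e,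 .a, .b, .c, .b, .a, .c, .b, .a, .c, .b, .a, .d, .b, .d, .c, .d, .a, .d, .c, .b, .e])))) (nd 652 (nd 650 (nd 649 (lf [.c, .e, .a, .b, .c, .a, .c, .b, .a, .c, .b, .a, .d, .b, .a, .b, .d, .c, .a, .b, .e, .c, .d, .e, .a, .d, .c, .a, .c, .d, .a, .b, .d, .b, .d, .b, .a, .d, .c, .a, .c, .d, .a, .b, .d, .b, .d, .b, .e, .d]) (lf [.e, .d, .c, .e, .a, .b, .a, .d, .e, .c, .d, .e, .a, .c, .b, .c, .b, .c, .b, .a, .b, .d, .b, .d, .b, .a, .b, .c, .b, .c, .b, .c, .a, .b, .d, .b, .d, .b])) (nd 651 (lf [.b, .e, .a, .c, .a, .c, .a, .d, .c, .b, .c, .b, .c, .d, .a, .c, .a, .c, .a, .d, .c, .b, .c, .b, .c, .d, .e, .b, .a, .e, .b, .c, .d, .a, .d, .c, .d, .b, .d, .a, .b, .c, .a, .b, .c, .a, .b, .c, .b, .a, .e, .a]) (lf [.c, .a, .b, .a, .c, .a, .c, .a, .d, .a, .b, .a, .c, .b, .a, .c, .b, .c, .a, .b, .e, .a, .b, .e, .b, .a, .b, .d, .b, .a,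 .b, .a, .d, .b, .c, .b, .a, .b, .c, .b, .d, .a, .b, .a, .b, .d, .b, .a, .b, .d, .b, .c, .b, .a, .b, .c, .b, .d, .e, .b, .a, .e]))) (nd 654 (nd 653 (lf [.e, .a, .c, .b, .c, .b, .c, .b, .a, .d, .a, .b, .a, .a, .b, .c, .b, .c, .b, .c, .a, .a, .b, .a, .d, .e, .b, .a, .b, .a, .c, .b, .c, .a, .b, .a, .b, .c]) (lf [.b, .e, .c, .b, .d, .b, .d, .b, .c, .c, .d, .a, .b, .a, .c, .c, .b, .d, .b, .d, .b, .c, .c, .a, .b, .a, .d, .c, .e, .b, .c, .a, .c, .a, .b, .a, .c, .a, .b, .c, .d, .c, .d])) (nd 655 (lf [.b, .a, .b, .a, .c, .b, .c, .b, .a, .d, .b, .d, .b, .d, .c, .e, .a, .c, .b, .c, .b, .c, .b, .a, .c, .d, .a, .b, .a, .c, .a, .b, .c, .b, .c, .b, .c, .a, .c, .a, .b, .a, .d, .c, .e]) (lf [.e, .b, .a, .c, .b, .d, .a, .d, .b, .c, .b, .c, .a, .b, .a, .c, .b, .a, .b, .a, .e, .a, .c, .b, .c, .b, .c, .b, .a, .a, .c, .b, .d, .b, .d,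 .b, .c, .a, .a, .b, .c, .b, .c, .b, .c, .a, .a, .c, .b, .d, .b, .d, .b, .c, .a]))))) (nd 664 (nd 660 (nd 658 (nd 657 (lf [.c, .a, .e, .b, .a, .c, .b, .d, .a, .d, .b, .c, .b, .c, .a, .b, .a, .c, .b, .a, .b, .a, .e, .a, .c, .b, .c, .b, .c, .b, .a, .a, .c, .b, .d, .b, .d, .b, .c, .a, .a, .b, .c, .b, .c, .b, .c, .a, .a, .c, .b, .d, .b, .d, .b]) (lf [.c, .d, .b, .d, .b, .d, .a, .c, .b, .a, .b, .c, .a, .b, .c, .a, .b, .a, .e, .a, .b, .e, .a, .c, .a, .c, .a, .b, .a, .b, .d, .b, .a, .b, .a, .a, .c, .a, .c, .a, .a, .b, .a, .b, .d, .b, .a, .b, .e, .b, .a, .e])) (nd 659 (lf [.b, .c, .e, .c, .b, .d, .a, .b, .a, .b, .c, .b, .c, .b, .a, .b, .a, .d, .b, .c, .b, .e, .c, .b, .e, .a, .b, .a, .b, .a, .c, .a, .b, .a, .b, .a, .c, .a, .b, .c, .a, .c, .a, .d, .b, .d, .c, .a, .d, .c, .a, .b, .e]) (lf [.d, .b, .d, .b, .d, .d, .c, .a, .b,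 .a, .c, .d, .d, .b, .d, .b, .d, .d, .c, .a, .b, .a, .c, .d, .e, .c, .b, .e, .b, .a, .d, .c, .d, .b, .d, .c, .b, .c, .a, .b, .c, .a, .b, .a, .b, .a, .c, .b, .a, .e, .b, .c, .e]))) (nd 662 (nd 661 (lf [.e, .b, .a, .d, .c, .d, .b, .d, .c, .b, .c, .a, .b, .c, .a, .b, .a, .b, .a, .c, .b, .a, .e, .b, .c, .e, .d, .b, .d, .b, .d, .d, .c, .a, .b, .a, .c, .d, .d, .b, .d, .b, .d, .d, .c, .a, .b, .a, .c, .d, .e, .c, .b]) (lf [.c, .b, .a, .b, .a, .d, .b, .c, .d, .c, .a, .b, .a, .c, .d, .e, .c, .b, .e, .a, .c, .b, .c, .a, .b, .c, .b, .c, .a, .d, .b, .a, .d, .b, .c, .e, .b, .c, .e, .c, .b, .d, .a, .b, .a, .b, .c, .d, .c, .a, .b, .a, .c, .d])) (nd 663 (lf [.c, .b, .c, .b, .c, .b, .a, .c, .b, .d, .b, .d, .b, .c, .a, .b, .c, .b, .c, .b, .c, .a, .e, .b, .d, .c, .d, .a, .b, .a, .c, .b, .c, .b, .c, .e, .c, .b, .d, .b, .d, .b, .c, .a])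 (lf [.c, .e, .a, .b, .a, .d, .e, .c, .d, .e, .a, .c, .b, .c, .b, .c, .b, .a, .b, .d, .b, .d, .b, .a, .b, .c, .b, .c, .b, .c, .a, .b, .d, .b, .d, .b, .e, .d])))) (nd 668 (nd 666 (nd 665 (lf [.b, .a, .d, .c, .b, .d, .b, .d, .b, .c, .e, .b, .c, .b, .a, .d, .b, .d, .c, .a, .b, .c, .b, .a, .c, .b, .a, .c, .a, .e, .d, .a, .b, .a, .c, .b, .d, .b, .d, .b, .c, .a]) (lf [.b, .c, .b, .c, .b, .a, .a, .b, .a, .d, .a, .b, .c, .b, .c, .b, .c, .a, .e, .c, .b, .a, .b, .a, .c, .b, .c, .a, .b, .a, .b, .e, .d, .a, .b, .a, .a, .c])) (nd 667 (lf [.b, .a, .c, .a, .b, .a, .c, .a, .c, .b, .e, .c, .d, .a, .b, .a, .c, .c, .b, .d, .b, .d, .b, .c, .c, .a, .b, .a, .d, .c, .c, .b, .d, .b, .d, .b, .c, .e, .b, .d, .c, .d, .c]) (lf [.d, .e, .b, .a, .b, .a, .c, .b, .c, .a, .b, .a, .b, .c, .e, .a, .c, .b, .c, .b, .c, .b, .a, .d, .a, .b, .a, .a, .b,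 .c, .b, .c, .b, .c, .a, .a, .b, .a]))) (nd 670 (nd 669 (lf [.e, .d, .a, .b, .a, .e, .c, .d, .e, .b, .d, .b, .d, .b, .a, .c, .b, .c, .b, .c, .b, .a, .b, .d, .b, .d, .b, .a, .b, .c, .b, .c, .b, .c, .a, .e, .d, .c]) (lf [.b, .d, .b, .d, .b, .a, .c, .b, .c, .b, .c, .b, .a, .b, .d, .b, .d, .b, .a, .b, .c, .b, .c, .b, .c, .a, .e, .d, .c, .e, .d, .a, .b, .a, .e, .c, .d, .e])) (nd 671 (lf [.e, .c, .d, .a, .d, .c, .d, .b, .a, .b, .d, .c, .d, .a, .d, .c, .d, .b, .a, .b, .d, .e, .a, .e, .a, .c, .b, .c, .b, .c, .a, .d, .a, .c, .a, .c, .a, .b, .c, .b, .c, .b, .a, .e, .a]) (lf [.a, .e, .b, .c, .d, .a, .d, .c, .d, .b, .d, .a, .b, .c, .a, .b, .c, .a, .b, .c, .b, .a, .e, .a, .b, .e, .a, .c, .a, .c, .a, .d, .c, .b, .c, .b, .c, .d, .a, .c, .a, .c, .a, .d, .c, .b, .c, .b, .c, .d, .e, .b])))))) (nd 688 (nd 680 (nd 676 (nd 674 (nd 673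 (lf [.b, .e, .d, .c, .b, .c, .b, .c, .d, .a, .c, .a, .c, .a, .d, .c, .b, .c, .b, .c, .d, .a, .c, .a, .c, .a, .e, .b, .a, .e, .a, .b, .c, .b, .a, .c, .b, .a, .c, .b, .a, .d, .b, .d, .c, .d, .a, .d, .c, .b, .e, .a]) (lf [.b, .e, .a, .c, .a, .c, .a, .d, .b, .c, .b, .a, .b, .c, .b, .d, .a, .c, .a, .c, .a, .d, .b, .c, .b, .a, .b, .c, .b, .d, .e, .b, .a, .e, .b, .a, .c, .a, .d, .b, .c, .a, .d, .c, .a, .c, .b, .a, .c, .b, .a, .c, .a, .b, .a, .b, .a, .e, .a])) (nd 675 (lf [.b, .c, .d, .a, .d, .c, .d, .b, .d, .a, .b, .c, .a, .b, .c, .a, .b, .c, .b, .a, .e, .a, .b, .e, .a, .c, .a, .c, .a, .d, .c, .b, .c, .b, .c, .d, .a, .c, .a, .c, .a, .d, .c, .b, .c, .b, .c, .d, .e, .b, .a, .e]) (lf [.a, .e, .b, .c, .a, .c, .d, .b, .d, .a, .c, .a, .b, .c, .b, .c, .a, .b, .c, .b, .a, .b, .a, .e, .a, .e, .a, .c, .a, .c, .a, .c, .d, .a, .d,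 .c, .a, .c, .a, .c, .a, .c, .d, .a, .d, .c, .e]))) (nd 678 (nd 677 (lf [.d, .e, .a, .c, .b, .c, .b, .c, .b, .a, .a, .d, .c, .a, .c, .d, .a, .a, .b, .c, .b, .c, .b, .c, .a, .a, .d, .c, .a, .c, .d, .a, .e, .d, .c, .e, .c, .b, .c, .b, .a, .c, .a, .c, .b, .d, .a, .c, .b, .c, .d, .e, .c]) (lf [.a, .e, .d, .b, .a, .b, .d, .a, .c, .a, .c, .a, .d, .b, .a, .b, .d, .a, .c, .a, .c, .a, .e, .a, .e, .a, .b, .a, .b, .a, .c, .b, .a, .c, .b, .a, .c, .b, .c, .b, .d, .b, .a, .b, .c, .a, .b, .a, .b, .e])) (nd 679 (lf [.e, .d, .c, .a, .b, .a, .c, .d, .d, .b, .d, .b, .d, .d, .c, .a, .b, .a, .c, .d, .d, .b, .d, .b, .d, .e, .c, .b, .e, .a, .b, .c, .a, .b, .a, .b, .a, .c, .b, .a, .c, .b, .c, .d, .b, .d, .c, .d, .a, .b, .e, .b, .c]) (lf [.b, .e, .a, .c, .b, .c, .b, .c, .b, .a, .c, .b, .d, .b, .d, .b, .c, .a, .b, .c, .b, .c, .b, .c, .a,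 .c, .b, .d, .b, .d, .b, .c, .e, .c, .b, .c, .b, .c, .a, .b, .a, .d, .c, .d])))) (nd 684 (nd 682 (nd 681 (lf [.c, .e, .b, .c, .e, .d, .c, .a, .b, .a, .c, .d, .b, .d, .c, .a, .b, .a, .c, .d, .b, .e, .c, .b, .e, .b, .a, .c, .a, .b, .c, .a, .b, .a, .c, .d, .b, .c, .b, .c, .b]) (lf [.d, .e, .a, .c, .b, .c, .b, .c, .b, .a, .b, .d, .b, .d, .b, .a, .b, .c, .b, .c, .b, .c, .a, .b, .d, .b, .d, .b, .e, .d, .c, .e, .a, .b, .a, .d, .e, .c])) (nd 683 (lf [.c, .d, .a, .b, .a, .c, .a, .c, .b, .c, .b, .c, .b, .a, .c, .a, .b, .a, .d, .c, .a, .b, .c, .b, .c, .b, .c, .a, .e, .c, .d, .b, .d, .b, .d, .a, .b, .c, .b, .c, .a, .b, .a, .b, .e]) (lf [.c, .e, .b, .a, .b, .a, .c, .b, .c, .b, .a, .d, .b, .d, .b, .d, .c, .e, .a, .c, .b, .c, .b, .c, .b, .a, .c, .d, .a, .b, .a, .c, .a, .b, .c, .b, .c, .b, .c, .a, .c, .a, .b, .a, .d]))) (nd 686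 (nd 685 (lf [.b, .a, .b, .c, .a, .b, .a, .c, .b, .c, .b, .d, .a, .d, .b, .c, .a, .b, .e, .a, .c, .b, .d, .b, .d, .b, .c, .a, .a, .c, .b, .c, .b, .c, .b, .a, .a, .c, .b, .d, .b, .d, .b, .c, .a, .a, .b, .c, .b, .c, .b, .c, .a, .e, .a]) (lf [.e, .a, .e, .b, .d, .c, .d, .b, .d, .b, .a, .b, .d, .b, .d, .c, .d, .b, .d, .b, .a, .b, .d, .e, .a, .e, .c, .d, .a, .b, .d, .c, .d, .b, .c, .b, .c, .b, .a, .c, .b, .a, .c, .b, .c, .b, .a, .b, .a])) (nd 687 (lf [.d, .c, .a, .b, .a, .c, .d, .b, .d, .c, .a, .b, .a, .c, .d, .b, .e, .c, .b, .e, .b, .a, .c, .a, .b, .c, .a, .b, .a, .c, .d, .b, .c, .b, .c, .b, .c, .e, .b, .c, .e]) (lf [.c, .b, .c, .a, .b, .a, .b, .c, .a, .b, .d, .c, .b, .d, .a, .d, .a, .b, .e, .b, .c, .e, .c, .b, .d, .a, .b, .a, .b, .c, .d, .b, .d, .b, .d, .c, .b, .a, .b, .a, .d, .b, .c, .d, .b, .d, .b, .d, .e, .c, .b,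 .e, .a]))))) (nd 696 (nd 692 (nd 690 (nd 689 (lf [.e, .b, .c, .e, .c, .d, .a, .b, .a, .c, .c, .b, .d, .a, .b, .a, .b, .c, .c, .a, .b, .a, .d, .c, .c, .b, .a, .b, .a, .d, .b, .c, .e, .c, .b, .e, .b, .a, .d, .a, .c, .b, .d, .b, .a, .c, .a, .c, .b, .a, .b]) (lf [.c, .b, .d, .b, .d, .b, .c, .d, .a, .b, .a, .c, .b, .d, .b, .d, .b, .c, .a, .b, .a, .d, .e, .a, .c, .a, .b, .c, .a, .b, .c, .b, .a, .c, .d, .b, .d, .a, .b, .c, .b, .e])) (nd 691 (lf [.e, .c, .b, .e, .b, .a, .c, .a, .b, .c, .a, .b, .a, .c, .d, .b, .c, .b, .c, .b, .c, .e, .b, .c, .e, .d, .c, .a, .b, .a, .c, .d, .b, .d, .c, .a, .b, .a, .c, .d, .b]) (lf [.c, .d, .a, .b, .a, .c, .d, .b, .d, .b, .d, .c, .a, .b, .a, .d, .c, .d, .b, .d, .b, .d, .e, .c, .b, .e, .b, .c, .b, .c, .b, .a, .c, .a, .c, .b, .d, .a, .c, .b, .c, .d, .b, .e, .b, .c, .e]))) (nd 694 (nd 693 (lf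 [.e, .a, .c, .b, .d, .b, .d, .b, .c, .a, .a, .c, .b, .c, .b, .c, .b, .a, .a, .c, .b, .d, .b, .d, .b, .c, .a, .a, .b, .c, .b, .c, .b, .c, .a, .e, .a, .b, .a, .b, .c, .a, .b, .a, .c, .b, .c, .b, .d, .a, .d, .b, .c, .a, .b]) (lf [.d, .c, .a, .c, .d, .a, .b, .d, .b, .d, .b, .a, .d, .c, .a, .c, .d, .a, .b, .d, .b, .d, .b, .e, .d, .c, .e, .a, .b, .c, .a, .c, .b, .a, .c, .b, .a, .d, .b, .a, .b, .d, .c, .a, .b, .e, .c, .d, .e, .a])) (nd 695 (lf [.e, .a, .d, .b, .d, .c, .a, .e, .a, .c, .d, .a, .d, .c, .a, .e, .a, .c, .d, .b, .d, .a, .e, .b, .d, .c, .d, .c, .b, .b, .d, .b, .a, .c, .a, .b, .c, .d, .c, .d, .b, .a, .c, .a, .b, .d, .b]) (lf [.a, .c, .b, .d, .b, .d, .b, .c, .a, .d, .a, .b, .a, .a, .c, .b, .d, .b, .d, .b, .c, .a, .a, .b, .a, .d, .e, .a, .b, .a, .c, .a, .c, .a, .b, .c, .a, .b, .c, .b, .c, .d, .a, .c, .b, .a, .b,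 .d, .a, .e])))) (nd 700 (nd 698 (nd 697 (lf [.c, .a, .b, .c, .b, .c, .b, .c, .a, .c, .b, .d, .b, .d, .b, .c, .e, .c, .b, .c, .b, .c, .a, .b, .a, .d, .c, .d, .b, .e, .a, .c, .b, .c, .b, .c, .b, .a, .c, .b, .d, .b, .d, .b]) (lf [.e, .b, .a, .b, .d, .b, .a, .b, .a, .a, .c, .a, .c, .a, .a, .b, .a, .b, .d, .b, .a, .b, .a, .c, .a, .c, .a, .e, .b, .a, .e, .a, .b, .a, .c, .b, .a, .c, .b, .a, .b, .c, .a, .d, .b, .d, .b, .d, .c, .e, .a, .b])) (nd 699 (lf [.b, .a, .c, .d, .a, .c, .d, .b, .d, .a, .c, .a, .c, .b, .a, .c, .a, .b, .a, .b, .a, .c, .a, .b, .a, .b, .a, .e, .b, .c, .e, .b, .c, .b, .d, .a, .b, .a, .b, .c, .b, .c, .b, .a, .b, .a, .d, .b, .c, .e, .c, .b, .e]) (lf [.b, .e, .c, .b, .d, .b, .d, .b, .c, .d, .a, .b, .a, .c, .b, .d, .b, .d, .b, .c, .a, .b, .a, .d, .e, .a, .c, .a, .b, .c, .a, .b, .c, .b, .a, .c, .d, .b, .d,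 .a, .b, .c]))) (nd 702 (nd 701 (lf [.c, .b, .d, .b, .d, .b, .c, .a, .c, .d, .a, .b, .a, .c, .a, .c, .b, .d, .b, .d, .b, .c, .a, .c, .a, .b, .a, .d, .c, .e, .b, .c, .b, .a, .c, .b, .a, .b, .c, .b, .c, .b, .a, .d, .b, .c, .d, .c, .a, .b, .a, .b, .e, .a]) (lf [.e, .c, .d, .e, .b, .d, .b, .d, .b, .a, .c, .b, .c, .b, .c, .b, .a, .b, .d, .b, .d, .b, .a, .b, .c, .b, .c, .b, .c, .a, .e, .d, .c, .e, .d, .a, .b, .a])) (nd 703 (lf [.c, .b, .a, .a, .b, .a, .d, .a, .b, .c, .b, .c, .b, .c, .a, .e, .c, .b, .a, .b, .a, .c, .b, .c, .a, .b, .a, .b, .e, .d, .a, .b, .a, .a, .c, .b, .c, .b]) (lf [.c, .b, .a, .c, .a, .b, .a, .d, .c, .a, .b, .c, .b, .c, .b, .c, .a, .e, .c, .d, .b, .d, .b, .d, .a, .b, .c, .b, .c, .a, .b, .a, .b, .e, .c, .d, .a, .b, .a, .c, .a, .c, .b, .c, .b])))))))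
noncomputable def tc3kw_circT_c11 : ℕ → List Gen := (nd 736 (nd 720 (nd 712 (nd 708 (nd 706 (nd 705 (lf [.a, .d, .c, .e, .b, .c, .b, .a, .c, .b, .a, .b, .c, .b, .c, .b, .a, .d, .b, .c, .d, .c, .a, .b, .a, .b, .e, .a, .c, .b, .d, .b, .d, .b, .c, .a, .c, .d, .a, .b, .a, .c, .a, .c, .b, .d, .b, .d, .b, .c, .a, .c, .a, .b]) (lf [.b, .d, .b, .d, .b, .c, .a, .d, .a, .b, .a, .a, .c, .b, .d, .b, .d, .b, .c, .a, .a, .b, .a, .d, .e, .a, .b, .a, .c, .a, .c, .a, .b, .c, .a, .b, .c, .b, .c, .d, .a, .c, .b, .a, .b, .d, .a, .e, .a, .c])) (nd 707 (lf [.a, .e, .b, .d, .c, .d, .b, .d, .b, .a, .b, .d, .b, .d, .c, .d, .b, .d, .b, .a, .b, .d, .e, .a, .e, .c, .d, .a, .b, .d, .c, .d, .b, .c, .b, .c, .b, .a, .c, .b, .a, .c, .b, .c, .b, .a, .b, .a, .e]) (lf [.e, .a, .e, .a, .b, .a, .b, .c, .b, .a, .c, .b, .c, .b, .a, .c, .a, .d, .b, .d,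 .c, .a, .c, .b, .e, .a, .e, .c, .d, .a, .d, .c, .a, .c, .a, .c, .a, .c, .d, .a, .d, .c, .a, .c, .a, .c, .a]))) (nd 710 (nd 709 (lf [.e, .a, .e, .a, .c, .b, .c, .b, .c, .a, .d, .a, .c, .a, .c, .a, .b, .c, .b, .c, .b, .a, .e, .a, .e, .c, .d, .a, .d, .c, .d, .b, .a, .b, .d, .c, .d, .a, .d, .c, .d, .b, .a, .b, .d]) (lf [.e, .b, .a, .b, .a, .c, .b, .a, .b, .d, .b, .c, .b, .c, .a, .b, .c, .a, .b, .c, .a, .b, .a, .b, .a, .e, .a, .e, .a, .c, .a, .c, .a, .d, .b, .a, .b, .d, .a, .c, .a, .c, .a, .d, .b, .a, .b, .d, .e, .a])) (nd 711 (lf [.c, .a, .b, .a, .d, .e, .a, .c, .a, .b, .c, .a, .b, .c, .b, .a, .c, .d, .b, .d, .a, .b, .c, .b, .e, .c, .b, .d, .b, .d, .b, .c, .d, .a, .b, .a, .c, .b, .d, .b, .d, .b]) (lf [.c, .b, .c, .b, .c, .a, .e, .b, .d, .c, .d, .a, .b, .a, .c, .b, .c, .b, .c, .e, .c, .b, .d, .b, .d, .b, .c, .a, .c,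 .b, .c, .b, .c, .b, .a, .c, .b, .d, .b, .d, .b, .c, .a, .b])))) (nd 716 (nd 714 (nd 713 (lf [.b, .c, .b, .c, .a, .b, .a, .d, .c, .d, .b, .e, .a, .c, .b, .c, .b, .c, .b, .a, .c, .b, .d, .b, .d, .b, .c, .a, .b, .c, .b, .c, .b, .c, .a, .c, .b, .d, .b, .d, .b, .c, .e, .c]) (lf [.c, .a, .b, .c, .a, .d, .c, .b, .c, .b, .c, .a, .b, .c, .a, .b, .c, .e, .a, .e, .a, .c, .a, .c, .a, .b, .d, .c, .d, .b, .a, .c, .a, .c, .a, .b, .d, .c, .d, .b, .e, .a, .e])) (nd 715 (lf [.e, .b, .c, .e, .d, .c, .a, .b, .a, .c, .d, .c, .b, .d, .a, .b, .a, .b, .c, .d, .c, .a, .b, .a, .c, .d, .c, .b, .a, .b, .a, .d, .b, .c, .e, .c, .b, .e, .c, .b, .d, .a, .b, .d, .a, .c, .b, .c, .b, .a, .c, .b, .c, .a]) (lf [.e, .d, .c, .e, .d, .a, .b, .a, .e, .c, .d, .e, .b, .d, .b, .d, .b, .a, .c, .b, .c, .b, .c, .b, .a, .b, .d, .b, .d, .b, .a, .b, .c, .b, .c,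 .b, .c, .a]))) (nd 718 (nd 717 (lf [.e, .b, .a, .e, .c, .d, .b, .d, .b, .d, .a, .c, .b, .a, .b, .c, .a, .b, .c, .a, .b, .a, .e, .a, .b, .e, .a, .c, .a, .c, .a, .b, .a, .b, .d, .b, .a, .b, .a, .a, .c, .a, .c, .a, .a, .b, .a, .b, .d, .b, .a, .b]) (lf [.e, .c, .b, .d, .a, .b, .d, .a, .c, .b, .c, .b, .a, .c, .b, .c, .a, .e, .b, .c, .e, .d, .c, .a, .b, .a, .c, .d, .c, .b, .d, .a, .b, .a, .b, .c, .d, .c, .a, .b, .a, .c, .d, .c, .b, .a, .b, .a, .d, .b, .c, .e, .c, .b])) (nd 719 (lf [.e, .a, .b, .a, .d, .e, .c, .d, .e, .a, .c, .b, .c, .b, .c, .b, .a, .b, .d, .b, .d, .b, .a, .b, .c, .b, .c, .b, .c, .a, .b, .d, .b, .d, .b, .e, .d, .c]) (lf [.e, .a, .c, .d, .b, .d, .a, .e, .b, .d, .b, .a, .c, .a, .b, .d, .c, .d, .c, .b, .a, .c, .a, .b, .d, .b, .b, .c, .d, .c, .d, .b, .e, .a, .d, .b, .d, .c, .a, .e, .a, .c, .d, .a, .d, .c,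 .a]))))) (nd 728 (nd 724 (nd 722 (nd 721 (lf [.a, .c, .d, .b, .d, .a, .e, .c, .b, .c, .a, .c, .b, .b, .d, .b, .a, .c, .a, .b, .c, .a, .c, .b, .c, .a, .c, .a, .b, .d, .b, .e, .a, .d, .b, .d, .c, .a, .e, .b, .a, .c, .a, .b, .c, .a, .c, .a, .b, .a, .c, .d, .a, .c, .d, .a, .c, .a, .c, .d, .e]) (lf [.e, .a, .c, .a, .c, .a, .d, .b, .a, .b, .d, .a, .c, .a, .c, .a, .d, .b, .a, .b, .d, .e, .a, .e, .b, .a, .b, .a, .c, .b, .a, .b, .d, .b, .c, .b, .c, .a, .b, .c, .a, .b, .c, .a, .b, .a, .b, .a, .e, .a])) (nd 723 (lf [.e, .a, .e, .d, .b, .a, .b, .d, .b, .d, .c, .d, .b, .d, .b, .a, .b, .d, .b, .d, .c, .d, .b, .e, .a, .e, .a, .b, .a, .b, .c, .b, .c, .a, .b, .c, .a, .b, .c, .b, .c, .b, .d, .c, .d, .b, .a, .d, .c]) (lf [.b, .c, .a, .d, .a, .c, .a, .c, .a, .b, .c, .b, .c, .b, .a, .e, .a, .e, .c, .d, .a, .d, .c, .d, .b, .a, .b, .d,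 .c, .d, .a, .d, .c, .d, .b, .a, .b, .d, .e, .a, .e, .a, .c, .b, .c]))) (nd 726 (nd 725 (lf [.e, .a, .e, .c, .d, .a, .d, .c, .a, .c, .a, .c, .a, .c, .d, .a, .d, .c, .a, .c, .a, .c, .a, .e, .a, .e, .a, .b, .a, .b, .c, .b, .a, .c, .b, .c, .b, .a, .c, .a, .d, .b, .d, .c, .a, .c, .b]) (lf [.e, .c, .d, .a, .b, .d, .c, .d, .b, .c, .b, .c, .b, .a, .c, .b, .a, .c, .b, .c, .b, .a, .b, .a, .e, .a, .e, .b, .d, .c, .d, .b, .d, .b, .a, .b, .d, .b, .d, .c, .d, .b, .d, .b, .a, .b, .d, .e, .a])) (nd 727 (lf [.b, .a, .e, .c, .a, .b, .a, .c, .a, .c, .a, .d, .a, .b, .a, .c, .b, .a, .c, .b, .c, .a, .b, .e, .a, .b, .e, .b, .a, .b, .d, .b, .a, .b, .a, .d, .b, .c, .b, .a, .b, .c, .b, .d, .a, .b, .a, .b, .d, .b, .a, .b, .d, .b, .c, .b, .a, .b, .c, .b, .d, .e]) (lf [.e, .b, .a, .e, .a, .b, .a, .b, .a, .c, .a, .b, .c, .a, .b, .c, .b, .c,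 .d, .a, .c, .a, .c, .d, .b, .d, .b, .e, .a, .b, .e, .d, .b, .c, .b, .a, .b, .c, .b, .d, .d, .c, .b, .c, .b, .c, .d, .d, .b, .c, .b, .a, .b, .c, .b, .d, .d, .c, .b, .c, .b, .c, .d])))) (nd 732 (nd 730 (nd 729 (lf [.a, .c, .b, .e, .c, .d, .a, .b, .a, .c, .c, .b, .d, .b, .d, .b, .c, .c, .a, .b, .a, .d, .c, .c, .b, .d, .b, .d, .b, .c, .e, .b, .d, .c, .d, .c, .b, .a, .c, .a, .b, .a, .c]) (lf [.b, .c, .b, .e, .b, .c, .e, .d, .b, .d, .b, .d, .c, .d, .a, .b, .a, .c, .d, .b, .d, .b, .d, .c, .a, .b, .a, .d, .c, .e, .c, .b, .e, .b, .d, .c, .b, .c, .a, .d, .b, .c, .a, .c, .a, .b, .c])) (nd 731 (lf [.c, .d, .a, .b, .a, .c, .b, .c, .b, .c, .e, .c, .b, .d, .b, .d, .b, .c, .a, .c, .b, .c, .b, .c, .b, .a, .c, .b, .d, .b, .d, .b, .c, .a, .b, .c, .b, .c, .b, .c, .a, .e, .b, .d]) (lf [.e, .a, .e, .c, .b, .a, .c, .b, .a, .c, .b, .c,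 .b, .c, .d, .a, .c, .b, .a, .c, .e, .a, .e, .b, .d, .c, .d, .b, .a, .c, .a, .c, .a, .b, .d, .c, .d, .b, .a, .c, .a, .c, .a]))) (nd 734 (nd 733 (lf [.d, .a, .b, .a, .c, .b, .c, .a, .b, .a, .d, .c, .b, .e, .c, .b, .e, .a, .b, .a, .c, .a, .c, .a, .b, .c, .a, .b, .c, .a, .d, .c, .d, .a, .d, .c, .b, .e, .b, .c, .e, .c]) (lf [.e, .a, .e, .b, .a, .b, .a, .c, .b, .a, .b, .d, .b, .c, .b, .c, .a, .b, .c, .a, .b, .c, .a, .b, .a, .b, .a, .e, .a, .e, .a, .c, .a, .c, .a, .d, .b, .a, .b, .d, .a, .c, .a, .c, .a, .d, .b, .a, .b, .d])) (nd 735 (lf [.a, .c, .b, .c, .b, .c, .b, .a, .d, .a, .b, .a, .a, .b, .c, .b, .c, .b, .c, .a, .a, .b, .a, .d, .e, .b, .a, .b, .a, .c, .b, .c, .a, .b, .a, .b, .c, .e]) (lf [.d, .c, .b, .a, .b, .a, .d, .b, .c, .e, .c, .b, .e, .c, .b, .d, .a, .b, .d, .a, .c, .b, .c, .b, .a, .c, .b, .c, .a, .e, .b, .c,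 .e, .d, .c, .a, .b, .a, .c, .d, .c, .b, .d, .a, .b, .a, .b, .c, .d, .c, .a, .b, .a, .c])))))) (nd 752 (nd 744 (nd 740 (nd 738 (nd 737 (lf [.a, .b, .a, .c, .b, .c, .b, .d, .a, .c, .d, .c, .d, .b, .a, .d, .c, .b, .d, .a, .b, .a, .b, .a, .c, .a, .c]) (lf [.c, .b, .c, .b, .a, .c, .b, .a, .c, .a, .c, .a, .b, .a, .e, .d, .a, .b, .a, .a, .c, .b, .d, .b, .d, .b, .c, .a, .a, .b, .a, .d, .a, .c, .b, .d, .b, .d, .b, .c, .a, .e, .a, .d, .b, .a, .b, .c, .a, .d])) (nd 739 (lf [.d, .c, .e, .b, .a, .b, .a, .c, .b, .c, .b, .a, .d, .b, .d, .b, .d, .c, .e, .a, .c, .b, .c, .b, .c, .b, .a, .c, .d, .a, .b, .a, .c, .a, .b, .c, .b, .c, .b, .c, .a, .c, .a, .b, .a]) (lf [.d, .c, .d, .c, .b, .a, .c, .d, .c, .a, .b, .c, .d, .c, .d, .b, .a, .c, .d, .c, .a, .e, .a, .d, .b, .d, .c, .a, .e, .b, .a, .b, .c, .b, .a, .c, .b, .c, .b, .a, .b, .a,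 .c, .b, .d, .b, .c, .a, .b, .c, .a, .e, .a, .c, .d, .b, .d, .a, .e, .b]))) (nd 742 (nd 741 (lf [.d, .b, .d, .b, .c, .c, .d, .a, .b, .a, .c, .c, .b, .d, .b, .d, .b, .c, .c, .a, .b, .a, .d, .c, .e, .b, .c, .a, .c, .a, .b, .a, .c, .a, .b, .c, .d, .c, .d, .b, .e, .c, .b]) (lf [.a, .c, .b, .d, .b, .d, .b, .c, .a, .a, .c, .b, .c, .b, .c, .b, .a, .a, .c, .b, .d, .b, .d, .b, .c, .a, .a, .b, .c, .b, .c, .b, .c, .a, .e, .a, .b, .a, .b, .c, .a, .b, .a, .c, .b, .c, .b, .d, .a, .d, .b, .c, .a, .b, .e])) (nd 743 (lf [.e, .a, .e, .a, .c, .a, .c, .a, .c, .d, .a, .d, .c, .a, .c, .a, .c, .a, .c, .d, .a, .d, .c, .e, .a, .e, .b, .c, .a, .c, .d, .b, .d, .a, .c, .a, .b, .c, .b, .c, .a, .b, .c, .b, .a, .b, .a]) (lf [.b, .c, .b, .a, .c, .b, .a, .b, .c, .b, .c, .b, .a, .d, .b, .c, .d, .c, .a, .b, .a, .b, .e, .a, .c, .b, .d, .b, .d, .b,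 .c, .a, .c, .d, .a, .b, .a, .c, .a, .c, .b, .d, .b, .d, .b, .c, .a, .c, .a, .b, .a, .d, .c, .e])))) (nd 748 (nd 746 (nd 745 (lf [.a, .e, .c, .d, .a, .b, .d, .c, .d, .b, .c, .b, .c, .b, .a, .c, .b, .a, .c, .b, .c, .b, .a, .b, .a, .e, .a, .e, .b, .d, .c, .d, .b, .d, .b, .a, .b, .d, .b, .d, .c, .d, .b, .d, .b, .a, .b, .d, .e]) (lf [.a, .d, .b, .d, .c, .a, .e, .b, .a, .c, .a, .b, .a, .c, .b, .a, .c, .b, .a, .c, .b, .a, .d, .a, .d, .a, .c, .d, .b, .c, .e, .a, .c, .d, .b, .d, .a, .e, .c, .b, .c, .a, .c, .b, .b, .d, .c, .d, .c, .b, .b, .c, .a, .c, .b, .c, .b, .c, .d, .c, .d, .b, .e])) (nd 747 (lf [.e, .a, .b, .c, .a, .b, .a, .b, .a, .c, .b, .a, .c, .b, .c, .d, .b, .d, .c, .d, .a, .b, .e, .b, .c, .e, .d, .c, .a, .b, .a, .c, .d, .d, .b, .d, .b, .d, .d, .c, .a, .b, .a, .c, .d, .d, .b, .d, .b, .d, .e, .c, .b]) (lf [.e, .c,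 .d, .e, .a, .c, .b, .c, .b, .c, .b, .a, .a, .d, .c, .a, .c, .d, .a, .a, .b, .c, .b, .c, .b, .c, .a, .a, .d, .c, .a, .c, .d, .a, .e, .d, .c, .e, .c, .b, .c, .b, .a, .c, .a, .c, .b, .d, .a, .c, .b, .c, .d]))) (nd 750 (nd 749 (lf [.e, .d, .b, .d, .b, .d, .c, .b, .d, .a, .b, .a, .b, .c, .d, .b, .d, .b, .d, .c, .b, .a, .b, .a, .d, .b, .c, .e, .c, .b, .e, .b, .a, .d, .a, .d, .b, .c, .d, .b, .a, .c, .b, .a, .b, .a, .c, .b, .c, .a, .e, .b, .c]) (lf [.a, .e, .a, .b, .a, .c, .b, .a, .c, .b, .a, .b, .c, .a, .d, .b, .d, .b, .d, .c, .e, .a, .b, .e, .b, .a, .b, .d, .b, .a, .b, .a, .a, .c, .a, .c, .a, .a, .b, .a, .b, .d, .b, .a, .b, .a, .c, .a, .c, .a, .e, .b])) (nd 751 (lf [.c, .b, .c, .a, .b, .a, .d, .c, .d, .b, .e, .a, .c, .b, .c, .b, .c, .b, .a, .c, .b, .d, .b, .d, .b, .c, .a, .b, .c, .b, .c, .b, .c, .a, .c, .b, .d, .b, .d,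 .b, .c, .e, .c, .b]) (lf [.c, .b, .a, .b, .c, .b, .d, .e, .b, .a, .e, .b, .a, .c, .a, .d, .b, .c, .a, .d, .c, .a, .c, .b, .a, .c, .b, .a, .c, .a, .b, .a, .b, .a, .e, .a, .b, .e, .a, .c, .a, .c, .a, .d, .b, .c, .b, .a, .b, .c, .b, .d, .a, .c, .a, .c, .a, .d, .b]))))) (nd 760 (nd 756 (nd 754 (nd 753 (lf [.c, .d, .e, .c, .b, .e, .b, .a, .d, .c, .d, .b, .d, .c, .b, .c, .a, .b, .c, .a, .b, .a, .b, .a, .c, .b, .a, .e, .b, .c, .e, .d, .b, .d, .b, .d, .d, .c, .a, .b, .a, .c, .d, .d, .b, .d, .b, .d, .d, .c, .a, .b, .a]) (lf [.e, .a, .d, .c, .a, .c, .d, .a, .b, .d, .b, .d, .b, .a, .d, .c, .a, .c, .d, .a, .b, .d, .b, .d, .b, .e, .d, .c, .e, .a, .b, .c, .a, .c, .b, .a, .c, .b, .a, .d, .b, .a, .b, .d, .c, .a, .b, .e, .c, .d])) (nd 755 (lf [.e, .a, .b, .e, .d, .c, .b, .c, .b, .c, .d, .a, .c, .a, .c, .a, .d, .c, .b, .c, .b, .c,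 .d, .a, .c, .a, .c, .a, .e, .b, .a, .e, .a, .b, .c, .b, .a, .c, .b, .a, .c, .b, .a, .d, .b, .d, .c, .d, .a, .d, .c, .b]) (lf [.b, .c, .e, .d, .b, .d, .b, .d, .d, .c, .a, .b, .a, .c, .d, .d, .b, .d, .b, .d, .d, .c, .a, .b, .a, .c, .d, .e, .c, .b, .e, .b, .a, .d, .c, .d, .b, .d, .c, .b, .c, .a, .b, .c, .a, .b, .a, .b, .a, .c, .b, .a, .e]))) (nd 758 (nd 757 (lf [.e, .b, .c, .e, .c, .b, .d, .a, .b, .a, .b, .c, .c, .d, .a, .b, .a, .c, .c, .b, .a, .b, .a, .d, .b, .c, .c, .a, .b, .a, .d, .c, .e, .c, .b, .e, .b, .a, .b, .c, .a, .c, .a, .b, .d, .b, .c, .a, .d, .a, .b]) (lf [.a, .b, .a, .d, .e, .c, .d, .e, .a, .c, .b, .c, .b, .c, .b, .a, .b, .d, .b, .d, .b, .a, .b, .c, .b, .c, .b, .c, .a, .b, .d, .b, .d, .b, .e, .d, .c, .e])) (nd 759 (lf [.b, .a, .e, .c, .d, .b, .d, .b, .d, .a, .c, .b, .a, .b, .c, .a, .b, .c, .a, .b, .a,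 .e, .a, .b, .e, .a, .c, .a, .c, .a, .b, .a, .b, .d, .b, .a, .b, .a, .a, .c, .a, .c, .a, .a, .b, .a, .b, .d, .b, .a, .b, .e]) (lf [.c, .e, .c, .b, .d, .b, .d, .b, .c, .a, .c, .b, .c, .b, .c, .b, .a, .c, .b, .d, .b, .d, .b, .c, .a, .b, .c, .b, .c, .b, .c, .a, .e, .b, .d, .c, .d, .a, .b, .a, .c, .b, .c, .b])))) (nd 764 (nd 762 (nd 761 (lf [.e, .a, .b, .a, .b, .a, .c, .a, .b, .a, .b, .a, .c, .a, .b, .c, .a, .c, .a, .d, .b, .d, .c, .a, .d, .c, .a, .b, .e, .b, .c, .e, .c, .b, .d, .a, .b, .a, .b, .c, .b, .c, .b, .a, .b, .a, .d, .b, .c, .b, .e, .c, .b]) (lf [.b, .c, .e, .d, .b, .d, .b, .d, .c, .d, .a, .b, .a, .c, .d, .b, .d, .b, .d, .c, .a, .b, .a, .d, .c, .e, .c, .b, .e, .b, .d, .c, .b, .c, .a, .d, .b, .c, .a, .c, .a, .b, .c, .b, .c, .b, .e])) (nd 763 (lf [.e, .b, .a, .e, .a, .b, .a, .c, .b, .a, .c, .b, .a, .b, .c, .a,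 .d, .b, .d, .b, .d, .c, .e, .a, .b, .e, .b, .a, .b, .d, .b, .a, .b, .a, .a, .c, .a, .c, .a, .a, .b, .a, .b, .d, .b, .a, .b, .a, .c, .a, .c, .a]) (lf [.e, .c, .b, .d, .a, .b, .a, .b, .c, .d, .b, .d, .b, .d, .c, .b, .a, .b, .a, .d, .b, .c, .d, .b, .d, .b, .d, .e, .c, .b, .e, .a, .c, .b, .c, .a, .b, .a, .b, .c, .a, .b, .d, .c, .b, .d, .a, .d, .a, .b, .e, .b, .c]))) (nd 766 (nd 765 (lf [.c, .b, .d, .b, .d, .b, .c, .a, .b, .a, .d, .c, .b, .d, .b, .d, .b, .c, .e, .b, .c, .b, .a, .d, .b, .d, .c, .a, .b, .c, .b, .a, .c, .b, .a, .c, .a, .e, .d, .a, .b, .a]) (lf [.a, .d, .b, .a, .b, .c, .a, .d, .c, .b, .c, .b, .a, .c, .b, .a, .c, .a, .c, .a, .b, .a, .e, .d, .a, .b, .a, .a, .c, .b, .d, .b, .d, .b, .c, .a, .a, .b, .a, .d, .a, .c, .b, .d, .b, .d, .b, .c, .a, .e])) (nd 767 (lf [.c, .a, .e, .c, .d, .b, .d, .b, .d, .a, .b, .c,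 .b, .c, .a, .b, .a, .b, .e, .c, .d, .a, .b, .a, .c, .a, .c, .b, .c, .b, .c, .b, .a, .c, .a, .b, .a, .d, .c, .a, .b, .c, .b, .c, .b]) (lf [.a, .e, .c, .d, .e, .b, .d, .b, .d, .b, .a, .c, .b, .c, .b, .c, .b, .a, .b, .d, .b, .d, .b, .a, .b, .c, .b, .c, .b, .c, .a, .e, .d, .c, .e, .d, .a, .b])))))))
noncomputable def tc3kw_circT_c12 : ℕ → List Gen := (nd 800 (nd 784 (nd 776 (nd 772 (nd 770 (nd 769 (lf [.b, .a, .e, .b, .a, .c, .b, .c, .a, .b, .c, .a, .b, .a, .d, .a, .c, .a, .c, .a, .b, .a, .c, .e, .a, .b, .e, .d, .b, .c, .b, .a, .b, .c, .b, .d, .b, .a, .b, .d, .b, .a, .b, .a, .d, .b, .c, .b, .a, .b, .c, .b, .d, .a, .b, .a, .b, .d, .b, .a, .b, .e]) (lf [.e, .a, .e, .a, .c, .a, .c, .a, .d, .b, .a, .b, .d, .a, .c, .a, .c, .a, .d, .b, .a, .b, .d, .e, .a, .e, .b, .a, .b, .a, .c, .b, .a, .b, .d, .b, .c, .b, .c, .a, .b, .c,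 .a, .b, .c, .a, .b, .a, .b, .a])) (nd 771 (lf [.e, .b, .a, .e, .a, .b, .c, .b, .a, .c, .b, .a, .c, .b, .a, .d, .b, .d, .c, .d, .a, .d, .c, .b, .e, .a, .b, .e, .d, .c, .b, .c, .b, .c, .d, .a, .c, .a, .c, .a, .d, .c, .b, .c, .b, .c, .d, .a, .c, .a, .c, .a]) (lf [.e, .d, .b, .c, .b, .a, .b, .c, .b, .d, .b, .a, .b, .d, .b, .a, .b, .a, .d, .b, .c, .b, .a, .b, .c, .b, .d, .a, .b, .a, .b, .d, .b, .a, .b, .e, .b, .a, .e, .b, .a, .c, .b, .c, .a, .b, .c, .a, .b, .a, .d, .a, .c, .a, .c, .a, .b, .a, .c, .e, .a, .b]))) (nd 774 (nd 773 (lf [.e, .a, .b, .a, .b, .c, .b, .c, .a, .b, .c, .a, .b, .c, .b, .c, .b, .d, .c, .d, .b, .a, .d, .c, .e, .a, .e, .d, .b, .a, .b, .d, .b, .d, .c, .d, .b, .d, .b, .a, .b, .d, .b, .d, .c, .d, .b, .e, .a]) (lf [.e, .a, .c, .d, .b, .d, .a, .e, .c, .b, .c, .a, .c, .b, .a, .c, .d, .c, .a, .b, .c, .a,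 .c, .b, .c, .a, .c, .d, .c, .a, .e, .a, .d, .b, .d, .c, .a, .e, .b, .c, .a, .b, .a, .c, .a, .c, .b, .a, .b, .d, .c, .a, .c, .b, .c, .b])) (nd 775 (lf [.e, .a, .c, .a, .c, .a, .d, .b, .c, .b, .a, .b, .c, .b, .d, .a, .c, .a, .c, .a, .d, .b, .c, .b, .a, .b, .c, .b, .d, .e, .b, .a, .e, .b, .a, .c, .a, .d, .b, .c, .a, .d, .c, .a, .c, .b, .a, .c, .b, .a, .c, .a, .b, .a, .b, .a, .e, .a, .b]) (lf [.a, .b, .e, .b, .a, .b, .d, .b, .a, .b, .a, .a, .c, .a, .c, .a, .a, .b, .a, .b, .d, .b, .a, .b, .a, .c, .a, .c, .a, .e, .b, .a, .e, .a, .b, .a, .c, .b, .a, .c, .b, .a, .b, .c, .a, .d, .b, .d, .b, .d, .c, .e])))) (nd 780 (nd 778 (nd 777 (lf [.e, .d, .c, .a, .b, .a, .c, .d, .c, .b, .d, .a, .b, .a, .b, .c, .d, .c, .a, .b, .a, .c, .d, .c, .b, .a, .b, .a, .d, .b, .c, .e, .c, .b, .e, .c, .b, .d, .a, .b, .d, .a, .c, .b, .c, .b, .a,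 .c, .b, .c, .a, .e, .b, .c]) (lf [.c, .b, .e, .b, .a, .c, .a, .b, .c, .a, .b, .a, .c, .d, .b, .c, .b, .c, .b, .c, .e, .b, .c, .e, .d, .c, .a, .b, .a, .c, .d, .b, .d, .c, .a, .b, .a, .c, .d, .b, .e])) (nd 779 (lf [.e, .c, .b, .e, .b, .c, .b, .c, .b, .a, .c, .a, .c, .b, .d, .a, .c, .b, .c, .d, .b, .e, .b, .c, .e, .c, .d, .a, .b, .a, .c, .d, .b, .d, .b, .d, .c, .a, .b, .a, .d, .c, .d, .b, .d, .b, .d]) (lf [.e, .b, .c, .e, .d, .b, .d, .b, .d, .c, .b, .d, .a, .b, .a, .b, .c, .d, .b, .d, .b, .d, .c, .b, .a, .b, .a, .d, .b, .c, .e, .c, .b, .e, .b, .a, .d, .a, .d, .b, .c, .d, .b, .a, .c, .b, .a, .b, .a, .c, .b, .c, .a]))) (nd 782 (nd 781 (lf [.d, .c, .d, .b, .a, .c, .a, .c, .a, .b, .d, .c, .d, .b, .e, .a, .e, .c, .a, .b, .c, .a, .d, .c, .b, .c, .b, .c, .a, .b, .c, .a, .b, .c, .e, .a, .e, .a, .c, .a, .c, .a, .b]) (lf [.a,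 .c, .d, .b, .d, .a, .e, .b, .d, .c, .d, .c, .b, .c, .b, .c, .a, .c, .b, .b, .c, .d, .c, .d, .b, .b, .c, .a, .c, .b, .c, .e, .a, .d, .b, .d, .c, .a, .e, .c, .b, .d, .c, .a, .d, .a, .d, .a, .b, .c, .a, .b, .c, .a, .b, .c, .a, .b, .a, .c, .a, .b, .e])) (nd 783 (lf [.e, .c, .b, .e, .a, .c, .b, .c, .a, .b, .a, .b, .c, .a, .b, .d, .c, .b, .d, .a, .d, .a, .b, .e, .b, .c, .e, .c, .b, .d, .a, .b, .a, .b, .c, .d, .b, .d, .b, .d, .c, .b, .a, .b, .a, .d, .b, .c, .d, .b, .d, .b, .d]) (lf [.b, .a, .e, .b, .c, .e, .b, .c, .b, .d, .a, .b, .a, .b, .c, .b, .c, .b, .a, .b, .a, .d, .b, .c, .e, .c, .b, .e, .b, .a, .c, .d, .a, .c, .d, .b, .d, .a, .c, .a, .c, .b, .a, .c, .a, .b, .a, .b, .a, .c, .a, .b, .a]))))) (nd 792 (nd 788 (nd 786 (nd 785 (lf [.e, .d, .c, .e, .c, .b, .c, .b, .a, .c, .a, .c, .b, .d, .a, .c, .b, .c, .d, .e, .c, .d,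 .e, .a, .c, .b, .c, .b, .c, .b, .a, .a, .d, .c, .a, .c, .d, .a, .a, .b, .c, .b, .c, .b, .c, .a, .a, .d, .c, .a, .c, .d, .a]) (lf [.b, .a, .a, .c, .b, .d, .b, .d, .b, .c, .a, .a, .b, .a, .d, .a, .c, .b, .d, .b, .d, .b, .c, .a, .e, .a, .d, .b, .a, .b, .c, .a, .d, .c, .b, .c, .b, .a, .c, .b, .a, .c, .a, .c, .a, .b, .a, .e, .d, .a])) (nd 787 (lf [.a, .b, .c, .b, .a, .c, .b, .a, .c, .b, .a, .d, .b, .d, .c, .d, .a, .d, .c, .b, .e, .a, .b, .e, .d, .c, .b, .c, .b, .c, .d, .a, .c, .a, .c, .a, .d, .c, .b, .c, .b, .c, .d, .a, .c, .a, .c, .a, .e, .b, .a, .e]) (lf [.c, .b, .c, .b, .a, .c, .a, .c, .b, .d, .a, .c, .b, .c, .d, .e, .c, .d, .e, .a, .c, .b, .c, .b, .c, .b, .a, .a, .d, .c, .a, .c, .d, .a, .a, .b, .c, .b, .c, .b, .c, .a, .a, .d, .c, .a, .c, .d, .a, .e, .d, .c, .e]))) (nd 790 (nd 789 (lf [.e, .a, .d, .b, .d, .c, .a,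 .e, .c, .b, .d, .a, .d, .c, .b, .d, .b, .a, .b, .c, .b, .c, .b, .a, .c, .b, .a, .b, .e, .a, .c, .d, .b, .d, .a, .e, .a, .c, .d, .c, .a, .b, .d, .b, .a, .c, .a, .a, .c, .d, .c, .a, .a, .c, .a, .b, .d, .b]) (lf [.a, .e, .a, .c, .b, .c, .b, .c, .b, .a, .a, .c, .b, .d, .b, .d, .b, .c, .a, .a, .b, .c, .b, .c, .b, .c, .a, .a, .c, .b, .d, .b, .d, .b, .c, .a, .e, .b, .a, .c, .b, .d, .a, .d, .b, .c, .b, .c, .a, .b, .a, .c, .b, .a, .b])) (nd 791 (lf [.b, .e, .d, .b, .c, .b, .a, .b, .c, .b, .d, .a, .c, .a, .c, .a, .d, .b, .c, .b, .a, .b, .c, .b, .d, .a, .c, .a, .c, .a, .e, .b, .a, .e, .a, .b, .a, .b, .a, .c, .a, .b, .c, .a, .b, .c, .a, .c, .d, .a, .c, .b, .d, .a, .c, .a, .b, .e, .a]) (lf [.a, .b, .c, .a, .c, .a, .b, .d, .b, .c, .a, .d, .a, .b, .e, .b, .c, .e, .c, .b, .d, .a, .b, .a, .b, .c, .c, .d, .a, .b, .a, .c, .c, .b,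 .a, .b, .a, .d, .b, .c, .c, .a, .b, .a, .d, .c, .e, .c, .b, .e, .b])))) (nd 796 (nd 794 (nd 793 (lf [.a, .d, .e, .b, .a, .b, .a, .c, .b, .c, .a, .b, .a, .b, .c, .e, .a, .c, .b, .c, .b, .c, .b, .a, .d, .a, .b, .a, .a, .b, .c, .b, .c, .b, .c, .a, .a, .b]) (lf [.e, .a, .c, .b, .c, .b, .c, .b, .a, .b, .d, .b, .d, .b, .a, .b, .c, .b, .c, .b, .c, .a, .b, .d, .b, .d, .b, .e, .d, .c, .e, .a, .b, .a, .d, .e, .c, .d])) (nd 795 (lf [.e, .c, .b, .d, .a, .d, .c, .b, .d, .b, .a, .b, .c, .b, .c, .b, .a, .c, .b, .a, .b, .e, .a, .c, .d, .b, .d, .a, .e, .a, .c, .d, .c, .a, .b, .d, .b, .a, .c, .a, .a, .c, .d, .c, .a, .a, .c, .a, .b, .d, .b, .e, .a, .d, .b, .d, .c, .a]) (lf [.d, .c, .a, .b, .a, .b, .e, .a, .c, .b, .d, .b, .d, .b, .c, .a, .c, .d, .a, .b, .a, .c, .a, .c, .b, .d, .b, .d, .b, .c, .a, .c, .a, .b, .a, .d, .c, .e, .b, .c,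 .b, .a, .c, .b, .a, .b, .c, .b, .c, .b, .a, .d, .b, .c]))) (nd 798 (nd 797 (lf [.e, .a, .e, .c, .d, .a, .d, .c, .d, .b, .a, .b, .d, .c, .d, .a, .d, .c, .d, .b, .a, .b, .d, .e, .a, .e, .a, .c, .b, .c, .b, .c, .a, .d, .a, .c, .a, .c, .a, .b, .c, .b, .c, .b, .a]) (lf [.a, .d, .b, .d, .c, .a, .e, .d, .c, .a, .c, .a, .d, .c, .a, .d, .c, .a, .b, .a, .c, .a, .c, .b, .a, .c, .a, .b, .e, .a, .c, .d, .b, .d, .a, .e, .b, .d, .b, .a, .c, .a, .c, .b, .c, .a, .c, .b, .a, .c, .a, .b, .d, .b, .b, .c, .a, .c, .b, .c, .e])) (nd 799 (lf [.e, .d, .c, .e, .a, .b, .c, .a, .c, .b, .a, .c, .b, .a, .d, .b, .a, .b, .d, .c, .a, .b, .e, .c, .d, .e, .a, .d, .c, .a, .c, .d, .a, .b, .d, .b, .d, .b, .a, .d, .c, .a, .c, .d, .a, .b, .d, .b, .d, .b]) (lf [.e, .c, .d, .e, .a, .d, .c, .a, .c, .d, .a, .a, .c, .b, .c, .b, .c, .b, .a, .a, .d, .c, .a,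 .c, .d, .a, .a, .b, .c, .b, .c, .b, .c, .a, .e, .d, .c, .e, .d, .c, .b, .c, .a, .d, .b, .c, .a, .c, .a, .b, .c, .b, .c])))))) (nd 816 (nd 808 (nd 804 (nd 802 (nd 801 (lf [.e, .b, .c, .b, .d, .a, .b, .a, .b, .c, .b, .c, .b, .a, .b, .a, .d, .b, .c, .e, .c, .b, .e, .b, .a, .c, .d, .a, .c, .d, .b, .d, .a, .c, .a, .c, .b, .a, .c, .a, .b, .a, .b, .a, .c, .a, .b, .a, .b, .a, .e, .b, .c]) (lf [.b, .a, .c, .b, .c, .b, .c, .e, .c, .b, .d, .b, .d, .b, .c, .a, .c, .b, .c, .b, .c, .b, .a, .c, .b, .d, .b, .d, .b, .c, .a, .b, .c, .b, .c, .b, .c, .a, .e, .b, .d, .c, .d, .a])) (nd 803 (lf [.d, .c, .a, .d, .a, .b, .c, .d, .a, .d, .c, .b, .a, .b, .c, .b, .c, .b, .a, .b, .c, .d, .a]) (lf [.b, .a, .b, .d, .b, .a, .b, .a, .a, .c, .a, .c, .a, .a, .b, .a, .b, .d, .b, .a, .b, .a, .c, .a, .c, .a, .e, .b, .a, .e, .a, .b, .a, .c, .b, .a,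 .c, .b, .a, .b, .c, .a, .d, .b, .d, .b, .d, .c, .e, .a, .b, .e]))) (nd 806 (nd 805 (lf [.d, .b, .d, .b, .d, .a, .c, .b, .a, .b, .c, .a, .b, .c, .a, .b, .a, .e, .a, .b, .e, .a, .c, .a, .c, .a, .b, .a, .b, .d, .b, .a, .b, .a, .a, .c, .a, .c, .a, .a, .b, .a, .b, .d, .b, .a, .b, .e, .b, .a, .e, .c]) (lf [.e, .c, .b, .e, .b, .a, .d, .a, .d, .b, .c, .d, .b, .a, .c, .b, .a, .b, .a, .c, .b, .c, .a, .e, .b, .c, .e, .d, .b, .d, .b, .d, .c, .b, .d, .a, .b, .a, .b, .c, .d, .b, .d, .b, .d, .c, .b, .a, .b, .a, .d, .b, .c])) (nd 807 (lf [.a, .e, .b, .a, .c, .a, .d, .b, .c, .a, .d, .c, .a, .c, .b, .a, .c, .b, .a, .c, .a, .b, .a, .b, .a, .e, .a, .b, .e, .a, .c, .a, .c, .a, .d, .b, .c, .b, .a, .b, .c, .b, .d, .a, .c, .a, .c, .a, .d, .b, .c, .b, .a, .b, .c, .b, .d, .e, .b]) (lf [.a, .b, .c, .b, .e, .c, .d, .a, .b, .a, .c, .a, .c,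 .b, .d, .b, .d, .b, .c, .a, .c, .a, .b, .a, .d, .c, .a, .c, .b, .d, .b, .d, .b, .c, .a, .e, .b, .a, .b, .a, .c, .d, .c, .b, .d, .a, .b, .c, .b, .c, .b, .a, .b, .c])))) (nd 812 (nd 810 (nd 809 (lf [.a, .b, .a, .e, .c, .d, .e, .b, .d, .b, .d, .b, .a, .c, .b, .c, .b, .c, .b, .a, .b, .d, .b, .d, .b, .a, .b, .c, .b, .c, .b, .c, .a, .e, .d, .c, .e, .d]) (lf [.d, .b, .c, .e, .c, .b, .e, .b, .a, .c, .d, .a, .c, .d, .b, .d, .a, .c, .a, .c, .b, .a, .c, .a, .b, .a, .b, .a, .c, .a, .b, .a, .b, .a, .e, .b, .c, .e, .b, .c, .b, .d, .a, .b, .a, .b, .c, .b, .c, .b, .a, .b, .a])) (nd 811 (lf [.d, .c, .e, .a, .c, .b, .c, .b, .c, .b, .a, .c, .d, .a, .b, .a, .c, .a, .b, .c, .b, .c, .b, .c, .a, .c, .a, .b, .a, .d, .c, .e, .b, .a, .b, .a, .c, .b, .c, .b, .a, .d, .b, .d, .b]) (lf [.e, .c, .d, .e, .a, .c, .b, .c, .b, .c, .b, .a, .b, .d,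 .b, .d, .b, .a, .b, .c, .b, .c, .b, .c, .a, .b, .d, .b, .d, .b, .e, .d, .c, .e, .a, .b, .a, .d]))) (nd 814 (nd 813 (lf [.a, .c, .a, .c, .a, .b, .a, .c, .b, .c, .b, .d, .a, .c, .d, .c, .d, .b, .a, .d, .c, .b, .d, .a, .b, .a, .b]) (lf [.d, .b, .c, .a, .b, .a, .d, .e, .a, .c, .a, .b, .c, .a, .b, .c, .b, .a, .c, .d, .b, .d, .a, .b, .c, .b, .e, .c, .b, .d, .b, .d, .b, .c, .d, .a, .b, .a, .c, .b, .d, .b])) (nd 815 (lf [.a, .d, .b, .d, .c, .a, .e, .a, .c, .d, .a, .d, .c, .a, .e, .a, .c, .d, .b, .d, .a, .e, .b, .d, .b, .a, .c, .a, .b, .d, .c, .d, .c, .b, .a, .c, .a, .b, .d, .b, .b, .c, .d, .c, .d, .b, .e]) (lf [.e, .a, .e, .a, .b, .c, .b, .c, .b, .a, .c, .a, .c, .a, .d, .a, .c, .b, .c, .b, .c, .a, .e, .a, .e, .d, .b, .a, .b, .d, .c, .d, .a, .d, .c, .d, .b, .a, .b, .d, .c, .d, .a, .d, .c]))))) (nd 824 (nd 820 (nd 818 (nd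 817 (lf [.b, .c, .e, .c, .d, .a, .b, .a, .c, .d, .b, .d, .b, .d, .c, .a, .b, .a, .d, .c, .d, .b, .d, .b, .d, .e, .c, .b, .e, .b, .c, .b, .c, .b, .a, .c, .a, .c, .b, .d, .a, .c, .b, .c, .d, .b, .e]) (lf [.a, .a, .b, .a, .d, .a, .b, .c, .b, .c, .b, .c, .a, .e, .c, .b, .a, .b, .a, .c, .b, .c, .a, .b, .a, .b, .e, .d, .a, .b, .a, .a, .c, .b, .c, .b, .c, .b])) (nd 819 (lf [.e, .b, .d, .c, .d, .b, .d, .b, .a, .b, .d, .b, .d, .c, .d, .b, .d, .b, .a, .b, .d, .e, .a, .e, .c, .d, .a, .b, .d, .c, .d, .b, .c, .b, .c, .b, .a, .c, .b, .a, .c, .b, .c, .b, .a, .b, .a, .e, .a]) (lf [.a, .d, .c, .e, .a, .e, .d, .b, .a, .b, .d, .b, .d, .c, .d, .b, .d, .b, .a, .b, .d, .b, .d, .c, .d, .b, .e, .a, .e, .a, .b, .a, .b, .c, .b, .c, .a, .b, .c, .a, .b, .c, .b, .c, .b, .d, .c, .d, .b]))) (nd 822 (nd 821 (lf [.d, .b, .c, .b, .c, .a, .b, .a,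 .c, .b, .a, .b, .a, .e, .a, .c, .b, .c, .b, .c, .b, .a, .a, .c, .b, .d, .b, .d, .b, .c, .a, .a, .b, .c, .b, .c, .b, .c, .a, .a, .c, .b, .d, .b, .d, .b, .c, .a, .e, .b, .a, .c, .b, .d, .a]) (lf [.a, .b, .a, .b, .c, .b, .a, .c, .b, .c, .b, .a, .c, .a, .d, .b, .d, .c, .a, .c, .b, .e, .a, .e, .c, .d, .a, .d, .c, .a, .c, .a, .c, .a, .c, .d, .a, .d, .c, .a, .c, .a, .c, .a, .e, .a, .e])) (nd 823 (lf [.a, .e, .a, .b, .a, .b, .a, .c, .b, .a, .c, .b, .a, .c, .b, .c, .b, .d, .b, .a, .b, .c, .a, .b, .a, .b, .e, .a, .e, .d, .b, .a, .b, .d, .a, .c, .a, .c, .a, .d, .b, .a, .b, .d, .a, .c, .a, .c, .a, .e]) (lf [.b, .c, .e, .c, .b, .d, .a, .b, .a, .b, .c, .d, .b, .d, .b, .d, .c, .b, .a, .b, .a, .d, .b, .c, .d, .b, .d, .b, .d, .e, .c, .b, .e, .a, .c, .b, .c, .a, .b, .a, .b, .c, .a, .b, .d, .c, .b, .d, .a, .d, .a, .b, .e])))) (nd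 828 (nd 826 (nd 825 (lf [.e, .c, .b, .e, .a, .c, .b, .c, .a, .b, .c, .b, .c, .a, .d, .b, .a, .d, .b, .c, .e, .b, .c, .e, .c, .b, .d, .a, .b, .a, .b, .c, .d, .c, .a, .b, .a, .c, .d, .c, .b, .a, .b, .a, .d, .b, .c, .d, .c, .a, .b, .a, .c, .d]) (lf [.b, .e, .c, .d, .a, .b, .a, .c, .c, .b, .d, .b, .d, .b, .c, .c, .a, .b, .a, .d, .c, .c, .b, .d, .b, .d, .b, .c, .e, .b, .d, .c, .d, .c, .b, .a, .c, .a, .b, .a, .c, .a, .c])) (nd 827 (lf [.e, .d, .b, .d, .b, .d, .c, .d, .a, .b, .a, .c, .d, .b, .d, .b, .d, .c, .a, .b, .a, .d, .c, .e, .c, .b, .e, .b, .d, .c, .b, .c, .a, .d, .b, .c, .a, .c, .a, .b, .c, .b, .c, .b, .e, .b, .c]) (lf [.c, .b, .e, .a, .c, .b, .c, .a, .b, .c, .b, .c, .a, .d, .b, .a, .d, .b, .c, .e, .b, .c, .e, .c, .b, .d, .a, .b, .a, .b, .c, .d, .c, .a, .b, .a, .c, .d, .c, .b, .a, .b, .a, .d, .b, .c, .d, .c, .a,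 .b, .a, .c, .d, .e]))) (nd 830 (nd 829 (lf [.e, .a, .c, .d, .b, .d, .a, .e, .b, .d, .b, .a, .c, .a, .a, .c, .d, .c, .a, .a, .c, .a, .b, .d, .b, .a, .c, .d, .c, .a, .e, .a, .d, .b, .d, .c, .a, .e, .b, .a, .b, .c, .a, .b, .c, .b, .c, .b, .a, .b, .d, .b, .c, .d, .a, .d, .b, .c]) (lf [.d, .c, .e, .d, .a, .b, .a, .e, .c, .d, .e, .b, .d, .b, .d, .b, .a, .c, .b, .c, .b, .c, .b, .a, .b, .d, .b, .d, .b, .a, .b, .c, .b, .c, .b, .c, .a, .e])) (nd 831 (lf [.b, .a, .d, .c, .d, .b, .d, .c, .b, .c, .a, .b, .c, .a, .b, .a, .b, .a, .c, .b, .a, .e, .b, .c, .e, .d, .b, .d, .b, .d, .d, .c, .a, .b, .a, .c, .d, .d, .b, .d, .b, .d, .d, .c, .a, .b, .a, .c, .d, .e, .c, .b, .e]) (lf [.b, .c, .e, .d, .c, .a, .b, .a, .c, .d, .c, .b, .d, .a, .b, .a, .b, .c, .d, .c, .a, .b, .a, .c, .d, .c, .b, .a, .b, .a, .d, .b, .c, .e, .c, .b, .e, .c, .b,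 .d, .a, .b, .d, .a, .c, .b, .c, .b, .a, .c, .b, .c, .a, .e])))))))
noncomputable def tc3kw_circT_c13 : ℕ → List Gen := (nd 864 (nd 848 (nd 840 (nd 836 (nd 834 (nd 833 (lf [.b, .a, .b, .a, .c, .a, .c, .b, .a, .b, .a, .c, .a, .b, .a, .c, .b, .c, .a, .c, .a]) (lf [.b, .d, .a, .b, .a, .b, .c, .c, .d, .a, .b, .a, .c, .c, .b, .a, .b, .a, .d, .b, .c, .c, .a, .b, .a, .d, .c, .e, .c, .b, .e, .b, .a, .b, .c, .a, .c, .a, .b, .d, .b, .c, .a, .d, .a, .b, .e, .b, .c, .e, .c])) (nd 835 (lf [.d, .b, .e, .c, .b, .d, .b, .d, .b, .c, .c, .d, .a, .b, .a, .c, .c, .b, .d, .b, .d, .b, .c, .c, .a, .b, .a, .d, .c, .e, .b, .c, .a, .c, .a, .b, .a, .c, .a, .b, .c, .d, .c]) (lf [.e, .b, .a, .e, .b, .c, .d, .a, .d, .c, .d, .b, .d, .a, .b, .c, .a, .b, .c, .a, .b, .c, .b, .a, .e, .a, .b, .e, .a, .c, .a, .c, .a, .d, .c, .b, .c, .b, .c, .d, .a,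 .c, .a, .c, .a, .d, .c, .b, .c, .b, .c, .d]))) (nd 838 (nd 837 (lf [.a, .b, .a, .c, .a, .c, .b, .c, .b, .c, .b, .a, .c, .a, .b, .a, .d, .c, .a, .b, .c, .b, .c, .b, .c, .a, .e, .c, .d, .b, .d, .b, .d, .a, .b, .c, .b, .c, .a, .b, .a, .b, .e, .c, .d]) (lf [.b, .e, .b, .a, .b, .d, .b, .a, .b, .a, .a, .c, .a, .c, .a, .a, .b, .a, .b, .d, .b, .a, .b, .a, .c, .a, .c, .a, .e, .b, .a, .e, .a, .b, .a, .c, .b, .a, .c, .b, .a, .b, .c, .a, .d, .b, .d, .b, .d, .c, .e, .a])) (nd 839 (lf [.a, .e, .b, .d, .b, .d, .c, .a, .c, .a, .d, .c, .b, .c, .b, .a, .c, .b, .a, .c, .a, .b, .a, .b, .a, .e, .a, .b, .e, .d, .c, .b, .c, .b, .c, .d, .d, .b, .c, .b, .a, .b, .c, .b, .d, .d, .c, .b, .c, .b, .c, .d, .d, .b, .c, .b, .a, .b, .c, .b, .d, .e, .b]) (lf [.d, .c, .e, .c, .b, .c, .b, .a, .c, .a, .c, .b, .d, .a, .c, .b, .c, .d, .e, .c, .d, .e,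 .a, .c, .b, .c, .b, .c, .b, .a, .a, .d, .c, .a, .c, .d, .a, .a, .b, .c, .b, .c, .b, .c, .a, .a, .d, .c, .a, .c, .d, .a, .e])))) (nd 844 (nd 842 (nd 841 (lf [.e, .a, .e, .a, .b, .a, .b, .c, .b, .c, .a, .b, .c, .a, .b, .c, .b, .c, .b, .d, .c, .d, .b, .a, .d, .c, .e, .a, .e, .d, .b, .a, .b, .d, .b, .d, .c, .d, .b, .d, .b, .a, .b, .d, .b, .d, .c, .d, .b]) (lf [.e, .d, .b, .c, .b, .a, .b, .c, .b, .d, .d, .c, .b, .c, .b, .c, .d, .d, .b, .c, .b, .a, .b, .c, .b, .d, .d, .c, .b, .c, .b, .c, .d, .e, .b, .a, .e, .a, .b, .a, .b, .a, .c, .a, .b, .c, .a, .b, .c, .b, .c, .d, .a, .c, .a, .c, .d, .b, .d, .b, .e, .a, .b])) (nd 843 (lf [.e, .a, .e, .d, .b, .a, .b, .d, .a, .c, .a, .c, .a, .d, .b, .a, .b, .d, .a, .c, .a, .c, .a, .e, .a, .e, .a, .b, .a, .b, .a, .c, .b, .a, .c, .b, .a, .c, .b, .c, .b, .d, .b, .a, .b, .c, .a, .b, .a,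 .b]) (lf [.b, .d, .b, .c, .d, .a, .b, .a, .c, .b, .d, .b, .d, .b, .c, .a, .b, .a, .d, .e, .a, .c, .a, .b, .c, .a, .b, .c, .b, .a, .c, .d, .b, .d, .a, .b, .c, .b, .e, .c, .b, .d]))) (nd 846 (nd 845 (lf [.e, .a, .b, .a, .b, .a, .c, .a, .b, .c, .a, .b, .c, .b, .c, .d, .a, .c, .a, .c, .d, .b, .d, .b, .e, .a, .b, .e, .d, .b, .c, .b, .a, .b, .c, .b, .d, .d, .c, .b, .c, .b, .c, .d, .d, .b, .c, .b, .a, .b, .c, .b, .d, .d, .c, .b, .c, .b, .c, .d, .e, .b, .a]) (lf [.a, .e, .a, .b, .a, .b, .a, .c, .a, .b, .c, .a, .b, .c, .b, .c, .d, .a, .c, .a, .c, .d, .b, .d, .b, .e, .a, .b, .e, .d, .b, .c, .b, .a, .b, .c, .b, .d, .d, .c, .b, .c, .b, .c, .d, .d, .b, .c, .b, .a, .b, .c, .b, .d, .d, .c, .b, .c, .b, .c, .d, .e, .b])) (nd 847 (lf [.e, .a, .e, .d, .b, .a, .b, .d, .c, .d, .a, .d, .c, .d, .b, .a, .b, .d, .c, .d, .a, .d, .c, .e,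 .a, .e, .a, .b, .c, .b, .c, .b, .a, .c, .a, .c, .a, .d, .a, .c, .b, .c, .b, .c, .a]) (lf [.a, .e, .d, .b, .a, .b, .d, .b, .d, .c, .d, .b, .d, .b, .a, .b, .d, .b, .d, .c, .d, .b, .e, .a, .e, .a, .b, .a, .b, .c, .b, .c, .a, .b, .c, .a, .b, .c, .b, .c, .b, .d, .c, .d, .b, .a, .d, .c, .e]))))) (nd 856 (nd 852 (nd 850 (nd 849 (lf [.e, .c, .b, .e, .c, .b, .c, .b, .c, .b, .d, .c, .a, .b, .a, .c, .b, .a, .c, .a, .b, .e, .b, .c, .e, .b, .d, .c, .a, .b, .a, .c, .d, .b, .d, .c, .a, .b, .a, .c, .d]) (lf [.c, .b, .d, .a, .d, .b, .c, .b, .c, .a, .b, .a, .c, .b, .a, .b, .a, .e, .a, .c, .b, .c, .b, .c, .b, .a, .a, .c, .b, .d, .b, .d, .b, .c, .a, .a, .b, .c, .b, .c, .b, .c, .a, .a, .c, .b, .d, .b, .d, .b, .c, .a, .e, .b, .a])) (nd 851 (lf [.b, .c, .a, .b, .a, .c, .b, .c, .b, .d, .a, .d, .b, .c, .a, .b, .e, .a, .c, .b, .d, .b, .d,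 .b, .c, .a, .a, .c, .b, .c, .b, .c, .b, .a, .a, .c, .b, .d, .b, .d, .b, .c, .a, .a, .b, .c, .b, .c, .b, .c, .a, .e, .a, .b, .a]) (lf [.c, .b, .e, .c, .b, .d, .b, .d, .b, .c, .d, .a, .b, .a, .c, .b, .d, .b, .d, .b, .c, .a, .b, .a, .d, .e, .a, .c, .a, .b, .c, .a, .b, .c, .b, .a, .c, .d, .b, .d, .a, .b]))) (nd 854 (nd 853 (lf [.b, .d, .c, .e, .a, .c, .b, .c, .b, .c, .b, .a, .c, .d, .a, .b, .a, .c, .a, .b, .c, .b, .c, .b, .c, .a, .c, .a, .b, .a, .d, .c, .e, .b, .a, .b, .a, .c, .b, .c, .b, .a, .d, .b, .d]) (lf [.d, .e, .a, .b, .a, .c, .a, .c, .a, .b, .c, .a, .b, .c, .b, .c, .d, .a, .c, .b, .a, .b, .d, .a, .e, .a, .c, .b, .d, .b, .d, .b, .c, .a, .d, .a, .b, .a, .a, .c, .b, .d, .b, .d, .b, .c, .a, .a, .b, .a])) (nd 855 (lf [.e, .b, .a, .c, .d, .a, .c, .d, .b, .d, .a, .c, .a, .c, .b, .a, .c, .a, .b, .a, .b, .a, .c, .a,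 .b, .a, .b, .a, .e, .b, .c, .e, .b, .c, .b, .d, .a, .b, .a, .b, .c, .b, .c, .b, .a, .b, .a, .d, .b, .c, .e, .c, .b]) (lf [.a, .e, .b, .a, .b, .a, .c, .d, .c, .b, .d, .a, .b, .c, .b, .c, .b, .a, .b, .c, .a, .b, .c, .b, .e, .c, .d, .a, .b, .a, .c, .a, .c, .b, .d, .b, .d, .b, .c, .a, .c, .a, .b, .a, .d, .c, .a, .c, .b, .d, .b, .d, .b, .c])))) (nd 860 (nd 858 (nd 857 (lf [.d, .c, .a, .e, .a, .c, .d, .b, .d, .a, .e, .b, .d, .b, .a, .c, .a, .b, .d, .c, .d, .c, .b, .a, .c, .a, .b, .d, .b, .b, .c, .d, .c, .d, .b, .e, .a, .d, .b, .d, .c, .a, .e, .a, .c, .d, .a]) (lf [.b, .a, .e, .b, .a, .c, .a, .d, .b, .c, .a, .d, .c, .a, .c, .b, .a, .c, .b, .a, .c, .a, .b, .a, .b, .a, .e, .a, .b, .e, .a, .c, .a, .c, .a, .d, .b, .c, .b, .a, .b, .c, .b, .d, .a, .c, .a, .c, .a, .d, .b, .c, .b, .a, .b, .c, .b, .d, .e])) (nd 859 (lf [.b, .c,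 .e, .d, .c, .a, .b, .a, .c, .d, .d, .b, .d, .b, .d, .d, .c, .a, .b, .a, .c, .d, .d, .b, .d, .b, .d, .e, .c, .b, .e, .a, .b, .c, .a, .b, .a, .b, .a, .c, .b, .a, .c, .b, .c, .d, .b, .d, .c, .d, .a, .b, .e]) (lf [.e, .c, .b, .c, .b, .a, .c, .a, .c, .b, .d, .a, .c, .b, .c, .d, .e, .c, .d, .e, .a, .c, .b, .c, .b, .c, .b, .a, .a, .d, .c, .a, .c, .d, .a, .a, .b, .c, .b, .c, .b, .c, .a, .a, .d, .c, .a, .c, .d, .a, .e, .d, .c]))) (nd 862 (nd 861 (lf [.d, .e, .a, .d, .c, .a, .c, .d, .a, .a, .c, .b, .c, .b, .c, .b, .a, .a, .d, .c, .a, .c, .d, .a, .a, .b, .c, .b, .c, .b, .c, .a, .e, .d, .c, .e, .d, .c, .b, .c, .a, .d, .b, .c, .a, .c, .a, .b, .c, .b, .c, .e, .c]) (lf [.c, .e, .c, .b, .c, .b, .a, .c, .a, .c, .b, .d, .a, .c, .b, .c, .d, .e, .c, .d, .e, .a, .c, .b, .c, .b, .c, .b, .a, .a, .d, .c, .a, .c, .d, .a, .a, .b, .c, .b,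 .c, .b, .c, .a, .a, .d, .c, .a, .c, .d, .a, .e, .d])) (nd 863 (lf [.a, .b, .e, .b, .a, .b, .d, .b, .a, .b, .a, .d, .b, .c, .b, .a, .b, .c, .b, .d, .a, .b, .a, .b, .d, .b, .a, .b, .d, .b, .c, .b, .a, .b, .c, .b, .d, .e, .b, .a, .e, .c, .a, .b, .a, .c, .a, .c, .a, .d, .a, .b, .a, .c, .b, .a, .c, .b, .c, .a, .b, .e]) (lf [.d, .e, .b, .d, .b, .d, .b, .a, .c, .b, .c, .b, .c, .b, .a, .b, .d, .b, .d, .b, .a, .b, .c, .b, .c, .b, .c, .a, .e, .d, .c, .e, .d, .a, .b, .a, .e, .c])))))) (nd 880 (nd 872 (nd 868 (nd 866 (nd 865 (lf [.a, .e, .a, .b, .a, .b, .c, .b, .c, .a, .b, .c, .a, .b, .c, .b, .c, .b, .d, .c, .d, .b, .a, .d, .c, .e, .a, .e, .d, .b, .a, .b, .d, .b, .d, .c, .d, .b, .d, .b, .a, .b, .d, .b, .d, .c, .d, .b, .e]) (lf [.a, .b, .a, .b, .a, .c, .a, .b, .c, .a, .b, .c, .a, .c, .d, .a, .c, .b, .d, .a, .c, .a, .b, .e,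 .a, .b, .e, .d, .b, .c, .b, .a, .b, .c, .b, .d, .a, .c, .a, .c, .a, .d, .b, .c, .b, .a, .b, .c, .b, .d, .a, .c, .a, .c, .a, .e, .b, .a, .e])) (nd 867 (lf [.c, .d, .c, .a, .b, .d, .b, .a, .c, .a, .a, .c, .d, .c, .a, .a, .c, .a, .b, .d, .b, .e, .a, .d, .b, .d, .c, .a, .e, .c, .b, .d, .a, .d, .c, .b, .d, .b, .a, .b, .c, .b, .c, .b, .a, .c, .b, .a, .b, .e, .a, .c, .d, .b, .d, .a, .e, .a]) (lf [.d, .c, .e, .a, .b, .c, .a, .c, .b, .a, .c, .b, .a, .d, .b, .a, .b, .d, .c, .a, .b, .e, .c, .d, .e, .a, .d, .c, .a, .c, .d, .a, .b, .d, .b, .d, .b, .a, .d, .c, .a, .c, .d, .a, .b, .d, .b, .d, .b, .e]))) (nd 870 (nd 869 (lf [.b, .d, .a, .e, .b, .d, .c, .d, .c, .b, .b, .d, .b, .a, .c, .a, .b, .c, .d, .c, .d, .b, .a, .c, .a, .b, .d, .b, .e, .a, .d, .b, .d, .c, .a, .e, .a, .c, .d, .a, .d, .c, .a, .e, .a, .c, .d]) (lf [.c, .a, .c,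 .d, .b, .d, .a, .c, .a, .b, .c, .b, .c, .a, .b, .c, .b, .a, .b, .a, .e, .a, .e, .a, .c, .a, .c, .a, .c, .d, .a, .d, .c, .a, .c, .a, .c, .a, .c, .d, .a, .d, .c, .e, .a, .e, .b])) (nd 871 (lf [.a, .e, .a, .e, .b, .d, .c, .d, .b, .d, .b, .a, .b, .d, .b, .d, .c, .d, .b, .d, .b, .a, .b, .d, .e, .a, .e, .c, .d, .a, .b, .d, .c, .d, .b, .c, .b, .c, .b, .a, .c, .b, .a, .c, .b, .c, .b, .a, .b]) (lf [.c, .e, .a, .e, .d, .b, .a, .b, .d, .b, .d, .c, .d, .b, .d, .b, .a, .b, .d, .b, .d, .c, .d, .b, .e, .a, .e, .a, .b, .a, .b, .c, .b, .c, .a, .b, .c, .a, .b, .c, .b, .c, .b, .d, .c, .d, .b, .a, .d])))) (nd 876 (nd 874 (nd 873 (lf [.b, .a, .e, .a, .b, .c, .b, .a, .c, .b, .a, .c, .b, .a, .d, .b, .d, .c, .d, .a, .d, .c, .b, .e, .a, .b, .e, .d, .c, .b, .c, .b, .c, .d, .a, .c, .a, .c, .a, .d, .c, .b, .c, .b, .c, .d, .a, .c, .a, .c,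 .a, .e]) (lf [.c, .e, .d, .c, .b, .c, .a, .d, .b, .c, .a, .c, .a, .b, .c, .b, .c, .e, .c, .d, .e, .a, .d, .c, .a, .c, .d, .a, .a, .c, .b, .c, .b, .c, .b, .a, .a, .d, .c, .a, .c, .d, .a, .a, .b, .c, .b, .c, .b, .c, .a, .e, .d])) (nd 875 (lf [.d, .a, .e, .b, .d, .b, .a, .c, .a, .a, .c, .d, .c, .a, .a, .c, .a, .b, .d, .b, .a, .c, .d, .c, .a, .e, .a, .d, .b, .d, .c, .a, .e, .b, .a, .b, .c, .a, .b, .c, .b, .c, .b, .a, .b, .d, .b, .c, .d, .a, .d, .b, .c, .e, .a, .c, .d, .b]) (lf [.b, .a, .e, .b, .c, .d, .a, .d, .c, .d, .b, .d, .a, .b, .c, .a, .b, .c, .a, .b, .c, .b, .a, .e, .a, .b, .e, .a, .c, .a, .c, .a, .d, .c, .b, .c, .b, .c, .d, .a, .c, .a, .c, .a, .d, .c, .b, .c, .b, .c, .d, .e]))) (nd 878 (nd 877 (lf [.b, .a, .b, .c, .b, .a, .c, .b, .c, .b, .a, .c, .a, .d, .b, .d, .c, .a, .c, .b, .e, .a, .e, .c, .d, .a, .d, .c,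 .a, .c, .a, .c, .a, .c, .d, .a, .d, .c, .a, .c, .a, .c, .a, .e, .a, .e, .a]) (lf [.d, .c, .e, .d, .c, .b, .c, .a, .d, .b, .c, .a, .c, .a, .b, .c, .b, .c, .e, .c, .d, .e, .a, .d, .c, .a, .c, .d, .a, .a, .c, .b, .c, .b, .c, .b, .a, .a, .d, .c, .a, .c, .d, .a, .a, .b, .c, .b, .c, .b, .c, .a, .e])) (nd 879 (lf [.a, .c, .d, .b, .d, .a, .e, .b, .d, .b, .a, .c, .a, .a, .c, .d, .c, .a, .a, .c, .a, .b, .d, .b, .a, .c, .d, .c, .a, .e, .a, .d, .b, .d, .c, .a, .e, .b, .a, .b, .c, .a, .b, .c, .b, .c, .b, .a, .b, .d, .b, .c, .d, .a, .d, .b, .c, .e]) (lf [.b, .e, .a, .e, .c, .a, .b, .c, .a, .d, .c, .b, .c, .b, .c, .a, .b, .c, .a, .b, .c, .e, .a, .e, .a, .c, .a, .c, .a, .b, .d, .c, .d, .b, .a, .c, .a, .c, .a, .b, .d, .c, .d]))))) (nd 888 (nd 884 (nd 882 (nd 881 (lf [.e, .c, .d, .b, .d, .b, .d, .a, .c, .b, .a, .b, .c, .a, .b, .c,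 .a, .b, .a, .e, .a, .b, .e, .a, .c, .a, .c, .a, .b, .a, .b, .d, .b, .a, .b, .a, .a, .c, .a, .c, .a, .a, .b, .a, .b, .d, .b, .a, .b, .e, .b, .a]) (lf [.e, .a, .d, .c, .a, .c, .d, .a, .a, .c, .b, .c, .b, .c, .b, .a, .a, .d, .c, .a, .c, .d, .a, .a, .b, .c, .b, .c, .b, .c, .a, .e, .d, .c, .e, .d, .c, .b, .c, .a, .d, .b, .c, .a, .c, .a, .b, .c, .b, .c, .e, .c, .d])) (nd 883 (lf [.e, .a, .b, .e, .d, .b, .c, .b, .a, .b, .c, .b, .d, .d, .c, .b, .c, .b, .c, .d, .d, .b, .c, .b, .a, .b, .c, .b, .d, .d, .c, .b, .c, .b, .c, .d, .e, .b, .a, .e, .a, .b, .a, .b, .a, .c, .a, .b, .c, .a, .b, .c, .b, .c, .d, .a, .c, .a, .c, .d, .b, .d, .b]) (lf [.e, .a, .b, .a, .b, .c, .b, .a, .c, .b, .c, .b, .a, .c, .a, .d, .b, .d, .c, .a, .c, .b, .e, .a, .e, .c, .d, .a, .d, .c, .a, .c, .a, .c, .a, .c, .d, .a, .d, .c, .a, .c, .a, .c, .a, .e, .a])))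 (nd 886 (nd 885 (lf [.e, .d, .b, .c, .b, .a, .b, .c, .b, .d, .a, .c, .a, .c, .a, .d, .b, .c, .b, .a, .b, .c, .b, .d, .a, .c, .a, .c, .a, .e, .b, .a, .e, .a, .b, .a, .b, .a, .c, .a, .b, .c, .a, .b, .c, .a, .c, .d, .a, .c, .b, .d, .a, .c, .a, .b, .e, .a, .b]) (lf [.e, .c, .b, .e, .a, .b, .a, .c, .a, .c, .a, .b, .c, .a, .b, .c, .a, .d, .c, .d, .a, .d, .c, .b, .e, .b, .c, .e, .c, .d, .a, .b, .a, .c, .b, .c, .a, .b, .a, .d, .c, .b])) (nd 887 (lf [.d, .e, .b, .d, .b, .d, .b, .a, .d, .c, .a, .c, .d, .a, .b, .d, .b, .d, .b, .a, .d, .c, .a, .c, .d, .a, .e, .d, .c, .e, .b, .a, .c, .d, .b, .a, .b, .d, .a, .b, .c, .a, .b, .c, .a, .c, .b, .a, .e, .c]) (lf [.a, .c, .b, .c, .b, .c, .b, .a, .b, .d, .b, .d, .b, .a, .b, .c, .b, .c, .b, .c, .a, .b, .d, .b, .d, .b, .e, .d, .c, .e, .a, .b, .a, .d, .e, .c, .d, .e])))) (nd 892 (nd 890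 (nd 889 (lf [.a, .e, .a, .b, .c, .b, .a, .c, .b, .a, .c, .b, .a, .d, .b, .d, .c, .d, .a, .d, .c, .b, .e, .a, .b, .e, .d, .c, .b, .c, .b, .c, .d, .a, .c, .a, .c, .a, .d, .c, .b, .c, .b, .c, .d, .a, .c, .a, .c, .a, .e, .b]) (lf [.e, .b, .a, .b, .d, .b, .a, .b, .a, .d, .b, .c, .b, .a, .b, .c, .b, .d, .a, .b, .a, .b, .d, .b, .a, .b, .d, .b, .c, .b, .a, .b, .c, .b, .d, .e, .b, .a, .e, .c, .a, .b, .a, .c, .a, .c, .a, .d, .a, .b, .a, .c, .b, .a, .c, .b, .c, .a, .b, .e, .a, .b])) (nd 891 (lf [.b, .e, .a, .c, .a, .c, .a, .b, .a, .b, .d, .b, .a, .b, .a, .a, .c, .a, .c, .a, .a, .b, .a, .b, .d, .b, .a, .b, .e, .b, .a, .e, .c, .d, .b, .d, .b, .d, .a, .c, .b, .a, .b, .c, .a, .b, .c, .a, .b, .a, .e, .a]) (lf [.e, .b, .d, .b, .d, .c, .a, .c, .a, .d, .c, .b, .c, .b, .a, .c, .b, .a, .c, .a, .b, .a, .b, .a, .e, .a, .b, .e, .d, .c,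 .b, .c, .b, .c, .d, .d, .b, .c, .b, .a, .b, .c, .b, .d, .d, .c, .b, .c, .b, .c, .d, .d, .b, .c, .b, .a, .b, .c, .b, .d, .e, .b, .a]))) (nd 894 (nd 893 (lf [.b, .a, .e, .a, .b, .a, .c, .b, .a, .c, .b, .a, .b, .c, .a, .d, .b, .d, .b, .d, .c, .e, .a, .b, .e, .b, .a, .b, .d, .b, .a, .b, .a, .a, .c, .a, .c, .a, .a, .b, .a, .b, .d, .b, .a, .b, .a, .c, .a, .c, .a, .e]) (lf [.e, .b, .a, .c, .a, .d, .b, .c, .a, .d, .c, .a, .c, .b, .a, .c, .b, .a, .c, .a, .b, .a, .b, .a, .e, .a, .b, .e, .a, .c, .a, .c, .a, .d, .b, .c, .b, .a, .b, .c, .b, .d, .a, .c, .a, .c, .a, .d, .b, .c, .b, .a, .b, .c, .b, .d, .e, .b, .a])) (nd 895 (lf [.d, .e, .c, .d, .e, .a, .c, .b, .c, .b, .c, .b, .a, .b, .d, .b, .d, .b, .a, .b, .c, .b, .c, .b, .c, .a, .b, .d, .b, .d, .b, .e, .d, .c, .e, .a, .b, .a]) (lf [.c, .e, .d, .c, .a, .b, .a, .c, .d, .d, .b,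 .d, .b, .d, .d, .c, .a, .b, .a, .c, .d, .d, .b, .d, .b, .d, .e, .c, .b, .e, .a, .b, .c, .a, .b, .a, .b, .a, .c, .b, .a, .c, .b, .c, .d, .b, .d, .c, .d, .a, .b, .e, .b])))))))
noncomputable def tc3kw_circT_c14 : ℕ → List Gen := (nd 928 (nd 912 (nd 904 (nd 900 (nd 898 (nd 897 (lf [.e, .b, .c, .e, .c, .b, .d, .a, .b, .a, .b, .c, .d, .b, .d, .b, .d, .c, .b, .a, .b, .a, .d, .b, .c, .d, .b, .d, .b, .d, .e, .c, .b, .e, .a, .c, .b, .c, .a, .b, .a, .b, .c, .a, .b, .d, .c, .b, .d, .a, .d, .a, .b]) (lf [.c, .d, .e, .b, .d, .b, .d, .b, .a, .c, .b, .c, .b, .c, .b, .a, .b, .d, .b, .d, .b, .a, .b, .c, .b, .c, .b, .c, .a, .e, .d, .c, .e, .d, .a, .b, .a, .e])) (nd 899 (lf [.d, .e, .a, .d, .c, .a, .c, .d, .a, .b, .d, .b, .d, .b, .a, .d, .c, .a, .c, .d, .a, .b, .d, .b, .d, .b, .e, .d, .c, .e, .a, .b, .c, .a, .c, .b, .a, .c, .b, .a,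 .d, .b, .a, .b, .d, .c, .a, .b, .e, .c]) (lf [.c, .d, .e, .a, .d, .c, .a, .c, .d, .a, .a, .c, .b, .c, .b, .c, .b, .a, .a, .d, .c, .a, .c, .d, .a, .a, .b, .c, .b, .c, .b, .c, .a, .e, .d, .c, .e, .d, .c, .b, .c, .a, .d, .b, .c, .a, .c, .a, .b, .c, .b, .c, .e]))) (nd 902 (nd 901 (lf [.c, .d, .e, .a, .d, .c, .a, .c, .d, .a, .b, .d, .b, .d, .b, .a, .d, .c, .a, .c, .d, .a, .b, .d, .b, .d, .b, .e, .d, .c, .e, .a, .b, .c, .a, .c, .b, .a, .c, .b, .a, .d, .b, .a, .b, .d, .c, .a, .b, .e]) (lf [.a, .c, .b, .c, .a, .d, .b, .a, .d, .c, .d, .a, .b, .d, .c, .b, .c, .a, .c, .b, .c])) (nd 903 (lf [.a, .e, .c, .a, .b, .a, .c, .a, .c, .a, .d, .a, .b, .a, .c, .b, .a, .c, .b, .c, .a, .b, .e, .a, .b, .e, .b, .a, .b, .d, .b, .a, .b, .a, .d, .b, .c, .b, .a, .b, .c, .b, .d, .a, .b, .a, .b, .d, .b, .a, .b, .d, .b, .c, .b, .a, .b, .c, .b,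 .d, .e, .b]) (lf [.b, .e, .d, .c, .b, .c, .b, .c, .d, .d, .b, .c, .b, .a, .b, .c, .b, .d, .d, .c, .b, .c, .b, .c, .d, .d, .b, .c, .b, .a, .b, .c, .b, .d, .e, .b, .a, .e, .b, .d, .b, .d, .c, .a, .c, .a, .d, .c, .b, .c, .b, .a, .c, .b, .a, .c, .a, .b, .a, .b, .a, .e, .a])))) (nd 908 (nd 906 (nd 905 (lf [.c, .e, .d, .b, .d, .b, .d, .d, .c, .a, .b, .a, .c, .d, .d, .b, .d, .b, .d, .d, .c, .a, .b, .a, .c, .d, .e, .c, .b, .e, .b, .a, .d, .c, .d, .b, .d, .c, .b, .c, .a, .b, .c, .a, .b, .a, .b, .a, .c, .b, .a, .e, .b]) (lf [.e, .a, .c, .a, .c, .a, .b, .a, .b, .d, .b, .a, .b, .a, .a, .c, .a, .c, .a, .a, .b, .a, .b, .d, .b, .a, .b, .e, .b, .a, .e, .c, .d, .b, .d, .b, .d, .a, .c, .b, .a, .b, .c, .a, .b, .c, .a, .b, .a, .e, .a, .b])) (nd 907 (lf [.e, .b, .a, .c, .d, .b, .a, .b, .d, .a, .b, .c, .a, .b, .c, .a, .c, .b, .a, .e,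 .c, .d, .e, .b, .d, .b, .d, .b, .a, .d, .c, .a, .c, .d, .a, .b, .d, .b, .d, .b, .a, .d, .c, .a, .c, .d, .a, .e, .d, .c]) (lf [.c, .e, .d, .a, .b, .a, .e, .c, .d, .e, .b, .d, .b, .d, .b, .a, .c, .b, .c, .b, .c, .b, .a, .b, .d, .b, .d, .b, .a, .b, .c, .b, .c, .b, .c, .a, .e, .d]))) (nd 910 (nd 909 (lf [.c, .d, .b, .e, .a, .c, .b, .c, .b, .c, .b, .a, .c, .b, .d, .b, .d, .b, .c, .a, .b, .c, .b, .c, .b, .c, .a, .c, .b, .d, .b, .d, .b, .c, .e, .c, .b, .c, .b, .c, .a, .b, .a, .d]) (lf [.b, .e, .b, .a, .b, .d, .b, .a, .b, .a, .d, .b, .c, .b, .a, .b, .c, .b, .d, .a, .b, .a, .b, .d, .b, .a, .b, .d, .b, .c, .b, .a, .b, .c, .b, .d, .e, .b, .a, .e, .c, .a, .b, .a, .c, .a, .c, .a, .d, .a, .b, .a, .c, .b, .a, .c, .b, .c, .a, .b, .e, .a])) (nd 911 (lf [.e, .a, .b, .a, .b, .a, .c, .a, .b, .c, .a, .b, .c, .a, .c, .d, .a, .c, .b,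 .d, .a, .c, .a, .b, .e, .a, .b, .e, .d, .b, .c, .b, .a, .b, .c, .b, .d, .a, .c, .a, .c, .a, .d, .b, .c, .b, .a, .b, .c, .b, .d, .a, .c, .a, .c, .a, .e, .b, .a]) (lf [.e, .a, .b, .e, .b, .a, .b, .d, .b, .a, .b, .a, .d, .b, .c, .b, .a, .b, .c, .b, .d, .a, .b, .a, .b, .d, .b, .a, .b, .d, .b, .c, .b, .a, .b, .c, .b, .d, .e, .b, .a, .e, .c, .a, .b, .a, .c, .a, .c, .a, .d, .a, .b, .a, .c, .b, .a, .c, .b, .c, .a, .b]))))) (nd 920 (nd 916 (nd 914 (nd 913 (lf [.c, .b, .e, .a, .c, .b, .c, .a, .b, .a, .b, .c, .a, .b, .d, .c, .b, .d, .a, .d, .a, .b, .e, .b, .c, .e, .c, .b, .d, .a, .b, .a, .b, .c, .d, .b, .d, .b, .d, .c, .b, .a, .b, .a, .d, .b, .c, .d, .b, .d, .b, .d, .e]) (lf [.a, .b, .e, .a, .c, .a, .c, .a, .b, .a, .b, .d, .b, .a, .b, .a, .a, .c, .a, .c, .a, .a, .b, .a, .b, .d, .b, .a, .b, .e, .b, .a, .e, .c, .d, .b, .d,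 .b, .d, .a, .c, .b, .a, .b, .c, .a, .b, .c, .a, .b, .a, .e])) (nd 915 (lf [.e, .b, .d, .b, .d, .b, .a, .d, .c, .a, .c, .d, .a, .b, .d, .b, .d, .b, .a, .d, .c, .a, .c, .d, .a, .e, .d, .c, .e, .b, .a, .c, .d, .b, .a, .b, .d, .a, .b, .c, .a, .b, .c, .a, .c, .b, .a, .e, .c, .d]) (lf [.a, .b, .a, .b, .c, .b, .c, .a, .b, .c, .a, .b, .c, .b, .c, .b, .d, .c, .d, .b, .a, .d, .c, .e, .a, .e, .d, .b, .a, .b, .d, .b, .d, .c, .d, .b, .d, .b, .a, .b, .d, .b, .d, .c, .d, .b, .e, .a, .e]))) (nd 918 (nd 917 (lf [.d, .a, .e, .b, .d, .c, .d, .c, .b, .a, .c, .d, .c, .a, .b, .c, .d, .c, .d, .b, .a, .c, .d, .c, .a, .e, .a, .d, .b, .d, .c, .a, .e, .b, .a, .b, .c, .b, .a, .c, .b, .c, .b, .a, .b, .a, .c, .b, .d, .b, .c, .a, .b, .c, .a, .e, .a, .c, .d, .b]) (lf [.a, .c, .a, .c, .a, .c, .d, .a, .d, .c, .a, .c, .a, .c, .a, .c, .d, .a, .d,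 .c, .e, .a, .e, .b, .c, .a, .c, .d, .b, .d, .a, .c, .a, .b, .c, .b, .c, .a, .b, .c, .b, .a, .b, .a, .e, .a, .e])) (nd 919 (lf [.a, .e, .b, .d, .c, .d, .c, .b, .c, .b, .c, .a, .c, .b, .b, .c, .d, .c, .d, .b, .b, .c, .a, .c, .b, .c, .e, .a, .d, .b, .d, .c, .a, .e, .c, .b, .d, .c, .a, .d, .a, .d, .a, .b, .c, .a, .b, .c, .a, .b, .c, .a, .b, .a, .c, .a, .b, .e, .a, .c, .d, .b, .d]) (lf [.c, .b, .a, .c, .a, .b, .e, .b, .c, .e, .b, .d, .c, .a, .b, .a, .c, .d, .b, .d, .c, .a, .b, .a, .c, .d, .e, .c, .b, .e, .c, .b, .c, .b, .c, .b, .d, .c, .a, .b, .a])))) (nd 924 (nd 922 (nd 921 (lf [.a, .b, .e, .a, .c, .a, .c, .a, .d, .b, .c, .b, .a, .b, .c, .b, .d, .a, .c, .a, .c, .a, .d, .b, .c, .b, .a, .b, .c, .b, .d, .e, .b, .a, .e, .b, .a, .c, .a, .d, .b, .c, .a, .d, .c, .a, .c, .b, .a, .c, .b, .a, .c, .a, .b, .a, .b, .a, .e]) (lf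 [.d, .c, .a, .b, .c, .b, .a, .c, .b, .a, .c, .a, .e, .d, .a, .b, .a, .c, .b, .d, .b, .d, .b, .c, .a, .b, .a, .d, .c, .b, .d, .b, .d, .b, .c, .e, .b, .c, .b, .a, .d, .b])) (nd 923 (lf [.e, .a, .b, .c, .a, .c, .b, .a, .c, .b, .a, .d, .b, .a, .b, .d, .c, .a, .b, .e, .c, .d, .e, .a, .d, .c, .a, .c, .d, .a, .b, .d, .b, .d, .b, .a, .d, .c, .a, .c, .d, .a, .b, .d, .b, .d, .b, .e, .d, .c]) (lf [.b, .d, .c, .a, .b, .e, .c, .d, .e, .a, .d, .c, .a, .c, .d, .a, .b, .d, .b, .d, .b, .a, .d, .c, .a, .c, .d, .a, .b, .d, .b, .d, .b, .e, .d, .c, .e, .a, .b, .c, .a, .c, .b, .a, .c, .b, .a, .d, .b, .a]))) (nd 926 (nd 925 (lf [.e, .c, .b, .d, .a, .b, .a, .b, .c, .c, .d, .a, .b, .a, .c, .c, .b, .a, .b, .a, .d, .b, .c, .c, .a, .b, .a, .d, .c, .e, .c, .b, .e, .b, .a, .b, .c, .a, .c, .a, .b, .d, .b, .c, .a, .d, .a, .b, .e, .b, .c]) (lf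 [.c, .e, .b, .a, .c, .d, .b, .a, .b, .d, .a, .b, .c, .a, .b, .c, .a, .c, .b, .a, .e, .c, .d, .e, .b, .d, .b, .d, .b, .a, .d, .c, .a, .c, .d, .a, .b, .d, .b, .d, .b, .a, .d, .c, .a, .c, .d, .a, .e, .d])) (nd 927 (lf [.e, .b, .a, .b, .c, .b, .a, .c, .b, .c, .b, .a, .b, .a, .c, .b, .d, .b, .c, .a, .b, .c, .a, .e, .a, .c, .d, .b, .d, .a, .e, .b, .d, .c, .d, .c, .b, .a, .c, .d, .c, .a, .b, .c, .d, .c, .d, .b, .a, .c, .d, .c, .a, .e, .a, .d, .b, .d, .c, .a]) (lf [.d, .b, .d, .c, .a, .e, .a, .c, .b, .a, .c, .b, .d, .b, .c, .a, .b, .a, .b, .c, .b, .c, .a, .b, .c, .b, .a, .b, .e, .a, .c, .d, .b, .d, .a, .e, .a, .c, .d, .c, .a, .b, .d, .c, .d, .c, .b, .a, .c, .d, .c, .a, .b, .c, .d, .c, .d, .b, .e, .a])))))) (nd 944 (nd 936 (nd 932 (nd 930 (nd 929 (lf [.d, .a, .e, .b, .d, .b, .a, .c, .a, .b, .d, .c, .d, .c, .b, .a, .c, .a,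 .b, .d, .b, .b, .c, .d, .c, .d, .b, .e, .a, .d, .b, .d, .c, .a, .e, .a, .c, .d, .a, .d, .c, .a, .e, .a, .c, .d, .b]) (lf [.d, .b, .d, .a, .e, .a, .c, .d, .c, .a, .b, .d, .c, .d, .c, .b, .a, .c, .d, .c, .a, .b, .c, .d, .c, .d, .b, .e, .a, .d, .b, .d, .c, .a, .e, .a, .c, .b, .a, .c, .b, .d, .b, .c, .a, .b, .a, .b, .c, .b, .c, .a, .b, .c, .b, .a, .b, .e, .a, .c])) (nd 931 (lf [.d, .b, .d, .b, .a, .d, .c, .a, .c, .d, .a, .b, .d, .b, .d, .b, .a, .d, .c, .a, .c, .d, .a, .e, .d, .c, .e, .b, .a, .c, .d, .b, .a, .b, .d, .a, .b, .c, .a, .b, .c, .a, .c, .b, .a, .e, .c, .d, .e, .b]) (lf [.d, .b, .a, .b, .d, .b, .d, .c, .d, .b, .d, .b, .a, .b, .d, .b, .d, .c, .d, .b, .e, .a, .e, .a, .b, .a, .b, .c, .b, .c, .a, .b, .c, .a, .b, .c, .b, .c, .b, .d, .c, .d, .b, .a, .d, .c, .e, .a, .e]))) (nd 934 (nd 933 (lf [.a, .e, .c, .d, .a,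 .d, .c, .a, .c, .a, .c, .a, .c, .d, .a, .d, .c, .a, .c, .a, .c, .a, .e, .a, .e, .a, .b, .a, .b, .c, .b, .a, .c, .b, .c, .b, .a, .c, .a, .d, .b, .d, .c, .a, .c, .b, .e]) (lf [.b, .d, .a, .e, .b, .d, .c, .d, .c, .b, .a, .c, .d, .c, .a, .b, .c, .d, .c, .d, .b, .a, .c, .d, .c, .a, .e, .a, .d, .b, .d, .c, .a, .e, .b, .a, .b, .c, .b, .a, .c, .b, .c, .b, .a, .b, .a, .c, .b, .d, .b, .c, .a, .b, .c, .a, .e, .a, .c, .d])) (nd 935 (lf [.a, .e, .a, .b, .a, .b, .a, .c, .a, .b, .c, .a, .b, .c, .a, .c, .d, .a, .c, .b, .d, .a, .c, .a, .b, .e, .a, .b, .e, .d, .b, .c, .b, .a, .b, .c, .b, .d, .a, .c, .a, .c, .a, .d, .b, .c, .b, .a, .b, .c, .b, .d, .a, .c, .a, .c, .a, .e, .b]) (lf [.e, .b, .c, .e, .c, .b, .d, .a, .b, .a, .b, .c, .b, .c, .b, .a, .b, .a, .d, .b, .c, .b, .e, .c, .b, .e, .a, .b, .a, .b, .a, .c, .a, .b, .a, .b, .a, .c,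 .a, .b, .c, .a, .c, .a, .d, .b, .d, .c, .a, .d, .c, .a, .b])))) (nd 940 (nd 938 (nd 937 (lf [.b, .e, .b, .a, .d, .c, .d, .b, .d, .c, .b, .c, .a, .b, .c, .a, .b, .a, .b, .a, .c, .b, .a, .e, .b, .c, .e, .d, .b, .d, .b, .d, .d, .c, .a, .b, .a, .c, .d, .d, .b, .d, .b, .d, .d, .c, .a, .b, .a, .c, .d, .e, .c]) (lf [.b, .e, .b, .a, .c, .a, .b, .c, .a, .b, .a, .c, .d, .b, .c, .b, .c, .b, .c, .e, .b, .c, .e, .d, .c, .a, .b, .a, .c, .d, .b, .d, .c, .a, .b, .a, .c, .d, .b, .e, .c])) (nd 939 (lf [.e, .c, .b, .e, .a, .b, .c, .a, .b, .a, .b, .a, .c, .b, .a, .c, .b, .c, .d, .b, .d, .c, .d, .a, .b, .e, .b, .c, .e, .d, .c, .a, .b, .a, .c, .d, .d, .b, .d, .b, .d, .d, .c, .a, .b, .a, .c, .d, .d, .b, .d, .b, .d]) (lf [.b, .d, .a, .e, .a, .c, .d, .c, .a, .c, .b, .c, .a, .c, .b, .a, .c, .d, .c, .a, .b, .c, .a, .c, .b, .c, .e, .a, .d,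 .b, .d, .c, .a, .e, .b, .c, .b, .c, .a, .c, .d, .b, .a, .b, .c, .a, .c, .a, .b, .a, .c, .b, .e, .a, .c, .d]))) (nd 942 (nd 941 (lf [.e, .b, .a, .e, .c, .a, .b, .a, .c, .a, .c, .a, .d, .a, .b, .a, .c, .b, .a, .c, .b, .c, .a, .b, .e, .a, .b, .e, .b, .a, .b, .d, .b, .a, .b, .a, .d, .b, .c, .b, .a, .b, .c, .b, .d, .a, .b, .a, .b, .d, .b, .a, .b, .d, .b, .c, .b, .a, .b, .c, .b, .d]) (lf [.d, .b, .d, .a, .e, .c, .b, .c, .a, .c, .b, .a, .c, .d, .c, .a, .b, .c, .a, .c, .b, .c, .a, .c, .d, .c, .a, .e, .a, .d, .b, .d, .c, .a, .e, .b, .c, .a, .b, .a, .c, .a, .c, .b, .a, .b, .d, .c, .a, .c, .b, .c, .b, .e, .a, .c])) (nd 943 (lf [.e, .d, .c, .b, .c, .a, .d, .b, .c, .a, .c, .a, .b, .c, .b, .c, .e, .c, .d, .e, .a, .d, .c, .a, .c, .d, .a, .a, .c, .b, .c, .b, .c, .b, .a, .a, .d, .c, .a, .c, .d, .a, .a, .b, .c, .b, .c, .b, .c, .a,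 .e, .d, .c]) (lf [.a, .e, .a, .c, .d, .c, .a, .c, .b, .c, .a, .c, .b, .a, .c, .d, .c, .a, .b, .c, .a, .c, .b, .c, .e, .a, .d, .b, .d, .c, .a, .e, .b, .c, .b, .c, .a, .c, .d, .b, .a, .b, .c, .a, .c, .a, .b, .a, .c, .b, .e, .a, .c, .d, .b, .d]))))) (nd 952 (nd 948 (nd 946 (nd 945 (lf [.a, .e, .b, .a, .c, .b, .c, .a, .b, .c, .a, .b, .a, .d, .a, .c, .a, .c, .a, .b, .a, .c, .e, .a, .b, .e, .d, .b, .c, .b, .a, .b, .c, .b, .d, .b, .a, .b, .d, .b, .a, .b, .a, .d, .b, .c, .b, .a, .b, .c, .b, .d, .a, .b, .a, .b, .d, .b, .a, .b, .e, .b]) (lf [.c, .b, .e, .a, .b, .c, .a, .b, .a, .b, .a, .c, .b, .a, .c, .b, .c, .d, .b, .d, .c, .d, .a, .b, .e, .b, .c, .e, .d, .c, .a, .b, .a, .c, .d, .d, .b, .d, .b, .d, .d, .c, .a, .b, .a, .c, .d, .d, .b, .d, .b, .d, .e])) (nd 947 (lf [.d, .a, .b, .a, .b, .c, .d, .c, .a, .b, .a, .c, .d, .c, .b,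 .a, .b, .a, .d, .b, .c, .d, .c, .a, .b, .a, .c, .d, .e, .c, .b, .e, .a, .c, .b, .c, .a, .b, .c, .b, .c, .a, .d, .b, .a, .d, .b, .c, .e, .b, .c, .e, .c, .b]) (lf [.b, .e, .d, .b, .c, .b, .a, .b, .c, .b, .d, .b, .a, .b, .d, .b, .a, .b, .a, .d, .b, .c, .b, .a, .b, .c, .b, .d, .a, .b, .a, .b, .d, .b, .a, .b, .e, .b, .a, .e, .b, .a, .c, .b, .c, .a, .b, .c, .a, .b, .a, .d, .a, .c, .a, .c, .a, .b, .a, .c, .e, .a]))) (nd 950 (nd 949 (lf [.c, .b, .e, .b, .c, .b, .c, .b, .a, .c, .a, .c, .b, .d, .a, .c, .b, .c, .d, .b, .e, .b, .c, .e, .c, .d, .a, .b, .a, .c, .d, .b, .d, .b, .d, .c, .a, .b, .a, .d, .c, .d, .b, .d, .b, .d, .e]) (lf [.c, .b, .c, .b, .c, .a, .a, .b, .a, .d, .e, .b, .a, .b, .a, .c, .b, .c, .a, .b, .a, .b, .c, .e, .a, .c, .b, .c, .b, .c, .b, .a, .d, .a, .b, .a, .a, .b])) (nd 951 (lf [.c, .d, .e, .a, .c, .b, .c,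 .b, .c, .b, .a, .a, .d, .c, .a, .c, .d, .a, .a, .b, .c, .b, .c, .b, .c, .a, .a, .d, .c, .a, .c, .d, .a, .e, .d, .c, .e, .c, .b, .c, .b, .a, .c, .a, .c, .b, .d, .a, .c, .b, .c, .d, .e]) (lf [.a, .c, .a, .c, .a, .b, .d, .c, .d, .b, .a, .c, .a, .c, .a, .b, .d, .c, .d, .b, .e, .a, .e, .c, .a, .b, .c, .a, .d, .c, .b, .c, .b, .c, .a, .b, .c, .a, .b, .c, .e, .a, .e])))) (nd 956 (nd 954 (nd 953 (lf [.b, .a, .e, .c, .d, .e, .b, .d, .b, .d, .b, .a, .c, .b, .c, .b, .c, .b, .a, .b, .d, .b, .d, .b, .a, .b, .c, .b, .c, .b, .c, .a, .e, .d, .c, .e, .d, .a]) (lf [.d, .c, .a, .e, .c, .b, .d, .a, .d, .c, .b, .d, .b, .a, .b, .c, .b, .c, .b, .a, .c, .b, .a, .b, .e, .a, .c, .d, .b, .d, .a, .e, .a, .c, .d, .c, .a, .b, .d, .b, .a, .c, .a, .a, .c, .d, .c, .a, .a, .c, .a, .b, .d, .b, .e, .a, .d, .b])) (nd 955 (lf [.d, .c, .e, .a, .b, .a,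 .d, .e, .c, .d, .e, .a, .c, .b, .c, .b, .c, .b, .a, .b, .d, .b, .d, .b, .a, .b, .c, .b, .c, .b, .c, .a, .b, .d, .b, .d, .b, .e]) (lf [.e, .b, .a, .e, .a, .b, .a, .b, .a, .c, .a, .b, .c, .a, .b, .c, .a, .c, .d, .a, .c, .b, .d, .a, .c, .a, .b, .e, .a, .b, .e, .d, .b, .c, .b, .a, .b, .c, .b, .d, .a, .c, .a, .c, .a, .d, .b, .c, .b, .a, .b, .c, .b, .d, .a, .c, .a, .c, .a]))) (nd 958 (nd 957 (lf [.b, .a, .d, .e, .c, .d, .e, .a, .c, .b, .c, .b, .c, .b, .a, .b, .d, .b, .d, .b, .a, .b, .c, .b, .c, .b, .c, .a, .b, .d, .b, .d, .b, .e, .d, .c, .e, .a]) (lf [.e, .b, .a, .c, .b, .c, .a, .b, .c, .a, .b, .a, .d, .a, .c, .a, .c, .a, .b, .a, .c, .e, .a, .b, .e, .d, .b, .c, .b, .a, .b, .c, .b, .d, .b, .a, .b, .d, .b, .a, .b, .a, .d, .b, .c, .b, .a, .b, .c, .b, .d, .a, .b, .a, .b, .d, .b, .a, .b, .e, .b, .a])) (nd 959 (lf [.c, .e,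 .c, .b, .e, .b, .a, .b, .c, .a, .c, .a, .b, .d, .b, .c, .a, .d, .a, .b, .e, .b, .c, .e, .c, .b, .d, .a, .b, .a, .b, .c, .c, .d, .a, .b, .a, .c, .c, .b, .a, .b, .a, .d, .b, .c, .c, .a, .b, .a, .d]) (lf [.c, .d, .e, .b, .d, .b, .d, .b, .a, .d, .c, .a, .c, .d, .a, .b, .d, .b, .d, .b, .a, .d, .c, .a, .c, .d, .a, .e, .d, .c, .e, .b, .a, .c, .d, .b, .a, .b, .d, .a, .b, .c, .a, .b, .c, .a, .c, .b, .a, .e])))))))
noncomputable def tc3kw_circT_c15 : ℕ → List Gen := (nd 992 (nd 976 (nd 968 (nd 964 (nd 962 (nd 961 (lf [.d, .b, .d, .a, .e, .a, .c, .d, .c, .a, .c, .b, .c, .a, .c, .b, .a, .c, .d, .c, .a, .b, .c, .a, .c, .b, .c, .e, .a, .d, .b, .d, .c, .a, .e, .b, .c, .b, .c, .a, .c, .d, .b, .a, .b, .c, .a, .c, .a, .b, .a, .c, .b, .e, .a, .c]) (lf [.a, .d, .c, .a, .e, .a, .c, .d, .b, .d, .a, .e, .b, .d, .b, .a, .c, .a, .b, .d,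 .c, .d, .c, .b, .a, .c, .a, .b, .d, .b, .b, .c, .d, .c, .d, .b, .e, .a, .d, .b, .d, .c, .a, .e, .a, .c, .d])) (nd 963 (lf [.e, .b, .c, .d, .a, .d, .c, .d, .b, .d, .a, .b, .c, .a, .b, .c, .a, .b, .c, .b, .a, .e, .a, .b, .e, .a, .c, .a, .c, .a, .d, .c, .b, .c, .b, .c, .d, .a, .c, .a, .c, .a, .d, .c, .b, .c, .b, .c, .d, .e, .b, .a]) (lf [.d, .c, .d, .b, .d, .b, .a, .b, .d, .b, .d, .c, .d, .b, .d, .b, .a, .b, .d, .e, .a, .e, .c, .d, .a, .b, .d, .c, .d, .b, .c, .b, .c, .b, .a, .c, .b, .a, .c, .b, .c, .b, .a, .b, .a, .e, .a, .e, .b]))) (nd 966 (nd 965 (lf [.b, .c, .e, .c, .d, .a, .b, .a, .c, .c, .b, .d, .a, .b, .a, .b, .c, .c, .a, .b, .a, .d, .c, .c, .b, .a, .b, .a, .d, .b, .c, .e, .c, .b, .e, .b, .a, .d, .a, .c, .b, .d, .b, .a, .c, .a, .c, .b, .a, .b, .e]) (lf [.b, .a, .b, .d, .b, .a, .b, .a, .d, .b, .c, .b, .a, .b,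 .c, .b, .d, .a, .b, .a, .b, .d, .b, .a, .b, .d, .b, .c, .b, .a, .b, .c, .b, .d, .e, .b, .a, .e, .c, .a, .b, .a, .c, .a, .c, .a, .d, .a, .b, .a, .c, .b, .a, .c, .b, .c, .a, .b, .e, .a, .b, .e])) (nd 967 (lf [.a, .e, .b, .d, .c, .d, .c, .b, .a, .c, .d, .c, .a, .b, .c, .d, .c, .d, .b, .a, .c, .d, .c, .a, .e, .a, .d, .b, .d, .c, .a, .e, .b, .a, .b, .c, .b, .a, .c, .b, .c, .b, .a, .b, .a, .c, .b, .d, .b, .c, .a, .b, .c, .a, .e, .a, .c, .d, .b, .d]) (lf [.b, .d, .a, .e, .a, .c, .d, .c, .a, .b, .d, .c, .d, .c, .b, .a, .c, .d, .c, .a, .b, .c, .d, .c, .d, .b, .e, .a, .d, .b, .d, .c, .a, .e, .a, .c, .b, .a, .c, .b, .d, .b, .c, .a, .b, .a, .b, .c, .b, .c, .a, .b, .c, .b, .a, .b, .e, .a, .c, .d])))) (nd 972 (nd 970 (nd 969 (lf [.d, .c, .a, .e, .a, .c, .b, .a, .c, .b, .d, .b, .c, .a, .b, .a, .b, .c, .b, .c, .a, .b, .c, .b,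 .a, .b, .e, .a, .c, .d, .b, .d, .a, .e, .a, .c, .d, .c, .a, .b, .d, .c, .d, .c, .b, .a, .c, .d, .c, .a, .b, .c, .d, .c, .d, .b, .e, .a, .d, .b]) (lf [.c, .b, .a, .c, .b, .a, .c, .b, .c, .b, .c, .d, .a, .c, .b, .a, .c, .e, .a, .e, .b, .d, .c, .d, .b, .a, .c, .a, .c, .a, .b, .d, .c, .d, .b, .a, .c, .a, .c, .a, .e, .a, .e])) (nd 971 (lf [.b, .e, .a, .b, .a, .c, .a, .c, .a, .b, .c, .a, .b, .c, .a, .d, .c, .d, .a, .d, .c, .b, .e, .b, .c, .e, .c, .d, .a, .b, .a, .c, .b, .c, .a, .b, .a, .d, .c, .b, .e, .c]) (lf [.e, .a, .b, .a, .c, .a, .c, .a, .b, .c, .a, .b, .c, .a, .d, .c, .d, .a, .d, .c, .b, .e, .b, .c, .e, .c, .d, .a, .b, .a, .c, .b, .c, .a, .b, .a, .d, .c, .b, .e, .c, .b]))) (nd 974 (nd 973 (lf [.c, .d, .a, .d, .c, .d, .b, .a, .b, .d, .c, .d, .a, .d, .c, .d, .b, .a, .b, .d, .e, .a, .e, .a, .c, .b, .c, .b, .c, .a,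 .d, .a, .c, .a, .c, .a, .b, .c, .b, .c, .b, .a, .e, .a, .e]) (lf [.e, .b, .a, .e, .b, .d, .b, .d, .c, .a, .c, .a, .d, .c, .b, .c, .b, .a, .c, .b, .a, .c, .a, .b, .a, .b, .a, .e, .a, .b, .e, .d, .c, .b, .c, .b, .c, .d, .d, .b, .c, .b, .a, .b, .c, .b, .d, .d, .c, .b, .c, .b, .c, .d, .d, .b, .c, .b, .a, .b, .c, .b, .d])) (nd 975 (lf [.b, .a, .e, .a, .b, .a, .b, .a, .c, .a, .b, .c, .a, .b, .c, .a, .c, .d, .a, .c, .b, .d, .a, .c, .a, .b, .e, .a, .b, .e, .d, .b, .c, .b, .a, .b, .c, .b, .d, .a, .c, .a, .c, .a, .d, .b, .c, .b, .a, .b, .c, .b, .d, .a, .c, .a, .c, .a, .e]) (lf [.c, .a, .e, .b, .a, .b, .c, .b, .a, .c, .b, .c, .b, .a, .b, .a, .c, .b, .d, .b, .c, .a, .b, .c, .a, .e, .a, .c, .d, .b, .d, .a, .e, .b, .d, .c, .d, .c, .b, .a, .c, .d, .c, .a, .b, .c, .d, .c, .d, .b, .a, .c, .d, .c, .a, .e, .a, .d, .b, .d]))))) (nd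 984 (nd 980 (nd 978 (nd 977 (lf [.b, .d, .a, .e, .c, .b, .c, .a, .c, .b, .b, .d, .b, .a, .c, .a, .b, .c, .a, .c, .b, .c, .a, .c, .a, .b, .d, .b, .e, .a, .d, .b, .d, .c, .a, .e, .b, .a, .c, .a, .b, .c, .a, .c, .a, .b, .a, .c, .d, .a, .c, .d, .a, .c, .a, .c, .d, .e, .a, .c, .d]) (lf [.a, .e, .d, .c, .a, .c, .a, .d, .c, .a, .d, .c, .a, .b, .a, .c, .a, .c, .b, .a, .c, .a, .b, .e, .a, .c, .d, .b, .d, .a, .e, .b, .d, .b, .a, .c, .a, .c, .b, .c, .a, .c, .b, .a, .c, .a, .b, .d, .b, .b, .c, .a, .c, .b, .c, .e, .a, .d, .b, .d, .c])) (nd 979 (lf [.c, .e, .c, .b, .d, .a, .b, .a, .b, .c, .b, .c, .b, .a, .b, .a, .d, .b, .c, .b, .e, .c, .b, .e, .a, .b, .a, .b, .a, .c, .a, .b, .a, .b, .a, .c, .a, .b, .c, .a, .c, .a, .d, .b, .d, .c, .a, .d, .c, .a, .b, .e, .b]) (lf [.b, .a, .c, .d, .b, .a, .b, .d, .a, .b, .c, .a, .b, .c, .a, .c,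 .b, .a, .e, .c, .d, .e, .b, .d, .b, .d, .b, .a, .d, .c, .a, .c, .d, .a, .b, .d, .b, .d, .b, .a, .d, .c, .a, .c, .d, .a, .e, .d, .c, .e]))) (nd 982 (nd 981 (lf [.d, .c, .b, .c, .a, .d, .b, .c, .a, .c, .a, .b, .c, .b, .c, .e, .c, .d, .e, .a, .d, .c, .a, .c, .d, .a, .a, .c, .b, .c, .b, .c, .b, .a, .a, .d, .c, .a, .c, .d, .a, .a, .b, .c, .b, .c, .b, .c, .a, .e, .d, .c, .e]) (lf [.c, .d, .a, .d, .c, .a, .e, .a, .c, .d, .b, .d, .a, .e, .b, .d, .b, .a, .c, .a, .b, .d, .c, .d, .c, .b, .a, .c, .a, .b, .d, .b, .b, .c, .d, .c, .d, .b, .e, .a, .d, .b, .d, .c, .a, .e, .a])) (nd 983 (lf [.e, .a, .c, .b, .c, .b, .c, .b, .a, .a, .d, .c, .a, .c, .d, .a, .a, .b, .c, .b, .c, .b, .c, .a, .a, .d, .c, .a, .c, .d, .a, .e, .d, .c, .e, .c, .b, .c, .b, .a, .c, .a, .c, .b, .d, .a, .c, .b, .c, .d, .e, .c, .d]) (lf [.b, .e, .b, .a, .d, .a,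 .d, .b, .c, .d, .b, .a, .c, .b, .a, .b, .a, .c, .b, .c, .a, .e, .b, .c, .e, .d, .b, .d, .b, .d, .c, .b, .d, .a, .b, .a, .b, .c, .d, .b, .d, .b, .d, .c, .b, .a, .b, .a, .d, .b, .c, .e, .c])))) (nd 988 (nd 986 (nd 985 (lf [.a, .d, .b, .a, .d, .c, .d, .a, .b, .d, .c, .b, .c, .a, .c, .b, .c, .a, .c, .b, .c]) (lf [.e, .c, .b, .d, .a, .b, .a, .b, .c, .b, .c, .b, .a, .b, .a, .d, .b, .c, .b, .e, .c, .b, .e, .a, .b, .a, .b, .a, .c, .a, .b, .a, .b, .a, .c, .a, .b, .c, .a, .c, .a, .d, .b, .d, .c, .a, .d, .c, .a, .b, .e, .b, .c])) (nd 987 (lf [.b, .c, .b, .a, .b, .c, .b, .d, .a, .c, .a, .c, .a, .d, .b, .c, .b, .a, .b, .c, .b, .d, .a, .c, .a, .c, .a, .e, .b, .a, .e, .a, .b, .a, .b, .a, .c, .a, .b, .c, .a, .b, .c, .a, .c, .d, .a, .c, .b, .d, .a, .c, .a, .b, .e, .a, .b, .e, .d]) (lf [.a, .d, .c, .a, .e, .a, .c, .d, .b, .d, .a,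 .e, .b, .d, .c, .d, .c, .b, .b, .d, .b, .a, .c, .a, .b, .c, .d, .c, .d, .b, .a, .c, .a, .b, .d, .b, .e, .a, .d, .b, .d, .c, .a, .e, .a, .c, .d]))) (nd 990 (nd 989 (lf [.e, .c, .b, .e, .b, .c, .d, .a, .d, .c, .d, .a, .c, .b, .a, .c, .b, .a, .c, .a, .c, .a, .b, .a, .e, .b, .c, .e, .b, .c, .d, .a, .b, .a, .c, .b, .c, .a, .b, .a, .d, .c]) (lf [.b, .d, .a, .e, .b, .d, .b, .a, .c, .a, .a, .c, .d, .c, .a, .a, .c, .a, .b, .d, .b, .a, .c, .d, .c, .a, .e, .a, .d, .b, .d, .c, .a, .e, .b, .a, .b, .c, .a, .b, .c, .b, .c, .b, .a, .b, .d, .b, .c, .d, .a, .d, .b, .c, .e, .a, .c, .d])) (nd 991 (lf [.a, .b, .e, .d, .b, .c, .b, .a, .b, .c, .b, .d, .d, .c, .b, .c, .b, .c, .d, .d, .b, .c, .b, .a, .b, .c, .b, .d, .d, .c, .b, .c, .b, .c, .d, .e, .b, .a, .e, .a, .b, .a, .b, .a, .c, .a, .b, .c, .a, .b, .c, .b, .c, .d, .a, .c, .a, .c, .d,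 .b, .d, .b, .e]) (lf [.d, .b, .d, .a, .e, .a, .c, .d, .c, .a, .b, .d, .b, .a, .c, .a, .a, .c, .d, .c, .a, .a, .c, .a, .b, .d, .b, .e, .a, .d, .b, .d, .c, .a, .e, .c, .b, .d, .a, .d, .c, .b, .d, .b, .a, .b, .c, .b, .c, .b, .a, .c, .b, .a, .b, .e, .a, .c])))))) (nd 1008 (nd 1000 (nd 996 (nd 994 (nd 993 (lf [.c, .a, .e, .a, .c, .d, .b, .d, .a, .e, .b, .d, .b, .a, .c, .a, .b, .d, .c, .d, .c, .b, .a, .c, .a, .b, .d, .b, .b, .c, .d, .c, .d, .b, .e, .a, .d, .b, .d, .c, .a, .e, .a, .c, .d, .a, .d]) (lf [.a, .e, .c, .b, .c, .a, .c, .b, .a, .c, .d, .c, .a, .b, .c, .a, .c, .b, .c, .a, .c, .d, .c, .a, .e, .a, .d, .b, .d, .c, .a, .e, .b, .c, .a, .b, .a, .c, .a, .c, .b, .a, .b, .d, .c, .a, .c, .b, .c, .b, .e, .a, .c, .d, .b, .d])) (nd 995 (lf [.d, .b, .d, .c, .a, .e, .b, .c, .b, .c, .a, .c, .d, .b, .a, .b, .c, .a, .c, .a, .b,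 .a, .c, .b, .e, .a, .c, .d, .b, .d, .a, .e, .a, .c, .d, .c, .a, .c, .b, .c, .a, .c, .b, .a, .c, .d, .c, .a, .b, .c, .a, .c, .b, .c, .e, .a]) (lf [.e, .d, .c, .b, .c, .b, .c, .d, .a, .c, .a, .c, .a, .d, .c, .b, .c, .b, .c, .d, .a, .c, .a, .c, .a, .e, .b, .a, .e, .a, .b, .c, .b, .a, .c, .b, .a, .c, .b, .a, .d, .b, .d, .c, .d, .a, .d, .c, .b, .e, .a, .b]))) (nd 998 (nd 997 (lf [.c, .d, .e, .a, .c, .b, .c, .b, .c, .b, .a, .b, .d, .b, .d, .b, .a, .b, .c, .b, .c, .b, .c, .a, .b, .d, .b, .d, .b, .e, .d, .c, .e, .a, .b, .a, .d, .e]) (lf [.b, .a, .e, .a, .b, .a, .b, .a, .c, .a, .b, .c, .a, .b, .c, .b, .c, .d, .a, .c, .a, .c, .d, .b, .d, .b, .e, .a, .b, .e, .d, .b, .c, .b, .a, .b, .c, .b, .d, .d, .c, .b, .c, .b, .c, .d, .d, .b, .c, .b, .a, .b, .c, .b, .d, .d, .c, .b, .c, .b, .c, .d, .e])) (nd 999 (lf [.e, .c, .d, .e, .b,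 .d, .b, .d, .b, .a, .d, .c, .a, .c, .d, .a, .b, .d, .b, .d, .b, .a, .d, .c, .a, .c, .d, .a, .e, .d, .c, .e, .b, .a, .c, .d, .b, .a, .b, .d, .a, .b, .c, .a, .b, .c, .a, .c, .b, .a]) (lf [.e, .c, .b, .e, .b, .a, .d, .c, .d, .b, .d, .c, .b, .c, .a, .b, .c, .a, .b, .a, .b, .a, .c, .b, .a, .e, .b, .c, .e, .d, .b, .d, .b, .d, .d, .c, .a, .b, .a, .c, .d, .d, .b, .d, .b, .d, .d, .c, .a, .b, .a, .c, .d])))) (nd 1004 (nd 1002 (nd 1001 (lf [.d, .b, .d, .c, .a, .e, .c, .b, .d, .c, .a, .d, .a, .d, .a, .b, .c, .a, .b, .c, .a, .b, .c, .a, .b, .a, .c, .a, .b, .e, .a, .c, .d, .b, .d, .a, .e, .b, .d, .c, .d, .c, .b, .c, .b, .c, .a, .c, .b, .b, .c, .d, .c, .d, .b, .b, .c, .a, .c, .b, .c, .e, .a]) (lf [.d, .b, .d, .a, .e, .b, .d, .b, .a, .c, .a, .b, .d, .c, .d, .c, .b, .a, .c, .a, .b, .d, .b, .b, .c, .d, .c, .d, .b, .e, .a, .d, .b,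 .d, .c, .a, .e, .a, .c, .d, .a, .d, .c, .a, .e, .a, .c])) (nd 1003 (lf [.d, .a, .e, .c, .b, .c, .a, .c, .b, .b, .d, .b, .a, .c, .a, .b, .c, .a, .c, .b, .c, .a, .c, .a, .b, .d, .b, .e, .a, .d, .b, .d, .c, .a, .e, .b, .a, .c, .a, .b, .c, .a, .c, .a, .b, .a, .c, .d, .a, .c, .d, .a, .c, .a, .c, .d, .e, .a, .c, .d, .b]) (lf [.b, .d, .c, .a, .e, .c, .b, .d, .a, .d, .c, .b, .d, .b, .a, .b, .c, .b, .c, .b, .a, .c, .b, .a, .b, .e, .a, .c, .d, .b, .d, .a, .e, .a, .c, .d, .c, .a, .b, .d, .b, .a, .c, .a, .a, .c, .d, .c, .a, .a, .c, .a, .b, .d, .b, .e, .a, .d]))) (nd 1006 (nd 1005 (lf [.b, .d, .c, .a, .e, .a, .c, .d, .a, .d, .c, .a, .e, .a, .c, .d, .b, .d, .a, .e, .b, .d, .b, .a, .c, .a, .b, .d, .c, .d, .c, .b, .a, .c, .a, .b, .d, .b, .b, .c, .d, .c, .d, .b, .e, .a, .d]) (lf [.d, .a, .d, .c, .a, .e, .a, .c, .d, .b, .d, .a,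 .e, .b, .d, .b, .a, .c, .a, .b, .d, .c, .d, .c, .b, .a, .c, .a, .b, .d, .b, .b, .c, .d, .c, .d, .b, .e, .a, .d, .b, .d, .c, .a, .e, .a, .c])) (nd 1007 (lf [.b, .c, .b, .a, .d, .a, .b, .a, .a, .b, .c, .b, .c, .b, .c, .a, .a, .b, .a, .d, .e, .b, .a, .b, .a, .c, .b, .c, .a, .b, .a, .b, .c, .e, .a, .c, .b, .c]) (lf [.d, .b, .e, .a, .c, .b, .c, .b, .c, .b, .a, .c, .b, .d, .b, .d, .b, .c, .a, .b, .c, .b, .c, .b, .c, .a, .c, .b, .d, .b, .d, .b, .c, .e, .c, .b, .c, .b, .c, .a, .b, .a, .d, .c]))))) (nd 1016 (nd 1012 (nd 1010 (nd 1009 (lf [.a, .b, .c, .b, .e, .d, .e, .d, .b, .e, .a, .e, .b, .a, .b, .a, .c, .d, .a, .c, .b, .c, .b, .a, .b, .c, .a, .b, .c, .a, .b, .e, .a, .e, .b, .d, .e, .d, .e, .a, .b, .c, .b]) (lf [.a, .d, .c, .b, .e, .c, .b, .e, .a, .b, .a, .c, .a, .c, .a, .b, .c, .a, .b, .c, .a, .d, .c, .d, .a, .d, .c,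 .b, .e, .b, .c, .e, .c, .d, .a, .b, .a, .c, .b, .c, .a, .b])) (nd 1011 (lf [.d, .b, .d, .a, .e, .b, .d, .b, .a, .c, .a, .a, .c, .d, .c, .a, .a, .c, .a, .b, .d, .b, .a, .c, .d, .c, .a, .e, .a, .d, .b, .d, .c, .a, .e, .b, .a, .b, .c, .a, .b, .c, .b, .c, .b, .a, .b, .d, .b, .c, .d, .a, .d, .b, .c, .e, .a, .c]) (lf [.c, .a, .e, .d, .c, .a, .c, .a, .d, .c, .a, .d, .c, .a, .b, .a, .c, .a, .c, .b, .a, .c, .a, .b, .e, .a, .c, .d, .b, .d, .a, .e, .b, .d, .b, .a, .c, .a, .c, .b, .c, .a, .c, .b, .a, .c, .a, .b, .d, .b, .b, .c, .a, .c, .b, .c, .e, .a, .d, .b, .d]))) (nd 1014 (nd 1013 (lf [.d, .b, .d, .c, .a, .e, .b, .a, .b, .c, .a, .b, .c, .b, .c, .b, .a, .b, .d, .b, .c, .d, .a, .d, .b, .c, .e, .a, .c, .d, .b, .d, .a, .e, .b, .d, .b, .a, .c, .a, .a, .c, .d, .c, .a, .a, .c, .a, .b, .d, .b, .a, .c, .d, .c, .a, .e, .a]) (lf [.b,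 .d, .a, .e, .c, .b, .c, .a, .c, .b, .b, .d, .c, .d, .c, .b, .b, .c, .a, .c, .b, .c, .b, .c, .d, .c, .d, .b, .e, .a, .d, .b, .d, .c, .a, .e, .b, .a, .c, .a, .b, .a, .c, .b, .a, .c, .b, .a, .c, .b, .a, .d, .a, .d, .a, .c, .d, .b, .c, .e, .a, .c, .d])) (nd 1015 (lf [.b, .c, .b, .a, .d, .b, .d, .b, .d, .c, .e, .a, .c, .b, .c, .b, .c, .b, .a, .c, .d, .a, .b, .a, .c, .a, .b, .c, .b, .c, .b, .c, .a, .c, .a, .b, .a, .d, .c, .e, .b, .a, .b, .a, .c]) (lf [.e, .b, .c, .d, .a, .d, .c, .d, .a, .c, .b, .a, .c, .b, .a, .c, .a, .c, .a, .b, .a, .e, .b, .c, .e, .b, .c, .d, .a, .b, .a, .c, .b, .c, .a, .b, .a, .d, .c, .e, .c, .b])))) (nd 1020 (nd 1018 (nd 1017 (lf [.a, .b, .a, .b, .c, .e, .a, .c, .b, .c, .b, .c, .b, .a, .d, .a, .b, .a, .a, .b, .c, .b, .c, .b, .c, .a, .a, .b, .a, .d, .e, .b, .a, .b, .a, .c, .b, .c]) (lf [.e, .b, .c,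 .e, .b, .c, .b, .d, .a, .b, .a, .b, .c, .b, .c, .b, .a, .b, .a, .d, .b, .c, .e, .c, .b, .e, .b, .a, .c, .d, .a, .c, .d, .b, .d, .a, .c, .a, .c, .b, .a, .c, .a, .b, .a, .b, .a, .c, .a, .b, .a, .b, .a])) (nd 1019 (lf [.d, .b, .d, .c, .a, .e, .b, .a, .c, .a, .b, .c, .a, .c, .a, .b, .a, .c, .d, .a, .c, .d, .a, .c, .a, .c, .d, .e, .a, .c, .d, .b, .d, .a, .e, .c, .b, .c, .a, .c, .b, .b, .d, .b, .a, .c, .a, .b, .c, .a, .c, .b, .c, .a, .c, .a, .b, .d, .b, .e, .a]) (lf [.b, .d, .a, .e, .a, .c, .d, .c, .a, .b, .d, .b, .a, .c, .a, .a, .c, .d, .c, .a, .a, .c, .a, .b, .d, .b, .e, .a, .d, .b, .d, .c, .a, .e, .c, .b, .d, .a, .d, .c, .b, .d, .b, .a, .b, .c, .b, .c, .b, .a, .c, .b, .a, .b, .e, .a, .c, .d]))) (nd 1022 (nd 1021 (lf [.a, .d, .b, .d, .b, .d, .c, .e, .a, .c, .b, .c, .b, .c, .b, .a, .c, .d, .a, .b, .a, .c, .a, .b, .c,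 .b, .c, .b, .c, .a, .c, .a, .b, .a, .d, .c, .e, .b, .a, .b, .a, .c, .b, .c, .b]) (lf [.c, .a, .a, .c, .b, .c, .b, .c, .b, .a, .a, .c, .b, .d, .b, .d, .b, .c, .a, .a, .b, .c, .b, .c, .b, .c, .a, .e, .a, .b, .a, .b, .c, .a, .b, .a, .c, .b, .c, .b, .d, .a, .d, .b, .c, .a, .b, .e, .a, .c, .b, .d, .b, .d, .b])) (nd 1023 (lf [.e, .a, .c, .d, .b, .d, .a, .e, .a, .c, .d, .c, .a, .b, .d, .b, .a, .c, .a, .a, .c, .d, .c, .a, .a, .c, .a, .b, .d, .b, .e, .a, .d, .b, .d, .c, .a, .e, .c, .b, .d, .a, .d, .c, .b, .d, .b, .a, .b, .c, .b, .c, .b, .a, .c, .b, .a, .b]) (lf [.c, .e, .c, .b, .e, .b, .a, .d, .a, .c, .b, .d, .b, .a, .c, .a, .c, .b, .a, .b, .e, .b, .c, .e, .c, .d, .a, .b, .a, .c, .c, .b, .d, .a, .b, .a, .b, .c, .c, .a, .b, .a, .d, .c, .c, .b, .a, .b, .a, .d, .b])))))))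
noncomputable def tc3kw_circT_c16 : ℕ → List Gen := (nd 1056 (nd 1040 (nd 1032 (nd 1028 (nd 1026 (nd 1025 (lf [.d, .c, .e, .c, .b, .e, .b, .a, .b, .c, .a, .c, .a, .b, .d, .b, .c, .a, .d, .a, .b, .e, .b, .c, .e, .c, .b, .d, .a, .b, .a, .b, .c, .c, .d, .a, .b, .a, .c, .c, .b, .a, .b, .a, .d, .b, .c, .c, .a, .b, .a]) (lf [.a, .e, .c, .d, .b, .d, .b, .d, .a, .c, .b, .a, .b, .c, .a, .b, .c, .a, .b, .a, .e, .a, .b, .e, .a, .c, .a, .c, .a, .b, .a, .b, .d, .b, .a, .b, .a, .a, .c, .a, .c, .a, .a, .b, .a, .b, .d, .b, .a, .b, .e, .b])) (nd 1027 (lf [.e, .a, .b, .e, .d, .b, .c, .b, .a, .b, .c, .b, .d, .a, .c, .a, .c, .a, .d, .b, .c, .b, .a, .b, .c, .b, .d, .a, .c, .a, .c, .a, .e, .b, .a, .e, .a, .b, .a, .b, .a, .c, .a, .b, .c, .a, .b, .c, .a, .c, .d, .a, .c, .b, .d, .a, .c, .a, .b]) (lf [.c, .a, .e, .c, .b, .d, .a, .d, .c,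 .b, .d, .b, .a, .b, .c, .b, .c, .b, .a, .c, .b, .a, .b, .e, .a, .c, .d, .b, .d, .a, .e, .a, .c, .d, .c, .a, .b, .d, .b, .a, .c, .a, .a, .c, .d, .c, .a, .a, .c, .a, .b, .d, .b, .e, .a, .d, .b, .d]))) (nd 1030 (nd 1029 (lf [.b, .d, .b, .c, .a, .e, .b, .a, .c, .b, .d, .a, .d, .b, .c, .b, .c, .a, .b, .a, .c, .b, .a, .b, .a, .e, .a, .c, .b, .c, .b, .c, .b, .a, .a, .c, .b, .d, .b, .d, .b, .c, .a, .a, .b, .c, .b, .c, .b, .c, .a, .a, .c, .b, .d]) (lf [.c, .b, .a, .d, .a, .b, .a, .a, .b, .c, .b, .c, .b, .c, .a, .a, .b, .a, .d, .e, .b, .a, .b, .a, .c, .b, .c, .a, .b, .a, .b, .c, .e, .a, .c, .b, .c, .b])) (nd 1031 (lf [.a, .d, .c, .d, .b, .e, .a, .c, .b, .c, .b, .c, .b, .a, .c, .b, .d, .b, .d, .b, .c, .a, .b, .c, .b, .c, .b, .c, .a, .c, .b, .d, .b, .d, .b, .c, .e, .c, .b, .c, .b, .c, .a, .b]) (lf [.d, .b, .c, .a, .a, .b,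 .a, .d, .a, .c, .b, .d, .b, .d, .b, .c, .a, .e, .a, .d, .b, .a, .b, .c, .a, .d, .c, .b, .c, .b, .a, .c, .b, .a, .c, .a, .c, .a, .b, .a, .e, .d, .a, .b, .a, .a, .c, .b, .d, .b])))) (nd 1036 (nd 1034 (nd 1033 (lf [.d, .c, .d, .b, .e, .a, .c, .b, .c, .b, .c, .b, .a, .c, .b, .d, .b, .d, .b, .c, .a, .b, .c, .b, .c, .b, .c, .a, .c, .b, .d, .b, .d, .b, .c, .e, .c, .b, .c, .b, .c, .a, .b, .a]) (lf [.c, .b, .c, .a, .e, .c, .b, .a, .b, .a, .c, .b, .c, .a, .b, .a, .b, .e, .d, .a, .b, .a, .a, .c, .b, .c, .b, .c, .b, .a, .a, .b, .a, .d, .a, .b, .c, .b])) (nd 1035 (lf [.c, .b, .a, .d, .b, .d, .b, .d, .c, .e, .a, .c, .b, .c, .b, .c, .b, .a, .c, .d, .a, .b, .a, .c, .a, .b, .c, .b, .c, .b, .c, .a, .c, .a, .b, .a, .d, .c, .e, .b, .a, .b, .a, .c, .b]) (lf [.b, .d, .c, .a, .b, .a, .c, .d, .e, .c, .b, .e, .c, .b, .c, .b, .c, .b, .d,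 .c, .a, .b, .a, .c, .b, .a, .c, .a, .b, .e, .b, .c, .e, .b, .d, .c, .a, .b, .a, .c, .d]))) (nd 1038 (nd 1037 (lf [.b, .a, .b, .e, .d, .a, .b, .a, .a, .c, .b, .c, .b, .c, .b, .a, .a, .b, .a, .d, .a, .b, .c, .b, .c, .b, .c, .a, .e, .c, .b, .a, .b, .a, .c, .b, .c, .a]) (lf [.a, .c, .d, .b, .d, .a, .e, .a, .c, .d, .c, .a, .b, .d, .c, .d, .c, .b, .a, .c, .d, .c, .a, .b, .c, .d, .c, .d, .b, .e, .a, .d, .b, .d, .c, .a, .e, .a, .c, .b, .a, .c, .b, .d, .b, .c, .a, .b, .a, .b, .c, .b, .c, .a, .b, .c, .b, .a, .b, .e])) (nd 1039 (lf [.b, .d, .b, .c, .a, .d, .a, .b, .a, .a, .c, .b, .d, .b, .d, .b, .c, .a, .a, .b, .a, .d, .e, .a, .b, .a, .c, .a, .c, .a, .b, .c, .a, .b, .c, .b, .c, .d, .a, .c, .b, .a, .b, .d, .a, .e, .a, .c, .b, .d]) (lf [.c, .b, .c, .a, .b, .a, .b, .c, .e, .a, .c, .b, .c, .b, .c, .b, .a, .d, .a, .b, .a, .a,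 .b, .c, .b, .c, .b, .c, .a, .a, .b, .a, .d, .e, .b, .a, .b, .a]))))) (nd 1048 (nd 1044 (nd 1042 (nd 1041 (lf [.c, .b, .c, .e, .c, .b, .d, .b, .d, .b, .c, .a, .c, .b, .c, .b, .c, .b, .a, .c, .b, .d, .b, .d, .b, .c, .a, .b, .c, .b, .c, .b, .c, .a, .e, .b, .d, .c, .d, .a, .b, .a, .c, .b]) (lf [.d, .b, .c, .a, .e, .a, .d, .b, .a, .b, .c, .a, .d, .c, .b, .c, .b, .a, .c, .b, .a, .c, .a, .c, .a, .b, .a, .e, .d, .a, .b, .a, .a, .c, .b, .d, .b, .d, .b, .c, .a, .a, .b, .a, .d, .a, .c, .b, .d, .b])) (nd 1043 (lf [.c, .b, .c, .b, .a, .a, .b, .a, .d, .a, .b, .c, .b, .c, .b, .c, .a, .e, .c, .b, .a, .b, .a, .c, .b, .c, .a, .b, .a, .b, .e, .d, .a, .b, .a, .a, .c, .b]) (lf [.d, .b, .d, .c, .e, .a, .c, .b, .c, .b, .c, .b, .a, .c, .d, .a, .b, .a, .c, .a, .b, .c, .b, .c, .b, .c, .a, .c, .a, .b, .a, .d, .c, .e, .b, .a, .b, .a, .c,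 .b, .c, .b, .a, .d, .b]))) (nd 1046 (nd 1045 (lf [.b, .c, .e, .b, .d, .c, .d, .c, .b, .a, .c, .a, .b, .a, .c, .a, .c, .b, .e, .c, .d, .a, .b, .a, .c, .c, .b, .d, .b, .d, .b, .c, .c, .a, .b, .a, .d, .c, .c, .b, .d, .b, .d]) (lf [.d, .b, .d, .b, .c, .a, .b, .a, .d, .c, .b, .d, .b, .d, .b, .c, .e, .b, .c, .b, .a, .d, .b, .d, .c, .a, .b, .c, .b, .a, .c, .b, .a, .c, .a, .e, .d, .a, .b, .a, .c, .b])) (nd 1047 (lf [.b, .c, .a, .c, .a, .b, .a, .d, .c, .a, .c, .b, .d, .b, .d, .b, .c, .a, .e, .b, .a, .b, .a, .c, .d, .c, .b, .d, .a, .b, .c, .b, .c, .b, .a, .b, .c, .a, .b, .c, .b, .e, .c, .d, .a, .b, .a, .c, .a, .c, .b, .d, .b, .d]) (lf [.a, .b, .a, .c, .c, .b, .d, .b, .d, .b, .c, .c, .a, .b, .a, .d, .c, .c, .b, .d, .b, .d, .b, .c, .e, .b, .d, .c, .d, .c, .b, .a, .c, .a, .b, .a, .c, .a, .c, .b, .e, .c, .d])))) (nd 1052 (nd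 1050 (nd 1049 (lf [.d, .c, .e, .b, .c, .a, .c, .a, .b, .a, .c, .a, .b, .c, .d, .c, .d, .b, .e, .c, .b, .d, .b, .d, .b, .c, .c, .d, .a, .b, .a, .c, .c, .b, .d, .b, .d, .b, .c, .c, .a, .b, .a]) (lf [.b, .c, .e, .c, .b, .d, .b, .d, .b, .c, .a, .c, .b, .c, .b, .c, .b, .a, .c, .b, .d, .b, .d, .b, .c, .a, .b, .c, .b, .c, .b, .c, .a, .e, .b, .d, .c, .d, .a, .b, .a, .c, .b, .c])) (nd 1051 (lf [.a, .b, .a, .c, .a, .b, .d, .a, .c, .a, .d, .a, .c, .a, .d, .a, .c]) (lf [.c, .b, .c, .a, .b, .a, .c, .b, .a, .b, .a, .e, .a, .c, .b, .c, .b, .c, .b, .a, .a, .c, .b, .d, .b, .d, .b, .c, .a, .a, .b, .c, .b, .c, .b, .c, .a, .a, .c, .b, .d, .b, .d, .b, .c, .a, .e, .b, .a, .c, .b, .d, .a, .d, .b]))) (nd 1054 (nd 1053 (lf [.c, .a, .b, .a, .b, .e, .c, .d, .a, .b, .a, .c, .a, .c, .b, .c, .b, .c, .b, .a, .c, .a, .b, .a, .d, .c, .a, .b, .c,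 .b, .c, .b, .c, .a, .e, .c, .d, .b, .d, .b, .d, .a, .b, .c, .b]) (lf [.a, .c, .d, .b, .d, .a, .e, .c, .b, .c, .a, .c, .b, .a, .c, .d, .c, .a, .b, .c, .a, .c, .b, .c, .a, .c, .d, .c, .a, .e, .a, .d, .b, .d, .c, .a, .e, .b, .c, .a, .b, .a, .c, .a, .c, .b, .a, .b, .d, .c, .a, .c, .b, .c, .b, .e])) (nd 1055 (lf [.c, .e, .a, .c, .b, .c, .b, .c, .b, .a, .d, .a, .b, .a, .a, .b, .c, .b, .c, .b, .c, .a, .a, .b, .a, .d, .e, .b, .a, .b, .a, .c, .b, .c, .a, .b, .a, .b]) (lf [.c, .b, .a, .b, .a, .d, .b, .c, .e, .c, .b, .e, .b, .a, .c, .d, .a, .c, .d, .b, .d, .a, .c, .a, .c, .b, .a, .c, .a, .b, .a, .b, .a, .c, .a, .b, .a, .b, .a, .e, .b, .c, .e, .b, .c, .b, .d, .a, .b, .a, .b, .c, .b])))))) (nd 1072 (nd 1064 (nd 1060 (nd 1058 (nd 1057 (lf [.d, .a, .b, .c, .b, .c, .b, .c, .a, .e, .c, .b, .a, .b, .a, .c, .b, .c, .a, .b, .a, .b,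 .e, .d, .a, .b, .a, .a, .c, .b, .c, .b, .c, .b, .a, .a, .b, .a]) (lf [.d, .b, .d, .c, .a, .e, .c, .b, .d, .a, .d, .c, .b, .d, .b, .a, .b, .c, .b, .c, .b, .a, .c, .b, .a, .b, .e, .a, .c, .d, .b, .d, .a, .e, .a, .c, .d, .c, .a, .b, .d, .b, .a, .c, .a, .a, .c, .d, .c, .a, .a, .c, .a, .b, .d, .b, .e, .a])) (nd 1059 (lf [.c, .b, .e, .c, .b, .e, .a, .b, .a, .c, .a, .c, .a, .b, .c, .a, .b, .c, .a, .d, .c, .d, .a, .d, .c, .b, .e, .b, .c, .e, .c, .d, .a, .b, .a, .c, .b, .c, .a, .b, .a, .d]) (lf [.a, .b, .a, .c, .b, .c, .b, .d, .a, .d, .b, .c, .a, .b, .e, .a, .c, .b, .d, .b, .d, .b, .c, .a, .a, .c, .b, .c, .b, .c, .b, .a, .a, .c, .b, .d, .b, .d, .b, .c, .a, .a, .b, .c, .b, .c, .b, .c, .a, .e, .a, .b, .a, .b, .c]))) (nd 1062 (nd 1061 (lf [.b, .a, .c, .b, .a, .d, .b, .a, .b, .d, .c, .a, .b, .e, .c, .d, .e, .a, .d, .c, .a,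 .c, .d, .a, .b, .d, .b, .d, .b, .a, .d, .c, .a, .c, .d, .a, .b, .d, .b, .d, .b, .e, .d, .c, .e, .a, .b, .c, .a, .c]) (lf [.e, .a, .c, .b, .a, .c, .b, .d, .b, .c, .a, .b, .a, .b, .c, .b, .c, .a, .b, .c, .b, .a, .b, .e, .a, .c, .d, .b, .d, .a, .e, .a, .c, .d, .c, .a, .b, .d, .c, .d, .c, .b, .a, .c, .d, .c, .a, .b, .c, .d, .c, .d, .b, .e, .a, .d, .b, .d, .c, .a])) (nd 1063 (lf [.b, .a, .c, .a, .c, .b, .e, .c, .d, .a, .b, .a, .c, .c, .b, .d, .b, .d, .b, .c, .c, .a, .b, .a, .d, .c, .c, .b, .d, .b, .d, .b, .c, .e, .b, .d, .c, .d, .c, .b, .a, .c, .a]) (lf [.a, .c, .b, .a, .e, .c, .d, .e, .b, .d, .b, .d, .b, .a, .d, .c, .a, .c, .d, .a, .b, .d, .b, .d, .b, .a, .d, .c, .a, .c, .d, .a, .e, .d, .c, .e, .b, .a, .c, .d, .b, .a, .b, .d, .a, .b, .c, .a, .b, .c])))) (nd 1068 (nd 1066 (nd 1065 (lf [.e, .b, .c, .e, .d, .c, .a, .b,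 .a, .c, .d, .d, .b, .d, .b, .d, .d, .c, .a, .b, .a, .c, .d, .d, .b, .d, .b, .d, .e, .c, .b, .e, .a, .b, .c, .a, .b, .a, .b, .a, .c, .b, .a, .c, .b, .c, .d, .b, .d, .c, .d, .a, .b]) (lf [.a, .b, .c, .a, .c, .b, .a, .e, .c, .d, .e, .b, .d, .b, .d, .b, .a, .d, .c, .a, .c, .d, .a, .b, .d, .b, .d, .b, .a, .d, .c, .a, .c, .d, .a, .e, .d, .c, .e, .b, .a, .c, .d, .b, .a, .b, .d, .a, .b, .c])) (nd 1067 (lf [.c, .a, .b, .a, .d, .c, .b, .e, .c, .b, .e, .a, .b, .a, .c, .a, .c, .a, .b, .c, .a, .b, .c, .a, .d, .c, .d, .a, .d, .c, .b, .e, .b, .c, .e, .c, .d, .a, .b, .a, .c, .b]) (lf [.c, .e, .a, .c, .b, .c, .b, .c, .b, .a, .c, .d, .a, .b, .a, .c, .a, .b, .c, .b, .c, .b, .c, .a, .c, .a, .b, .a, .d, .c, .e, .b, .a, .b, .a, .c, .b, .c, .b, .a, .d, .b, .d, .b, .d]))) (nd 1070 (nd 1069 (lf [.c, .a, .b, .c, .b, .c, .b, .c, .a, .c,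 .a, .b, .a, .d, .c, .e, .b, .a, .b, .a, .c, .b, .c, .b, .a, .d, .b, .d, .b, .d, .c, .e, .a, .c, .b, .c, .b, .c, .b, .a, .c, .d, .a, .b, .a]) (lf [.c, .e, .c, .b, .c, .b, .c, .a, .b, .a, .d, .c, .d, .b, .e, .a, .c, .b, .c, .b, .c, .b, .a, .c, .b, .d, .b, .d, .b, .c, .a, .b, .c, .b, .c, .b, .c, .a, .c, .b, .d, .b, .d, .b])) (nd 1071 (lf [.a, .b, .d, .b, .d, .b, .d, .a, .c, .a, .d, .b, .d, .a, .c]) (lf [.b, .c, .a, .d, .b, .a, .d, .b, .c, .e, .b, .c, .e, .c, .b, .d, .a, .b, .a, .b, .c, .d, .c, .a, .b, .a, .c, .d, .c, .b, .a, .b, .a, .d, .b, .c, .d, .c, .a, .b, .a, .c, .d, .e, .c, .b, .e, .a, .c, .b, .c, .a, .b, .c]))))) (nd 1080 (nd 1076 (nd 1074 (nd 1073 (lf [.a, .c, .a, .b, .a, .c, .a, .c, .b, .e, .c, .d, .a, .b, .a, .c, .c, .b, .d, .b, .d, .b, .c, .c, .a, .b, .a, .d, .c, .c, .b, .d, .b, .d, .b, .c, .e, .b, .d,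 .c, .d, .c, .b]) (lf [.b, .d, .b, .a, .b, .e, .b, .a, .e, .c, .d, .b, .d, .b, .d, .a, .c, .b, .a, .b, .c, .a, .b, .c, .a, .b, .a, .e, .a, .b, .e, .a, .c, .a, .c, .a, .b, .a, .b, .d, .b, .a, .b, .a, .a, .c, .a, .c, .a, .a, .b, .a])) (nd 1075 (lf [.b, .a, .c, .b, .a, .c, .a, .e, .d, .a, .b, .a, .c, .b, .d, .b, .d, .b, .c, .a, .b, .a, .d, .c, .b, .d, .b, .d, .b, .c, .e, .b, .c, .b, .a, .d, .b, .d, .c, .a, .b, .c]) (lf [.b, .c, .d, .a, .b, .a, .c, .b, .c, .a, .b, .a, .d, .c, .e, .c, .b, .e, .b, .c, .d, .a, .d, .c, .d, .a, .c, .b, .a, .c, .b, .a, .c, .a, .c, .a, .b, .a, .e, .b, .c, .e]))) (nd 1078 (nd 1077 (lf [.b, .c, .e, .c, .b, .e, .b, .a, .d, .a, .c, .b, .d, .b, .a, .c, .a, .c, .b, .a, .b, .e, .b, .c, .e, .c, .d, .a, .b, .a, .c, .c, .b, .d, .a, .b, .a, .b, .c, .c, .a, .b, .a, .d, .c, .c, .b, .a, .b, .a, .d]) (lf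 [.d, .b, .d, .b, .c, .e, .b, .c, .b, .a, .d, .b, .d, .c, .a, .b, .c, .b, .a, .c, .b, .a, .c, .a, .e, .d, .a, .b, .a, .c, .b, .d, .b, .d, .b, .c, .a, .b, .a, .d, .c, .b])) (nd 1079 (lf [.a, .b, .a, .d, .c, .a, .b, .c, .a, .c, .b, .a, .d, .b, .d, .c, .b, .c, .b, .c, .a, .b, .c, .b]) (lf [.b, .c, .d, .c, .d, .b, .e, .c, .b, .d, .b, .d, .b, .c, .c, .d, .a, .b, .a, .c, .c, .b, .d, .b, .d, .b, .c, .c, .a, .b, .a, .d, .c, .e, .b, .c, .a, .c, .a, .b, .a, .c, .a])))) (nd 1084 (nd 1082 (nd 1081 (lf [.b, .e, .b, .c, .e, .b, .d, .c, .a, .b, .a, .c, .d, .b, .d, .c, .a, .b, .a, .c, .d, .e, .c, .b, .e, .c, .b, .c, .b, .c, .b, .d, .c, .a, .b, .a, .c, .b, .a, .c, .a]) (lf [.a, .b, .a, .c, .b, .c, .b, .c, .e, .c, .b, .d, .b, .d, .b, .c, .a, .c, .b, .c, .b, .c, .b, .a, .c, .b, .d, .b, .d, .b, .c, .a, .b, .c, .b, .c, .b, .c, .a, .e,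 .b, .d, .c, .d])) (nd 1083 (lf [.d, .c, .b, .a, .c, .a, .b, .a, .c, .a, .c, .b, .e, .c, .d, .a, .b, .a, .c, .c, .b, .d, .b, .d, .b, .c, .c, .a, .b, .a, .d, .c, .c, .b, .d, .b, .d, .b, .c, .e, .b, .d, .c]) (lf [.d, .c, .d, .b, .e, .c, .b, .d, .b, .d, .b, .c, .c, .d, .a, .b, .a, .c, .c, .b, .d, .b, .d, .b, .c, .c, .a, .b, .a, .d, .c, .e, .b, .c, .a, .c, .a, .b, .a, .c, .a, .b, .c]))) (nd 1086 (nd 1085 (lf [.a, .c, .a, .b, .a, .c, .a, .b, .c, .d, .c, .d, .b, .e, .c, .b, .d, .b, .d, .b, .c, .c, .d, .a, .b, .a, .c, .c, .b, .d, .b, .d, .b, .c, .c, .a, .b, .a, .d, .c, .e, .b, .c]) (lf [.c, .b, .a, .b, .c, .a, .c, .d, .c, .b, .c, .b, .d, .b, .d, .c, .d, .b, .c, .a])) (nd 1087 (lf [.c, .a, .b, .a, .b, .e, .d, .a, .b, .a, .a, .c, .b, .c, .b, .c, .b, .a, .a, .b, .a, .d, .a, .b, .c, .b, .c, .b, .c, .a, .e, .c, .b, .a, .b,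 .a, .c, .b]) (lf [.a, .b, .a, .c, .a, .c, .b, .e, .c, .d, .a, .b, .a, .c, .c, .b, .d, .b, .d, .b, .c, .c, .a, .b, .a, .d, .c, .c, .b, .d, .b, .d, .b, .c, .e, .b, .d, .c, .d, .c, .b, .a, .c])))))))
noncomputable def tc3kw_circT_c17 : ℕ → List Gen := (nd 1120 (nd 1104 (nd 1096 (nd 1092 (nd 1090 (nd 1089 (lf [.c, .a, .c, .b, .e, .c, .d, .a, .b, .a, .c, .c, .b, .d, .b, .d, .b, .c, .c, .a, .b, .a, .d, .c, .c, .b, .d, .b, .d, .b, .c, .e, .b, .d, .c, .d, .c, .b, .a, .c, .a, .b, .a]) (lf [.a, .e, .d, .a, .b, .a, .c, .b, .d, .b, .d, .b, .c, .a, .b, .a, .d, .c, .b, .d, .b, .d, .b, .c, .e, .b, .c, .b, .a, .d, .b, .d, .c, .a, .b, .c, .b, .a, .c, .b, .a, .c])) (nd 1091 (lf [.a, .d, .b, .d, .a, .c, .a, .b, .d, .b, .d, .b, .d, .a, .c]) (lf [.c, .b, .a, .c, .b, .c, .a, .b, .e, .a, .b, .e, .b, .a, .b, .d, .b, .a, .b, .a, .d, .b,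 .c, .b, .a, .b, .c, .b, .d, .a, .b, .a, .b, .d, .b, .a, .b, .d, .b, .c, .b, .a, .b, .c, .b, .d, .e, .b, .a, .e, .c, .a, .b, .a, .c, .a, .c, .a, .d, .a, .b, .a]))) (nd 1094 (nd 1093 (lf [.b, .c, .b, .a, .c, .d, .b, .d, .a, .b, .c, .b, .e, .c, .b, .d, .b, .d, .b, .c, .d, .a, .b, .a, .c, .b, .d, .b, .d, .b, .c, .a, .b, .a, .d, .e, .a, .c, .a, .b, .c, .a]) (lf [.b, .a, .d, .b, .c, .d, .c, .a, .b, .a, .b, .e, .a, .c, .b, .d, .b, .d, .b, .c, .a, .c, .d, .a, .b, .a, .c, .a, .c, .b, .d, .b, .d, .b, .c, .a, .c, .a, .b, .a, .d, .c, .e, .b, .c, .b, .a, .c, .b, .a, .b, .c, .b, .c])) (nd 1095 (lf [.a, .e, .a, .c, .b, .d, .b, .d, .b, .c, .a, .d, .a, .b, .a, .a, .c, .b, .d, .b, .d, .b, .c, .a, .a, .b, .a, .d, .e, .a, .b, .a, .c, .a, .c, .a, .b, .c, .a, .b, .c, .b, .c, .d, .a, .c, .b, .a, .b, .d]) (lf [.d, .b, .c, .c, .d, .a,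 .b, .a, .c, .c, .b, .d, .b, .d, .b, .c, .c, .a, .b, .a, .d, .c, .e, .b, .c, .a, .c, .a, .b, .a, .c, .a, .b, .c, .d, .c, .d, .b, .e, .c, .b, .d, .b])))) (nd 1100 (nd 1098 (nd 1097 (lf [.c, .c, .a, .b, .a, .d, .c, .e, .b, .c, .a, .c, .a, .b, .a, .c, .a, .b, .c, .d, .c, .d, .b, .e, .c, .b, .d, .b, .d, .b, .c, .c, .d, .a, .b, .a, .c, .c, .b, .d, .b, .d, .b]) (lf [.a, .c, .b, .a, .c, .b, .a, .d, .b, .d, .c, .d, .a, .d, .c, .b, .e, .a, .b, .e, .d, .c, .b, .c, .b, .c, .d, .a, .c, .a, .c, .a, .d, .c, .b, .c, .b, .c, .d, .a, .c, .a, .c, .a, .e, .b, .a, .e, .a, .b, .c, .b])) (nd 1099 (lf [.e, .a, .d, .b, .d, .c, .a, .e, .b, .a, .b, .c, .a, .b, .c, .b, .c, .b, .a, .b, .d, .b, .c, .d, .a, .d, .b, .c, .e, .a, .c, .d, .b, .d, .a, .e, .b, .d, .b, .a, .c, .a, .a, .c, .d, .c, .a, .a, .c, .a, .b, .d, .b, .a, .c, .d, .c, .a]) (lf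 [.b, .d, .b, .d, .b, .c, .a, .c, .a, .b, .a, .d, .c, .a, .c, .b, .d, .b, .d, .b, .c, .a, .e, .b, .a, .b, .a, .c, .d, .c, .b, .d, .a, .b, .c, .b, .c, .b, .a, .b, .c, .a, .b, .c, .b, .e, .c, .d, .a, .b, .a, .c, .a, .c]))) (nd 1102 (nd 1101 (lf [.b, .c, .b, .c, .a, .e, .b, .d, .c, .d, .a, .b, .a, .c, .b, .c, .b, .c, .e, .c, .b, .d, .b, .d, .b, .c, .a, .c, .b, .c, .b, .c, .b, .a, .c, .b, .d, .b, .d, .b, .c, .a, .b, .c]) (lf [.b, .a, .b, .d, .a, .b, .c, .a, .b, .c, .a, .c, .b, .a, .e, .c, .d, .e, .b, .d, .b, .d, .b, .a, .d, .c, .a, .c, .d, .a, .b, .d, .b, .d, .b, .a, .d, .c, .a, .c, .d, .a, .e, .d, .c, .e, .b, .a, .c, .d])) (nd 1103 (lf [.a, .d, .e, .a, .c, .a, .b, .c, .a, .b, .c, .b, .a, .c, .d, .b, .d, .a, .b, .c, .b, .e, .c, .b, .d, .b, .d, .b, .c, .d, .a, .b, .a, .c, .b, .d, .b, .d, .b, .c, .a, .b]) (lf [.c, .a,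 .e, .a, .b, .a, .b, .c, .a, .b, .a, .c, .b, .c, .b, .d, .a, .d, .b, .c, .a, .b, .e, .a, .c, .b, .d, .b, .d, .b, .c, .a, .a, .c, .b, .c, .b, .c, .b, .a, .a, .c, .b, .d, .b, .d, .b, .c, .a, .a, .b, .c, .b, .c, .b]))))) (nd 1112 (nd 1108 (nd 1106 (nd 1105 (lf [.c, .b, .c, .d, .e, .b, .a, .e, .b, .c, .d, .a, .d, .c, .d, .b, .d, .a, .b, .c, .a, .b, .c, .a, .b, .c, .b, .a, .e, .a, .b, .e, .a, .c, .a, .c, .a, .d, .c, .b, .c, .b, .c, .d, .a, .c, .a, .c, .a, .d, .c, .b]) (lf [.a, .e, .b, .a, .c, .b, .d, .a, .d, .b, .c, .b, .c, .a, .b, .a, .c, .b, .a, .b, .a, .e, .a, .c, .b, .c, .b, .c, .b, .a, .a, .c, .b, .d, .b, .d, .b, .c, .a, .a, .b, .c, .b, .c, .b, .c, .a, .a, .c, .b, .d, .b, .d, .b, .c])) (nd 1107 (lf [.c, .b, .c, .b, .c, .b, .a, .c, .a, .b, .a, .d, .c, .a, .b, .c, .b, .c, .b, .c, .a, .e, .c, .d, .b, .d, .b, .d, .a,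 .b, .c, .b, .c, .a, .b, .a, .b, .e, .c, .d, .a, .b, .a, .c, .a]) (lf [.c, .d, .c, .a, .b, .a, .b, .e, .a, .c, .b, .d, .b, .d, .b, .c, .a, .c, .d, .a, .b, .a, .c, .a, .c, .b, .d, .b, .d, .b, .c, .a, .c, .a, .b, .a, .d, .c, .e, .b, .c, .b, .a, .c, .b, .a, .b, .c, .b, .c, .b, .a, .d, .b]))) (nd 1110 (nd 1109 (lf [.c, .d, .a, .b, .a, .c, .b, .d, .b, .d, .b, .c, .a, .b, .a, .d, .e, .a, .c, .a, .b, .c, .a, .b, .c, .b, .a, .c, .d, .b, .d, .a, .b, .c, .b, .e, .c, .b, .d, .b, .d, .b]) (lf [.b, .c, .b, .a, .c, .b, .d, .b, .d, .b, .c, .a, .b, .c, .b, .c, .b, .c, .a, .e, .b, .d, .c, .d, .a, .b, .a, .c, .b, .c, .b, .c, .e, .c, .b, .d, .b, .d, .b, .c, .a, .c, .b, .c])) (nd 1111 (lf [.c, .d, .e, .c, .b, .e, .c, .b, .c, .b, .c, .b, .d, .c, .a, .b, .a, .c, .b, .a, .c, .a, .b, .e, .b, .c, .e, .b, .d, .c, .a, .b, .a, .c, .d, .b,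 .d, .c, .a, .b, .a]) (lf [.c, .b, .c, .a, .b, .a, .d, .c, .e, .c, .b, .e, .b, .c, .d, .a, .d, .c, .d, .a, .c, .b, .a, .c, .b, .a, .c, .a, .c, .a, .b, .a, .e, .b, .c, .e, .b, .c, .d, .a, .b, .a])))) (nd 1116 (nd 1114 (nd 1113 (lf [.b, .c, .b, .a, .a, .b, .a, .d, .a, .b, .c, .b, .c, .b, .c, .a, .e, .c, .b, .a, .b, .a, .c, .b, .c, .a, .b, .a, .b, .e, .d, .a, .b, .a, .a, .c, .b, .c]) (lf [.a, .b, .c, .e, .a, .c, .b, .c, .b, .c, .b, .a, .d, .a, .b, .a, .a, .b, .c, .b, .c, .b, .c, .a, .a, .b, .a, .d, .e, .b, .a, .b, .a, .c, .b, .c, .a, .b])) (nd 1115 (lf [.c, .a, .b, .a, .e, .d, .a, .b, .a, .a, .c, .b, .d, .b, .d, .b, .c, .a, .a, .b, .a, .d, .a, .c, .b, .d, .b, .d, .b, .c, .a, .e, .a, .d, .b, .a, .b, .c, .a, .d, .c, .b, .c, .b, .a, .c, .b, .a, .c, .a]) (lf [.c, .b, .c, .b, .a, .a, .c, .b, .d, .b, .d, .b, .c, .a, .a,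 .b, .c, .b, .c, .b, .c, .a, .a, .c, .b, .d, .b, .d, .b, .c, .a, .e, .b, .a, .c, .b, .d, .a, .d, .b, .c, .b, .c, .a, .b, .a, .c, .b, .a, .b, .a, .e, .a, .c, .b]))) (nd 1118 (nd 1117 (lf [.c, .a, .c, .a, .e, .a, .e, .c, .b, .a, .c, .b, .a, .c, .b, .c, .b, .c, .d, .a, .c, .b, .a, .c, .e, .a, .e, .b, .d, .c, .d, .b, .a, .c, .a, .c, .a, .b, .d, .c, .d, .b, .a]) (lf [.d, .b, .c, .d, .a, .b, .a, .c, .b, .d, .b, .d, .b, .c, .a, .b, .a, .d, .e, .a, .c, .a, .b, .c, .a, .b, .c, .b, .a, .c, .d, .b, .d, .a, .b, .c, .b, .e, .c, .b, .d, .b])) (nd 1119 (lf [.a, .c, .b, .d, .b, .d, .b, .c, .a, .c, .a, .b, .a, .d, .c, .a, .c, .b, .d, .b, .d, .b, .c, .a, .e, .b, .a, .b, .a, .c, .d, .c, .b, .d, .a, .b, .c, .b, .c, .b, .a, .b, .c, .a, .b, .c, .b, .e, .c, .d, .a, .b, .a, .c]) (lf [.c, .a, .b, .a, .d, .c, .b, .d, .b, .d, .b, .c, .e,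 .b, .c, .b, .a, .d, .b, .d, .c, .a, .b, .c, .b, .a, .c, .b, .a, .c, .a, .e, .d, .a, .b, .a, .c, .b, .d, .b, .d, .b])))))) (nd 1136 (nd 1128 (nd 1124 (nd 1122 (nd 1121 (lf [.d, .b, .d, .b, .c, .c, .a, .b, .a, .d, .c, .e, .b, .c, .a, .c, .a, .b, .a, .c, .a, .b, .c, .d, .c, .d, .b, .e, .c, .b, .d, .b, .d, .b, .c, .c, .d, .a, .b, .a, .c, .c, .b]) (lf [.b, .a, .c, .c, .b, .d, .b, .d, .b, .c, .c, .a, .b, .a, .d, .c, .e, .b, .c, .a, .c, .a, .b, .a, .c, .a, .b, .c, .d, .c, .d, .b, .e, .c, .b, .d, .b, .d, .b, .c, .c, .d, .a])) (nd 1123 (lf [.a, .d, .c, .a, .c, .a, .c, .a, .c, .d, .a, .d, .c, .a, .c, .a, .c, .a, .e, .a, .e, .a, .b, .a, .b, .c, .b, .a, .c, .b, .c, .b, .a, .c, .a, .d, .b, .d, .c, .a, .c, .b, .e, .a, .e, .c, .d]) (lf [.b, .c, .b, .c, .a, .e, .a, .e, .d, .b, .a, .b, .d, .c, .d, .a, .d, .c, .d, .b, .a, .b, .d,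 .c, .d, .a, .d, .c, .e, .a, .e, .a, .b, .c, .b, .c, .b, .a, .c, .a, .c, .a, .d, .a, .c]))) (nd 1126 (nd 1125 (lf [.c, .a, .c, .a, .d, .c, .b, .c, .d, .b, .c, .b, .d, .a, .b, .a, .b, .c, .b, .a]) (lf [.c, .d, .c, .b, .d, .a, .b, .c, .b, .c, .b, .a, .b, .c, .a, .b, .c, .b, .e, .c, .d, .a, .b, .a, .c, .a, .c, .b, .d, .b, .d, .b, .c, .a, .c, .a, .b, .a, .d, .c, .a, .c, .b, .d, .b, .d, .b, .c, .a, .e, .b, .a, .b, .a])) (nd 1127 (lf [.d, .b, .c, .a, .b, .c, .b, .c, .b, .c, .a, .e, .b, .d, .c, .d, .a, .b, .a, .c, .b, .c, .b, .c, .e, .c, .b, .d, .b, .d, .b, .c, .a, .c, .b, .c, .b, .c, .b, .a, .c, .b, .d, .b]) (lf [.c, .b, .c, .a, .e, .a, .e, .d, .b, .a, .b, .d, .c, .d, .a, .d, .c, .d, .b, .a, .b, .d, .c, .d, .a, .d, .c, .e, .a, .e, .a, .b, .c, .b, .c, .b, .a, .c, .a, .c, .a, .d, .a, .c, .b])))) (nd 1132 (nd 1130 (nd 1129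 (lf [.d, .a, .c, .d, .c, .d, .b, .a, .d, .c, .b, .d, .a, .b, .a, .b, .a, .c, .a, .c, .a, .b, .a, .c, .b, .c, .b]) (lf [.c, .a, .a, .b, .a, .d, .e, .a, .b, .a, .c, .a, .c, .a, .b, .c, .a, .b, .c, .b, .c, .d, .a, .c, .b, .a, .b, .d, .a, .e, .a, .c, .b, .d, .b, .d, .b, .c, .a, .d, .a, .b, .a, .a, .c, .b, .d, .b, .d, .b])) (nd 1131 (lf [.b, .a, .d, .c, .a, .b, .c, .b, .c, .b, .c, .a, .e, .c, .d, .b, .d, .b, .d, .a, .b, .c, .b, .c, .a, .b, .a, .b, .e, .c, .d, .a, .b, .a, .c, .a, .c, .b, .c, .b, .c, .b, .a, .c, .a]) (lf [.d, .b, .a, .b, .d, .a, .c, .a, .c, .a, .d, .b, .a, .b, .d, .a, .c, .a, .c, .a, .e, .a, .e, .a, .b, .a, .b, .a, .c, .b, .a, .c, .b, .a, .c, .b, .c, .b, .d, .b, .a, .b, .c, .a, .b, .a, .b, .e, .a, .e]))) (nd 1134 (nd 1133 (lf [.c, .b, .a, .d, .b, .c, .d, .c, .a, .b, .a, .b, .e, .a, .c, .b, .d, .b, .d,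 .b, .c, .a, .c, .d, .a, .b, .a, .c, .a, .c, .b, .d, .b, .d, .b, .c, .a, .c, .a, .b, .a, .d, .c, .e, .b, .c, .b, .a, .c, .b, .a, .b, .c, .b]) (lf [.a, .d, .a, .c, .a, .d, .a, .c, .a, .d, .b, .a, .c, .a, .b, .a, .c])) (nd 1135 (lf [.c, .a, .b, .c, .b, .e, .c, .d, .a, .b, .a, .c, .a, .c, .b, .d, .b, .d, .b, .c, .a, .c, .a, .b, .a, .d, .c, .a, .c, .b, .d, .b, .d, .b, .c, .a, .e, .b, .a, .b, .a, .c, .d, .c, .b, .d, .a, .b, .c, .b, .c, .b, .a, .b]) (lf [.b, .c, .b, .c, .b, .a, .d, .b, .c, .d, .c, .a, .b, .a, .b, .e, .a, .c, .b, .d, .b, .d, .b, .c, .a, .c, .d, .a, .b, .a, .c, .a, .c, .b, .d, .b, .d, .b, .c, .a, .c, .a, .b, .a, .d, .c, .e, .b, .c, .b, .a, .c, .b, .a]))))) (nd 1144 (nd 1140 (nd 1138 (nd 1137 (lf [.d, .b, .c, .c, .a, .b, .a, .d, .c, .e, .b, .c, .a, .c, .a, .b, .a, .c, .a, .b, .c, .d, .c, .d, .b, .e, .c,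 .b, .d, .b, .d, .b, .c, .c, .d, .a, .b, .a, .c, .c, .b, .d, .b]) (lf [.b, .d, .c, .d, .b, .d, .b, .a, .b, .d, .e, .a, .e, .c, .d, .a, .b, .d, .c, .d, .b, .c, .b, .c, .b, .a, .c, .b, .a, .c, .b, .c, .b, .a, .b, .a, .e, .a, .e, .b, .d, .c, .d, .b, .d, .b, .a, .b, .d])) (nd 1139 (lf [.c, .a, .b, .a, .c, .d, .c, .b, .d, .a, .b, .a, .b, .c, .d, .c, .a, .b, .a, .c, .d, .c, .b, .a, .b, .a, .d, .b, .c, .e, .c, .b, .e, .c, .b, .d, .a, .b, .d, .a, .c, .b, .c, .b, .a, .c, .b, .c, .a, .e, .b, .c, .e, .d]) (lf [.b, .a, .c, .b, .c, .b, .c, .b, .a, .b, .d, .b, .d, .b, .a, .b, .c, .b, .c, .b, .c, .a, .e, .d, .c, .e, .d, .a, .b, .a, .e, .c, .d, .e, .b, .d, .b, .d]))) (nd 1142 (nd 1141 (lf [.d, .a, .c, .a, .d, .a, .c, .a, .d, .b, .a, .c, .a, .b, .a, .c, .a]) (lf [.a, .d, .b, .c, .b, .d, .c, .b, .c, .d, .a, .c, .a, .c, .a, .b, .c,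 .b, .a, .b])) (nd 1143 (lf [.b, .a, .b, .a, .d, .c, .a, .b, .c, .a, .c, .b, .a, .d, .b, .d, .c, .b, .c, .b, .c, .a, .b, .c]) (lf [.a, .c, .b, .c, .a, .b, .a, .b, .e, .d, .a, .b, .a, .a, .c, .b, .c, .b, .c, .b, .a, .a, .b, .a, .d, .a, .b, .c, .b, .c, .b, .c, .a, .e, .c, .b, .a, .b])))) (nd 1148 (nd 1146 (nd 1145 (lf [.b, .c, .e, .a, .c, .b, .c, .b, .c, .b, .a, .d, .a, .b, .a, .a, .b, .c, .b, .c, .b, .c, .a, .a, .b, .a, .d, .e, .b, .a, .b, .a, .c, .b, .c, .a, .b, .a]) (lf [.c, .d, .b, .a, .c, .b, .a, .b, .a, .c, .b, .c, .a, .e, .b, .c, .e, .d, .b, .d, .b, .d, .c, .b, .d, .a, .b, .a, .b, .c, .d, .b, .d, .b, .d, .c, .b, .a, .b, .a, .d, .b, .c, .e, .c, .b, .e, .b, .a, .d, .a, .d, .b])) (nd 1147 (lf [.b, .d, .b, .c, .a, .b, .a, .d, .c, .b, .d, .b, .d, .b, .c, .e, .b, .c, .b, .a, .d, .b, .d, .c, .a, .b, .c, .b, .a, .c,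 .b, .a, .c, .a, .e, .d, .a, .b, .a, .c, .b, .d]) (lf [.c, .a, .d, .b, .d, .b, .d, .c, .e, .a, .b, .e, .b, .a, .b, .d, .b, .a, .b, .a, .a, .c, .a, .c, .a, .a, .b, .a, .b, .d, .b, .a, .b, .a, .c, .a, .c, .a, .e, .b, .a, .e, .a, .b, .a, .c, .b, .a, .c, .b, .a, .b]))) (nd 1150 (nd 1149 (lf [.e, .b, .c, .e, .d, .b, .d, .b, .d, .c, .d, .a, .b, .a, .c, .d, .b, .d, .b, .d, .c, .a, .b, .a, .d, .c, .e, .c, .b, .e, .b, .d, .c, .b, .c, .a, .d, .b, .c, .a, .c, .a, .b, .c, .b, .c, .b]) (lf [.b, .a, .e, .b, .d, .b, .d, .c, .a, .c, .a, .d, .c, .b, .c, .b, .a, .c, .b, .a, .c, .a, .b, .a, .b, .a, .e, .a, .b, .e, .d, .c, .b, .c, .b, .c, .d, .d, .b, .c, .b, .a, .b, .c, .b, .d, .d, .c, .b, .c, .b, .c, .d, .d, .b, .c, .b, .a, .b, .c, .b, .d, .e])) (nd 1151 (lf [.c, .a, .b, .c, .a, .b, .c, .b, .a, .c, .d, .b, .d, .a, .b, .c, .b, .e,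 .c, .b, .d, .b, .d, .b, .c, .d, .a, .b, .a, .c, .b, .d, .b, .d, .b, .c, .a, .b, .a, .d, .e, .a]) (lf [.e, .a, .c, .d, .b, .d, .a, .e, .b, .d, .c, .d, .c, .b, .c, .b, .c, .a, .c, .b, .b, .c, .d, .c, .d, .b, .b, .c, .a, .c, .b, .c, .e, .a, .d, .b, .d, .c, .a, .e, .c, .b, .d, .c, .a, .d, .a, .d, .a, .b, .c, .a, .b, .c, .a, .b, .c, .a, .b, .a, .c, .a, .b])))))))
noncomputable def tc3kw_circT_c18 : ℕ → List Gen := (nd 1184 (nd 1168 (nd 1160 (nd 1156 (nd 1154 (nd 1153 (lf [.d, .a, .d, .b, .c, .b, .c, .a, .b, .a, .c, .b, .a, .b, .a, .e, .a, .c, .b, .c, .b, .c, .b, .a, .a, .c, .b, .d, .b, .d, .b, .c, .a, .a, .b, .c, .b, .c, .b, .c, .a, .a, .c, .b, .d, .b, .d, .b, .c, .a, .e, .b, .a, .c, .b]) (lf [.b, .c, .a, .b, .a, .e, .a, .b, .e, .a, .c, .a, .c, .a, .b, .a, .b, .d, .b, .a, .b, .a, .a, .c, .a, .c, .a, .a, .b, .a, .b,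 .d, .b, .a, .b, .e, .b, .a, .e, .c, .d, .b, .d, .b, .d, .a, .c, .b, .a, .b, .c, .a])) (nd 1155 (lf [.a, .b, .a, .c, .b, .d, .b, .d, .b, .c, .a, .b, .a, .d, .e, .a, .c, .a, .b, .c, .a, .b, .c, .b, .a, .c, .d, .b, .d, .a, .b, .c, .b, .e, .c, .b, .d, .b, .d, .b, .c, .d]) (lf [.a, .c, .a, .b, .a, .d, .c, .a, .c, .b, .d, .b, .d, .b, .c, .a, .e, .b, .a, .b, .a, .c, .d, .c, .b, .d, .a, .b, .c, .b, .c, .b, .a, .b, .c, .a, .b, .c, .b, .e, .c, .d, .a, .b, .a, .c, .a, .c, .b, .d, .b, .d, .b, .c]))) (nd 1158 (nd 1157 (lf [.c, .b, .a, .c, .b, .a, .d, .a, .d, .a, .c, .d, .b, .c, .e, .a, .c, .d, .b, .d, .a, .e, .c, .b, .c, .a, .c, .b, .b, .d, .c, .d, .c, .b, .b, .c, .a, .c, .b, .c, .b, .c, .d, .c, .d, .b, .e, .a, .d, .b, .d, .c, .a, .e, .b, .a, .c, .a, .b, .a, .c, .b, .a]) (lf [.c, .a, .b, .a, .c, .a, .c, .b, .e, .c, .d, .a,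 .b, .a, .c, .c, .b, .d, .b, .d, .b, .c, .c, .a, .b, .a, .d, .c, .c, .b, .d, .b, .d, .b, .c, .e, .b, .d, .c, .d, .c, .b, .a])) (nd 1159 (lf [.b, .d, .b, .c, .a, .c, .a, .b, .a, .d, .c, .a, .c, .b, .d, .b, .d, .b, .c, .a, .e, .b, .a, .b, .a, .c, .d, .c, .b, .d, .a, .b, .c, .b, .c, .b, .a, .b, .c, .a, .b, .c, .b, .e, .c, .d, .a, .b, .a, .c, .a, .c, .b, .d]) (lf [.d, .c, .b, .c, .a, .b, .c, .a, .b, .a, .b, .a, .c, .b, .a, .e, .b, .c, .e, .d, .b, .d, .b, .d, .d, .c, .a, .b, .a, .c, .d, .d, .b, .d, .b, .d, .d, .c, .a, .b, .a, .c, .d, .e, .c, .b, .e, .b, .a, .d, .c, .d, .b])))) (nd 1164 (nd 1162 (nd 1161 (lf [.e, .d, .c, .e, .d, .c, .b, .c, .a, .d, .b, .c, .a, .c, .a, .b, .c, .b, .c, .e, .c, .d, .e, .a, .d, .c, .a, .c, .d, .a, .a, .c, .b, .c, .b, .c, .b, .a, .a, .d, .c, .a, .c, .d, .a, .a, .b, .c, .b, .c, .b, .c, .a])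 (lf [.b, .d, .b, .a, .d, .c, .a, .c, .d, .a, .e, .d, .c, .e, .b, .a, .c, .d, .b, .a, .b, .d, .a, .b, .c, .a, .b, .c, .a, .c, .b, .a, .e, .c, .d, .e, .b, .d, .b, .d, .b, .a, .d, .c, .a, .c, .d, .a, .b, .d])) (nd 1163 (lf [.d, .b, .e, .d, .c, .e, .a, .b, .c, .a, .c, .b, .a, .c, .b, .a, .d, .b, .a, .b, .d, .c, .a, .b, .e, .c, .d, .e, .a, .d, .c, .a, .c, .d, .a, .b, .d, .b, .d, .b, .a, .d, .c, .a, .c, .d, .a, .b, .d, .b]) (lf [.a, .d, .c, .b, .d, .b, .d, .b, .c, .e, .b, .c, .b, .a, .d, .b, .d, .c, .a, .b, .c, .b, .a, .c, .b, .a, .c, .a, .e, .d, .a, .b, .a, .c, .b, .d, .b, .d, .b, .c, .a, .b]))) (nd 1166 (nd 1165 (lf [.c, .e, .b, .c, .b, .a, .d, .b, .d, .c, .a, .b, .c, .b, .a, .c, .b, .a, .c, .a, .e, .d, .a, .b, .a, .c, .b, .d, .b, .d, .b, .c, .a, .b, .a, .d, .c, .b, .d, .b, .d, .b]) (lf [.c, .b, .c, .a, .d, .b, .c,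 .a, .c, .a, .b, .c, .b, .c, .e, .c, .d, .e, .a, .d, .c, .a, .c, .d, .a, .a, .c, .b, .c, .b, .c, .b, .a, .a, .d, .c, .a, .c, .d, .a, .a, .b, .c, .b, .c, .b, .c, .a, .e, .d, .c, .e, .d])) (nd 1167 (lf [.c, .a, .b, .c, .b, .a, .c, .b, .a, .c, .a, .e, .d, .a, .b, .a, .c, .b, .d, .b, .d, .b, .c, .a, .b, .a, .d, .c, .b, .d, .b, .d, .b, .c, .e, .b, .c, .b, .a, .d, .b, .d]) (lf [.e, .a, .d, .b, .d, .c, .a, .e, .a, .c, .d, .a, .d, .c, .a, .e, .a, .c, .d, .b, .d, .a, .e, .b, .d, .b, .a, .c, .a, .b, .d, .c, .d, .c, .b, .a, .c, .a, .b, .d, .b, .b, .c, .d, .c, .d, .b]))))) (nd 1176 (nd 1172 (nd 1170 (nd 1169 (lf [.a, .c, .a, .b, .c, .b, .c, .b, .a, .e, .a, .e, .c, .d, .a, .d, .c, .d, .b, .a, .b, .d, .c, .d, .a, .d, .c, .d, .b, .a, .b, .d, .e, .a, .e, .a, .c, .b, .c, .b, .c, .a, .d, .a, .c]) (lf [.c, .b, .c, .b, .c, .a, .d,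 .a, .c, .a, .c, .a, .b, .c, .b, .c, .b, .a, .e, .a, .e, .c, .d, .a, .d, .c, .d, .b, .a, .b, .d, .c, .d, .a, .d, .c, .d, .b, .a, .b, .d, .e, .a, .e, .a])) (nd 1171 (lf [.b, .c, .b, .a, .c, .a, .b, .a, .d, .c, .a, .b, .c, .b, .c, .b, .c, .a, .e, .c, .d, .b, .d, .b, .d, .a, .b, .c, .b, .c, .a, .b, .a, .b, .e, .c, .d, .a, .b, .a, .c, .a, .c, .b, .c]) (lf [.d, .a, .b, .a, .c, .b, .c, .b, .c, .e, .c, .b, .d, .b, .d, .b, .c, .a, .c, .b, .c, .b, .c, .b, .a, .c, .b, .d, .b, .d, .b, .c, .a, .b, .c, .b, .c, .b, .c, .a, .e, .b, .d, .c]))) (nd 1174 (nd 1173 (lf [.a, .d, .c, .b, .e, .a, .b, .e, .d, .c, .b, .c, .b, .c, .d, .a, .c, .a, .c, .a, .d, .c, .b, .c, .b, .c, .d, .a, .c, .a, .c, .a, .e, .b, .a, .e, .a, .b, .c, .b, .a, .c, .b, .a, .c, .b, .a, .d, .b, .d, .c, .d]) (lf [.e, .d, .e, .a, .d, .b, .d, .a, .d, .b, .d, .e, .d,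 .e, .d, .b, .e, .a, .e, .a, .c, .a, .b, .c, .a, .d, .a, .c, .b, .a, .c, .a, .b, .c, .a, .c, .a, .b, .e, .a, .e, .b, .d])) (nd 1175 (lf [.e, .a, .b, .e, .a, .c, .a, .c, .a, .d, .c, .b, .c, .b, .c, .d, .a, .c, .a, .c, .a, .d, .c, .b, .c, .b, .c, .d, .e, .b, .a, .e, .b, .c, .d, .a, .d, .c, .d, .b, .d, .a, .b, .c, .a, .b, .c, .a, .b, .c, .b, .a]) (lf [.a, .c, .a, .c, .d, .b, .d, .b, .e, .a, .b, .e, .d, .b, .c, .b, .a, .b, .c, .b, .d, .d, .c, .b, .c, .b, .c, .d, .d, .b, .c, .b, .a, .b, .c, .b, .d, .d, .c, .b, .c, .b, .c, .d, .e, .b, .a, .e, .a, .b, .a, .b, .a, .c, .a, .b, .c, .a, .b, .c, .b, .c, .d])))) (nd 1180 (nd 1178 (nd 1177 (lf [.e, .b, .c, .b, .d, .b, .d, .b, .c, .b, .d, .b, .d, .e, .d, .e, .d, .b, .e, .a, .e, .a, .b, .c, .a, .d, .c, .d, .b, .a, .c, .b, .a, .b, .c, .b, .c, .a, .b, .e, .a, .e, .b, .d, .e, .d])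 (lf [.c, .a, .b, .a, .c, .d, .b, .d, .c, .a, .b, .a, .c, .d, .b, .e, .c, .b, .e, .b, .a, .c, .a, .b, .c, .a, .b, .a, .c, .d, .b, .c, .b, .c, .b, .c, .e, .b, .c, .e, .d])) (nd 1179 (lf [.d, .b, .d, .b, .c, .a, .a, .b, .a, .d, .a, .c, .b, .d, .b, .d, .b, .c, .a, .e, .a, .d, .b, .a, .b, .c, .a, .d, .c, .b, .c, .b, .a, .c, .b, .a, .c, .a, .c, .a, .b, .a, .e, .d, .a, .b, .a, .a, .c, .b]) (lf [.e, .a, .b, .e, .b, .a, .b, .d, .b, .a, .b, .a, .a, .c, .a, .c, .a, .a, .b, .a, .b, .d, .b, .a, .b, .a, .c, .a, .c, .a, .e, .b, .a, .e, .a, .b, .a, .c, .b, .a, .c, .b, .a, .b, .c, .a, .d, .b, .d, .b, .d, .c]))) (nd 1182 (nd 1181 (lf [.e, .a, .c, .a, .c, .a, .c, .d, .a, .d, .c, .a, .c, .a, .c, .a, .c, .d, .a, .d, .c, .e, .a, .e, .b, .c, .a, .c, .d, .b, .d, .a, .c, .a, .b, .c, .b, .c, .a, .b, .c, .b, .a, .b, .a, .e, .a]) (lf [.c,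 .b, .a, .c, .b, .a, .c, .a, .e, .d, .a, .b, .a, .c, .b, .d, .b, .d, .b, .c, .a, .b, .a, .d, .c, .b, .d, .b, .d, .b, .c, .e, .b, .c, .b, .a, .d, .b, .d, .c, .a, .b])) (nd 1183 (lf [.c, .a, .a, .b, .a, .d, .a, .c, .b, .d, .b, .d, .b, .c, .a, .e, .a, .d, .b, .a, .b, .c, .a, .d, .c, .b, .c, .b, .a, .c, .b, .a, .c, .a, .c, .a, .b, .a, .e, .d, .a, .b, .a, .a, .c, .b, .d, .b, .d, .b]) (lf [.e, .a, .e, .a, .b, .a, .b, .a, .c, .b, .a, .c, .b, .a, .c, .b, .c, .b, .d, .b, .a, .b, .c, .a, .b, .a, .b, .e, .a, .e, .d, .b, .a, .b, .d, .a, .c, .a, .c, .a, .d, .b, .a, .b, .d, .a, .c, .a, .c, .a])))))) (nd 1200 (nd 1192 (nd 1188 (nd 1186 (nd 1185 (lf [.e, .b, .d, .e, .d, .e, .a, .c, .b, .c, .a, .c, .b, .c, .e, .d, .e, .d, .b, .e, .a, .e, .d, .a, .d, .a, .c, .d, .a, .c, .b, .a, .c, .a, .b, .c, .a, .c, .a, .e, .a]) (lf [.c, .e, .a,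 .d, .b, .d, .c, .a, .e, .c, .b, .d, .c, .a, .d, .a, .d, .a, .b, .c, .a, .b, .c, .a, .b, .c, .a, .b, .a, .c, .a, .b, .e, .a, .c, .d, .b, .d, .a, .e, .b, .d, .c, .d, .c, .b, .c, .b, .c, .a, .c, .b, .b, .c, .d, .c, .d, .b, .b, .c, .a, .c, .b])) (nd 1187 (lf [.b, .c, .b, .c, .b, .a, .c, .a, .c, .b, .d, .a, .c, .b, .c, .d, .b, .e, .b, .c, .e, .c, .d, .a, .b, .a, .c, .d, .b, .d, .b, .d, .c, .a, .b, .a, .d, .c, .d, .b, .d, .b, .d, .e, .c, .b, .e]) (lf [.c, .b, .a, .c, .b, .a, .c, .b, .a, .d, .b, .d, .c, .d, .a, .d, .c, .b, .e, .a, .b, .e, .d, .c, .b, .c, .b, .c, .d, .a, .c, .a, .c, .a, .d, .c, .b, .c, .b, .c, .d, .a, .c, .a, .c, .a, .e, .b, .a, .e, .a, .b]))) (nd 1190 (nd 1189 (lf [.a, .b, .c, .a, .c, .b, .a, .c, .b, .a, .d, .b, .a, .b, .d, .c, .a, .b, .e, .c, .d, .e, .a, .d, .c, .a, .c, .d, .a, .b, .d, .b, .d, .b, .a,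 .d, .c, .a, .c, .d, .a, .b, .d, .b, .d, .b, .e, .d, .c, .e]) (lf [.b, .e, .a, .c, .b, .c, .a, .b, .c, .b, .c, .a, .d, .b, .a, .d, .b, .c, .e, .b, .c, .e, .c, .b, .d, .a, .b, .a, .b, .c, .d, .c, .a, .b, .a, .c, .d, .c, .b, .a, .b, .a, .d, .b, .c, .d, .c, .a, .b, .a, .c, .d, .e, .c])) (nd 1191 (lf [.a, .d, .c, .a, .c, .d, .a, .a, .c, .b, .c, .b, .c, .b, .a, .a, .d, .c, .a, .c, .d, .a, .a, .b, .c, .b, .c, .b, .c, .a, .e, .d, .c, .e, .d, .c, .b, .c, .a, .d, .b, .c, .a, .c, .a, .b, .c, .b, .c, .e, .c, .d, .e]) (lf [.b, .d, .e, .d, .e, .d, .b, .e, .a, .e, .a, .c, .a, .b, .c, .a, .d, .a, .c, .b, .a, .c, .a, .b, .c, .a, .c, .a, .b, .e, .a, .e, .b, .d, .e, .d, .e, .a, .d, .b, .d, .a, .d])))) (nd 1196 (nd 1194 (nd 1193 (lf [.a, .e, .a, .c, .d, .c, .a, .b, .d, .b, .a, .c, .a, .a, .c, .d, .c, .a, .a, .c, .a, .b, .d, .b, .e,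 .a, .d, .b, .d, .c, .a, .e, .c, .b, .d, .a, .d, .c, .b, .d, .b, .a, .b, .c, .b, .c, .b, .a, .c, .b, .a, .b, .e, .a, .c, .d, .b, .d]) (lf [.d, .a, .e, .c, .b, .c, .a, .c, .b, .a, .c, .d, .c, .a, .b, .c, .a, .c, .b, .c, .a, .c, .d, .c, .a, .e, .a, .d, .b, .d, .c, .a, .e, .b, .c, .a, .b, .a, .c, .a, .c, .b, .a, .b, .d, .c, .a, .c, .b, .c, .b, .e, .a, .c, .d, .b])) (nd 1195 (lf [.e, .c, .d, .a, .b, .a, .c, .d, .b, .d, .b, .d, .c, .a, .b, .a, .d, .c, .d, .b, .d, .b, .d, .e, .c, .b, .e, .b, .c, .b, .c, .b, .a, .c, .a, .c, .b, .d, .a, .c, .b, .c, .d, .b, .e, .b, .c]) (lf [.e, .b, .c, .e, .b, .d, .c, .a, .b, .a, .c, .d, .b, .d, .c, .a, .b, .a, .c, .d, .e, .c, .b, .e, .c, .b, .c, .b, .c, .b, .d, .c, .a, .b, .a, .c, .b, .a, .c, .a, .b]))) (nd 1198 (nd 1197 (lf [.d, .c, .a, .e, .b, .a, .b, .c, .a, .b, .c, .b, .c, .b, .a,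 .b, .d, .b, .c, .d, .a, .d, .b, .c, .e, .a, .c, .d, .b, .d, .a, .e, .b, .d, .b, .a, .c, .a, .a, .c, .d, .c, .a, .a, .c, .a, .b, .d, .b, .a, .c, .d, .c, .a, .e, .a, .d, .b]) (lf [.b, .a, .b, .c, .b, .c, .a, .b, .c, .a, .b, .c, .b, .c, .b, .d, .c, .d, .b, .a, .d, .c, .e, .a, .e, .d, .b, .a, .b, .d, .b, .d, .c, .d, .b, .d, .b, .a, .b, .d, .b, .d, .c, .d, .b, .e, .a, .e, .a])) (nd 1199 (lf [.d, .e, .d, .b, .e, .a, .e, .b, .a, .b, .a, .c, .d, .a, .c, .b, .c, .b, .a, .b, .c, .a, .b, .c, .a, .b, .e, .a, .e, .b, .d, .e, .d, .e, .a, .b, .c, .b, .a, .b, .c, .b, .e]) (lf [.d, .e, .d, .b, .e, .a, .e, .d, .a, .d, .a, .c, .d, .a, .c, .b, .a, .c, .a, .b, .c, .a, .c, .a, .e, .a, .e, .b, .d, .e, .d, .e, .a, .c, .b, .c, .a, .c, .b, .c, .e]))))) (nd 1208 (nd 1204 (nd 1202 (nd 1201 (lf [.d, .a, .d, .c, .e, .a, .e, .b, .c, .a, .c,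 .d, .b, .d, .a, .c, .a, .b, .c, .b, .c, .a, .b, .c, .b, .a, .b, .a, .e, .a, .e, .a, .c, .a, .c, .a, .c, .d, .a, .d, .c, .a, .c, .a, .c, .a, .c]) (lf [.d, .e, .d, .b, .d, .b, .c, .b, .d, .b, .d, .b, .c, .b, .e, .d, .e, .d, .b, .e, .a, .e, .b, .a, .c, .b, .c, .b, .a, .b, .c, .a, .b, .d, .c, .d, .a, .c, .b, .a, .e, .a, .e, .b, .d, .e])) (nd 1203 (lf [.b, .a, .b, .a, .c, .b, .a, .b, .d, .b, .c, .b, .c, .a, .b, .c, .a, .b, .c, .a, .b, .a, .b, .a, .e, .a, .e, .a, .c, .a, .c, .a, .d, .b, .a, .b, .d, .a, .c, .a, .c, .a, .d, .b, .a, .b, .d, .e, .a, .e]) (lf [.d, .e, .b, .c, .b, .d, .b, .d, .b, .c, .b, .d, .b, .d, .e, .d, .e, .d, .b, .e, .a, .e, .a, .b, .c, .a, .d, .c, .d, .b, .a, .c, .b, .a, .b, .c, .b, .c, .a, .b, .e, .a, .e, .b, .d, .e]))) (nd 1206 (nd 1205 (lf [.d, .e, .d, .b, .e, .a, .e, .b, .a, .c, .b, .c, .b, .a,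 .b, .c, .a, .b, .d, .c, .d, .a, .c, .b, .a, .e, .a, .e, .b, .d, .e, .d, .e, .d, .b, .d, .b, .c, .b, .d, .b, .d, .b, .c, .b, .e]) (lf [.d, .b, .d, .a, .e, .b, .d, .c, .d, .c, .b, .a, .c, .d, .c, .a, .b, .c, .d, .c, .d, .b, .a, .c, .d, .c, .a, .e, .a, .d, .b, .d, .c, .a, .e, .b, .a, .b, .c, .b, .a, .c, .b, .c, .b, .a, .b, .a, .c, .b, .d, .b, .c, .a, .b, .c, .a, .e, .a, .c])) (nd 1207 (lf [.d, .c, .a, .e, .b, .c, .b, .c, .a, .c, .d, .b, .a, .b, .c, .a, .c, .a, .b, .a, .c, .b, .e, .a, .c, .d, .b, .d, .a, .e, .a, .c, .d, .c, .a, .c, .b, .c, .a, .c, .b, .a, .c, .d, .c, .a, .b, .c, .a, .c, .b, .c, .e, .a, .d, .b]) (lf [.c, .a, .b, .a, .b, .c, .e, .a, .c, .b, .c, .b, .c, .b, .a, .d, .a, .b, .a, .a, .b, .c, .b, .c, .b, .c, .a, .a, .b, .a, .d, .e, .b, .a, .b, .a, .c, .b])))) (nd 1212 (nd 1210 (nd 1209 (lf [.e, .a, .b, .c,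 .b, .a, .b, .c, .b, .e, .d, .e, .d, .b, .e, .a, .e, .b, .a, .b, .a, .c, .d, .a, .c, .b, .c, .b, .a, .b, .c, .a, .b, .c, .a, .b, .e, .a, .e, .b, .d, .e, .d]) (lf [.d, .e, .d, .b, .e, .a, .e, .a, .c, .a, .b, .c, .a, .d, .a, .c, .b, .a, .c, .a, .b, .c, .a, .c, .a, .b, .e, .a, .e, .b, .d, .e, .d, .e, .a, .d, .b, .d, .a, .d, .b, .d, .e])) (nd 1211 (lf [.d, .b, .d, .a, .c, .a, .b, .c, .b, .c, .a, .b, .c, .b, .a, .b, .a, .e, .a, .e, .a, .c, .a, .c, .a, .c, .d, .a, .d, .c, .a, .c, .a, .c, .a, .c, .d, .a, .d, .c, .e, .a, .e, .b, .c, .a, .c]) (lf [.a, .b, .e, .d, .b, .c, .b, .a, .b, .c, .b, .d, .a, .c, .a, .c, .a, .d, .b, .c, .b, .a, .b, .c, .b, .d, .a, .c, .a, .c, .a, .e, .b, .a, .e, .a, .b, .a, .b, .a, .c, .a, .b, .c, .a, .b, .c, .a, .c, .d, .a, .c, .b, .d, .a, .c, .a, .b, .e]))) (nd 1214 (nd 1213 (lf [.e, .a, .e, .a,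 .c, .a, .c, .b, .a, .c, .a, .b, .c, .a, .d, .c, .a, .d, .a, .d, .e, .a, .e, .b, .d, .e, .d, .e, .c, .b, .c, .a, .c, .b, .c, .a, .e, .d, .e, .d, .b]) (lf [.e, .b, .a, .e, .b, .a, .c, .a, .d, .b, .c, .a, .d, .c, .a, .c, .b, .a, .c, .b, .a, .c, .a, .b, .a, .b, .a, .e, .a, .b, .e, .a, .c, .a, .c, .a, .d, .b, .c, .b, .a, .b, .c, .b, .d, .a, .c, .a, .c, .a, .d, .b, .c, .b, .a, .b, .c, .b, .d])) (nd 1215 (lf [.d, .c, .a, .e, .b, .a, .b, .c, .b, .a, .c, .b, .c, .b, .a, .b, .a, .c, .b, .d, .b, .c, .a, .b, .c, .a, .e, .a, .c, .d, .b, .d, .a, .e, .b, .d, .c, .d, .c, .b, .a, .c, .d, .c, .a, .b, .c, .d, .c, .d, .b, .a, .c, .d, .c, .a, .e, .a, .d, .b]) (lf [.e, .d, .c, .e, .b, .a, .c, .d, .b, .a, .b, .d, .a, .b, .c, .a, .b, .c, .a, .c, .b, .a, .e, .c, .d, .e, .b, .d, .b, .d, .b, .a, .d, .c, .a, .c, .d, .a, .b, .d, .b, .d, .b,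 .a, .d, .c, .a, .c, .d, .a])))))))
noncomputable def tc3kw_circT_c19 : ℕ → List Gen := (nd 1248 (nd 1232 (nd 1224 (nd 1220 (nd 1218 (nd 1217 (lf [.d, .e, .a, .d, .b, .d, .a, .d, .b, .d, .e, .d, .e, .d, .b, .e, .a, .e, .a, .c, .a, .b, .c, .a, .d, .a, .c, .b, .a, .c, .a, .b, .c, .a, .c, .a, .b, .e, .a, .e, .b, .d, .e]) (lf [.c, .b, .d, .a, .b, .a, .b, .c, .b, .c, .b, .a, .b, .a, .d, .b, .c, .b, .e, .c, .b, .e, .a, .b, .a, .b, .a, .c, .a, .b, .a, .b, .a, .c, .a, .b, .c, .a, .c, .a, .d, .b, .d, .c, .a, .d, .c, .a, .b, .e, .b, .c, .e])) (nd 1219 (lf [.e, .a, .b, .c, .b, .a, .c, .b, .a, .c, .b, .a, .d, .b, .d, .c, .d, .a, .d, .c, .b, .e, .a, .b, .e, .d, .c, .b, .c, .b, .c, .d, .a, .c, .a, .c, .a, .d, .c, .b, .c, .b, .c, .d, .a, .c, .a, .c, .a, .e, .b, .a]) (lf [.b, .e, .d, .b, .c, .b, .a, .b, .c, .b, .d, .d, .c, .b,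 .c, .b, .c, .d, .d, .b, .c, .b, .a, .b, .c, .b, .d, .d, .c, .b, .c, .b, .c, .d, .e, .b, .a, .e, .a, .b, .a, .b, .a, .c, .a, .b, .c, .a, .b, .c, .b, .c, .d, .a, .c, .a, .c, .d, .b, .d, .b, .e, .a]))) (nd 1222 (nd 1221 (lf [.e, .d, .e, .a, .c, .b, .c, .a, .c, .b, .c, .e, .d, .e, .d, .b, .e, .a, .e, .d, .a, .d, .a, .c, .d, .a, .c, .b, .a, .c, .a, .b, .c, .a, .c, .a, .e, .a, .e, .b, .d]) (lf [.a, .e, .b, .d, .e, .d, .e, .c, .b, .c, .a, .c, .b, .c, .a, .e, .d, .e, .d, .b, .e, .a, .e, .a, .c, .a, .c, .b, .a, .c, .a, .b, .c, .a, .d, .c, .a, .d, .a, .d, .e])) (nd 1223 (lf [.a, .b, .e, .d, .c, .b, .c, .b, .c, .d, .d, .b, .c, .b, .a, .b, .c, .b, .d, .d, .c, .b, .c, .b, .c, .d, .d, .b, .c, .b, .a, .b, .c, .b, .d, .e, .b, .a, .e, .b, .d, .b, .d, .c, .a, .c, .a, .d, .c, .b, .c, .b, .a, .c, .b, .a, .c, .a, .b, .a, .b, .a, .e])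 (lf [.e, .a, .e, .b, .d, .c, .d, .b, .a, .c, .a, .c, .a, .b, .d, .c, .d, .b, .a, .c, .a, .c, .a, .e, .a, .e, .c, .b, .a, .c, .b, .a, .c, .b, .c, .b, .c, .d, .a, .c, .b, .a, .c])))) (nd 1228 (nd 1226 (nd 1225 (lf [.e, .d, .b, .e, .a, .e, .b, .a, .b, .a, .c, .d, .a, .c, .b, .c, .b, .a, .b, .c, .a, .b, .c, .a, .b, .e, .a, .e, .b, .d, .e, .d, .e, .a, .b, .c, .b, .a, .b, .c, .b, .e, .d]) (lf [.b, .a, .c, .a, .d, .b, .c, .a, .d, .c, .a, .c, .b, .a, .c, .b, .a, .c, .a, .b, .a, .b, .a, .e, .a, .b, .e, .a, .c, .a, .c, .a, .d, .b, .c, .b, .a, .b, .c, .b, .d, .a, .c, .a, .c, .a, .d, .b, .c, .b, .a, .b, .c, .b, .d, .e, .b, .a, .e])) (nd 1227 (lf [.e, .c, .b, .e, .c, .b, .d, .a, .b, .d, .a, .c, .b, .c, .b, .a, .c, .b, .c, .a, .e, .b, .c, .e, .d, .c, .a, .b, .a, .c, .d, .c, .b, .d, .a, .b, .a, .b, .c, .d, .c, .a, .b, .a, .c,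 .d, .c, .b, .a, .b, .a, .d, .b, .c]) (lf [.e, .a, .d, .b, .d, .a, .d, .b, .d, .e, .d, .e, .d, .b, .e, .a, .e, .a, .c, .a, .b, .c, .a, .d, .a, .c, .b, .a, .c, .a, .b, .c, .a, .c, .a, .b, .e, .a, .e, .b, .d, .e, .d]))) (nd 1230 (nd 1229 (lf [.c, .a, .e, .a, .c, .b, .a, .c, .b, .d, .b, .c, .a, .b, .a, .b, .c, .b, .c, .a, .b, .c, .b, .a, .b, .e, .a, .c, .d, .b, .d, .a, .e, .a, .c, .d, .c, .a, .b, .d, .c, .d, .c, .b, .a, .c, .d, .c, .a, .b, .c, .d, .c, .d, .b, .e, .a, .d, .b, .d]) (lf [.e, .d, .b, .e, .a, .e, .d, .a, .d, .a, .c, .d, .a, .c, .b, .a, .c, .a, .b, .c, .a, .c, .a, .e, .a, .e, .b, .d, .e, .d, .e, .a, .c, .b, .c, .a, .c, .b, .c, .e, .d])) (nd 1231 (lf [.c, .e, .c, .b, .e, .b, .c, .d, .a, .d, .c, .d, .a, .c, .b, .a, .c, .b, .a, .c, .a, .c, .a, .b, .a, .e, .b, .c, .e, .b, .c, .d, .a, .b, .a, .c, .b, .c, .a,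 .b, .a, .d]) (lf [.b, .c, .a, .b, .a, .d, .c, .d, .b, .e, .a, .c, .b, .c, .b, .c, .b, .a, .c, .b, .d, .b, .d, .b, .c, .a, .b, .c, .b, .c, .b, .c, .a, .c, .b, .d, .b, .d, .b, .c, .e, .c, .b, .c]))))) (nd 1240 (nd 1236 (nd 1234 (nd 1233 (lf [.d, .a, .e, .a, .c, .d, .c, .a, .c, .b, .c, .a, .c, .b, .a, .c, .d, .c, .a, .b, .c, .a, .c, .b, .c, .e, .a, .d, .b, .d, .c, .a, .e, .b, .c, .b, .c, .a, .c, .d, .b, .a, .b, .c, .a, .c, .a, .b, .a, .c, .b, .e, .a, .c, .d, .b]) (lf [.c, .d, .b, .d, .a, .e, .a, .c, .d, .c, .a, .b, .d, .c, .d, .c, .b, .a, .c, .d, .c, .a, .b, .c, .d, .c, .d, .b, .e, .a, .d, .b, .d, .c, .a, .e, .a, .c, .b, .a, .c, .b, .d, .b, .c, .a, .b, .a, .b, .c, .b, .c, .a, .b, .c, .b, .a, .b, .e, .a])) (nd 1235 (lf [.b, .a, .c, .b, .c, .a, .b, .a, .b, .e, .d, .a, .b, .a, .a, .c, .b, .c, .b, .c, .b, .a, .a, .b,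 .a, .d, .a, .b, .c, .b, .c, .b, .c, .a, .e, .c, .b, .a]) (lf [.d, .c, .a, .e, .d, .c, .a, .c, .a, .d, .c, .a, .d, .c, .a, .b, .a, .c, .a, .c, .b, .a, .c, .a, .b, .e, .a, .c, .d, .b, .d, .a, .e, .b, .d, .b, .a, .c, .a, .c, .b, .c, .a, .c, .b, .a, .c, .a, .b, .d, .b, .b, .c, .a, .c, .b, .c, .e, .a, .d, .b]))) (nd 1238 (nd 1237 (lf [.b, .a, .b, .c, .e, .a, .c, .b, .c, .b, .c, .b, .a, .d, .a, .b, .a, .a, .b, .c, .b, .c, .b, .c, .a, .a, .b, .a, .d, .e, .b, .a, .b, .a, .c, .b, .c, .a]) (lf [.e, .b, .c, .b, .a, .b, .c, .b, .a, .e, .d, .e, .d, .b, .e, .a, .e, .b, .a, .c, .b, .a, .c, .b, .a, .b, .c, .b, .c, .a, .d, .c, .a, .b, .a, .b, .e, .a, .e, .b, .d, .e, .d])) (nd 1239 (lf [.a, .e, .b, .d, .e, .d, .e, .a, .b, .c, .b, .a, .b, .c, .b, .e, .d, .e, .d, .b, .e, .a, .e, .b, .a, .b, .a, .c, .d, .a, .c, .b, .c, .b, .a, .b,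 .c, .a, .b, .c, .a, .b, .e]) (lf [.a, .e, .c, .b, .d, .a, .d, .c, .b, .d, .b, .a, .b, .c, .b, .c, .b, .a, .c, .b, .a, .b, .e, .a, .c, .d, .b, .d, .a, .e, .a, .c, .d, .c, .a, .b, .d, .b, .a, .c, .a, .a, .c, .d, .c, .a, .a, .c, .a, .b, .d, .b, .e, .a, .d, .b, .d, .c])))) (nd 1244 (nd 1242 (nd 1241 (lf [.b, .a, .c, .b, .c, .a, .b, .a, .b, .c, .e, .a, .c, .b, .c, .b, .c, .b, .a, .d, .a, .b, .a, .a, .b, .c, .b, .c, .b, .c, .a, .a, .b, .a, .d, .e, .b, .a]) (lf [.a, .b, .e, .d, .a, .b, .a, .a, .c, .b, .c, .b, .c, .b, .a, .a, .b, .a, .d, .a, .b, .c, .b, .c, .b, .c, .a, .e, .c, .b, .a, .b, .a, .c, .b, .c, .a, .b])) (nd 1243 (lf [.d, .b, .d, .a, .d, .b, .d, .a, .e, .d, .e, .d, .b, .e, .a, .e, .b, .a, .c, .a, .c, .b, .a, .c, .a, .b, .c, .a, .d, .a, .c, .b, .a, .c, .a, .e, .a, .e, .b, .d, .e, .d, .e]) (lf [.a, .b, .c, .b,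 .a, .e, .d, .e, .d, .b, .e, .a, .e, .b, .a, .c, .b, .a, .c, .b, .a, .b, .c, .b, .c, .a, .d, .c, .a, .b, .a, .b, .e, .a, .e, .b, .d, .e, .d, .e, .b, .c, .b]))) (nd 1246 (nd 1245 (lf [.d, .e, .d, .e, .c, .b, .c, .a, .c, .b, .c, .a, .e, .d, .e, .d, .b, .e, .a, .e, .a, .c, .a, .c, .b, .a, .c, .a, .b, .c, .a, .d, .c, .a, .d, .a, .d, .e, .a, .e, .b]) (lf [.d, .e, .c, .b, .c, .d, .b, .d, .c, .b, .c, .d, .b, .d, .e, .d, .e, .d, .b, .e, .a, .e, .b, .d, .a, .b, .a, .c, .a, .d, .a, .b, .a, .b, .c, .b, .c, .b, .a, .c, .b, .a, .b, .a, .e, .a, .e, .b, .d, .e])) (nd 1247 (lf [.e, .b, .d, .e, .d, .e, .c, .b, .c, .a, .c, .b, .c, .a, .e, .d, .e, .d, .b, .e, .a, .e, .a, .c, .a, .c, .b, .a, .c, .a, .b, .c, .a, .d, .c, .a, .d, .a, .d, .e, .a]) (lf [.e, .a, .e, .d, .a, .d, .a, .c, .d, .a, .c, .b, .a, .c, .a, .b, .c, .a, .c, .a, .e,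 .a, .e, .b, .d, .e, .d, .e, .a, .c, .b, .c, .a, .c, .b, .c, .e, .d, .e, .d, .b])))))) (nd 1264 (nd 1256 (nd 1252 (nd 1250 (nd 1249 (lf [.b, .e, .a, .e, .d, .a, .d, .a, .c, .d, .a, .c, .b, .a, .c, .a, .b, .c, .a, .c, .a, .e, .a, .e, .b, .d, .e, .d, .e, .a, .c, .b, .c, .a, .c, .b, .c, .e, .d, .e, .d]) (lf [.b, .d, .c, .a, .e, .a, .c, .b, .a, .c, .b, .d, .b, .c, .a, .b, .a, .b, .c, .b, .c, .a, .b, .c, .b, .a, .b, .e, .a, .c, .d, .b, .d, .a, .e, .a, .c, .d, .c, .a, .b, .d, .c, .d, .c, .b, .a, .c, .d, .c, .a, .b, .c, .d, .c, .d, .b, .e, .a, .d])) (nd 1251 (lf [.d, .e, .b, .c, .b, .a, .b, .c, .b, .a, .e, .d, .e, .d, .b, .e, .a, .e, .b, .a, .c, .b, .a, .c, .b, .a, .b, .c, .b, .c, .a, .d, .c, .a, .b, .a, .b, .e, .a, .e, .b, .d, .e]) (lf [.e, .a, .c, .b, .c, .a, .c, .b, .c, .e, .d, .e, .d, .b, .e, .a, .e, .d, .a, .d, .a,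 .c, .d, .a, .c, .b, .a, .c, .a, .b, .c, .a, .c, .a, .e, .a, .e, .b, .d, .e, .d]))) (nd 1254 (nd 1253 (lf [.e, .a, .e, .b, .a, .b, .a, .c, .d, .a, .c, .b, .c, .b, .a, .b, .c, .a, .b, .c, .a, .b, .e, .a, .e, .b, .d, .e, .d, .e, .a, .b, .c, .b, .a, .b, .c, .b, .e, .d, .e, .d, .b]) (lf [.e, .d, .b, .e, .a, .e, .b, .a, .c, .a, .c, .b, .a, .c, .a, .b, .c, .a, .d, .a, .c, .b, .a, .c, .a, .e, .a, .e, .b, .d, .e, .d, .e, .d, .b, .d, .a, .d, .b, .d, .a, .e, .d])) (nd 1255 (lf [.d, .a, .e, .a, .c, .d, .c, .a, .b, .d, .c, .d, .c, .b, .a, .c, .d, .c, .a, .b, .c, .d, .c, .d, .b, .e, .a, .d, .b, .d, .c, .a, .e, .a, .c, .b, .a, .c, .b, .d, .b, .c, .a, .b, .a, .b, .c, .b, .c, .a, .b, .c, .b, .a, .b, .e, .a, .c, .d, .b]) (lf [.b, .c, .a, .c, .b, .c, .a, .e, .d, .e, .d, .b, .e, .a, .e, .a, .c, .a, .c, .b, .a, .c, .a, .b, .c, .a,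 .d, .c, .a, .d, .a, .d, .e, .a, .e, .b, .d, .e, .d, .e, .c])))) (nd 1260 (nd 1258 (nd 1257 (lf [.d, .a, .e, .a, .c, .d, .c, .a, .b, .d, .b, .a, .c, .a, .a, .c, .d, .c, .a, .a, .c, .a, .b, .d, .b, .e, .a, .d, .b, .d, .c, .a, .e, .c, .b, .d, .a, .d, .c, .b, .d, .b, .a, .b, .c, .b, .c, .b, .a, .c, .b, .a, .b, .e, .a, .c, .d, .b]) (lf [.b, .c, .e, .d, .e, .d, .b, .e, .a, .e, .d, .a, .d, .a, .c, .d, .a, .c, .b, .a, .c, .a, .b, .c, .a, .c, .a, .e, .a, .e, .b, .d, .e, .d, .e, .a, .c, .b, .c, .a, .c])) (nd 1259 (lf [.b, .c, .a, .b, .a, .b, .c, .e, .a, .c, .b, .c, .b, .c, .b, .a, .d, .a, .b, .a, .a, .b, .c, .b, .c, .b, .c, .a, .a, .b, .a, .d, .e, .b, .a, .b, .a, .c]) (lf [.d, .e, .a, .c, .b, .c, .a, .c, .b, .c, .e, .d, .e, .d, .b, .e, .a, .e, .d, .a, .d, .a, .c, .d, .a, .c, .b, .a, .c, .a, .b, .c, .a, .c, .a, .e, .a, .e,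 .b, .d, .e]))) (nd 1262 (nd 1261 (lf [.c, .d, .b, .e, .c, .b, .d, .b, .d, .b, .c, .c, .d, .a, .b, .a, .c, .c, .b, .d, .b, .d, .b, .c, .c, .a, .b, .a, .d, .c, .e, .b, .c, .a, .c, .a, .b, .a, .c, .a, .b, .c, .d]) (lf [.b, .d, .c, .a, .e, .b, .c, .b, .c, .a, .c, .d, .b, .a, .b, .c, .a, .c, .a, .b, .a, .c, .b, .e, .a, .c, .d, .b, .d, .a, .e, .a, .c, .d, .c, .a, .c, .b, .c, .a, .c, .b, .a, .c, .d, .c, .a, .b, .c, .a, .c, .b, .c, .e, .a, .d])) (nd 1263 (lf [.b, .d, .a, .d, .b, .d, .e, .d, .e, .d, .b, .e, .a, .e, .a, .c, .a, .b, .c, .a, .d, .a, .c, .b, .a, .c, .a, .b, .c, .a, .c, .a, .b, .e, .a, .e, .b, .d, .e, .d, .e, .a, .d]) (lf [.e, .d, .e, .d, .b, .e, .a, .e, .a, .c, .a, .b, .c, .a, .d, .a, .c, .b, .a, .c, .a, .b, .c, .a, .c, .a, .b, .e, .a, .e, .b, .d, .e, .d, .e, .a, .d, .b, .d, .a, .d, .b, .d]))))) (nd 1272 (nd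 1268 (nd 1266 (nd 1265 (lf [.b, .a, .c, .a, .c, .b, .a, .b, .e, .b, .c, .e, .c, .d, .a, .b, .a, .c, .c, .b, .d, .a, .b, .a, .b, .c, .c, .a, .b, .a, .d, .c, .c, .b, .a, .b, .a, .d, .b, .c, .e, .c, .b, .e, .b, .a, .d, .a, .c, .b, .d]) (lf [.b, .d, .c, .a, .e, .b, .a, .b, .c, .b, .a, .c, .b, .c, .b, .a, .b, .a, .c, .b, .d, .b, .c, .a, .b, .c, .a, .e, .a, .c, .d, .b, .d, .a, .e, .b, .d, .c, .d, .c, .b, .a, .c, .d, .c, .a, .b, .c, .d, .c, .d, .b, .a, .c, .d, .c, .a, .e, .a, .d])) (nd 1267 (lf [.d, .e, .d, .e, .a, .b, .c, .b, .a, .b, .c, .b, .e, .d, .e, .d, .b, .e, .a, .e, .b, .a, .b, .a, .c, .d, .a, .c, .b, .c, .b, .a, .b, .c, .a, .b, .c, .a, .b, .e, .a, .e, .b]) (lf [.a, .b, .a, .b, .e, .d, .a, .b, .a, .a, .c, .b, .c, .b, .c, .b, .a, .a, .b, .a, .d, .a, .b, .c, .b, .c, .b, .c, .a, .e, .c, .b, .a, .b, .a, .c, .b, .c])))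 (nd 1270 (nd 1269 (lf [.b, .d, .e, .d, .e, .d, .b, .d, .a, .d, .b, .d, .a, .e, .d, .e, .d, .b, .e, .a, .e, .b, .a, .c, .a, .c, .b, .a, .c, .a, .b, .c, .a, .d, .a, .c, .b, .a, .c, .a, .e, .a, .e]) (lf [.e, .c, .b, .c, .d, .b, .d, .c, .b, .c, .d, .b, .d, .e, .d, .e, .d, .b, .e, .a, .e, .b, .d, .a, .b, .a, .c, .a, .d, .a, .b, .a, .b, .c, .b, .c, .b, .a, .c, .b, .a, .b, .a, .e, .a, .e, .b, .d, .e, .d])) (nd 1271 (lf [.a, .b, .e, .b, .c, .e, .c, .b, .d, .a, .b, .a, .b, .c, .d, .b, .d, .b, .d, .c, .b, .a, .b, .a, .d, .b, .c, .d, .b, .d, .b, .d, .e, .c, .b, .e, .a, .c, .b, .c, .a, .b, .a, .b, .c, .a, .b, .d, .c, .b, .d, .a, .d]) (lf [.d, .b, .c, .a, .b, .a, .d, .c, .b, .d, .b, .d, .b, .c, .e, .b, .c, .b, .a, .d, .b, .d, .c, .a, .b, .c, .b, .a, .c, .b, .a, .c, .a, .e, .d, .a, .b, .a, .c, .b, .d, .b])))) (nd 1276 (nd 1274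 (nd 1273 (lf [.c, .d, .b, .d, .a, .e, .b, .d, .b, .a, .c, .a, .a, .c, .d, .c, .a, .a, .c, .a, .b, .d, .b, .a, .c, .d, .c, .a, .e, .a, .d, .b, .d, .c, .a, .e, .b, .a, .b, .c, .a, .b, .c, .b, .c, .b, .a, .b, .d, .b, .c, .d, .a, .d, .b, .c, .e, .a]) (lf [.b, .d, .e, .d, .e, .a, .b, .c, .b, .a, .b, .c, .b, .e, .d, .e, .d, .b, .e, .a, .e, .b, .a, .b, .a, .c, .d, .a, .c, .b, .c, .b, .a, .b, .c, .a, .b, .c, .a, .b, .e, .a, .e])) (nd 1275 (lf [.c, .b, .a, .b, .c, .b, .e, .d, .e, .d, .b, .e, .a, .e, .b, .a, .b, .a, .c, .d, .a, .c, .b, .c, .b, .a, .b, .c, .a, .b, .c, .a, .b, .e, .a, .e, .b, .d, .e, .d, .e, .a, .b]) (lf [.b, .c, .a, .c, .b, .c, .e, .d, .e, .d, .b, .e, .a, .e, .d, .a, .d, .a, .c, .d, .a, .c, .b, .a, .c, .a, .b, .c, .a, .c, .a, .e, .a, .e, .b, .d, .e, .d, .e, .a, .c]))) (nd 1278 (nd 1277 (lf [.d, .b, .d, .a,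 .b, .c, .b, .c, .a, .b, .a, .b, .e, .c, .d, .a, .b, .a, .c, .a, .c, .b, .c, .b, .c, .b, .a, .c, .a, .b, .a, .d, .c, .a, .b, .c, .b, .c, .b, .c, .a, .e, .c, .d, .b]) (lf [.a, .c, .b, .c, .a, .e, .d, .e, .d, .b, .e, .a, .e, .a, .c, .a, .c, .b, .a, .c, .a, .b, .c, .a, .d, .c, .a, .d, .a, .d, .e, .a, .e, .b, .d, .e, .d, .e, .c, .b, .c])) (nd 1279 (lf [.a, .e, .a, .c, .b, .a, .c, .b, .d, .b, .c, .a, .b, .a, .b, .c, .b, .c, .a, .b, .c, .b, .a, .b, .e, .a, .c, .d, .b, .d, .a, .e, .a, .c, .d, .c, .a, .b, .d, .c, .d, .c, .b, .a, .c, .d, .c, .a, .b, .c, .d, .c, .d, .b, .e, .a, .d, .b, .d, .c]) (lf [.c, .d, .b, .d, .a, .e, .a, .c, .d, .c, .a, .b, .d, .b, .a, .c, .a, .a, .c, .d, .c, .a, .a, .c, .a, .b, .d, .b, .e, .a, .d, .b, .d, .c, .a, .e, .c, .b, .d, .a, .d, .c, .b, .d, .b, .a, .b, .c, .b, .c, .b, .a, .c, .b, .a, .b, .e,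 .a])))))))
noncomputable def tc3kw_circT_c20 : ℕ → List Gen := (nd 1312 (nd 1296 (nd 1288 (nd 1284 (nd 1282 (nd 1281 (lf [.c, .b, .c, .b, .c, .a, .a, .c, .b, .d, .b, .d, .b, .c, .a, .e, .b, .a, .c, .b, .d, .a, .d, .b, .c, .b, .c, .a, .b, .a, .c, .b, .a, .b, .a, .e, .a, .c, .b, .c, .b, .c, .b, .a, .a, .c, .b, .d, .b, .d, .b, .c, .a, .a, .b]) (lf [.b, .d, .b, .c, .a, .a, .b, .c, .b, .c, .b, .c, .a, .a, .c, .b, .d, .b, .d, .b, .c, .a, .e, .b, .a, .c, .b, .d, .a, .d, .b, .c, .b, .c, .a, .b, .a, .c, .b, .a, .b, .a, .e, .a, .c, .b, .c, .b, .c, .b, .a, .a, .c, .b, .d])) (nd 1283 (lf [.b, .a, .d, .c, .d, .b, .e, .a, .c, .b, .c, .b, .c, .b, .a, .c, .b, .d, .b, .d, .b, .c, .a, .b, .c, .b, .c, .b, .c, .a, .c, .b, .d, .b, .d, .b, .c, .e, .c, .b, .c, .b, .c, .a]) (lf [.b, .d, .b, .c, .c, .d, .a, .b, .a, .c, .c, .b, .d, .b,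 .d, .b, .c, .c, .a, .b, .a, .d, .c, .e, .b, .c, .a, .c, .a, .b, .a, .c, .a, .b, .c, .d, .c, .d, .b, .e, .c, .b, .d]))) (nd 1286 (nd 1285 (lf [.a, .c, .b, .a, .c, .a, .b, .e, .b, .c, .e, .b, .d, .c, .a, .b, .a, .c, .d, .b, .d, .c, .a, .b, .a, .c, .d, .e, .c, .b, .e, .c, .b, .c, .b, .c, .b, .d, .c, .a, .b]) (lf [.a, .e, .c, .d, .e, .b, .d, .b, .d, .b, .a, .d, .c, .a, .c, .d, .a, .b, .d, .b, .d, .b, .a, .d, .c, .a, .c, .d, .a, .e, .d, .c, .e, .b, .a, .c, .d, .b, .a, .b, .d, .a, .b, .c, .a, .b, .c, .a, .c, .b])) (nd 1287 (lf [.c, .b, .a, .c, .d, .b, .d, .a, .b, .c, .b, .e, .c, .b, .d, .b, .d, .b, .c, .d, .a, .b, .a, .c, .b, .d, .b, .d, .b, .c, .a, .b, .a, .d, .e, .a, .c, .a, .b, .c, .a, .b]) (lf [.c, .a, .b, .a, .d, .c, .e, .c, .b, .e, .b, .c, .d, .a, .d, .c, .d, .a, .c, .b, .a, .c, .b, .a, .c, .a, .c, .a, .b, .a,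 .e, .b, .c, .e, .b, .c, .d, .a, .b, .a, .c, .b])))) (nd 1292 (nd 1290 (nd 1289 (lf [.c, .b, .c, .e, .d, .e, .d, .b, .e, .a, .e, .d, .a, .d, .a, .c, .d, .a, .c, .b, .a, .c, .a, .b, .c, .a, .c, .a, .e, .a, .e, .b, .d, .e, .d, .e, .a, .c, .b, .c, .a]) (lf [.b, .d, .a, .e, .b, .d, .b, .a, .c, .a, .b, .d, .c, .d, .c, .b, .a, .c, .a, .b, .d, .b, .b, .c, .d, .c, .d, .b, .e, .a, .d, .b, .d, .c, .a, .e, .a, .c, .d, .a, .d, .c, .a, .e, .a, .c, .d])) (nd 1291 (lf [.c, .b, .a, .b, .c, .b, .a, .e, .d, .e, .d, .b, .e, .a, .e, .b, .a, .c, .b, .a, .c, .b, .a, .b, .c, .b, .c, .a, .d, .c, .a, .b, .a, .b, .e, .a, .e, .b, .d, .e, .d, .e, .b]) (lf [.c, .a, .e, .b, .c, .b, .c, .a, .c, .d, .b, .a, .b, .c, .a, .c, .a, .b, .a, .c, .b, .e, .a, .c, .d, .b, .d, .a, .e, .a, .c, .d, .c, .a, .c, .b, .c, .a, .c, .b, .a, .c, .d, .c, .a, .b, .c,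 .a, .c, .b, .c, .e, .a, .d, .b, .d]))) (nd 1294 (nd 1293 (lf [.d, .e, .d, .e, .d, .b, .e, .a, .e, .a, .c, .a, .b, .c, .a, .d, .a, .c, .b, .a, .c, .a, .b, .c, .a, .c, .a, .b, .e, .a, .e, .b, .d, .e, .d, .e, .a, .d, .b, .d, .a, .d, .b]) (lf [.e, .d, .b, .d, .a, .d, .b, .d, .a, .e, .d, .e, .d, .b, .e, .a, .e, .b, .a, .c, .a, .c, .b, .a, .c, .a, .b, .c, .a, .d, .a, .c, .b, .a, .c, .a, .e, .a, .e, .b, .d, .e, .d])) (nd 1295 (lf [.c, .b, .c, .a, .e, .d, .e, .d, .b, .e, .a, .e, .a, .c, .a, .c, .b, .a, .c, .a, .b, .c, .a, .d, .c, .a, .d, .a, .d, .e, .a, .e, .b, .d, .e, .d, .e, .c, .b, .c, .a]) (lf [.b, .d, .c, .a, .e, .b, .a, .b, .c, .a, .b, .c, .b, .c, .b, .a, .b, .d, .b, .c, .d, .a, .d, .b, .c, .e, .a, .c, .d, .b, .d, .a, .e, .b, .d, .b, .a, .c, .a, .a, .c, .d, .c, .a, .a, .c, .a, .b, .d, .b, .a, .c, .d, .c, .a, .e,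 .a, .d]))))) (nd 1304 (nd 1300 (nd 1298 (nd 1297 (lf [.d, .a, .e, .d, .e, .d, .b, .e, .a, .e, .b, .a, .c, .a, .c, .b, .a, .c, .a, .b, .c, .a, .d, .a, .c, .b, .a, .c, .a, .e, .a, .e, .b, .d, .e, .d, .e, .d, .b, .d, .a, .d, .b]) (lf [.a, .b, .c, .d, .c, .d, .b, .e, .c, .b, .d, .b, .d, .b, .c, .c, .d, .a, .b, .a, .c, .c, .b, .d, .b, .d, .b, .c, .c, .a, .b, .a, .d, .c, .e, .b, .c, .a, .c, .a, .b, .a, .c])) (nd 1299 (lf [.a, .c, .b, .c, .b, .a, .d, .b, .d, .b, .d, .c, .e, .a, .c, .b, .c, .b, .c, .b, .a, .c, .d, .a, .b, .a, .c, .a, .b, .c, .b, .c, .b, .c, .a, .c, .a, .b, .a, .d, .c, .e, .b, .a, .b]) (lf [.a, .d, .b, .c, .b, .c, .a, .b, .a, .c, .b, .a, .b, .a, .e, .a, .c, .b, .c, .b, .c, .b, .a, .a, .c, .b, .d, .b, .d, .b, .c, .a, .a, .b, .c, .b, .c, .b, .c, .a, .a, .c, .b, .d, .b, .d, .b, .c, .a, .e, .b, .a, .c, .b,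 .d]))) (nd 1302 (nd 1301 (lf [.a, .e, .b, .a, .b, .c, .a, .b, .c, .b, .c, .b, .a, .b, .d, .b, .c, .d, .a, .d, .b, .c, .e, .a, .c, .d, .b, .d, .a, .e, .b, .d, .b, .a, .c, .a, .a, .c, .d, .c, .a, .a, .c, .a, .b, .d, .b, .a, .c, .d, .c, .a, .e, .a, .d, .b, .d, .c]) (lf [.b, .a, .d, .b, .d, .b, .d, .c, .e, .a, .c, .b, .c, .b, .c, .b, .a, .c, .d, .a, .b, .a, .c, .a, .b, .c, .b, .c, .b, .c, .a, .c, .a, .b, .a, .d, .c, .e, .b, .a, .b, .a, .c, .b, .c])) (nd 1303 (lf [.a, .c, .b, .c, .b, .c, .e, .c, .b, .d, .b, .d, .b, .c, .a, .c, .b, .c, .b, .c, .b, .a, .c, .b, .d, .b, .d, .b, .c, .a, .b, .c, .b, .c, .b, .c, .a, .e, .b, .d, .c, .d, .a, .b]) (lf [.d, .c, .b, .a, .c, .a, .b, .d, .b, .b, .c, .d, .c, .d, .b, .e, .a, .d, .b, .d, .c, .a, .e, .a, .c, .d, .a, .d, .c, .a, .e, .a, .c, .d, .b, .d, .a, .e, .b, .d, .b, .a, .c, .a,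 .b, .d, .c])))) (nd 1308 (nd 1306 (nd 1305 (lf [.b, .e, .c, .b, .e, .a, .b, .a, .c, .a, .c, .a, .b, .c, .a, .b, .c, .a, .d, .c, .d, .a, .d, .c, .b, .e, .b, .c, .e, .c, .d, .a, .b, .a, .c, .b, .c, .a, .b, .a, .d, .c]) (lf [.d, .b, .d, .b, .d, .c, .e, .a, .c, .b, .c, .b, .c, .b, .a, .c, .d, .a, .b, .a, .c, .a, .b, .c, .b, .c, .b, .c, .a, .c, .a, .b, .a, .d, .c, .e, .b, .a, .b, .a, .c, .b, .c, .b, .a])) (nd 1307 (lf [.b, .d, .a, .e, .c, .b, .c, .a, .c, .b, .a, .c, .d, .c, .a, .b, .c, .a, .c, .b, .c, .a, .c, .d, .c, .a, .e, .a, .d, .b, .d, .c, .a, .e, .b, .c, .a, .b, .a, .c, .a, .c, .b, .a, .b, .d, .c, .a, .c, .b, .c, .b, .e, .a, .c, .d]) (lf [.b, .a, .d, .c, .e, .c, .b, .e, .b, .c, .d, .a, .d, .c, .d, .a, .c, .b, .a, .c, .b, .a, .c, .a, .c, .a, .b, .a, .e, .b, .c, .e, .b, .c, .d, .a, .b, .a, .c, .b, .c, .a]))) (nd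 1310 (nd 1309 (lf [.a, .c, .d, .a, .d, .c, .a, .e, .a, .c, .d, .b, .d, .a, .e, .b, .d, .b, .a, .c, .a, .b, .d, .c, .d, .c, .b, .a, .c, .a, .b, .d, .b, .b, .c, .d, .c, .d, .b, .e, .a, .d, .b, .d, .c, .a, .e]) (lf [.a, .c, .d, .c, .a, .b, .d, .c, .d, .c, .b, .a, .c, .d, .c, .a, .b, .c, .d, .c, .d, .b, .e, .a, .d, .b, .d, .c, .a, .e, .a, .c, .b, .a, .c, .b, .d, .b, .c, .a, .b, .a, .b, .c, .b, .c, .a, .b, .c, .b, .a, .b, .e, .a, .c, .d, .b, .d, .a, .e])) (nd 1311 (lf [.c, .a, .b, .a, .d, .c, .d, .b, .e, .a, .c, .b, .c, .b, .c, .b, .a, .c, .b, .d, .b, .d, .b, .c, .a, .b, .c, .b, .c, .b, .c, .a, .c, .b, .d, .b, .d, .b, .c, .e, .c, .b, .c, .b]) (lf [.a, .e, .d, .a, .d, .a, .c, .d, .a, .c, .b, .a, .c, .a, .b, .c, .a, .c, .a, .e, .a, .e, .b, .d, .e, .d, .e, .a, .c, .b, .c, .a, .c, .b, .c, .e, .d, .e, .d, .b, .e])))))) (nd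 1328 (nd 1320 (nd 1316 (nd 1314 (nd 1313 (lf [.b, .e, .a, .e, .b, .a, .c, .b, .c, .b, .a, .b, .c, .a, .b, .d, .c, .d, .a, .c, .b, .a, .e, .a, .e, .b, .d, .e, .d, .e, .d, .b, .d, .b, .c, .b, .d, .b, .d, .b, .c, .b, .e, .d, .e, .d]) (lf [.e, .d, .b, .e, .a, .e, .a, .c, .a, .c, .b, .a, .c, .a, .b, .c, .a, .d, .c, .a, .d, .a, .d, .e, .a, .e, .b, .d, .e, .d, .e, .c, .b, .c, .a, .c, .b, .c, .a, .e, .d])) (nd 1315 (lf [.d, .e, .d, .e, .a, .c, .b, .c, .a, .c, .b, .c, .e, .d, .e, .d, .b, .e, .a, .e, .d, .a, .d, .a, .c, .d, .a, .c, .b, .a, .c, .a, .b, .c, .a, .c, .a, .e, .a, .e, .b]) (lf [.c, .b, .c, .b, .a, .d, .b, .d, .b, .d, .c, .e, .a, .c, .b, .c, .b, .c, .b, .a, .c, .d, .a, .b, .a, .c, .a, .b, .c, .b, .c, .b, .c, .a, .c, .a, .b, .a, .d, .c, .e, .b, .a, .b, .a]))) (nd 1318 (nd 1317 (lf [.d, .c, .b, .c, .b, .c, .a, .b,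 .c, .a, .b, .c, .e, .a, .e, .a, .c, .a, .c, .a, .b, .d, .c, .d, .b, .a, .c, .a, .c, .a, .b, .d, .c, .d, .b, .e, .a, .e, .c, .a, .b, .c, .a]) (lf [.c, .a, .c, .b, .c, .a, .e, .d, .e, .d, .b, .e, .a, .e, .a, .c, .a, .c, .b, .a, .c, .a, .b, .c, .a, .d, .c, .a, .d, .a, .d, .e, .a, .e, .b, .d, .e, .d, .e, .c, .b])) (nd 1319 (lf [.d, .e, .a, .b, .c, .b, .a, .b, .c, .b, .e, .d, .e, .d, .b, .e, .a, .e, .b, .a, .b, .a, .c, .d, .a, .c, .b, .c, .b, .a, .b, .c, .a, .b, .c, .a, .b, .e, .a, .e, .b, .d, .e]) (lf [.a, .e, .d, .e, .d, .b, .e, .a, .e, .a, .c, .a, .c, .b, .a, .c, .a, .b, .c, .a, .d, .c, .a, .d, .a, .d, .e, .a, .e, .b, .d, .e, .d, .e, .c, .b, .c, .a, .c, .b, .c])))) (nd 1324 (nd 1322 (nd 1321 (lf [.b, .d, .c, .b, .c, .d, .b, .d, .e, .d, .e, .d, .b, .e, .a, .e, .b, .d, .a, .b, .a, .c, .a, .d, .a, .b, .a, .b, .c, .b,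 .c, .b, .a, .c, .b, .a, .b, .a, .e, .a, .e, .b, .d, .e, .d, .e, .c, .b, .c, .d]) (lf [.b, .c, .b, .c, .e, .c, .b, .d, .b, .d, .b, .c, .a, .c, .b, .c, .b, .c, .b, .a, .c, .b, .d, .b, .d, .b, .c, .a, .b, .c, .b, .c, .b, .c, .a, .e, .b, .d, .c, .d, .a, .b, .a, .c])) (nd 1323 (lf [.d, .a, .d, .b, .d, .a, .e, .d, .e, .d, .b, .e, .a, .e, .b, .a, .c, .a, .c, .b, .a, .c, .a, .b, .c, .a, .d, .a, .c, .b, .a, .c, .a, .e, .a, .e, .b, .d, .e, .d, .e, .d, .b]) (lf [.e, .b, .a, .b, .c, .a, .b, .c, .b, .c, .b, .a, .b, .d, .b, .c, .d, .a, .d, .b, .c, .e, .a, .c, .d, .b, .d, .a, .e, .b, .d, .b, .a, .c, .a, .a, .c, .d, .c, .a, .a, .c, .a, .b, .d, .b, .a, .c, .d, .c, .a, .e, .a, .d, .b, .d, .c, .a]))) (nd 1326 (nd 1325 (lf [.e, .a, .e, .a, .c, .a, .b, .c, .a, .d, .a, .c, .b, .a, .c, .a, .b, .c, .a, .c, .a, .b, .e, .a, .e, .b, .d,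 .e, .d, .e, .a, .d, .b, .d, .a, .d, .b, .d, .e, .d, .e, .d, .b]) (lf [.a, .c, .a, .b, .d, .b, .c, .a, .d, .a, .b, .e, .b, .c, .e, .c, .b, .d, .a, .b, .a, .b, .c, .c, .d, .a, .b, .a, .c, .c, .b, .a, .b, .a, .d, .b, .c, .c, .a, .b, .a, .d, .c, .e, .c, .b, .e, .b, .a, .b, .c])) (nd 1327 (lf [.d, .c, .a, .e, .b, .c, .a, .b, .a, .c, .a, .c, .b, .a, .b, .d, .c, .a, .c, .b, .c, .b, .e, .a, .c, .d, .b, .d, .a, .e, .c, .b, .c, .a, .c, .b, .a, .c, .d, .c, .a, .b, .c, .a, .c, .b, .c, .a, .c, .d, .c, .a, .e, .a, .d, .b]) (lf [.c, .b, .c, .a, .e, .b, .d, .c, .d, .a, .b, .a, .c, .b, .c, .b, .c, .e, .c, .b, .d, .b, .d, .b, .c, .a, .c, .b, .c, .b, .c, .b, .a, .c, .b, .d, .b, .d, .b, .c, .a, .b, .c, .b]))))) (nd 1336 (nd 1332 (nd 1330 (nd 1329 (lf [.d, .e, .d, .e, .d, .b, .d, .a, .d, .b, .d, .a, .e, .d, .e, .d, .b, .e, .a, .e,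 .b, .a, .c, .a, .c, .b, .a, .c, .a, .b, .c, .a, .d, .a, .c, .b, .a, .c, .a, .e, .a, .e, .b]) (lf [.a, .c, .d, .b, .a, .b, .d, .a, .b, .c, .a, .b, .c, .a, .c, .b, .a, .e, .c, .d, .e, .b, .d, .b, .d, .b, .a, .d, .c, .a, .c, .d, .a, .b, .d, .b, .d, .b, .a, .d, .c, .a, .c, .d, .a, .e, .d, .c, .e, .b])) (nd 1331 (lf [.a, .e, .c, .b, .a, .b, .a, .c, .b, .c, .a, .b, .a, .b, .e, .d, .a, .b, .a, .a, .c, .b, .c, .b, .c, .b, .a, .a, .b, .a, .d, .a, .b, .c, .b, .c, .b, .c]) (lf [.e, .d, .e, .d, .b, .e, .a, .e, .b, .d, .a, .b, .a, .c, .a, .d, .a, .b, .a, .b, .c, .b, .c, .b, .a, .c, .b, .a, .b, .a, .e, .a, .e, .b, .d, .e, .d, .e, .c, .b, .c, .d, .b, .d, .c, .b, .c, .d, .b, .d]))) (nd 1334 (nd 1333 (lf [.e, .d, .e, .d, .b, .e, .a, .e, .a, .b, .a, .b, .c, .a, .b, .c, .b, .c, .b, .a, .b, .a, .d, .a, .c, .a, .b, .a, .d, .b, .e,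 .a, .e, .b, .d, .e, .d, .e, .d, .b, .d, .c, .b, .c, .d, .b, .d, .c, .b, .c]) (lf [.d, .b, .e, .a, .e, .b, .d, .a, .b, .a, .c, .a, .d, .a, .b, .a, .b, .c, .b, .c, .b, .a, .c, .b, .a, .b, .a, .e, .a, .e, .b, .d, .e, .d, .e, .c, .b, .c, .d, .b, .d, .c, .b, .c, .d, .b, .d, .e, .d, .e])) (nd 1335 (lf [.b, .d, .e, .d, .e, .b, .c, .b, .d, .b, .d, .b, .c, .b, .d, .b, .d, .e, .d, .e, .d, .b, .e, .a, .e, .a, .b, .c, .a, .d, .c, .d, .b, .a, .c, .b, .a, .b, .c, .b, .c, .a, .b, .e, .a, .e]) (lf [.b, .c, .a, .b, .a, .b, .e, .c, .d, .a, .b, .a, .c, .a, .c, .b, .c, .b, .c, .b, .a, .c, .a, .b, .a, .d, .c, .a, .b, .c, .b, .c, .b, .c, .a, .e, .c, .d, .b, .d, .b, .d, .a, .b, .c])))) (nd 1340 (nd 1338 (nd 1337 (lf [.b, .d, .a, .e, .b, .d, .b, .a, .c, .a, .c, .b, .c, .a, .c, .b, .a, .c, .a, .b, .d, .b, .b, .c, .a, .c, .b, .c, .e, .a,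 .d, .b, .d, .c, .a, .e, .d, .c, .a, .c, .a, .d, .c, .a, .d, .c, .a, .b, .a, .c, .a, .c, .b, .a, .c, .a, .b, .e, .a, .c, .d]) (lf [.b, .d, .b, .d, .a, .c, .b, .a, .b, .c, .a, .b, .c, .a, .b, .a, .e, .a, .b, .e, .a, .c, .a, .c, .a, .b, .a, .b, .d, .b, .a, .b, .a, .a, .c, .a, .c, .a, .a, .b, .a, .b, .d, .b, .a, .b, .e, .b, .a, .e, .c, .d])) (nd 1339 (lf [.c, .e, .b, .c, .a, .c, .a, .b, .a, .c, .a, .b, .c, .d, .c, .d, .b, .e, .c, .b, .d, .b, .d, .b, .c, .c, .d, .a, .b, .a, .c, .c, .b, .d, .b, .d, .b, .c, .c, .a, .b, .a, .d]) (lf [.e, .d, .e, .d, .b, .e, .a, .e, .d, .a, .d, .a, .c, .d, .a, .c, .b, .a, .c, .a, .b, .c, .a, .c, .a, .e, .a, .e, .b, .d, .e, .d, .e, .a, .c, .b, .c, .a, .c, .b, .c]))) (nd 1342 (nd 1341 (lf [.a, .d, .b, .d, .c, .a, .e, .c, .b, .d, .a, .d, .c, .b, .d, .b, .a, .b, .c, .b, .c, .b, .a, .c, .b,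 .a, .b, .e, .a, .c, .d, .b, .d, .a, .e, .a, .c, .d, .c, .a, .b, .d, .b, .a, .c, .a, .a, .c, .d, .c, .a, .a, .c, .a, .b, .d, .b, .e]) (lf [.c, .b, .e, .d, .e, .d, .b, .e, .a, .e, .b, .a, .b, .a, .c, .d, .a, .c, .b, .c, .b, .a, .b, .c, .a, .b, .c, .a, .b, .e, .a, .e, .b, .d, .e, .d, .e, .a, .b, .c, .b, .a, .b])) (nd 1343 (lf [.b, .d, .e, .d, .e, .d, .b, .e, .a, .e, .a, .b, .c, .a, .d, .c, .d, .b, .a, .c, .b, .a, .b, .c, .b, .c, .a, .b, .e, .a, .e, .b, .d, .e, .d, .e, .b, .c, .b, .d, .b, .d, .b, .c, .b, .d]) (lf [.d, .b, .c, .a, .a, .b, .c, .b, .c, .b, .c, .a, .a, .c, .b, .d, .b, .d, .b, .c, .a, .e, .b, .a, .c, .b, .d, .a, .d, .b, .c, .b, .c, .a, .b, .a, .c, .b, .a, .b, .a, .e, .a, .c, .b, .c, .b, .c, .b, .a, .a, .c, .b, .d, .b])))))))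
noncomputable def tc3kw_circT_c21 : ℕ → List Gen := (nd 1376 (nd 1360 (nd 1352 (nd 1348 (nd 1346 (nd 1345 (lf [.a, .d, .c, .e, .b, .c, .a, .c, .a, .b, .a, .c, .a, .b, .c, .d, .c, .d, .b, .e, .c, .b, .d, .b, .d, .b, .c, .c, .d, .a, .b, .a, .c, .c, .b, .d, .b, .d, .b, .c, .c, .a, .b]) (lf [.d, .a, .b, .d, .a, .c, .b, .c, .b, .a, .c, .b, .c, .a, .e, .b, .c, .e, .d, .c, .a, .b, .a, .c, .d, .c, .b, .d, .a, .b, .a, .b, .c, .d, .c, .a, .b, .a, .c, .d, .c, .b, .a, .b, .a, .d, .b, .c, .e, .c, .b, .e, .c, .b])) (nd 1347 (lf [.b, .c, .a, .c, .b, .a, .e, .c, .d, .e, .b, .d, .b, .d, .b, .a, .d, .c, .a, .c, .d, .a, .b, .d, .b, .d, .b, .a, .d, .c, .a, .c, .d, .a, .e, .d, .c, .e, .b, .a, .c, .d, .b, .a, .b, .d, .a, .b, .c, .a]) (lf [.d, .b, .c, .e, .b, .c, .e, .c, .b, .d, .a, .b, .a, .b, .c, .d, .c, .a, .b, .a, .c, .d, .c, .b,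 .a, .b, .a, .d, .b, .c, .d, .c, .a, .b, .a, .c, .d, .e, .c, .b, .e, .a, .c, .b, .c, .a, .b, .c, .b, .c, .a, .d, .b, .a]))) (nd 1350 (nd 1349 (lf [.c, .a, .c, .b, .c, .b, .e, .a, .c, .d, .b, .d, .a, .e, .c, .b, .c, .a, .c, .b, .a, .c, .d, .c, .a, .b, .c, .a, .c, .b, .c, .a, .c, .d, .c, .a, .e, .a, .d, .b, .d, .c, .a, .e, .b, .c, .a, .b, .a, .c, .a, .c, .b, .a, .b, .d]) (lf [.c, .b, .a, .c, .a, .e, .d, .a, .b, .a, .c, .b, .d, .b, .d, .b, .c, .a, .b, .a, .d, .c, .b, .d, .b, .d, .b, .c, .e, .b, .c, .b, .a, .d, .b, .d, .c, .a, .b, .c, .b, .a])) (nd 1351 (lf [.c, .a, .b, .a, .b, .e, .a, .c, .b, .d, .b, .d, .b, .c, .a, .c, .d, .a, .b, .a, .c, .a, .c, .b, .d, .b, .d, .b, .c, .a, .c, .a, .b, .a, .d, .c, .e, .b, .c, .b, .a, .c, .b, .a, .b, .c, .b, .c, .b, .a, .d, .b, .c, .d]) (lf [.c, .b, .a, .c, .e, .a, .e, .b, .d, .c,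 .d, .b, .a, .c, .a, .c, .a, .b, .d, .c, .d, .b, .a, .c, .a, .c, .a, .e, .a, .e, .c, .b, .a, .c, .b, .a, .c, .b, .c, .b, .c, .d, .a])))) (nd 1356 (nd 1354 (nd 1353 (lf [.a, .b, .a, .c, .e, .a, .b, .e, .d, .b, .c, .b, .a, .b, .c, .b, .d, .b, .a, .b, .d, .b, .a, .b, .a, .d, .b, .c, .b, .a, .b, .c, .b, .d, .a, .b, .a, .b, .d, .b, .a, .b, .e, .b, .a, .e, .b, .a, .c, .b, .c, .a, .b, .c, .a, .b, .a, .d, .a, .c, .a, .c]) (lf [.c, .e, .a, .e, .a, .c, .a, .c, .a, .b, .d, .c, .d, .b, .a, .c, .a, .c, .a, .b, .d, .c, .d, .b, .e, .a, .e, .c, .a, .b, .c, .a, .d, .c, .b, .c, .b, .c, .a, .b, .c, .a, .b])) (nd 1355 (lf [.b, .a, .c, .a, .c, .b, .c, .a, .c, .b, .a, .c, .a, .b, .d, .b, .b, .c, .a, .c, .b, .c, .e, .a, .d, .b, .d, .c, .a, .e, .d, .c, .a, .c, .a, .d, .c, .a, .d, .c, .a, .b, .a, .c, .a, .c, .b, .a, .c, .a, .b, .e, .a,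 .c, .d, .b, .d, .a, .e, .b, .d]) (lf [.c, .a, .b, .a, .c, .a, .b, .c, .d, .c, .d, .b, .e, .c, .b, .d, .b, .d, .b, .c, .c, .d, .a, .b, .a, .c, .c, .b, .d, .b, .d, .b, .c, .c, .a, .b, .a, .d, .c, .e, .b, .c, .a]))) (nd 1358 (nd 1357 (lf [.b, .d, .a, .b, .c, .b, .c, .a, .b, .a, .b, .e, .c, .d, .a, .b, .a, .c, .a, .c, .b, .c, .b, .c, .b, .a, .c, .a, .b, .a, .d, .c, .a, .b, .c, .b, .c, .b, .c, .a, .e, .c, .d, .b, .d]) (lf [.b, .a, .d, .c, .e, .b, .c, .a, .c, .a, .b, .a, .c, .a, .b, .c, .d, .c, .d, .b, .e, .c, .b, .d, .b, .d, .b, .c, .c, .d, .a, .b, .a, .c, .c, .b, .d, .b, .d, .b, .c, .c, .a])) (nd 1359 (lf [.a, .c, .d, .b, .d, .a, .e, .a, .c, .d, .c, .a, .b, .d, .b, .a, .c, .a, .a, .c, .d, .c, .a, .a, .c, .a, .b, .d, .b, .e, .a, .d, .b, .d, .c, .a, .e, .c, .b, .d, .a, .d, .c, .b, .d, .b, .a, .b, .c, .b, .c, .b, .a,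 .c, .b, .a, .b, .e]) (lf [.c, .b, .c, .a, .a, .b, .a, .d, .e, .b, .a, .b, .a, .c, .b, .c, .a, .b, .a, .b, .c, .e, .a, .c, .b, .c, .b, .c, .b, .a, .d, .a, .b, .a, .a, .b, .c, .b]))))) (nd 1368 (nd 1364 (nd 1362 (nd 1361 (lf [.d, .b, .d, .b, .c, .a, .a, .b, .a, .d, .e, .a, .b, .a, .c, .a, .c, .a, .b, .c, .a, .b, .c, .b, .c, .d, .a, .c, .b, .a, .b, .d, .a, .e, .a, .c, .b, .d, .b, .d, .b, .c, .a, .d, .a, .b, .a, .a, .c, .b]) (lf [.a, .b, .e, .a, .c, .b, .d, .b, .d, .b, .c, .a, .a, .c, .b, .c, .b, .c, .b, .a, .a, .c, .b, .d, .b, .d, .b, .c, .a, .a, .b, .c, .b, .c, .b, .c, .a, .e, .a, .b, .a, .b, .c, .a, .b, .a, .c, .b, .c, .b, .d, .a, .d, .b, .c])) (nd 1363 (lf [.b, .c, .d, .a, .c, .b, .a, .c, .e, .a, .e, .b, .d, .c, .d, .b, .a, .c, .a, .c, .a, .b, .d, .c, .d, .b, .a, .c, .a, .c, .a, .e, .a, .e, .c, .b, .a, .c, .b,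 .a, .c, .b, .c]) (lf [.b, .a, .c, .a, .b, .c, .a, .b, .a, .c, .d, .b, .c, .b, .c, .b, .c, .e, .b, .c, .e, .d, .c, .a, .b, .a, .c, .d, .b, .d, .c, .a, .b, .a, .c, .d, .b, .e, .c, .b, .e]))) (nd 1366 (nd 1365 (lf [.d, .a, .b, .e, .b, .c, .e, .c, .b, .d, .a, .b, .a, .b, .c, .d, .b, .d, .b, .d, .c, .b, .a, .b, .a, .d, .b, .c, .d, .b, .d, .b, .d, .e, .c, .b, .e, .a, .c, .b, .c, .a, .b, .a, .b, .c, .a, .b, .d, .c, .b, .d, .a]) (lf [.d, .b, .a, .b, .d, .c, .a, .b, .e, .c, .d, .e, .a, .d, .c, .a, .c, .d, .a, .b, .d, .b, .d, .b, .a, .d, .c, .a, .c, .d, .a, .b, .d, .b, .d, .b, .e, .d, .c, .e, .a, .b, .c, .a, .c, .b, .a, .c, .b, .a])) (nd 1367 (lf [.e, .a, .e, .a, .b, .c, .a, .d, .c, .d, .b, .a, .c, .b, .a, .b, .c, .b, .c, .a, .b, .e, .a, .e, .b, .d, .e, .d, .e, .b, .c, .b, .d, .b, .d, .b, .c, .b, .d, .b, .d, .e, .d, .e,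 .d, .b]) (lf [.b, .c, .a, .a, .b, .a, .d, .e, .a, .b, .a, .c, .a, .c, .a, .b, .c, .a, .b, .c, .b, .c, .d, .a, .c, .b, .a, .b, .d, .a, .e, .a, .c, .b, .d, .b, .d, .b, .c, .a, .d, .a, .b, .a, .a, .c, .b, .d, .b, .d])))) (nd 1372 (nd 1370 (nd 1369 (lf [.c, .a, .b, .a, .b, .a, .c, .b, .a, .c, .b, .c, .d, .b, .d, .c, .d, .a, .b, .e, .b, .c, .e, .d, .c, .a, .b, .a, .c, .d, .d, .b, .d, .b, .d, .d, .c, .a, .b, .a, .c, .d, .d, .b, .d, .b, .d, .e, .c, .b, .e, .a, .b]) (lf [.a, .a, .b, .a, .d, .a, .c, .b, .d, .b, .d, .b, .c, .a, .e, .a, .d, .b, .a, .b, .c, .a, .d, .c, .b, .c, .b, .a, .c, .b, .a, .c, .a, .c, .a, .b, .a, .e, .d, .a, .b, .a, .a, .c, .b, .d, .b, .d, .b, .c])) (nd 1371 (lf [.a, .d, .c, .e, .c, .b, .e, .b, .c, .d, .a, .d, .c, .d, .a, .c, .b, .a, .c, .b, .a, .c, .a, .c, .a, .b, .a, .e, .b, .c, .e, .b, .c, .d, .a,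 .b, .a, .c, .b, .c, .a, .b]) (lf [.a, .c, .b, .c, .a, .b, .a, .b, .c, .e, .a, .c, .b, .c, .b, .c, .b, .a, .d, .a, .b, .a, .a, .b, .c, .b, .c, .b, .c, .a, .a, .b, .a, .d, .e, .b, .a, .b]))) (nd 1374 (nd 1373 (lf [.e, .d, .e, .d, .b, .e, .a, .e, .b, .a, .b, .a, .c, .d, .a, .c, .b, .c, .b, .a, .b, .c, .a, .b, .c, .a, .b, .e, .a, .e, .b, .d, .e, .d, .e, .a, .b, .c, .b, .a, .b, .c, .b]) (lf [.c, .a, .a, .b, .a, .d, .e, .b, .a, .b, .a, .c, .b, .c, .a, .b, .a, .b, .c, .e, .a, .c, .b, .c, .b, .c, .b, .a, .d, .a, .b, .a, .a, .b, .c, .b, .c, .b])) (nd 1375 (lf [.c, .b, .a, .d, .b, .a, .b, .d, .c, .a, .b, .e, .c, .d, .e, .a, .d, .c, .a, .c, .d, .a, .b, .d, .b, .d, .b, .a, .d, .c, .a, .c, .d, .a, .b, .d, .b, .d, .b, .e, .d, .c, .e, .a, .b, .c, .a, .c, .b, .a]) (lf [.d, .b, .e, .a, .e, .b, .a, .c, .b, .a, .c, .b, .a, .b, .c,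 .b, .c, .a, .d, .c, .a, .b, .a, .b, .e, .a, .e, .b, .d, .e, .d, .e, .b, .c, .b, .a, .b, .c, .b, .a, .e, .d, .e])))))) (nd 1392 (nd 1384 (nd 1380 (nd 1378 (nd 1377 (lf [.d, .b, .d, .b, .c, .a, .a, .b, .c, .b, .c, .b, .c, .a, .e, .a, .b, .a, .b, .c, .a, .b, .a, .c, .b, .c, .b, .d, .a, .d, .b, .c, .a, .b, .e, .a, .c, .b, .d, .b, .d, .b, .c, .a, .a, .c, .b, .c, .b, .c, .b, .a, .a, .c, .b]) (lf [.c, .d, .b, .a, .b, .d, .a, .b, .c, .a, .b, .c, .a, .c, .b, .a, .e, .c, .d, .e, .b, .d, .b, .d, .b, .a, .d, .c, .a, .c, .d, .a, .b, .d, .b, .d, .b, .a, .d, .c, .a, .c, .d, .a, .e, .d, .c, .e, .b, .a])) (nd 1379 (lf [.e, .d, .e, .d, .b, .e, .a, .e, .b, .a, .c, .a, .c, .b, .a, .c, .a, .b, .c, .a, .d, .a, .c, .b, .a, .c, .a, .e, .a, .e, .b, .d, .e, .d, .e, .d, .b, .d, .a, .d, .b, .d, .a]) (lf [.b, .d, .b, .a, .c, .a, .c, .b, .a,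 .b, .e, .b, .c, .e, .c, .d, .a, .b, .a, .c, .c, .b, .d, .a, .b, .a, .b, .c, .c, .a, .b, .a, .d, .c, .c, .b, .a, .b, .a, .d, .b, .c, .e, .c, .b, .e, .b, .a, .d, .a, .c]))) (nd 1382 (nd 1381 (lf [.c, .a, .c, .a, .b, .d, .c, .d, .b, .a, .c, .a, .c, .a, .e, .a, .e, .c, .b, .a, .c, .b, .a, .c, .b, .c, .b, .c, .d, .a, .c, .b, .a, .c, .e, .a, .e, .b, .d, .c, .d, .b, .a]) (lf [.c, .b, .d, .c, .a, .d, .a, .d, .a, .b, .c, .a, .b, .c, .a, .b, .c, .a, .b, .a, .c, .a, .b, .e, .a, .c, .d, .b, .d, .a, .e, .b, .d, .c, .d, .c, .b, .c, .b, .c, .a, .c, .b, .b, .c, .d, .c, .d, .b, .b, .c, .a, .c, .b, .c, .e, .a, .d, .b, .d, .c, .a, .e])) (nd 1383 (lf [.c, .b, .c, .b, .a, .c, .b, .c, .a, .e, .b, .c, .e, .d, .c, .a, .b, .a, .c, .d, .c, .b, .d, .a, .b, .a, .b, .c, .d, .c, .a, .b, .a, .c, .d, .c, .b, .a, .b, .a, .d, .b, .c, .e, .c, .b,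 .e, .c, .b, .d, .a, .b, .d, .a]) (lf [.b, .a, .b, .e, .c, .d, .a, .b, .a, .c, .a, .c, .b, .c, .b, .c, .b, .a, .c, .a, .b, .a, .d, .c, .a, .b, .c, .b, .c, .b, .c, .a, .e, .c, .d, .b, .d, .b, .d, .a, .b, .c, .b, .c, .a])))) (nd 1388 (nd 1386 (nd 1385 (lf [.c, .b, .c, .d, .a, .c, .a, .c, .d, .b, .d, .b, .e, .a, .b, .e, .d, .b, .c, .b, .a, .b, .c, .b, .d, .d, .c, .b, .c, .b, .c, .d, .d, .b, .c, .b, .a, .b, .c, .b, .d, .d, .c, .b, .c, .b, .c, .d, .e, .b, .a, .e, .a, .b, .a, .b, .a, .c, .a, .b, .c, .a, .b]) (lf [.b, .d, .c, .e, .a, .b, .e, .b, .a, .b, .d, .b, .a, .b, .a, .a, .c, .a, .c, .a, .a, .b, .a, .b, .d, .b, .a, .b, .a, .c, .a, .c, .a, .e, .b, .a, .e, .a, .b, .a, .c, .b, .a, .c, .b, .a, .b, .c, .a, .d, .b, .d])) (nd 1387 (lf [.a, .c, .a, .b, .a, .c, .a, .d, .a, .c, .a, .d, .a, .c, .a, .d, .b]) (lf [.c, .a, .b,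 .a, .b, .a, .e, .b, .c, .e, .b, .c, .b, .d, .a, .b, .a, .b, .c, .b, .c, .b, .a, .b, .a, .d, .b, .c, .e, .c, .b, .e, .b, .a, .c, .d, .a, .c, .d, .b, .d, .a, .c, .a, .c, .b, .a, .c, .a, .b, .a, .b, .a]))) (nd 1390 (nd 1389 (lf [.d, .b, .d, .b, .c, .b, .e, .d, .e, .d, .b, .e, .a, .e, .b, .a, .c, .b, .c, .b, .a, .b, .c, .a, .b, .d, .c, .d, .a, .c, .b, .a, .e, .a, .e, .b, .d, .e, .d, .e, .d, .b, .d, .b, .c, .b]) (lf [.d, .c, .d, .b, .d, .c, .b, .c, .a, .b, .c, .a, .b, .a, .b, .a, .c, .b, .a, .e, .b, .c, .e, .d, .b, .d, .b, .d, .d, .c, .a, .b, .a, .c, .d, .d, .b, .d, .b, .d, .d, .c, .a, .b, .a, .c, .d, .e, .c, .b, .e, .b, .a])) (nd 1391 (lf [.b, .a, .d, .e, .a, .b, .a, .c, .a, .c, .a, .b, .c, .a, .b, .c, .b, .c, .d, .a, .c, .b, .a, .b, .d, .a, .e, .a, .c, .b, .d, .b, .d, .b, .c, .a, .d, .a, .b, .a, .a, .c, .b, .d, .b,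 .d, .b, .c, .a, .a]) (lf [.b, .d, .b, .d, .b, .c, .a, .a, .b, .a, .d, .a, .c, .b, .d, .b, .d, .b, .c, .a, .e, .a, .d, .b, .a, .b, .c, .a, .d, .c, .b, .c, .b, .a, .c, .b, .a, .c, .a, .c, .a, .b, .a, .e, .d, .a, .b, .a, .a, .c]))))) (nd 1400 (nd 1396 (nd 1394 (nd 1393 (lf [.c, .a, .b, .d, .c, .d, .c, .b, .a, .c, .a, .b, .d, .b, .b, .c, .d, .c, .d, .b, .e, .a, .d, .b, .d, .c, .a, .e, .a, .c, .d, .a, .d, .c, .a, .e, .a, .c, .d, .b, .d, .a, .e, .b, .d, .b, .a]) (lf [.a, .b, .e, .d, .b, .c, .b, .a, .b, .c, .b, .d, .b, .a, .b, .d, .b, .a, .b, .a, .d, .b, .c, .b, .a, .b, .c, .b, .d, .a, .b, .a, .b, .d, .b, .a, .b, .e, .b, .a, .e, .b, .a, .c, .b, .c, .a, .b, .c, .a, .b, .a, .d, .a, .c, .a, .c, .a, .b, .a, .c, .e])) (nd 1395 (lf [.b, .a, .c, .a, .c, .b, .c, .b, .c, .b, .a, .c, .a, .b, .a, .d, .c, .a, .b, .c, .b, .c, .b,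 .c, .a, .e, .c, .d, .b, .d, .b, .d, .a, .b, .c, .b, .c, .a, .b, .a, .b, .e, .c, .d, .a]) (lf [.a, .c, .a, .c, .b, .e, .c, .d, .a, .b, .a, .c, .c, .b, .d, .b, .d, .b, .c, .c, .a, .b, .a, .d, .c, .c, .b, .d, .b, .d, .b, .c, .e, .b, .d, .c, .d, .c, .b, .a, .c, .a, .b]))) (nd 1398 (nd 1397 (lf [.b, .a, .d, .c, .e, .c, .b, .e, .b, .a, .b, .c, .a, .c, .a, .b, .d, .b, .c, .a, .d, .a, .b, .e, .b, .c, .e, .c, .b, .d, .a, .b, .a, .b, .c, .c, .d, .a, .b, .a, .c, .c, .b, .a, .b, .a, .d, .b, .c, .c, .a]) (lf [.d, .a, .b, .c, .a, .b, .c, .a, .c, .b, .a, .e, .c, .d, .e, .b, .d, .b, .d, .b, .a, .d, .c, .a, .c, .d, .a, .b, .d, .b, .d, .b, .a, .d, .c, .a, .c, .d, .a, .e, .d, .c, .e, .b, .a, .c, .d, .b, .a, .b])) (nd 1399 (lf [.d, .b, .d, .b, .c, .e, .b, .d, .c, .d, .c, .b, .a, .c, .a, .b, .a, .c, .a, .c, .b, .e, .c, .d, .a, .b,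 .a, .c, .c, .b, .d, .b, .d, .b, .c, .c, .a, .b, .a, .d, .c, .c, .b]) (lf [.c, .a, .e, .c, .b, .a, .b, .a, .c, .b, .c, .a, .b, .a, .b, .e, .d, .a, .b, .a, .a, .c, .b, .c, .b, .c, .b, .a, .a, .b, .a, .d, .a, .b, .c, .b, .c, .b])))) (nd 1404 (nd 1402 (nd 1401 (lf [.c, .a, .b, .e, .c, .d, .e, .a, .d, .c, .a, .c, .d, .a, .b, .d, .b, .d, .b, .a, .d, .c, .a, .c, .d, .a, .b, .d, .b, .d, .b, .e, .d, .c, .e, .a, .b, .c, .a, .c, .b, .a, .c, .b, .a, .d, .b, .a, .b, .d]) (lf [.d, .a, .b, .c, .b, .c, .a, .b, .a, .b, .e, .c, .d, .a, .b, .a, .c, .a, .c, .b, .c, .b, .c, .b, .a, .c, .a, .b, .a, .d, .c, .a, .b, .c, .b, .c, .b, .c, .a, .e, .c, .d, .b, .d, .b])) (nd 1403 (lf [.a, .e, .b, .d, .a, .b, .a, .c, .a, .d, .a, .b, .a, .b, .c, .b, .c, .b, .a, .c, .b, .a, .b, .a, .e, .a, .e, .b, .d, .e, .d, .e, .c, .b, .c, .d, .b, .d, .c, .b,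 .c, .d, .b, .d, .e, .d, .e, .d, .b, .e]) (lf [.e, .d, .e, .c, .b, .c, .a, .c, .b, .c, .a, .e, .d, .e, .d, .b, .e, .a, .e, .a, .c, .a, .c, .b, .a, .c, .a, .b, .c, .a, .d, .c, .a, .d, .a, .d, .e, .a, .e, .b, .d]))) (nd 1406 (nd 1405 (lf [.d, .b, .d, .a, .d, .b, .d, .e, .d, .e, .d, .b, .e, .a, .e, .a, .c, .a, .b, .c, .a, .d, .a, .c, .b, .a, .c, .a, .b, .c, .a, .c, .a, .b, .e, .a, .e, .b, .d, .e, .d, .e, .a]) (lf [.b, .c, .b, .c, .a, .b, .a, .b, .e, .c, .d, .a, .b, .a, .c, .a, .c, .b, .c, .b, .c, .b, .a, .c, .a, .b, .a, .d, .c, .a, .b, .c, .b, .c, .b, .c, .a, .e, .c, .d, .b, .d, .b, .d, .a])) (nd 1407 (lf [.c, .a, .b, .a, .c, .d, .b, .d, .c, .a, .b, .a, .c, .d, .e, .c, .b, .e, .c, .b, .c, .b, .c, .b, .d, .c, .a, .b, .a, .c, .b, .a, .c, .a, .b, .e, .b, .c, .e, .b, .d]) (lf [.e, .b, .c, .e, .b, .c, .d, .a, .b, .a, .c,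 .b, .c, .a, .b, .a, .d, .c, .e, .c, .b, .e, .b, .c, .d, .a, .d, .c, .d, .a, .c, .b, .a, .c, .b, .a, .c, .a, .c, .a, .b, .a])))))))
noncomputable def tc3kw_circT_c22 : ℕ → List Gen := (nd 1440 (nd 1424 (nd 1416 (nd 1412 (nd 1410 (nd 1409 (lf [.b, .d, .c, .a, .b, .a, .c, .d, .b, .d, .c, .a, .b, .a, .c, .d, .e, .c, .b, .e, .c, .b, .c, .b, .c, .b, .d, .c, .a, .b, .a, .c, .b, .a, .c, .a, .b, .e, .b, .c, .e]) (lf [.c, .a, .b, .a, .b, .e, .a, .e, .d, .b, .a, .b, .d, .a, .c, .a, .c, .a, .d, .b, .a, .b, .d, .a, .c, .a, .c, .a, .e, .a, .e, .a, .b, .a, .b, .a, .c, .b, .a, .c, .b, .a, .c, .b, .c, .b, .d, .b, .a, .b])) (nd 1411 (lf [.b, .c, .b, .c, .a, .d, .b, .a, .d, .b, .c, .e, .b, .c, .e, .c, .b, .d, .a, .b, .a, .b, .c, .d, .c, .a, .b, .a, .c, .d, .c, .b, .a, .b, .a, .d, .b, .c, .d, .c, .a, .b, .a, .c, .d, .e, .c, .b, .e,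 .a, .c, .b, .c, .a]) (lf [.a, .c, .a, .c, .b, .a, .b, .e, .b, .c, .e, .c, .d, .a, .b, .a, .c, .c, .b, .d, .a, .b, .a, .b, .c, .c, .a, .b, .a, .d, .c, .c, .b, .a, .b, .a, .d, .b, .c, .e, .c, .b, .e, .b, .a, .d, .a, .c, .b, .d, .b]))) (nd 1414 (nd 1413 (lf [.a, .b, .c, .c, .d, .a, .b, .a, .c, .c, .b, .a, .b, .a, .d, .b, .c, .c, .a, .b, .a, .d, .c, .e, .c, .b, .e, .b, .a, .b, .c, .a, .c, .a, .b, .d, .b, .c, .a, .d, .a, .b, .e, .b, .c, .e, .c, .b, .d, .a, .b]) (lf [.e, .d, .b, .e, .a, .e, .a, .c, .a, .b, .c, .a, .d, .a, .c, .b, .a, .c, .a, .b, .c, .a, .c, .a, .b, .e, .a, .e, .b, .d, .e, .d, .e, .a, .d, .b, .d, .a, .d, .b, .d, .e, .d])) (nd 1415 (lf [.b, .e, .a, .e, .b, .a, .b, .a, .c, .d, .a, .c, .b, .c, .b, .a, .b, .c, .a, .b, .c, .a, .b, .e, .a, .e, .b, .d, .e, .d, .e, .a, .b, .c, .b, .a, .b, .c, .b, .e, .d, .e,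 .d]) (lf [.d, .a, .b, .a, .b, .c, .d, .b, .d, .b, .d, .c, .b, .a, .b, .a, .d, .b, .c, .e, .c, .b, .e, .b, .a, .d, .a, .d, .b, .c, .d, .b, .a, .c, .b, .a, .b, .a, .c, .b, .c, .a, .e, .b, .c, .e, .d, .b, .d, .b, .d, .c, .b])))) (nd 1420 (nd 1418 (nd 1417 (lf [.d, .b, .c, .a, .e, .b, .a, .c, .b, .d, .a, .d, .b, .c, .b, .c, .a, .b, .a, .c, .b, .a, .b, .a, .e, .a, .c, .b, .c, .b, .c, .b, .a, .a, .c, .b, .d, .b, .d, .b, .c, .a, .a, .b, .c, .b, .c, .b, .c, .a, .a, .c, .b, .d, .b]) (lf [.b, .d, .b, .c, .a, .b, .a, .b, .c, .b, .c, .a, .b, .c, .b, .a, .b, .e, .a, .c, .d, .b, .d, .a, .e, .a, .c, .d, .c, .a, .b, .d, .c, .d, .c, .b, .a, .c, .d, .c, .a, .b, .c, .d, .c, .d, .b, .e, .a, .d, .b, .d, .c, .a, .e, .a, .c, .b, .a, .c])) (nd 1419 (lf [.c, .b, .d, .b, .d, .b, .c, .a, .e, .a, .d, .b, .a, .b, .c, .a, .d, .c, .b, .c, .b,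 .a, .c, .b, .a, .c, .a, .c, .a, .b, .a, .e, .d, .a, .b, .a, .a, .c, .b, .d, .b, .d, .b, .c, .a, .a, .b, .a, .d, .a]) (lf [.a, .e, .a, .b, .a, .b, .c, .a, .b, .a, .c, .b, .c, .b, .d, .a, .d, .b, .c, .a, .b, .e, .a, .c, .b, .d, .b, .d, .b, .c, .a, .a, .c, .b, .c, .b, .c, .b, .a, .a, .c, .b, .d, .b, .d, .b, .c, .a, .a, .b, .c, .b, .c, .b, .c]))) (nd 1422 (nd 1421 (lf [.d, .a, .b, .a, .c, .b, .d, .b, .d, .b, .c, .a, .b, .a, .d, .e, .a, .c, .a, .b, .c, .a, .b, .c, .b, .a, .c, .d, .b, .d, .a, .b, .c, .b, .e, .c, .b, .d, .b, .d, .b, .c]) (lf [.b, .a, .d, .b, .c, .e, .c, .b, .e, .b, .a, .c, .d, .a, .c, .d, .b, .d, .a, .c, .a, .c, .b, .a, .c, .a, .b, .a, .b, .a, .c, .a, .b, .a, .b, .a, .e, .b, .c, .e, .b, .c, .b, .d, .a, .b, .a, .b, .c, .b, .c, .b, .a])) (nd 1423 (lf [.b, .c, .b, .c, .d, .c, .d, .b, .e, .a, .d, .b, .d,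 .c, .a, .e, .b, .a, .c, .a, .b, .a, .c, .b, .a, .c, .b, .a, .c, .b, .a, .d, .a, .d, .a, .c, .d, .b, .c, .e, .a, .c, .d, .b, .d, .a, .e, .c, .b, .c, .a, .c, .b, .b, .d, .c, .d, .c, .b, .b, .c, .a, .c]) (lf [.d, .c, .a, .b, .d, .b, .a, .c, .a, .a, .c, .d, .c, .a, .a, .c, .a, .b, .d, .b, .e, .a, .d, .b, .d, .c, .a, .e, .c, .b, .d, .a, .d, .c, .b, .d, .b, .a, .b, .c, .b, .c, .b, .a, .c, .b, .a, .b, .e, .a, .c, .d, .b, .d, .a, .e, .a, .c]))))) (nd 1432 (nd 1428 (nd 1426 (nd 1425 (lf [.a, .d, .a, .b, .a, .a, .b, .c, .b, .c, .b, .c, .a, .a, .b, .a, .d, .e, .b, .a, .b, .a, .c, .b, .c, .a, .b, .a, .b, .c, .e, .a, .c, .b, .c, .b, .c, .b]) (lf [.a, .b, .a, .a, .b, .c, .b, .c, .b, .c, .a, .a, .b, .a, .d, .e, .b, .a, .b, .a, .c, .b, .c, .a, .b, .a, .b, .c, .e, .a, .c, .b, .c, .b, .c, .b, .a, .d])) (nd 1427 (lf [.c, .b, .d,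 .b, .a, .c, .a, .c, .b, .a, .b, .e, .b, .c, .e, .c, .d, .a, .b, .a, .c, .c, .b, .d, .a, .b, .a, .b, .c, .c, .a, .b, .a, .d, .c, .c, .b, .a, .b, .a, .d, .b, .c, .e, .c, .b, .e, .b, .a, .d, .a]) (lf [.c, .b, .c, .b, .c, .b, .a, .a, .b, .a, .d, .a, .b, .c, .b, .c, .b, .c, .a, .e, .c, .b, .a, .b, .a, .c, .b, .c, .a, .b, .a, .b, .e, .d, .a, .b, .a, .a]))) (nd 1430 (nd 1429 (lf [.b, .a, .d, .b, .c, .b, .e, .c, .b, .e, .a, .b, .a, .b, .a, .c, .a, .b, .a, .b, .a, .c, .a, .b, .c, .a, .c, .a, .d, .b, .d, .c, .a, .d, .c, .a, .b, .e, .b, .c, .e, .c, .b, .d, .a, .b, .a, .b, .c, .b, .c, .b, .a]) (lf [.b, .c, .c, .a, .b, .a, .d, .c, .e, .b, .c, .a, .c, .a, .b, .a, .c, .a, .b, .c, .d, .c, .d, .b, .e, .c, .b, .d, .b, .d, .b, .c, .c, .d, .a, .b, .a, .c, .c, .b, .d, .b, .d])) (nd 1431 (lf [.b, .d, .e, .a, .e, .b, .a, .b, .a, .c,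 .b, .a, .b, .d, .b, .c, .b, .c, .a, .b, .c, .a, .b, .c, .a, .b, .a, .b, .a, .e, .a, .e, .a, .c, .a, .c, .a, .d, .b, .a, .b, .d, .a, .c, .a, .c, .a, .d, .b, .a]) (lf [.b, .a, .c, .b, .a, .b, .a, .e, .a, .c, .b, .c, .b, .c, .b, .a, .a, .c, .b, .d, .b, .d, .b, .c, .a, .a, .b, .c, .b, .c, .b, .c, .a, .a, .c, .b, .d, .b, .d, .b, .c, .a, .e, .b, .a, .c, .b, .d, .a, .d, .b, .c, .b, .c, .a])))) (nd 1436 (nd 1434 (nd 1433 (lf [.b, .c, .b, .c, .b, .a, .b, .a, .d, .b, .c, .e, .c, .b, .e, .b, .a, .c, .d, .a, .c, .d, .b, .d, .a, .c, .a, .c, .b, .a, .c, .a, .b, .a, .b, .a, .c, .a, .b, .a, .b, .a, .e, .b, .c, .e, .b, .c, .b, .d, .a, .b, .a]) (lf [.c, .a, .e, .a, .d, .b, .d, .c, .a, .e, .b, .c, .a, .b, .a, .c, .a, .c, .b, .a, .b, .d, .c, .a, .c, .b, .c, .b, .e, .a, .c, .d, .b, .d, .a, .e, .c, .b, .c, .a, .c, .b, .a, .c, .d, .c,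 .a, .b, .c, .a, .c, .b, .c, .a, .c, .d])) (nd 1435 (lf [.b, .a, .c, .b, .d, .b, .d, .b, .c, .a, .b, .a, .d, .e, .a, .c, .a, .b, .c, .a, .b, .c, .b, .a, .c, .d, .b, .d, .a, .b, .c, .b, .e, .c, .b, .d, .b, .d, .b, .c, .d, .a]) (lf [.b, .c, .c, .a, .b, .a, .d, .c, .e, .c, .b, .e, .b, .a, .b, .c, .a, .c, .a, .b, .d, .b, .c, .a, .d, .a, .b, .e, .b, .c, .e, .c, .b, .d, .a, .b, .a, .b, .c, .c, .d, .a, .b, .a, .c, .c, .b, .a, .b, .a, .d]))) (nd 1438 (nd 1437 (lf [.a, .b, .a, .c, .b, .c, .a, .b, .a, .d, .c, .b, .e, .c, .b, .e, .a, .b, .a, .c, .a, .c, .a, .b, .c, .a, .b, .c, .a, .d, .c, .d, .a, .d, .c, .b, .e, .b, .c, .e, .c, .d]) (lf [.c, .d, .c, .d, .b, .e, .c, .b, .d, .b, .d, .b, .c, .c, .d, .a, .b, .a, .c, .c, .b, .d, .b, .d, .b, .c, .c, .a, .b, .a, .d, .c, .e, .b, .c, .a, .c, .a, .b, .a, .c, .a, .b])) (nd 1439 (lf [.c,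 .b, .a, .c, .b, .a, .c, .a, .c, .a, .b, .a, .e, .d, .a, .b, .a, .a, .c, .b, .d, .b, .d, .b, .c, .a, .a, .b, .a, .d, .a, .c, .b, .d, .b, .d, .b, .c, .a, .e, .a, .d, .b, .a, .b, .c, .a, .d, .c, .b]) (lf [.a, .b, .a, .c, .d, .b, .d, .c, .a, .b, .a, .c, .d, .b, .e, .c, .b, .e, .b, .a, .c, .a, .b, .c, .a, .b, .a, .c, .d, .b, .c, .b, .c, .b, .c, .e, .b, .c, .e, .d, .c])))))) (nd 1456 (nd 1448 (nd 1444 (nd 1442 (nd 1441 (lf [.b, .d, .a, .b, .a, .b, .c, .b, .c, .b, .a, .b, .a, .d, .b, .c, .b, .e, .c, .b, .e, .a, .b, .a, .b, .a, .c, .a, .b, .a, .b, .a, .c, .a, .b, .c, .a, .c, .a, .d, .b, .d, .c, .a, .d, .c, .a, .b, .e, .b, .c, .e, .c]) (lf [.b, .e, .a, .e, .a, .b, .c, .a, .d, .c, .d, .b, .a, .c, .b, .a, .b, .c, .b, .c, .a, .b, .e, .a, .e, .b, .d, .e, .d, .e, .b, .c, .b, .d, .b, .d, .b, .c, .b, .d, .b, .d, .e, .d, .e, .d]))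 (nd 1443 (lf [.d, .c, .e, .c, .b, .e, .b, .c, .d, .a, .d, .c, .d, .a, .c, .b, .a, .c, .b, .a, .c, .a, .c, .a, .b, .a, .e, .b, .c, .e, .b, .c, .d, .a, .b, .a, .c, .b, .c, .a, .b, .a]) (lf [.b, .c, .b, .a, .b, .c, .b, .e, .d, .e, .d, .b, .e, .a, .e, .b, .a, .b, .a, .c, .d, .a, .c, .b, .c, .b, .a, .b, .c, .a, .b, .c, .a, .b, .e, .a, .e, .b, .d, .e, .d, .e, .a]))) (nd 1446 (nd 1445 (lf [.b, .c, .a, .e, .c, .b, .a, .b, .a, .c, .b, .c, .a, .b, .a, .b, .e, .d, .a, .b, .a, .a, .c, .b, .c, .b, .c, .b, .a, .a, .b, .a, .d, .a, .b, .c, .b, .c]) (lf [.a, .b, .c, .d, .a, .d, .c, .b, .a, .b, .c, .b, .c, .b, .a, .b, .c, .d, .a, .d, .c, .a, .d])) (nd 1447 (lf [.a, .c, .a, .d, .c, .a, .d, .c, .a, .b, .a, .c, .a, .c, .b, .a, .c, .a, .b, .e, .a, .c, .d, .b, .d, .a, .e, .b, .d, .b, .a, .c, .a, .c, .b, .c, .a, .c, .b, .a, .c, .a, .b,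 .d, .b, .b, .c, .a, .c, .b, .c, .e, .a, .d, .b, .d, .c, .a, .e, .d, .c]) (lf [.e, .a, .b, .e, .a, .c, .a, .c, .a, .b, .a, .b, .d, .b, .a, .b, .a, .a, .c, .a, .c, .a, .a, .b, .a, .b, .d, .b, .a, .b, .e, .b, .a, .e, .c, .d, .b, .d, .b, .d, .a, .c, .b, .a, .b, .c, .a, .b, .c, .a, .b, .a])))) (nd 1452 (nd 1450 (nd 1449 (lf [.b, .a, .c, .a, .b, .e, .b, .c, .e, .b, .d, .c, .a, .b, .a, .c, .d, .b, .d, .c, .a, .b, .a, .c, .d, .e, .c, .b, .e, .c, .b, .c, .b, .c, .b, .d, .c, .a, .b, .a, .c]) (lf [.a, .d, .c, .b, .e, .b, .c, .e, .c, .d, .a, .b, .a, .c, .b, .c, .a, .b, .a, .d, .c, .b, .e, .c, .b, .e, .a, .b, .a, .c, .a, .c, .a, .b, .c, .a, .b, .c, .a, .d, .c, .d])) (nd 1451 (lf [.d, .b, .c, .d, .b, .a, .c, .b, .a, .b, .a, .c, .b, .c, .a, .e, .b, .c, .e, .d, .b, .d, .b, .d, .c, .b, .d, .a, .b, .a, .b, .c, .d, .b, .d, .b, .d,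 .c, .b, .a, .b, .a, .d, .b, .c, .e, .c, .b, .e, .b, .a, .d, .a]) (lf [.b, .a, .c, .a, .b, .c, .d, .c, .d, .b, .e, .c, .b, .d, .b, .d, .b, .c, .c, .d, .a, .b, .a, .c, .c, .b, .d, .b, .d, .b, .c, .c, .a, .b, .a, .d, .c, .e, .b, .c, .a, .c, .a]))) (nd 1454 (nd 1453 (lf [.a, .b, .d, .e, .a, .e, .a, .c, .b, .c, .b, .c, .a, .d, .a, .c, .a, .c, .a, .b, .c, .b, .c, .b, .a, .e, .a, .e, .c, .d, .a, .d, .c, .d, .b, .a, .b, .d, .c, .d, .a, .d, .c, .d, .b]) (lf [.c, .b, .a, .b, .d, .b, .c, .b, .c, .a, .b, .c, .a, .b, .c, .a, .b, .a, .b, .a, .e, .a, .e, .a, .c, .a, .c, .a, .d, .b, .a, .b, .d, .a, .c, .a, .c, .a, .d, .b, .a, .b, .d, .e, .a, .e, .b, .a, .b, .a])) (nd 1455 (lf [.c, .a, .c, .b, .c, .e, .a, .d, .b, .d, .c, .a, .e, .b, .c, .b, .c, .a, .c, .d, .b, .a, .b, .c, .a, .c, .a, .b, .a, .c, .b, .e, .a, .c, .d, .b, .d, .a,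 .e, .a, .c, .d, .c, .a, .c, .b, .c, .a, .c, .b, .a, .c, .d, .c, .a, .b]) (lf [.a, .c, .b, .a, .c, .a, .e, .d, .a, .b, .a, .c, .b, .d, .b, .d, .b, .c, .a, .b, .a, .d, .c, .b, .d, .b, .d, .b, .c, .e, .b, .c, .b, .a, .d, .b, .d, .c, .a, .b, .c, .b]))))) (nd 1464 (nd 1460 (nd 1458 (nd 1457 (lf [.d, .a, .b, .a, .b, .c, .c, .d, .a, .b, .a, .c, .c, .b, .a, .b, .a, .d, .b, .c, .c, .a, .b, .a, .d, .c, .e, .c, .b, .e, .b, .a, .b, .c, .a, .c, .a, .b, .d, .b, .c, .a, .d, .a, .b, .e, .b, .c, .e, .c, .b]) (lf [.d, .c, .b, .c, .b, .a, .c, .b, .a, .c, .a, .c, .a, .b, .a, .e, .d, .a, .b, .a, .a, .c, .b, .d, .b, .d, .b, .c, .a, .a, .b, .a, .d, .a, .c, .b, .d, .b, .d, .b, .c, .a, .e, .a, .d, .b, .a, .b, .c, .a])) (nd 1459 (lf [.a, .b, .a, .e, .a, .b, .e, .a, .c, .a, .c, .a, .b, .a, .b, .d, .b, .a, .b, .a, .a, .c, .a, .c, .a, .a,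 .b, .a, .b, .d, .b, .a, .b, .e, .b, .a, .e, .c, .d, .b, .d, .b, .d, .a, .c, .b, .a, .b, .c, .a, .b, .c]) (lf [.b, .e, .b, .c, .e, .c, .b, .d, .a, .b, .a, .b, .c, .c, .d, .a, .b, .a, .c, .c, .b, .a, .b, .a, .d, .b, .c, .c, .a, .b, .a, .d, .c, .e, .c, .b, .e, .b, .a, .b, .c, .a, .c, .a, .b, .d, .b, .c, .a, .d, .a]))) (nd 1462 (nd 1461 (lf [.a, .e, .a, .c, .d, .a, .d, .c, .a, .e, .a, .c, .d, .b, .d, .a, .e, .b, .d, .b, .a, .c, .a, .b, .d, .c, .d, .c, .b, .a, .c, .a, .b, .d, .b, .b, .c, .d, .c, .d, .b, .e, .a, .d, .b, .d, .c]) (lf [.a, .e, .a, .c, .a, .c, .b, .a, .c, .a, .b, .c, .a, .d, .c, .a, .d, .a, .d, .e, .a, .e, .b, .d, .e, .d, .e, .c, .b, .c, .a, .c, .b, .c, .a, .e, .d, .e, .d, .b, .e])) (nd 1463 (lf [.c, .d, .b, .e, .c, .b, .e, .b, .a, .c, .a, .b, .c, .a, .b, .a, .c, .d, .b, .c, .b, .c, .b, .c, .e, .b, .c,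 .e, .d, .c, .a, .b, .a, .c, .d, .b, .d, .c, .a, .b, .a]) (lf [.c, .b, .e, .c, .d, .a, .b, .a, .c, .c, .b, .d, .b, .d, .b, .c, .c, .a, .b, .a, .d, .c, .c, .b, .d, .b, .d, .b, .c, .e, .b, .d, .c, .d, .c, .b, .a, .c, .a, .b, .a, .c, .a])))) (nd 1468 (nd 1466 (nd 1465 (lf [.c, .d, .c, .b, .a, .c, .a, .b, .a, .c, .a, .c, .b, .e, .c, .d, .a, .b, .a, .c, .c, .b, .d, .b, .d, .b, .c, .c, .a, .b, .a, .d, .c, .c, .b, .d, .b, .d, .b, .c, .e, .b, .d]) (lf [.a, .d, .b, .d, .c, .a, .e, .a, .c, .b, .a, .c, .b, .d, .b, .c, .a, .b, .a, .b, .c, .b, .c, .a, .b, .c, .b, .a, .b, .e, .a, .c, .d, .b, .d, .a, .e, .a, .c, .d, .c, .a, .b, .d, .c, .d, .c, .b, .a, .c, .d, .c, .a, .b, .c, .d, .c, .d, .b, .e])) (nd 1467 (lf [.b, .e, .a, .b, .e, .d, .b, .c, .b, .a, .b, .c, .b, .d, .a, .c, .a, .c, .a, .d, .b, .c, .b, .a, .b, .c, .b, .d, .a, .c,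 .a, .c, .a, .e, .b, .a, .e, .a, .b, .a, .b, .a, .c, .a, .b, .c, .a, .b, .c, .a, .c, .d, .a, .c, .b, .d, .a, .c, .a]) (lf [.e, .b, .d, .e, .d, .e, .d, .b, .d, .a, .d, .b, .d, .a, .e, .d, .e, .d, .b, .e, .a, .e, .b, .a, .c, .a, .c, .b, .a, .c, .a, .b, .c, .a, .d, .a, .c, .b, .a, .c, .a, .e, .a]))) (nd 1470 (nd 1469 (lf [.e, .d, .e, .d, .b, .d, .c, .b, .c, .d, .b, .d, .c, .b, .c, .e, .d, .e, .d, .b, .e, .a, .e, .a, .b, .a, .b, .c, .a, .b, .c, .b, .c, .b, .a, .b, .a, .d, .a, .c, .a, .b, .a, .d, .b, .e, .a, .e, .b, .d]) (lf [.b, .a, .d, .a, .c, .b, .d, .b, .a, .c, .a, .c, .b, .a, .b, .e, .b, .c, .e, .c, .d, .a, .b, .a, .c, .c, .b, .d, .a, .b, .a, .b, .c, .c, .a, .b, .a, .d, .c, .c, .b, .a, .b, .a, .d, .b, .c, .e, .c, .b, .e])) (nd 1471 (lf [.e, .b, .c, .e, .c, .d, .a, .b, .a, .c, .b, .c, .a, .b, .a, .d, .c, .b, .e,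 .c, .b, .e, .a, .b, .a, .c, .a, .c, .a, .b, .c, .a, .b, .c, .a, .d, .c, .d, .a, .d, .c, .b]) (lf [.d, .c, .d, .b, .c, .b, .c, .b, .a, .c, .b, .a, .c, .b, .c, .b, .a, .b, .a, .e, .a, .e, .b, .d, .c, .d, .b, .d, .b, .a, .b, .d, .b, .d, .c, .d, .b, .d, .b, .a, .b, .d, .e, .a, .e, .c, .d, .a, .b])))))))
noncomputable def tc3kw_circT_c23 : ℕ → List Gen := (nd 1504 (nd 1488 (nd 1480 (nd 1476 (nd 1474 (nd 1473 (lf [.b, .c, .a, .b, .a, .d, .c, .b, .d, .b, .d, .b, .c, .e, .b, .c, .b, .a, .d, .b, .d, .c, .a, .b, .c, .b, .a, .c, .b, .a, .c, .a, .e, .d, .a, .b, .a, .c, .b, .d, .b, .d]) (lf [.d, .a, .b, .c, .b, .e, .c, .b, .d, .b, .d, .b, .c, .d, .a, .b, .a, .c, .b, .d, .b, .d, .b, .c, .a, .b, .a, .d, .e, .a, .c, .a, .b, .c, .a, .b, .c, .b, .a, .c, .d, .b])) (nd 1475 (lf [.a, .c, .d, .b, .d, .a, .e, .b, .d, .c, .d, .c, .b,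 .a, .c, .d, .c, .a, .b, .c, .d, .c, .d, .b, .a, .c, .d, .c, .a, .e, .a, .d, .b, .d, .c, .a, .e, .b, .a, .b, .c, .b, .a, .c, .b, .c, .b, .a, .b, .a, .c, .b, .d, .b, .c, .a, .b, .c, .a, .e]) (lf [.b, .d, .b, .c, .a, .b, .a, .d, .e, .a, .c, .a, .b, .c, .a, .b, .c, .b, .a, .c, .d, .b, .d, .a, .b, .c, .b, .e, .c, .b, .d, .b, .d, .b, .c, .d, .a, .b, .a, .c, .b, .d]))) (nd 1478 (nd 1477 (lf [.b, .c, .a, .c, .b, .c, .b, .c, .b, .a, .c, .b, .d, .b, .d, .b, .c, .a, .b, .c, .b, .c, .b, .c, .a, .e, .b, .d, .c, .d, .a, .b, .a, .c, .b, .c, .b, .c, .e, .c, .b, .d, .b, .d]) (lf [.e, .d, .e, .a, .b, .c, .b, .a, .b, .c, .b, .e, .d, .e, .d, .b, .e, .a, .e, .b, .a, .b, .a, .c, .d, .a, .c, .b, .c, .b, .a, .b, .c, .a, .b, .c, .a, .b, .e, .a, .e, .b, .d])) (nd 1479 (lf [.e, .d, .b, .e, .a, .e, .a, .b, .c, .a, .d, .c, .d, .b, .a, .c,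 .b, .a, .b, .c, .b, .c, .a, .b, .e, .a, .e, .b, .d, .e, .d, .e, .b, .c, .b, .d, .b, .d, .b, .c, .b, .d, .b, .d, .e, .d]) (lf [.d, .b, .d, .b, .c, .b, .d, .b, .d, .e, .d, .e, .d, .b, .e, .a, .e, .a, .b, .c, .a, .d, .c, .d, .b, .a, .c, .b, .a, .b, .c, .b, .c, .a, .b, .e, .a, .e, .b, .d, .e, .d, .e, .b, .c, .b])))) (nd 1484 (nd 1482 (nd 1481 (lf [.a, .b, .c, .b, .a, .b, .c, .b, .e, .d, .e, .d, .b, .e, .a, .e, .b, .a, .b, .a, .c, .d, .a, .c, .b, .c, .b, .a, .b, .c, .a, .b, .c, .a, .b, .e, .a, .e, .b, .d, .e, .d, .e]) (lf [.a, .d, .e, .a, .b, .a, .c, .a, .c, .a, .b, .c, .a, .b, .c, .b, .c, .d, .a, .c, .b, .a, .b, .d, .a, .e, .a, .c, .b, .d, .b, .d, .b, .c, .a, .d, .a, .b, .a, .a, .c, .b, .d, .b, .d, .b, .c, .a, .a, .b])) (nd 1483 (lf [.c, .e, .c, .b, .e, .b, .a, .c, .d, .a, .c, .d, .b, .d, .a, .c, .a, .c, .b, .a, .c,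 .a, .b, .a, .b, .a, .c, .a, .b, .a, .b, .a, .e, .b, .c, .e, .b, .c, .b, .d, .a, .b, .a, .b, .c, .b, .c, .b, .a, .b, .a, .d, .b]) (lf [.a, .b, .c, .b, .c, .a, .b, .a, .b, .e, .c, .d, .a, .b, .a, .c, .a, .c, .b, .c, .b, .c, .b, .a, .c, .a, .b, .a, .d, .c, .a, .b, .c, .b, .c, .b, .c, .a, .e, .c, .d, .b, .d, .b, .d]))) (nd 1486 (nd 1485 (lf [.b, .d, .a, .d, .b, .c, .a, .b, .e, .a, .c, .b, .d, .b, .d, .b, .c, .a, .a, .c, .b, .c, .b, .c, .b, .a, .a, .c, .b, .d, .b, .d, .b, .c, .a, .a, .b, .c, .b, .c, .b, .c, .a, .e, .a, .b, .a, .b, .c, .a, .b, .a, .c, .b, .c]) (lf [.b, .d, .b, .a, .c, .a, .a, .c, .d, .c, .a, .a, .c, .a, .b, .d, .b, .a, .c, .d, .c, .a, .e, .a, .d, .b, .d, .c, .a, .e, .b, .a, .b, .c, .a, .b, .c, .b, .c, .b, .a, .b, .d, .b, .c, .d, .a, .d, .b, .c, .e, .a, .c, .d, .b, .d, .a, .e])) (nd 1487 (lf [.c, .a,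 .d, .a, .d, .a, .b, .c, .a, .b, .c, .a, .b, .c, .a, .b, .a, .c, .a, .b, .e, .a, .c, .d, .b, .d, .a, .e, .b, .d, .c, .d, .c, .b, .c, .b, .c, .a, .c, .b, .b, .c, .d, .c, .d, .b, .b, .c, .a, .c, .b, .c, .e, .a, .d, .b, .d, .c, .a, .e, .c, .b, .d]) (lf [.b, .e, .c, .d, .a, .b, .a, .c, .a, .c, .b, .c, .b, .c, .b, .a, .c, .a, .b, .a, .d, .c, .a, .b, .c, .b, .c, .b, .c, .a, .e, .c, .d, .b, .d, .b, .d, .a, .b, .c, .b, .c, .a, .b, .a]))))) (nd 1496 (nd 1492 (nd 1490 (nd 1489 (lf [.d, .c, .a, .e, .a, .d, .b, .d, .c, .a, .e, .b, .a, .b, .c, .a, .b, .c, .b, .c, .b, .a, .b, .d, .b, .c, .d, .a, .d, .b, .c, .e, .a, .c, .d, .b, .d, .a, .e, .b, .d, .b, .a, .c, .a, .a, .c, .d, .c, .a, .a, .c, .a, .b, .d, .b, .a, .c]) (lf [.d, .b, .d, .c, .e, .a, .b, .e, .b, .a, .b, .d, .b, .a, .b, .a, .a, .c, .a, .c, .a, .a, .b, .a, .b, .d, .b,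 .a, .b, .a, .c, .a, .c, .a, .e, .b, .a, .e, .a, .b, .a, .c, .b, .a, .c, .b, .a, .b, .c, .a, .d, .b])) (nd 1491 (lf [.b, .d, .b, .c, .b, .e, .d, .e, .d, .b, .e, .a, .e, .b, .a, .c, .b, .c, .b, .a, .b, .c, .a, .b, .d, .c, .d, .a, .c, .b, .a, .e, .a, .e, .b, .d, .e, .d, .e, .d, .b, .d, .b, .c, .b, .d]) (lf [.b, .a, .d, .e, .a, .c, .a, .b, .c, .a, .b, .c, .b, .a, .c, .d, .b, .d, .a, .b, .c, .b, .e, .c, .b, .d, .b, .d, .b, .c, .d, .a, .b, .a, .c, .b, .d, .b, .d, .b, .c, .a]))) (nd 1494 (nd 1493 (lf [.a, .b, .c, .a, .b, .a, .c, .a, .b, .e, .a, .c, .d, .b, .d, .a, .e, .b, .d, .c, .d, .c, .b, .c, .b, .c, .a, .c, .b, .b, .c, .d, .c, .d, .b, .b, .c, .a, .c, .b, .c, .e, .a, .d, .b, .d, .c, .a, .e, .c, .b, .d, .c, .a, .d, .a, .d, .a, .b, .c, .a, .b, .c]) (lf [.c, .b, .a, .c, .b, .a, .d, .b, .d, .c, .d, .a, .d, .c, .b, .e,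 .a, .b, .e, .d, .c, .b, .c, .b, .c, .d, .a, .c, .a, .c, .a, .d, .c, .b, .c, .b, .c, .d, .a, .c, .a, .c, .a, .e, .b, .a, .e, .a, .b, .c, .b, .a])) (nd 1495 (lf [.c, .a, .b, .a, .c, .b, .c, .b, .d, .a, .d, .b, .c, .a, .b, .e, .a, .c, .b, .d, .b, .d, .b, .c, .a, .a, .c, .b, .c, .b, .c, .b, .a, .a, .c, .b, .d, .b, .d, .b, .c, .a, .a, .b, .c, .b, .c, .b, .c, .a, .e, .a, .b, .a, .b]) (lf [.c, .b, .c, .b, .a, .c, .b, .d, .b, .d, .b, .c, .a, .b, .c, .b, .c, .b, .c, .a, .e, .b, .d, .c, .d, .a, .b, .a, .c, .b, .c, .b, .c, .e, .c, .b, .d, .b, .d, .b, .c, .a, .c, .b])))) (nd 1500 (nd 1498 (nd 1497 (lf [.b, .d, .a, .c, .b, .c, .d, .e, .c, .d, .e, .a, .c, .b, .c, .b, .c, .b, .a, .a, .d, .c, .a, .c, .d, .a, .a, .b, .c, .b, .c, .b, .c, .a, .a, .d, .c, .a, .c, .d, .a, .e, .d, .c, .e, .c, .b, .c, .b, .a, .c, .a, .c]) (lf [.d, .b,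 .d, .b, .c, .c, .a, .b, .a, .d, .c, .c, .b, .d, .b, .d, .b, .c, .e, .b, .d, .c, .d, .c, .b, .a, .c, .a, .b, .a, .c, .a, .c, .b, .e, .c, .d, .a, .b, .a, .c, .c, .b])) (nd 1499 (lf [.b, .d, .b, .e, .d, .c, .e, .a, .b, .a, .d, .e, .c, .d, .e, .a, .c, .b, .c, .b, .c, .b, .a, .b, .d, .b, .d, .b, .a, .b, .c, .b, .c, .b, .c, .a, .b, .d]) (lf [.a, .b, .e, .c, .d, .e, .a, .d, .c, .a, .c, .d, .a, .b, .d, .b, .d, .b, .a, .d, .c, .a, .c, .d, .a, .b, .d, .b, .d, .b, .e, .d, .c, .e, .a, .b, .c, .a, .c, .b, .a, .c, .b, .a, .d, .b, .a, .b, .d, .c]))) (nd 1502 (nd 1501 (lf [.c, .b, .d, .a, .b, .c, .b, .c, .b, .a, .b, .c, .a, .b, .c, .b, .e, .c, .d, .a, .b, .a, .c, .a, .c, .b, .d, .b, .d, .b, .c, .a, .c, .a, .b, .a, .d, .c, .a, .c, .b, .d, .b, .d, .b, .c, .a, .e, .b, .a, .b, .a, .c, .d]) (lf [.a, .b, .d, .a, .e, .a, .c, .b, .d,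 .b, .d, .b, .c, .a, .d, .a, .b, .a, .a, .c, .b, .d, .b, .d, .b, .c, .a, .a, .b, .a, .d, .e, .a, .b, .a, .c, .a, .c, .a, .b, .c, .a, .b, .c, .b, .c, .d, .a, .c, .b])) (nd 1503 (lf [.b, .c, .c, .a, .b, .a, .d, .c, .c, .b, .a, .b, .a, .d, .b, .c, .e, .c, .b, .e, .b, .a, .d, .a, .c, .b, .d, .b, .a, .c, .a, .c, .b, .a, .b, .e, .b, .c, .e, .c, .d, .a, .b, .a, .c, .c, .b, .d, .a, .b, .a]) (lf [.b, .c, .b, .a, .c, .d, .a, .b, .a, .c, .a, .b, .c, .b, .c, .b, .c, .a, .c, .a, .b, .a, .d, .c, .e, .b, .a, .b, .a, .c, .b, .c, .b, .a, .d, .b, .d, .b, .d, .c, .e, .a, .c, .b, .c])))))) (nd 1520 (nd 1512 (nd 1508 (nd 1506 (nd 1505 (lf [.b, .a, .c, .a, .c, .a, .b, .a, .e, .d, .a, .b, .a, .a, .c, .b, .d, .b, .d, .b, .c, .a, .a, .b, .a, .d, .a, .c, .b, .d, .b, .d, .b, .c, .a, .e, .a, .d, .b, .a, .b, .c, .a, .d, .c, .b, .c, .b, .a,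 .c]) (lf [.c, .a, .c, .a, .b, .a, .d, .c, .e, .b, .a, .b, .a, .c, .b, .c, .b, .a, .d, .b, .d, .b, .d, .c, .e, .a, .c, .b, .c, .b, .c, .b, .a, .c, .d, .a, .b, .a, .c, .a, .b, .c, .b, .c, .b])) (nd 1507 (lf [.a, .b, .d, .a, .b, .c, .a, .b, .c, .a, .c, .b, .a, .e, .c, .d, .e, .b, .d, .b, .d, .b, .a, .d, .c, .a, .c, .d, .a, .b, .d, .b, .d, .b, .a, .d, .c, .a, .c, .d, .a, .e, .d, .c, .e, .b, .a, .c, .d, .b]) (lf [.d, .a, .d, .b, .d, .e, .d, .e, .d, .b, .e, .a, .e, .a, .c, .a, .b, .c, .a, .d, .a, .c, .b, .a, .c, .a, .b, .c, .a, .c, .a, .b, .e, .a, .e, .b, .d, .e, .d, .e, .a, .d, .b]))) (nd 1510 (nd 1509 (lf [.d, .c, .a, .b, .a, .c, .d, .d, .b, .d, .b, .d, .d, .c, .a, .b, .a, .c, .d, .d, .b, .d, .b, .d, .e, .c, .b, .e, .a, .b, .c, .a, .b, .a, .b, .a, .c, .b, .a, .c, .b, .c, .d, .b, .d, .c, .d, .a, .b, .e, .b, .c, .e])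 (lf [.a, .d, .c, .a, .b, .c, .b, .c, .b, .c, .a, .e, .c, .d, .b, .d, .b, .d, .a, .b, .c, .b, .c, .a, .b, .a, .b, .e, .c, .d, .a, .b, .a, .c, .a, .c, .b, .c, .b, .c, .b, .a, .c, .a, .b])) (nd 1511 (lf [.a, .e, .b, .d, .b, .a, .c, .a, .c, .b, .c, .a, .c, .b, .a, .c, .a, .b, .d, .b, .b, .c, .a, .c, .b, .c, .e, .a, .d, .b, .d, .c, .a, .e, .d, .c, .a, .c, .a, .d, .c, .a, .d, .c, .a, .b, .a, .c, .a, .c, .b, .a, .c, .a, .b, .e, .a, .c, .d, .b, .d]) (lf [.e, .a, .e, .b, .a, .c, .b, .a, .c, .b, .a, .b, .c, .b, .c, .a, .d, .c, .a, .b, .a, .b, .e, .a, .e, .b, .d, .e, .d, .e, .b, .c, .b, .a, .b, .c, .b, .a, .e, .d, .e, .d, .b])))) (nd 1516 (nd 1514 (nd 1513 (lf [.d, .a, .b, .a, .c, .c, .b, .d, .a, .b, .a, .b, .c, .c, .a, .b, .a, .d, .c, .c, .b, .a, .b, .a, .d, .b, .c, .e, .c, .b, .e, .b, .a, .d, .a, .c, .b, .d, .b, .a, .c,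 .a, .c, .b, .a, .b, .e, .b, .c, .e, .c]) (lf [.c, .b, .c, .a, .b, .a, .b, .e, .c, .d, .a, .b, .a, .c, .a, .c, .b, .c, .b, .c, .b, .a, .c, .a, .b, .a, .d, .c, .a, .b, .c, .b, .c, .b, .c, .a, .e, .c, .d, .b, .d, .b, .d, .a, .b])) (nd 1515 (lf [.a, .d, .c, .a, .d, .a, .b, .c, .d, .a, .d, .c, .b, .a, .b, .c, .b, .c, .b, .a, .b, .c, .d]) (lf [.d, .a, .d, .c, .d, .b, .d, .a, .b, .c, .a, .b, .c, .a, .b, .c, .b, .a, .e, .a, .b, .e, .a, .c, .a, .c, .a, .d, .c, .b, .c, .b, .c, .d, .a, .c, .a, .c, .a, .d, .c, .b, .c, .b, .c, .d, .e, .b, .a, .e, .b, .c]))) (nd 1518 (nd 1517 (lf [.c, .b, .d, .a, .b, .d, .a, .c, .b, .c, .b, .a, .c, .b, .c, .a, .e, .b, .c, .e, .d, .c, .a, .b, .a, .c, .d, .c, .b, .d, .a, .b, .a, .b, .c, .d, .c, .a, .b, .a, .c, .d, .c, .b, .a, .b, .a, .d, .b, .c, .e, .c, .b, .e]) (lf [.b, .c, .e, .b, .c, .b, .a,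 .d, .b, .d, .c, .a, .b, .c, .b, .a, .c, .b, .a, .c, .a, .e, .d, .a, .b, .a, .c, .b, .d, .b, .d, .b, .c, .a, .b, .a, .d, .c, .b, .d, .b, .d])) (nd 1519 (lf [.d, .b, .c, .a, .a, .b, .a, .d, .e, .a, .b, .a, .c, .a, .c, .a, .b, .c, .a, .b, .c, .b, .c, .d, .a, .c, .b, .a, .b, .d, .a, .e, .a, .c, .b, .d, .b, .d, .b, .c, .a, .d, .a, .b, .a, .a, .c, .b, .d, .b]) (lf [.c, .a, .d, .b, .c, .a, .c, .a, .b, .c, .b, .c, .e, .c, .d, .e, .a, .d, .c, .a, .c, .d, .a, .a, .c, .b, .c, .b, .c, .b, .a, .a, .d, .c, .a, .c, .d, .a, .a, .b, .c, .b, .c, .b, .c, .a, .e, .d, .c, .e, .d, .c, .b]))))) (nd 1528 (nd 1524 (nd 1522 (nd 1521 (lf [.b, .c, .b, .c, .a, .b, .a, .c, .b, .a, .b, .a, .e, .a, .c, .b, .c, .b, .c, .b, .a, .a, .c, .b, .d, .b, .d, .b, .c, .a, .a, .b, .c, .b, .c, .b, .c, .a, .a, .c, .b, .d, .b, .d, .b, .c, .a, .e, .b, .a, .c,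 .b, .d, .a, .d]) (lf [.b, .e, .a, .e, .a, .c, .a, .c, .b, .a, .c, .a, .b, .c, .a, .d, .c, .a, .d, .a, .d, .e, .a, .e, .b, .d, .e, .d, .e, .c, .b, .c, .a, .c, .b, .c, .a, .e, .d, .e, .d])) (nd 1523 (lf [.b, .c, .a, .a, .b, .a, .d, .a, .c, .b, .d, .b, .d, .b, .c, .a, .e, .a, .d, .b, .a, .b, .c, .a, .d, .c, .b, .c, .b, .a, .c, .b, .a, .c, .a, .c, .a, .b, .a, .e, .d, .a, .b, .a, .a, .c, .b, .d, .b, .d]) (lf [.b, .d, .c, .a, .b, .a, .d, .c, .d, .b, .d, .b, .d, .e, .c, .b, .e, .b, .c, .b, .c, .b, .a, .c, .a, .c, .b, .d, .a, .c, .b, .c, .d, .b, .e, .b, .c, .e, .c, .d, .a, .b, .a, .c, .d, .b, .d]))) (nd 1526 (nd 1525 (lf [.a, .b, .a, .b, .c, .a, .b, .d, .c, .b, .d, .a, .d, .a, .b, .e, .b, .c, .e, .c, .b, .d, .a, .b, .a, .b, .c, .d, .b, .d, .b, .d, .c, .b, .a, .b, .a, .d, .b, .c, .d, .b, .d, .b, .d, .e, .c, .b, .e, .a,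 .c, .b, .c]) (lf [.d, .b, .e, .b, .c, .e, .c, .d, .a, .b, .a, .c, .d, .b, .d, .b, .d, .c, .a, .b, .a, .d, .c, .d, .b, .d, .b, .d, .e, .c, .b, .e, .b, .c, .b, .c, .b, .a, .c, .a, .c, .b, .d, .a, .c, .b, .c])) (nd 1527 (lf [.c, .a, .b, .a, .c, .a, .c, .b, .a, .b, .d, .c, .a, .c, .b, .c, .b, .e, .a, .c, .d, .b, .d, .a, .e, .c, .b, .c, .a, .c, .b, .a, .c, .d, .c, .a, .b, .c, .a, .c, .b, .c, .a, .c, .d, .c, .a, .e, .a, .d, .b, .d, .c, .a, .e, .b]) (lf [.d, .a, .c, .b, .c, .b, .c, .a, .e, .a, .e, .d, .b, .a, .b, .d, .c, .d, .a, .d, .c, .d, .b, .a, .b, .d, .c, .d, .a, .d, .c, .e, .a, .e, .a, .b, .c, .b, .c, .b, .a, .c, .a, .c, .a])))) (nd 1532 (nd 1530 (nd 1529 (lf [.c, .a, .a, .b, .a, .b, .d, .b, .a, .b, .e, .b, .a, .e, .c, .d, .b, .d, .b, .d, .a, .c, .b, .a, .b, .c, .a, .b, .c, .a, .b, .a, .e, .a, .b, .e, .a, .c, .a,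 .c, .a, .b, .a, .b, .d, .b, .a, .b, .a, .a, .c, .a]) (lf [.b, .c, .a, .c, .d, .b, .d, .a, .c, .a, .b, .c, .b, .c, .a, .b, .c, .b, .a, .b, .a, .e, .a, .e, .a, .c, .a, .c, .a, .c, .d, .a, .d, .c, .a, .c, .a, .c, .a, .c, .d, .a, .d, .c, .e, .a, .e])) (nd 1531 (lf [.b, .d, .a, .b, .c, .a, .b, .c, .a, .c, .b, .a, .e, .c, .d, .e, .b, .d, .b, .d, .b, .a, .d, .c, .a, .c, .d, .a, .b, .d, .b, .d, .b, .a, .d, .c, .a, .c, .d, .a, .e, .d, .c, .e, .b, .a, .c, .d, .b, .a]) (lf [.d, .a, .c, .a, .c, .a, .e, .a, .e, .a, .b, .a, .b, .a, .c, .b, .a, .c, .b, .a, .c, .b, .c, .b, .d, .b, .a, .b, .c, .a, .b, .a, .b, .e, .a, .e, .d, .b, .a, .b, .d, .a, .c, .a, .c, .a, .d, .b, .a, .b]))) (nd 1534 (nd 1533 (lf [.c, .d, .c, .a, .c, .b, .c, .a, .c, .b, .a, .c, .d, .c, .a, .b, .c, .a, .c, .b, .c, .e, .a, .d, .b, .d, .c, .a, .e, .b, .c, .b,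 .c, .a, .c, .d, .b, .a, .b, .c, .a, .c, .a, .b, .a, .c, .b, .e, .a, .c, .d, .b, .d, .a, .e, .a]) (lf [.a, .e, .a, .c, .d, .b, .d, .a, .e, .b, .d, .c, .d, .c, .b, .a, .c, .d, .c, .a, .b, .c, .d, .c, .d, .b, .a, .c, .d, .c, .a, .e, .a, .d, .b, .d, .c, .a, .e, .b, .a, .b, .c, .b, .a, .c, .b, .c, .b, .a, .b, .a, .c, .b, .d, .b, .c, .a, .b, .c])) (nd 1535 (lf [.a, .c, .b, .c, .d, .b, .e, .b, .c, .e, .c, .d, .a, .b, .a, .c, .d, .b, .d, .b, .d, .c, .a, .b, .a, .d, .c, .d, .b, .d, .b, .d, .e, .c, .b, .e, .b, .c, .b, .c, .b, .a, .c, .a, .c, .b, .d]) (lf [.c, .d, .a, .d, .b, .c, .e, .a, .c, .d, .b, .d, .a, .e, .b, .d, .b, .a, .c, .a, .a, .c, .d, .c, .a, .a, .c, .a, .b, .d, .b, .a, .c, .d, .c, .a, .e, .a, .d, .b, .d, .c, .a, .e, .b, .a, .b, .c, .a, .b, .c, .b, .c, .b, .a, .b, .d, .b])))))))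
noncomputable def tc3kw_circT_c24 : ℕ → List Gen := (nd 1568 (nd 1552 (nd 1544 (nd 1540 (nd 1538 (nd 1537 (lf [.d, .b, .c, .d, .c, .a, .b, .a, .b, .e, .a, .c, .b, .d, .b, .d, .b, .c, .a, .c, .d, .a, .b, .a, .c, .a, .c, .b, .d, .b, .d, .b, .c, .a, .c, .a, .b, .a, .d, .c, .e, .b, .c, .b, .a, .c, .b, .a, .b, .c, .b, .c, .b, .a]) (lf [.d, .b, .d, .c, .a, .d, .c, .a, .b, .e, .b, .c, .e, .c, .b, .d, .a, .b, .a, .b, .c, .b, .c, .b, .a, .b, .a, .d, .b, .c, .b, .e, .c, .b, .e, .a, .b, .a, .b, .a, .c, .a, .b, .a, .b, .a, .c, .a, .b, .c, .a, .c, .a])) (nd 1539 (lf [.e, .c, .b, .e, .a, .b, .a, .b, .a, .c, .a, .b, .a, .b, .a, .c, .a, .b, .c, .a, .c, .a, .d, .b, .d, .c, .a, .d, .c, .a, .b, .e, .b, .c, .e, .c, .b, .d, .a, .b, .a, .b, .c, .b, .c, .b, .a, .b, .a, .d, .b, .c, .b]) (lf [.a, .d, .b, .a, .d, .b, .c, .e, .b, .c, .e,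 .c, .b, .d, .a, .b, .a, .b, .c, .d, .c, .a, .b, .a, .c, .d, .c, .b, .a, .b, .a, .d, .b, .c, .d, .c, .a, .b, .a, .c, .d, .e, .c, .b, .e, .a, .c, .b, .c, .a, .b, .c, .b, .c]))) (nd 1542 (nd 1541 (lf [.b, .d, .b, .c, .c, .a, .b, .a, .d, .c, .c, .b, .d, .b, .d, .b, .c, .e, .b, .d, .c, .d, .c, .b, .a, .c, .a, .b, .a, .c, .a, .c, .b, .e, .c, .d, .a, .b, .a, .c, .c, .b, .d]) (lf [.c, .b, .c, .b, .c, .a, .e, .c, .b, .a, .b, .a, .c, .b, .c, .a, .b, .a, .b, .e, .d, .a, .b, .a, .a, .c, .b, .c, .b, .c, .b, .a, .a, .b, .a, .d, .a, .b])) (nd 1543 (lf [.b, .a, .c, .a, .b, .a, .d, .c, .a, .b, .c, .b, .c, .b, .c, .a, .e, .c, .d, .b, .d, .b, .d, .a, .b, .c, .b, .c, .a, .b, .a, .b, .e, .c, .d, .a, .b, .a, .c, .a, .c, .b, .c, .b, .c]) (lf [.a, .c, .b, .c, .a, .c, .b, .c, .d, .b, .a, .d, .c, .d, .a, .b, .d, .a, .c, .b, .c])))) (nd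 1548 (nd 1546 (nd 1545 (lf [.b, .c, .d, .e, .c, .d, .e, .a, .c, .b, .c, .b, .c, .b, .a, .a, .d, .c, .a, .c, .d, .a, .a, .b, .c, .b, .c, .b, .c, .a, .a, .d, .c, .a, .c, .d, .a, .e, .d, .c, .e, .c, .b, .c, .b, .a, .c, .a, .c, .b, .d, .a, .c]) (lf [.d, .b, .d, .c, .b, .c, .e, .d, .e, .d, .b, .e, .a, .e, .a, .b, .a, .b, .c, .a, .b, .c, .b, .c, .b, .a, .b, .a, .d, .a, .c, .a, .b, .a, .d, .b, .e, .a, .e, .b, .d, .e, .d, .e, .d, .b, .d, .c, .b, .c])) (nd 1547 (lf [.c, .b, .c, .a, .c, .b, .c, .a, .e, .d, .e, .d, .b, .e, .a, .e, .a, .c, .a, .c, .b, .a, .c, .a, .b, .c, .a, .d, .c, .a, .d, .a, .d, .e, .a, .e, .b, .d, .e, .d, .e]) (lf [.d, .c, .b, .c, .d, .b, .d, .c, .b, .c, .e, .d, .e, .d, .b, .e, .a, .e, .a, .b, .a, .b, .c, .a, .b, .c, .b, .c, .b, .a, .b, .a, .d, .a, .c, .a, .b, .a, .d, .b, .e, .a, .e, .b, .d, .e, .d, .e,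 .d, .b]))) (nd 1550 (nd 1549 (lf [.c, .d, .b, .e, .a, .d, .b, .d, .c, .a, .e, .b, .a, .c, .a, .b, .a, .c, .b, .a, .c, .b, .a, .c, .b, .a, .d, .a, .d, .a, .c, .d, .b, .c, .e, .a, .c, .d, .b, .d, .a, .e, .c, .b, .c, .a, .c, .b, .b, .d, .c, .d, .c, .b, .b, .c, .a, .c, .b, .c, .b, .c, .d]) (lf [.a, .e, .a, .d, .b, .d, .c, .a, .e, .b, .c, .a, .b, .a, .c, .a, .c, .b, .a, .b, .d, .c, .a, .c, .b, .c, .b, .e, .a, .c, .d, .b, .d, .a, .e, .c, .b, .c, .a, .c, .b, .a, .c, .d, .c, .a, .b, .c, .a, .c, .b, .c, .a, .c, .d, .c])) (nd 1551 (lf [.c, .b, .c, .b, .a, .e, .a, .e, .c, .d, .a, .d, .c, .d, .b, .a, .b, .d, .c, .d, .a, .d, .c, .d, .b, .a, .b, .d, .e, .a, .e, .a, .c, .b, .c, .b, .c, .a, .d, .a, .c, .a, .c, .a, .b]) (lf [.a, .c, .d, .b, .d, .b, .e, .a, .b, .e, .d, .b, .c, .b, .a, .b, .c, .b, .d, .d, .c, .b, .c, .b, .c, .d,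 .d, .b, .c, .b, .a, .b, .c, .b, .d, .d, .c, .b, .c, .b, .c, .d, .e, .b, .a, .e, .a, .b, .a, .b, .a, .c, .a, .b, .c, .a, .b, .c, .b, .c, .d, .a, .c]))))) (nd 1560 (nd 1556 (nd 1554 (nd 1553 (lf [.a, .d, .c, .d, .b, .d, .c, .b, .c, .a, .b, .c, .a, .b, .a, .b, .a, .c, .b, .a, .e, .b, .c, .e, .d, .b, .d, .b, .d, .d, .c, .a, .b, .a, .c, .d, .d, .b, .d, .b, .d, .d, .c, .a, .b, .a, .c, .d, .e, .c, .b, .e, .b]) (lf [.a, .c, .b, .d, .b, .c, .a, .b, .a, .b, .c, .b, .c, .a, .b, .c, .b, .a, .b, .e, .a, .c, .d, .b, .d, .a, .e, .a, .c, .d, .c, .a, .b, .d, .c, .d, .c, .b, .a, .c, .d, .c, .a, .b, .c, .d, .c, .d, .b, .e, .a, .d, .b, .d, .c, .a, .e, .a, .c, .b])) (nd 1555 (lf [.c, .a, .c, .b, .a, .b, .e, .b, .c, .e, .c, .d, .a, .b, .a, .c, .c, .b, .d, .a, .b, .a, .b, .c, .c, .a, .b, .a, .d, .c, .c, .b, .a, .b, .a, .d, .b, .c, .e,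 .c, .b, .e, .b, .a, .d, .a, .c, .b, .d, .b, .a]) (lf [.d, .e, .d, .b, .e, .a, .e, .a, .b, .c, .a, .d, .c, .d, .b, .a, .c, .b, .a, .b, .c, .b, .c, .a, .b, .e, .a, .e, .b, .d, .e, .d, .e, .b, .c, .b, .d, .b, .d, .b, .c, .b, .d, .b, .d, .e]))) (nd 1558 (nd 1557 (lf [.a, .c, .a, .b, .a, .d, .c, .e, .b, .a, .b, .a, .c, .b, .c, .b, .a, .d, .b, .d, .b, .d, .c, .e, .a, .c, .b, .c, .b, .c, .b, .a, .c, .d, .a, .b, .a, .c, .a, .b, .c, .b, .c, .b, .c]) (lf [.d, .b, .c, .b, .a, .b, .c, .b, .d, .a, .c, .a, .c, .a, .e, .b, .a, .e, .a, .b, .a, .b, .a, .c, .a, .b, .c, .a, .b, .c, .a, .c, .d, .a, .c, .b, .d, .a, .c, .a, .b, .e, .a, .b, .e, .d, .b, .c, .b, .a, .b, .c, .b, .d, .a, .c, .a, .c, .a])) (nd 1559 (lf [.c, .e, .b, .c, .e, .c, .b, .d, .a, .b, .a, .b, .c, .d, .c, .a, .b, .a, .c, .d, .c, .b, .a, .b, .a, .d, .b, .c, .d, .c,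 .a, .b, .a, .c, .d, .e, .c, .b, .e, .a, .c, .b, .c, .a, .b, .c, .b, .c, .a, .d, .b, .a, .d, .b]) (lf [.d, .e, .d, .b, .e, .a, .e, .a, .c, .a, .c, .b, .a, .c, .a, .b, .c, .a, .d, .c, .a, .d, .a, .d, .e, .a, .e, .b, .d, .e, .d, .e, .c, .b, .c, .a, .c, .b, .c, .a, .e])))) (nd 1564 (nd 1562 (nd 1561 (lf [.d, .e, .d, .b, .e, .a, .e, .b, .d, .a, .b, .a, .c, .a, .d, .a, .b, .a, .b, .c, .b, .c, .b, .a, .c, .b, .a, .b, .a, .e, .a, .e, .b, .d, .e, .d, .e, .c, .b, .c, .d, .b, .d, .c, .b, .c, .d, .b, .d, .e]) (lf [.e, .b, .d, .e, .d, .e, .a, .d, .b, .d, .a, .d, .b, .d, .e, .d, .e, .d, .b, .e, .a, .e, .a, .c, .a, .b, .c, .a, .d, .a, .c, .b, .a, .c, .a, .b, .c, .a, .c, .a, .b, .e, .a])) (nd 1563 (lf [.d, .b, .a, .b, .d, .a, .c, .a, .c, .a, .e, .a, .e, .a, .b, .a, .b, .a, .c, .b, .a, .c, .b, .a, .c, .b, .c, .b, .d, .b, .a, .b,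 .c, .a, .b, .a, .b, .e, .a, .e, .d, .b, .a, .b, .d, .a, .c, .a, .c, .a]) (lf [.a, .c, .b, .a, .b, .a, .c, .b, .c, .a, .e, .b, .c, .e, .d, .b, .d, .b, .d, .c, .b, .d, .a, .b, .a, .b, .c, .d, .b, .d, .b, .d, .c, .b, .a, .b, .a, .d, .b, .c, .e, .c, .b, .e, .b, .a, .d, .a, .d, .b, .c, .d, .b]))) (nd 1566 (nd 1565 (lf [.c, .d, .b, .d, .a, .e, .b, .d, .c, .d, .c, .b, .a, .c, .d, .c, .a, .b, .c, .d, .c, .d, .b, .a, .c, .d, .c, .a, .e, .a, .d, .b, .d, .c, .a, .e, .b, .a, .b, .c, .b, .a, .c, .b, .c, .b, .a, .b, .a, .c, .b, .d, .b, .c, .a, .b, .c, .a, .e, .a]) (lf [.d, .b, .e, .a, .e, .b, .a, .b, .a, .c, .d, .a, .c, .b, .c, .b, .a, .b, .c, .a, .b, .c, .a, .b, .e, .a, .e, .b, .d, .e, .d, .e, .a, .b, .c, .b, .a, .b, .c, .b, .e, .d, .e])) (nd 1567 (lf [.e, .a, .c, .b, .c, .a, .b, .c, .b, .c, .a, .d, .b, .a, .d, .b, .c, .e,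 .b, .c, .e, .c, .b, .d, .a, .b, .a, .b, .c, .d, .c, .a, .b, .a, .c, .d, .c, .b, .a, .b, .a, .d, .b, .c, .d, .c, .a, .b, .a, .c, .d, .e, .c, .b]) (lf [.c, .b, .c, .b, .c, .a, .e, .a, .e, .d, .b, .a, .b, .d, .c, .d, .a, .d, .c, .d, .b, .a, .b, .d, .c, .d, .a, .d, .c, .e, .a, .e, .a, .b, .c, .b, .c, .b, .a, .c, .a, .c, .a, .d, .a])))))) (nd 1584 (nd 1576 (nd 1572 (nd 1570 (nd 1569 (lf [.d, .b, .a, .b, .d, .a, .b, .c, .a, .b, .c, .a, .c, .b, .a, .e, .c, .d, .e, .b, .d, .b, .d, .b, .a, .d, .c, .a, .c, .d, .a, .b, .d, .b, .d, .b, .a, .d, .c, .a, .c, .d, .a, .e, .d, .c, .e, .b, .a, .c]) (lf [.d, .a, .b, .a, .c, .c, .b, .d, .b, .d, .b, .c, .c, .a, .b, .a, .d, .c, .e, .b, .c, .a, .c, .a, .b, .a, .c, .a, .b, .c, .d, .c, .d, .b, .e, .c, .b, .d, .b, .d, .b, .c, .c])) (nd 1571 (lf [.c, .d, .b, .e, .a, .e, .c, .a, .b, .c, .a,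 .d, .c, .b, .c, .b, .c, .a, .b, .c, .a, .b, .c, .e, .a, .e, .a, .c, .a, .c, .a, .b, .d, .c, .d, .b, .a, .c, .a, .c, .a, .b, .d]) (lf [.c, .a, .c, .a, .b, .a, .e, .d, .a, .b, .a, .a, .c, .b, .d, .b, .d, .b, .c, .a, .a, .b, .a, .d, .a, .c, .b, .d, .b, .d, .b, .c, .a, .e, .a, .d, .b, .a, .b, .c, .a, .d, .c, .b, .c, .b, .a, .c, .b, .a]))) (nd 1574 (nd 1573 (lf [.c, .a, .b, .d, .c, .b, .d, .a, .d, .a, .b, .e, .b, .c, .e, .c, .b, .d, .a, .b, .a, .b, .c, .d, .b, .d, .b, .d, .c, .b, .a, .b, .a, .d, .b, .c, .d, .b, .d, .b, .d, .e, .c, .b, .e, .a, .c, .b, .c, .a, .b, .a, .b]) (lf [.c, .a, .b, .e, .a, .c, .b, .d, .b, .d, .b, .c, .a, .a, .c, .b, .c, .b, .c, .b, .a, .a, .c, .b, .d, .b, .d, .b, .c, .a, .a, .b, .c, .b, .c, .b, .c, .a, .e, .a, .b, .a, .b, .c, .a, .b, .a, .c, .b, .c, .b, .d, .a, .d, .b])) (nd 1575 (lf [.a, .c,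 .e, .a, .e, .b, .d, .c, .d, .b, .a, .c, .a, .c, .a, .b, .d, .c, .d, .b, .a, .c, .a, .c, .a, .e, .a, .e, .c, .b, .a, .c, .b, .a, .c, .b, .c, .b, .c, .d, .a, .c, .b]) (lf [.c, .d, .b, .d, .b, .d, .c, .a, .b, .a, .d, .c, .e, .c, .b, .e, .b, .d, .c, .b, .c, .a, .d, .b, .c, .a, .c, .a, .b, .c, .b, .c, .b, .e, .b, .c, .e, .d, .b, .d, .b, .d, .c, .d, .a, .b, .a])))) (nd 1580 (nd 1578 (nd 1577 (lf [.c, .a, .c, .b, .d, .a, .c, .b, .c, .d, .b, .e, .b, .c, .e, .c, .d, .a, .b, .a, .c, .d, .b, .d, .b, .d, .c, .a, .b, .a, .d, .c, .d, .b, .d, .b, .d, .e, .c, .b, .e, .b, .c, .b, .c, .b, .a]) (lf [.a, .b, .c, .a, .d, .c, .b, .c, .b, .c, .a, .b, .c, .a, .b, .c, .e, .a, .e, .a, .c, .a, .c, .a, .b, .d, .c, .d, .b, .a, .c, .a, .c, .a, .b, .d, .c, .d, .b, .e, .a, .e, .c])) (nd 1579 (lf [.a, .c, .a, .e, .d, .a, .b, .a, .c, .b, .d, .b,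 .d, .b, .c, .a, .b, .a, .d, .c, .b, .d, .b, .d, .b, .c, .e, .b, .c, .b, .a, .d, .b, .d, .c, .a, .b, .c, .b, .a, .c, .b]) (lf [.b, .c, .a, .e, .b, .a, .c, .b, .d, .a, .d, .b, .c, .b, .c, .a, .b, .a, .c, .b, .a, .b, .a, .e, .a, .c, .b, .c, .b, .c, .b, .a, .a, .c, .b, .d, .b, .d, .b, .c, .a, .a, .b, .c, .b, .c, .b, .c, .a, .a, .c, .b, .d, .b, .d]))) (nd 1582 (nd 1581 (lf [.c, .a, .e, .b, .c, .e, .d, .c, .a, .b, .a, .c, .d, .c, .b, .d, .a, .b, .a, .b, .c, .d, .c, .a, .b, .a, .c, .d, .c, .b, .a, .b, .a, .d, .b, .c, .e, .c, .b, .e, .c, .b, .d, .a, .b, .d, .a, .c, .b, .c, .b, .a, .c, .b]) (lf [.b, .a, .c, .b, .d, .b, .d, .b, .c, .a, .b, .c, .b, .c, .b, .c, .a, .c, .b, .d, .b, .d, .b, .c, .e, .c, .b, .c, .b, .c, .a, .b, .a, .d, .c, .d, .b, .e, .a, .c, .b, .c, .b, .c])) (nd 1583 (lf [.b, .c, .a, .c, .b, .a, .c, .b, .a,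 .d, .b, .a, .b, .d, .c, .a, .b, .e, .c, .d, .e, .a, .d, .c, .a, .c, .d, .a, .b, .d, .b, .d, .b, .a, .d, .c, .a, .c, .d, .a, .b, .d, .b, .d, .b, .e, .d, .c, .e, .a]) (lf [.a, .d, .a, .b, .a, .a, .c, .b, .d, .b, .d, .b, .c, .a, .a, .b, .a, .d, .e, .a, .b, .a, .c, .a, .c, .a, .b, .c, .a, .b, .c, .b, .c, .d, .a, .c, .b, .a, .b, .d, .a, .e, .a, .c, .b, .d, .b, .d, .b, .c]))))) (nd 1592 (nd 1588 (nd 1586 (nd 1585 (lf [.c, .b, .d, .a, .b, .a, .b, .c, .c, .d, .a, .b, .a, .c, .c, .b, .a, .b, .a, .d, .b, .c, .c, .a, .b, .a, .d, .c, .e, .c, .b, .e, .b, .a, .b, .c, .a, .c, .a, .b, .d, .b, .c, .a, .d, .a, .b, .e, .b, .c, .e]) (lf [.c, .a, .c, .a, .b, .a, .c, .b, .e, .a, .c, .d, .b, .d, .a, .e, .a, .c, .d, .c, .a, .c, .b, .c, .a, .c, .b, .a, .c, .d, .c, .a, .b, .c, .a, .c, .b, .c, .e, .a, .d, .b, .d, .c, .a, .e, .b, .c, .b,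 .c, .a, .c, .d, .b, .a, .b])) (nd 1587 (lf [.c, .b, .d, .b, .d, .b, .c, .a, .e, .b, .a, .b, .a, .c, .d, .c, .b, .d, .a, .b, .c, .b, .c, .b, .a, .b, .c, .a, .b, .c, .b, .e, .c, .d, .a, .b, .a, .c, .a, .c, .b, .d, .b, .d, .b, .c, .a, .c, .a, .b, .a, .d, .c, .a]) (lf [.b, .d, .e, .d, .e, .b, .c, .b, .a, .b, .c, .b, .a, .e, .d, .e, .d, .b, .e, .a, .e, .b, .a, .c, .b, .a, .c, .b, .a, .b, .c, .b, .c, .a, .d, .c, .a, .b, .a, .b, .e, .a, .e]))) (nd 1590 (nd 1589 (lf [.a, .d, .b, .c, .a, .b, .e, .a, .c, .b, .d, .b, .d, .b, .c, .a, .a, .c, .b, .c, .b, .c, .b, .a, .a, .c, .b, .d, .b, .d, .b, .c, .a, .a, .b, .c, .b, .c, .b, .c, .a, .e, .a, .b, .a, .b, .c, .a, .b, .a, .c, .b, .c, .b, .d]) (lf [.c, .a, .d, .a, .b, .c, .d, .a, .d, .c, .b, .a, .b, .c, .b, .c, .b, .a, .b, .c, .d, .a, .d])) (nd 1591 (lf [.c, .a, .d, .b, .a, .d,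 .b, .c, .e, .b, .c, .e, .c, .b, .d, .a, .b, .a, .b, .c, .d, .c, .a, .b, .a, .c, .d, .c, .b, .a, .b, .a, .d, .b, .c, .d, .c, .a, .b, .a, .c, .d, .e, .c, .b, .e, .a, .c, .b, .c, .a, .b, .c, .b]) (lf [.a, .b, .a, .b, .e, .c, .d, .a, .b, .a, .c, .a, .c, .b, .c, .b, .c, .b, .a, .c, .a, .b, .a, .d, .c, .a, .b, .c, .b, .c, .b, .c, .a, .e, .c, .d, .b, .d, .b, .d, .a, .b, .c, .b, .c])))) (nd 1596 (nd 1594 (nd 1593 (lf [.d, .b, .c, .a, .d, .a, .b, .e, .b, .c, .e, .c, .b, .d, .a, .b, .a, .b, .c, .c, .d, .a, .b, .a, .c, .c, .b, .a, .b, .a, .d, .b, .c, .c, .a, .b, .a, .d, .c, .e, .c, .b, .e, .b, .a, .b, .c, .a, .c, .a, .b]) (lf [.d, .b, .e, .a, .e, .a, .b, .a, .b, .c, .a, .b, .c, .b, .c, .b, .a, .b, .a, .d, .a, .c, .a, .b, .a, .d, .b, .e, .a, .e, .b, .d, .e, .d, .e, .d, .b, .d, .c, .b, .c, .d, .b, .d, .c, .b, .c, .e, .d, .e]))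 (nd 1595 (lf [.c, .b, .c, .a, .c, .d, .b, .a, .b, .c, .a, .c, .a, .b, .a, .c, .b, .e, .a, .c, .d, .b, .d, .a, .e, .a, .c, .d, .c, .a, .c, .b, .c, .a, .c, .b, .a, .c, .d, .c, .a, .b, .c, .a, .c, .b, .c, .e, .a, .d, .b, .d, .c, .a, .e, .b]) (lf [.a, .e, .b, .d, .c, .d, .a, .b, .a, .c, .b, .c, .b, .c, .e, .c, .b, .d, .b, .d, .b, .c, .a, .c, .b, .c, .b, .c, .b, .a, .c, .b, .d, .b, .d, .b, .c, .a, .b, .c, .b, .c, .b, .c]))) (nd 1598 (nd 1597 (lf [.a, .d, .a, .d, .b, .c, .d, .b, .a, .c, .b, .a, .b, .a, .c, .b, .c, .a, .e, .b, .c, .e, .d, .b, .d, .b, .d, .c, .b, .d, .a, .b, .a, .b, .c, .d, .b, .d, .b, .d, .c, .b, .a, .b, .a, .d, .b, .c, .e, .c, .b, .e, .b]) (lf [.b, .d, .b, .d, .b, .c, .e, .b, .c, .b, .a, .d, .b, .d, .c, .a, .b, .c, .b, .a, .c, .b, .a, .c, .a, .e, .d, .a, .b, .a, .c, .b, .d, .b, .d, .b, .c, .a, .b, .a,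 .d, .c])) (nd 1599 (lf [.a, .d, .b, .d, .c, .a, .e, .b, .a, .b, .c, .a, .b, .c, .b, .c, .b, .a, .b, .d, .b, .c, .d, .a, .d, .b, .c, .e, .a, .c, .d, .b, .d, .a, .e, .b, .d, .b, .a, .c, .a, .a, .c, .d, .c, .a, .a, .c, .a, .b, .d, .b, .a, .c, .d, .c, .a, .e]) (lf [.a, .a, .b, .a, .d, .e, .a, .b, .a, .c, .a, .c, .a, .b, .c, .a, .b, .c, .b, .c, .d, .a, .c, .b, .a, .b, .d, .a, .e, .a, .c, .b, .d, .b, .d, .b, .c, .a, .d, .a, .b, .a, .a, .c, .b, .d, .b, .d, .b, .c])))))))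
noncomputable def tc3kw_circT_c25 : ℕ → List Gen := (nd 1632 (nd 1616 (nd 1608 (nd 1604 (nd 1602 (nd 1601 (lf [.c, .a, .d, .a, .b, .a, .a, .c, .b, .d, .b, .d, .b, .c, .a, .a, .b, .a, .d, .e, .a, .b, .a, .c, .a, .c, .a, .b, .c, .a, .b, .c, .b, .c, .d, .a, .c, .b, .a, .b, .d, .a, .e, .a, .c, .b, .d, .b, .d, .b]) (lf [.d, .b, .d, .c, .a, .b, .c, .b, .a, .c, .b, .a, .c, .a, .e, .d, .a, .b, .a, .c, .b, .d, .b, .d, .b, .c, .a, .b, .a, .d, .c, .b, .d, .b, .d, .b, .c, .e, .b, .c, .b, .a])) (nd 1603 (lf [.d, .a, .c, .a, .b, .c, .b, .c, .a, .b, .c, .b, .a, .b, .a, .e, .a, .e, .a, .c, .a, .c, .a, .c, .d, .a, .d, .c, .a, .c, .a, .c, .a, .c, .d, .a, .d, .c, .e, .a, .e, .b, .c, .a, .c, .d, .b]) (lf [.e, .b, .d, .e, .d, .e, .d, .b, .d, .b, .c, .b, .d, .b, .d, .b, .c, .b, .e, .d, .e, .d, .b, .e, .a, .e, .b, .a, .c, .b, .c, .b,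 .a, .b, .c, .a, .b, .d, .c, .d, .a, .c, .b, .a, .e, .a]))) (nd 1606 (nd 1605 (lf [.c, .b, .a, .c, .a, .b, .a, .c, .a, .c, .b, .e, .c, .d, .a, .b, .a, .c, .c, .b, .d, .b, .d, .b, .c, .c, .a, .b, .a, .d, .c, .c, .b, .d, .b, .d, .b, .c, .e, .b, .d, .c, .d]) (lf [.c, .c, .b, .d, .b, .d, .b, .c, .c, .a, .b, .a, .d, .c, .c, .b, .d, .b, .d, .b, .c, .e, .b, .d, .c, .d, .c, .b, .a, .c, .a, .b, .a, .c, .a, .c, .b, .e, .c, .d, .a, .b, .a])) (nd 1607 (lf [.c, .b, .a, .c, .a, .c, .b, .d, .a, .c, .b, .c, .d, .e, .c, .d, .e, .a, .c, .b, .c, .b, .c, .b, .a, .a, .d, .c, .a, .c, .d, .a, .a, .b, .c, .b, .c, .b, .c, .a, .a, .d, .c, .a, .c, .d, .a, .e, .d, .c, .e, .c, .b]) (lf [.b, .d, .b, .d, .b, .c, .a, .b, .a, .d, .c, .b, .d, .b, .d, .b, .c, .e, .b, .c, .b, .a, .d, .b, .d, .c, .a, .b, .c, .b, .a, .c, .b, .a, .c, .a, .e, .d, .a,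 .b, .a, .c])))) (nd 1612 (nd 1610 (nd 1609 (lf [.b, .c, .b, .a, .b, .d, .b, .c, .d, .a, .d, .b, .c, .e, .a, .c, .d, .b, .d, .a, .e, .b, .d, .b, .a, .c, .a, .a, .c, .d, .c, .a, .a, .c, .a, .b, .d, .b, .a, .c, .d, .c, .a, .e, .a, .d, .b, .d, .c, .a, .e, .b, .a, .b, .c, .a, .b, .c]) (lf [.d, .b, .c, .e, .b, .c, .b, .a, .d, .b, .d, .c, .a, .b, .c, .b, .a, .c, .b, .a, .c, .a, .e, .d, .a, .b, .a, .c, .b, .d, .b, .d, .b, .c, .a, .b, .a, .d, .c, .b, .d, .b])) (nd 1611 (lf [.b, .d, .b, .d, .c, .b, .d, .a, .b, .a, .b, .c, .d, .b, .d, .b, .d, .c, .b, .a, .b, .a, .d, .b, .c, .e, .c, .b, .e, .b, .a, .d, .a, .d, .b, .c, .d, .b, .a, .c, .b, .a, .b, .a, .c, .b, .c, .a, .e, .b, .c, .e, .d]) (lf [.d, .e, .c, .b, .e, .a, .c, .b, .c, .a, .b, .a, .b, .c, .a, .b, .d, .c, .b, .d, .a, .d, .a, .b, .e, .b, .c, .e, .c, .b, .d, .a, .b, .a,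 .b, .c, .d, .b, .d, .b, .d, .c, .b, .a, .b, .a, .d, .b, .c, .d, .b, .d, .b]))) (nd 1614 (nd 1613 (lf [.d, .e, .c, .b, .e, .b, .a, .d, .c, .d, .b, .d, .c, .b, .c, .a, .b, .c, .a, .b, .a, .b, .a, .c, .b, .a, .e, .b, .c, .e, .d, .b, .d, .b, .d, .d, .c, .a, .b, .a, .c, .d, .d, .b, .d, .b, .d, .d, .c, .a, .b, .a, .c]) (lf [.b, .c, .a, .e, .d, .e, .d, .b, .e, .a, .e, .a, .c, .a, .c, .b, .a, .c, .a, .b, .c, .a, .d, .c, .a, .d, .a, .d, .e, .a, .e, .b, .d, .e, .d, .e, .c, .b, .c, .a, .c])) (nd 1615 (lf [.c, .b, .a, .e, .d, .e, .d, .b, .e, .a, .e, .b, .a, .c, .b, .a, .c, .b, .a, .b, .c, .b, .c, .a, .d, .c, .a, .b, .a, .b, .e, .a, .e, .b, .d, .e, .d, .e, .b, .c, .b, .a, .b]) (lf [.b, .c, .b, .c, .a, .c, .b, .d, .b, .d, .b, .c, .e, .c, .b, .c, .b, .c, .a, .b, .a, .d, .c, .d, .b, .e, .a, .c, .b, .c, .b, .c, .b, .a, .c, .b,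 .d, .b, .d, .b, .c, .a, .b, .c]))))) (nd 1624 (nd 1620 (nd 1618 (nd 1617 (lf [.a, .c, .b, .c, .b, .c, .a, .d, .a, .c, .a, .c, .a, .b, .c, .b, .c, .b, .a, .e, .a, .e, .c, .d, .a, .d, .c, .d, .b, .a, .b, .d, .c, .d, .a, .d, .c, .d, .b, .a, .b, .d, .e, .a, .e]) (lf [.b, .d, .a, .c, .a, .d, .b, .d, .a, .c, .a, .b, .d, .b, .d])) (nd 1619 (lf [.a, .c, .b, .d, .a, .c, .b, .c, .d, .e, .c, .d, .e, .a, .c, .b, .c, .b, .c, .b, .a, .a, .d, .c, .a, .c, .d, .a, .a, .b, .c, .b, .c, .b, .c, .a, .a, .d, .c, .a, .c, .d, .a, .e, .d, .c, .e, .c, .b, .c, .b, .a, .c]) (lf [.b, .a, .c, .a, .c, .b, .d, .b, .d, .b, .c, .a, .c, .a, .b, .a, .d, .c, .e, .b, .c, .b, .a, .c, .b, .a, .b, .c, .b, .c, .b, .a, .d, .b, .c, .d, .c, .a, .b, .a, .b, .e, .a, .c, .b, .d, .b, .d, .b, .c, .a, .c, .d, .a]))) (nd 1622 (nd 1621 (lf [.e, .a, .e, .b, .a, .c,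 .a, .c, .b, .a, .c, .a, .b, .c, .a, .d, .a, .c, .b, .a, .c, .a, .e, .a, .e, .b, .d, .e, .d, .e, .d, .b, .d, .a, .d, .b, .d, .a, .e, .d, .e, .d, .b]) (lf [.a, .c, .d, .c, .b, .c, .b, .d, .b, .d, .c, .d, .b, .c, .a, .c, .b, .a, .b, .c])) (nd 1623 (lf [.b, .a, .b, .e, .b, .c, .e, .c, .d, .a, .b, .a, .c, .c, .b, .d, .a, .b, .a, .b, .c, .c, .a, .b, .a, .d, .c, .c, .b, .a, .b, .a, .d, .b, .c, .e, .c, .b, .e, .b, .a, .d, .a, .c, .b, .d, .b, .a, .c, .a, .c]) (lf [.b, .d, .e, .d, .e, .a, .d, .b, .d, .a, .d, .b, .d, .e, .d, .e, .d, .b, .e, .a, .e, .a, .c, .a, .b, .c, .a, .d, .a, .c, .b, .a, .c, .a, .b, .c, .a, .c, .a, .b, .e, .a, .e])))) (nd 1628 (nd 1626 (nd 1625 (lf [.b, .e, .a, .e, .a, .b, .a, .b, .c, .a, .b, .c, .b, .c, .b, .a, .b, .a, .d, .a, .c, .a, .b, .a, .d, .b, .e, .a, .e, .b, .d, .e, .d, .e, .d, .b, .d, .c, .b,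 .c, .d, .b, .d, .c, .b, .c, .e, .d, .e, .d]) (lf [.d, .e, .d, .b, .e, .a, .e, .b, .a, .c, .a, .c, .b, .a, .c, .a, .b, .c, .a, .d, .a, .c, .b, .a, .c, .a, .e, .a, .e, .b, .d, .e, .d, .e, .d, .b, .d, .a, .d, .b, .d, .a, .e])) (nd 1627 (lf [.b, .d, .c, .b, .c, .e, .d, .e, .d, .b, .e, .a, .e, .a, .b, .a, .b, .c, .a, .b, .c, .b, .c, .b, .a, .b, .a, .d, .a, .c, .a, .b, .a, .d, .b, .e, .a, .e, .b, .d, .e, .d, .e, .d, .b, .d, .c, .b, .c, .d]) (lf [.e, .c, .b, .c, .a, .c, .b, .c, .a, .e, .d, .e, .d, .b, .e, .a, .e, .a, .c, .a, .c, .b, .a, .c, .a, .b, .c, .a, .d, .c, .a, .d, .a, .d, .e, .a, .e, .b, .d, .e, .d]))) (nd 1630 (nd 1629 (lf [.a, .e, .a, .b, .a, .b, .c, .a, .b, .c, .b, .c, .b, .a, .b, .a, .d, .a, .c, .a, .b, .a, .d, .b, .e, .a, .e, .b, .d, .e, .d, .e, .d, .b, .d, .c, .b, .c, .d, .b, .d, .c, .b, .c, .e, .d, .e,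 .d, .b, .e]) (lf [.d, .c, .d, .b, .d, .a, .b, .c, .a, .b, .c, .a, .b, .c, .b, .a, .e, .a, .b, .e, .a, .c, .a, .c, .a, .d, .c, .b, .c, .b, .c, .d, .a, .c, .a, .c, .a, .d, .c, .b, .c, .b, .c, .d, .e, .b, .a, .e, .b, .c, .d, .a])) (nd 1631 (lf [.b, .c, .a, .c, .d, .b, .a, .b, .c, .a, .c, .a, .b, .a, .c, .b, .e, .a, .c, .d, .b, .d, .a, .e, .a, .c, .d, .c, .a, .c, .b, .c, .a, .c, .b, .a, .c, .d, .c, .a, .b, .c, .a, .c, .b, .c, .e, .a, .d, .b, .d, .c, .a, .e, .b, .c]) (lf [.d, .c, .b, .d, .b, .d, .b, .c, .e, .b, .c, .b, .a, .d, .b, .d, .c, .a, .b, .c, .b, .a, .c, .b, .a, .c, .a, .e, .d, .a, .b, .a, .c, .b, .d, .b, .d, .b, .c, .a, .b, .a])))))) (nd 1648 (nd 1640 (nd 1636 (nd 1634 (nd 1633 (lf [.b, .c, .b, .c, .d, .a, .c, .b, .a, .b, .d, .a, .e, .a, .c, .b, .d, .b, .d, .b, .c, .a, .d, .a, .b, .a, .a, .c, .b, .d, .b, .d,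 .b, .c, .a, .a, .b, .a, .d, .e, .a, .b, .a, .c, .a, .c, .a, .b, .c, .a]) (lf [.b, .c, .a, .e, .b, .d, .c, .d, .a, .b, .a, .c, .b, .c, .b, .c, .e, .c, .b, .d, .b, .d, .b, .c, .a, .c, .b, .c, .b, .c, .b, .a, .c, .b, .d, .b, .d, .b, .c, .a, .b, .c, .b, .c])) (nd 1635 (lf [.b, .a, .c, .d, .a, .b, .a, .c, .a, .b, .c, .b, .c, .b, .c, .a, .c, .a, .b, .a, .d, .c, .e, .b, .a, .b, .a, .c, .b, .c, .b, .a, .d, .b, .d, .b, .d, .c, .e, .a, .c, .b, .c, .b, .c]) (lf [.a, .b, .a, .c, .d, .b, .c, .b, .c, .b, .c, .e, .b, .c, .e, .d, .c, .a, .b, .a, .c, .d, .b, .d, .c, .a, .b, .a, .c, .d, .b, .e, .c, .b, .e, .b, .a, .c, .a, .b, .c]))) (nd 1638 (nd 1637 (lf [.c, .a, .b, .a, .c, .b, .e, .a, .c, .d, .b, .d, .a, .e, .a, .c, .d, .c, .a, .c, .b, .c, .a, .c, .b, .a, .c, .d, .c, .a, .b, .c, .a, .c, .b, .c, .e, .a, .d, .b, .d, .c, .a, .e,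 .b, .c, .b, .c, .a, .c, .d, .b, .a, .b, .c, .a]) (lf [.a, .c, .b, .c, .d, .e, .c, .d, .e, .a, .c, .b, .c, .b, .c, .b, .a, .a, .d, .c, .a, .c, .d, .a, .a, .b, .c, .b, .c, .b, .c, .a, .a, .d, .c, .a, .c, .d, .a, .e, .d, .c, .e, .c, .b, .c, .b, .a, .c, .a, .c, .b, .d])) (nd 1639 (lf [.b, .c, .d, .a, .d, .c, .b, .a, .d, .a, .c, .d, .a, .d, .c, .b, .a, .b, .c, .b, .c, .b, .a]) (lf [.c, .d, .c, .d, .b, .e, .a, .d, .b, .d, .c, .a, .e, .b, .a, .c, .a, .b, .a, .c, .b, .a, .c, .b, .a, .c, .b, .a, .d, .a, .d, .a, .c, .d, .b, .c, .e, .a, .c, .d, .b, .d, .a, .e, .c, .b, .c, .a, .c, .b, .b, .d, .c, .d, .c, .b, .b, .c, .a, .c, .b, .c, .b])))) (nd 1644 (nd 1642 (nd 1641 (lf [.b, .c, .a, .b, .c, .b, .e, .c, .d, .a, .b, .a, .c, .a, .c, .b, .d, .b, .d, .b, .c, .a, .c, .a, .b, .a, .d, .c, .a, .c, .b, .d, .b, .d, .b, .c, .a, .e, .b,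 .a, .b, .a, .c, .d, .c, .b, .d, .a, .b, .c, .b, .c, .b, .a]) (lf [.c, .a, .c, .a, .b, .c, .b, .c, .e, .c, .d, .e, .a, .d, .c, .a, .c, .d, .a, .a, .c, .b, .c, .b, .c, .b, .a, .a, .d, .c, .a, .c, .d, .a, .a, .b, .c, .b, .c, .b, .c, .a, .e, .d, .c, .e, .d, .c, .b, .c, .a, .d, .b])) (nd 1643 (lf [.b, .c, .b, .e, .d, .e, .d, .b, .e, .a, .e, .b, .a, .b, .a, .c, .d, .a, .c, .b, .c, .b, .a, .b, .c, .a, .b, .c, .a, .b, .e, .a, .e, .b, .d, .e, .d, .e, .a, .b, .c, .b, .a]) (lf [.d, .b, .e, .a, .e, .a, .c, .a, .c, .b, .a, .c, .a, .b, .c, .a, .d, .c, .a, .d, .a, .d, .e, .a, .e, .b, .d, .e, .d, .e, .c, .b, .c, .a, .c, .b, .c, .a, .e, .d, .e]))) (nd 1646 (nd 1645 (lf [.c, .d, .a, .d, .c, .a, .d, .a, .b, .c, .d, .a, .d, .c, .b, .a, .b, .c, .b, .c, .b, .a, .b]) (lf [.a, .c, .d, .c, .a, .b, .c, .a, .c, .b, .c, .e, .a, .d, .b, .d,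 .c, .a, .e, .b, .c, .b, .c, .a, .c, .d, .b, .a, .b, .c, .a, .c, .a, .b, .a, .c, .b, .e, .a, .c, .d, .b, .d, .a, .e, .a, .c, .d, .c, .a, .c, .b, .c, .a, .c, .b])) (nd 1647 (lf [.c, .a, .b, .d, .b, .b, .c, .d, .c, .d, .b, .e, .a, .d, .b, .d, .c, .a, .e, .a, .c, .d, .a, .d, .c, .a, .e, .a, .c, .d, .b, .d, .a, .e, .b, .d, .b, .a, .c, .a, .b, .d, .c, .d, .c, .b, .a]) (lf [.d, .b, .a, .c, .b, .a, .b, .a, .c, .b, .c, .a, .e, .b, .c, .e, .d, .b, .d, .b, .d, .c, .b, .d, .a, .b, .a, .b, .c, .d, .b, .d, .b, .d, .c, .b, .a, .b, .a, .d, .b, .c, .e, .c, .b, .e, .b, .a, .d, .a, .d, .b, .c]))))) (nd 1656 (nd 1652 (nd 1650 (nd 1649 (lf [.a, .e, .b, .a, .c, .a, .c, .b, .a, .c, .a, .b, .c, .a, .d, .a, .c, .b, .a, .c, .a, .e, .a, .e, .b, .d, .e, .d, .e, .d, .b, .d, .a, .d, .b, .d, .a, .e, .d, .e, .d, .b, .e]) (lf [.a, .b, .a, .c,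 .b, .a, .b, .d, .b, .c, .b, .c, .a, .b, .c, .a, .b, .c, .a, .b, .a, .b, .a, .e, .a, .e, .a, .c, .a, .c, .a, .d, .b, .a, .b, .d, .a, .c, .a, .c, .a, .d, .b, .a, .b, .d, .e, .a, .e, .b])) (nd 1651 (lf [.c, .b, .c, .a, .d, .b, .c, .a, .c, .a, .b, .c, .b, .c, .b, .e, .b, .c, .e, .d, .b, .d, .b, .d, .c, .d, .a, .b, .a, .c, .d, .b, .d, .b, .d, .c, .a, .b, .a, .d, .c, .e, .c, .b, .e, .b, .d]) (lf [.d, .a, .b, .e, .b, .c, .e, .c, .b, .d, .a, .b, .a, .b, .c, .c, .d, .a, .b, .a, .c, .c, .b, .a, .b, .a, .d, .b, .c, .c, .a, .b, .a, .d, .c, .e, .c, .b, .e, .b, .a, .b, .c, .a, .c, .a, .b, .d, .b, .c, .a]))) (nd 1654 (nd 1653 (lf [.b, .d, .a, .b, .c, .b, .e, .c, .b, .d, .b, .d, .b, .c, .d, .a, .b, .a, .c, .b, .d, .b, .d, .b, .c, .a, .b, .a, .d, .e, .a, .c, .a, .b, .c, .a, .b, .c, .b, .a, .c, .d]) (lf [.b, .e, .b, .c, .e, .c,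 .d, .a, .b, .a, .c, .d, .b, .d, .b, .d, .c, .a, .b, .a, .d, .c, .d, .b, .d, .b, .d, .e, .c, .b, .e, .b, .c, .b, .c, .b, .a, .c, .a, .c, .b, .d, .a, .c, .b, .c, .d])) (nd 1655 (lf [.a, .d, .b, .c, .d, .b, .a, .c, .b, .a, .b, .a, .c, .b, .c, .a, .e, .b, .c, .e, .d, .b, .d, .b, .d, .c, .b, .d, .a, .b, .a, .b, .c, .d, .b, .d, .b, .d, .c, .b, .a, .b, .a, .d, .b, .c, .e, .c, .b, .e, .b, .a, .d]) (lf [.d, .b, .d, .e, .d, .e, .d, .b, .e, .a, .e, .b, .d, .a, .b, .a, .c, .a, .d, .a, .b, .a, .b, .c, .b, .c, .b, .a, .c, .b, .a, .b, .a, .e, .a, .e, .b, .d, .e, .d, .e, .c, .b, .c, .d, .b, .d, .c, .b, .c])))) (nd 1660 (nd 1658 (nd 1657 (lf [.d, .a, .b, .a, .a, .b, .c, .b, .c, .b, .c, .a, .a, .b, .a, .d, .e, .b, .a, .b, .a, .c, .b, .c, .a, .b, .a, .b, .c, .e, .a, .c, .b, .c, .b, .c, .b, .a]) (lf [.a, .e, .a, .d, .b, .d, .c, .a,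 .e, .b, .a, .b, .c, .a, .b, .c, .b, .c, .b, .a, .b, .d, .b, .c, .d, .a, .d, .b, .c, .e, .a, .c, .d, .b, .d, .a, .e, .b, .d, .b, .a, .c, .a, .a, .c, .d, .c, .a, .a, .c, .a, .b, .d, .b, .a, .c, .d, .c])) (nd 1659 (lf [.c, .a, .c, .d, .a, .b, .d, .b, .d, .b, .a, .d, .c, .a, .c, .d, .a, .e, .d, .c, .e, .b, .a, .c, .d, .b, .a, .b, .d, .a, .b, .c, .a, .b, .c, .a, .c, .b, .a, .e, .c, .d, .e, .b, .d, .b, .d, .b, .a, .d]) (lf [.c, .d, .a, .e, .d, .c, .e, .b, .a, .c, .d, .b, .a, .b, .d, .a, .b, .c, .a, .b, .c, .a, .c, .b, .a, .e, .c, .d, .e, .b, .d, .b, .d, .b, .a, .d, .c, .a, .c, .d, .a, .b, .d, .b, .d, .b, .a, .d, .c, .a]))) (nd 1662 (nd 1661 (lf [.a, .c, .b, .e, .a, .e, .c, .d, .a, .d, .c, .a, .c, .a, .c, .a, .c, .d, .a, .d, .c, .a, .c, .a, .c, .a, .e, .a, .e, .a, .b, .a, .b, .c, .b, .a, .c, .b, .c, .b, .a, .c, .a, .d,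 .b, .d, .c]) (lf [.d, .c, .b, .c, .a, .d, .b, .c, .a, .c, .a, .b, .c, .b, .c, .b, .e, .b, .c, .e, .d, .b, .d, .b, .d, .c, .d, .a, .b, .a, .c, .d, .b, .d, .b, .d, .c, .a, .b, .a, .d, .c, .e, .c, .b, .e, .b])) (nd 1663 (lf [.b, .c, .b, .a, .b, .a, .d, .b, .c, .b, .e, .c, .b, .e, .a, .b, .a, .b, .a, .c, .a, .b, .a, .b, .a, .c, .a, .b, .c, .a, .c, .a, .d, .b, .d, .c, .a, .d, .c, .a, .b, .e, .b, .c, .e, .c, .b, .d, .a, .b, .a, .b, .c]) (lf [.d, .c, .b, .c, .b, .c, .a, .c, .b, .b, .c, .d, .c, .d, .b, .b, .c, .a, .c, .b, .c, .e, .a, .d, .b, .d, .c, .a, .e, .c, .b, .d, .c, .a, .d, .a, .d, .a, .b, .c, .a, .b, .c, .a, .b, .c, .a, .b, .a, .c, .a, .b, .e, .a, .c, .d, .b, .d, .a, .e, .b, .d, .c])))))))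
noncomputable def tc3kw_circT_c26 : ℕ → List Gen := (nd 1696 (nd 1680 (nd 1672 (nd 1668 (nd 1666 (nd 1665 (lf [.c, .b, .c, .a, .c, .b, .c, .e, .d, .e, .d, .b, .e, .a, .e, .d, .a, .d, .a, .c, .d, .a, .c, .b, .a, .c, .a, .b, .c, .a, .c, .a, .e, .a, .e, .b, .d, .e, .d, .e, .a]) (lf [.a, .b, .d, .a, .c, .b, .c, .b, .a, .c, .b, .c, .a, .e, .b, .c, .e, .d, .c, .a, .b, .a, .c, .d, .c, .b, .d, .a, .b, .a, .b, .c, .d, .c, .a, .b, .a, .c, .d, .c, .b, .a, .b, .a, .d, .b, .c, .e, .c, .b, .e, .c, .b, .d])) (nd 1667 (lf [.a, .e, .b, .a, .c, .a, .b, .c, .a, .c, .a, .b, .a, .c, .d, .a, .c, .d, .a, .c, .a, .c, .d, .e, .a, .c, .d, .b, .d, .a, .e, .c, .b, .c, .a, .c, .b, .b, .d, .b, .a, .c, .a, .b, .c, .a, .c, .b, .c, .a, .c, .a, .b, .d, .b, .e, .a, .d, .b, .d, .c]) (lf [.d, .c, .a, .c, .b, .d, .b, .d, .b, .c, .a, .e, .b, .a, .b,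 .a, .c, .d, .c, .b, .d, .a, .b, .c, .b, .c, .b, .a, .b, .c, .a, .b, .c, .b, .e, .c, .d, .a, .b, .a, .c, .a, .c, .b, .d, .b, .d, .b, .c, .a, .c, .a, .b, .a]))) (nd 1670 (nd 1669 (lf [.d, .b, .d, .b, .c, .a, .e, .a, .d, .b, .a, .b, .c, .a, .d, .c, .b, .c, .b, .a, .c, .b, .a, .c, .a, .c, .a, .b, .a, .e, .d, .a, .b, .a, .a, .c, .b, .d, .b, .d, .b, .c, .a, .a, .b, .a, .d, .a, .c, .b]) (lf [.e, .b, .c, .e, .c, .d, .a, .b, .a, .c, .d, .b, .d, .b, .d, .c, .a, .b, .a, .d, .c, .d, .b, .d, .b, .d, .e, .c, .b, .e, .b, .c, .b, .c, .b, .a, .c, .a, .c, .b, .d, .a, .c, .b, .c, .d, .b])) (nd 1671 (lf [.a, .b, .a, .c, .a, .b, .c, .d, .c, .d, .b, .e, .c, .b, .d, .b, .d, .b, .c, .c, .d, .a, .b, .a, .c, .c, .b, .d, .b, .d, .b, .c, .c, .a, .b, .a, .d, .c, .e, .b, .c, .a, .c]) (lf [.c, .b, .d, .a, .c, .b, .c, .d, .b, .e, .b, .c, .e,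 .c, .d, .a, .b, .a, .c, .d, .b, .d, .b, .d, .c, .a, .b, .a, .d, .c, .d, .b, .d, .b, .d, .e, .c, .b, .e, .b, .c, .b, .c, .b, .a, .c, .a])))) (nd 1676 (nd 1674 (nd 1673 (lf [.e, .b, .c, .e, .d, .c, .a, .b, .a, .c, .d, .b, .d, .c, .a, .b, .a, .c, .d, .b, .e, .c, .b, .e, .b, .a, .c, .a, .b, .c, .a, .b, .a, .c, .d, .b, .c, .b, .c, .b, .c]) (lf [.c, .b, .a, .c, .d, .c, .a, .b, .c, .a, .c, .b, .c, .a, .c, .d, .c, .a, .e, .a, .d, .b, .d, .c, .a, .e, .b, .c, .a, .b, .a, .c, .a, .c, .b, .a, .b, .d, .c, .a, .c, .b, .c, .b, .e, .a, .c, .d, .b, .d, .a, .e, .c, .b, .c, .a])) (nd 1675 (lf [.a, .b, .c, .a, .b, .a, .b, .a, .c, .b, .a, .c, .b, .c, .d, .b, .d, .c, .d, .a, .b, .e, .b, .c, .e, .d, .c, .a, .b, .a, .c, .d, .d, .b, .d, .b, .d, .d, .c, .a, .b, .a, .c, .d, .d, .b, .d, .b, .d, .e, .c, .b, .e]) (lf [.b, .a, .b, .a, .d, .b,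 .c, .d, .b, .d, .b, .d, .e, .c, .b, .e, .a, .c, .b, .c, .a, .b, .a, .b, .c, .a, .b, .d, .c, .b, .d, .a, .d, .a, .b, .e, .b, .c, .e, .c, .b, .d, .a, .b, .a, .b, .c, .d, .b, .d, .b, .d, .c]))) (nd 1678 (nd 1677 (lf [.a, .d, .b, .c, .a, .d, .c, .a, .c, .b, .a, .c, .b, .a, .c, .a, .b, .a, .b, .a, .e, .a, .b, .e, .a, .c, .a, .c, .a, .d, .b, .c, .b, .a, .b, .c, .b, .d, .a, .c, .a, .c, .a, .d, .b, .c, .b, .a, .b, .c, .b, .d, .e, .b, .a, .e, .b, .a, .c]) (lf [.a, .b, .a, .c, .b, .c, .a, .b, .a, .d, .c, .e, .c, .b, .e, .b, .c, .d, .a, .d, .c, .d, .a, .c, .b, .a, .c, .b, .a, .c, .a, .c, .a, .b, .a, .e, .b, .c, .e, .b, .c, .d])) (nd 1679 (lf [.e, .b, .d, .e, .d, .e, .b, .c, .b, .a, .b, .c, .b, .a, .e, .d, .e, .d, .b, .e, .a, .e, .b, .a, .c, .b, .a, .c, .b, .a, .b, .c, .b, .c, .a, .d, .c, .a, .b, .a, .b, .e, .a]) (lf [.a,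 .c, .b, .d, .b, .c, .a, .b, .c, .a, .e, .a, .c, .d, .b, .d, .a, .e, .b, .d, .c, .d, .c, .b, .a, .c, .d, .c, .a, .b, .c, .d, .c, .d, .b, .a, .c, .d, .c, .a, .e, .a, .d, .b, .d, .c, .a, .e, .b, .a, .b, .c, .b, .a, .c, .b, .c, .b, .a, .b]))))) (nd 1688 (nd 1684 (nd 1682 (nd 1681 (lf [.b, .c, .a, .b, .a, .c, .b, .a, .b, .a, .e, .a, .c, .b, .c, .b, .c, .b, .a, .a, .c, .b, .d, .b, .d, .b, .c, .a, .a, .b, .c, .b, .c, .b, .c, .a, .a, .c, .b, .d, .b, .d, .b, .c, .a, .e, .b, .a, .c, .b, .d, .a, .d, .b, .c]) (lf [.d, .c, .d, .c, .a, .d, .b, .c, .b, .c, .a, .b, .a, .c, .a, .c, .a, .b, .a, .b, .a, .d, .b, .c, .d, .a, .b])) (nd 1683 (lf [.b, .d, .c, .a, .b, .c, .b, .a, .c, .b, .a, .c, .a, .e, .d, .a, .b, .a, .c, .b, .d, .b, .d, .b, .c, .a, .b, .a, .d, .c, .b, .d, .b, .d, .b, .c, .e, .b, .c, .b, .a, .d]) (lf [.a, .d, .c, .d,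 .b, .a, .b, .d, .c, .d, .a, .d, .c, .e, .a, .e, .a, .b, .c, .b, .c, .b, .a, .c, .a, .c, .a, .d, .a, .c, .b, .c, .b, .c, .a, .e, .a, .e, .d, .b, .a, .b, .d, .c, .d]))) (nd 1686 (nd 1685 (lf [.b, .c, .b, .e, .c, .b, .d, .b, .d, .b, .c, .d, .a, .b, .a, .c, .b, .d, .b, .d, .b, .c, .a, .b, .a, .d, .e, .a, .c, .a, .b, .c, .a, .b, .c, .b, .a, .c, .d, .b, .d, .a]) (lf [.b, .c, .d, .c, .d, .b, .a, .c, .a, .b, .d, .b, .e, .a, .d, .b, .d, .c, .a, .e, .a, .c, .d, .a, .d, .c, .a, .e, .a, .c, .d, .b, .d, .a, .e, .b, .d, .c, .d, .c, .b, .b, .d, .b, .a, .c, .a])) (nd 1687 (lf [.a, .d, .b, .c, .a, .c, .a, .b, .c, .b, .c, .e, .c, .d, .e, .a, .d, .c, .a, .c, .d, .a, .a, .c, .b, .c, .b, .c, .b, .a, .a, .d, .c, .a, .c, .d, .a, .a, .b, .c, .b, .c, .b, .c, .a, .e, .d, .c, .e, .d, .c, .b, .c]) (lf [.b, .d, .c, .a, .b, .a, .c, .b, .a,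 .c, .a, .b, .e, .b, .c, .e, .b, .d, .c, .a, .b, .a, .c, .d, .b, .d, .c, .a, .b, .a, .c, .d, .e, .c, .b, .e, .c, .b, .c, .b, .c])))) (nd 1692 (nd 1690 (nd 1689 (lf [.b, .d, .b, .d, .b, .c, .a, .e, .a, .d, .b, .a, .b, .c, .a, .d, .c, .b, .c, .b, .a, .c, .b, .a, .c, .a, .c, .a, .b, .a, .e, .d, .a, .b, .a, .a, .c, .b, .d, .b, .d, .b, .c, .a, .a, .b, .a, .d, .a, .c]) (lf [.d, .b, .d, .c, .a, .b, .a, .c, .d, .e, .c, .b, .e, .c, .b, .c, .b, .c, .b, .d, .c, .a, .b, .a, .c, .b, .a, .c, .a, .b, .e, .b, .c, .e, .b, .d, .c, .a, .b, .a, .c])) (nd 1691 (lf [.a, .e, .a, .d, .b, .a, .b, .c, .a, .d, .c, .b, .c, .b, .a, .c, .b, .a, .c, .a, .c, .a, .b, .a, .e, .d, .a, .b, .a, .a, .c, .b, .d, .b, .d, .b, .c, .a, .a, .b, .a, .d, .a, .c, .b, .d, .b, .d, .b, .c]) (lf [.a, .b, .c, .a, .c, .d, .a, .c, .b, .d, .a, .c, .a, .b, .e, .a, .b,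 .e, .d, .b, .c, .b, .a, .b, .c, .b, .d, .a, .c, .a, .c, .a, .d, .b, .c, .b, .a, .b, .c, .b, .d, .a, .c, .a, .c, .a, .e, .b, .a, .e, .a, .b, .a, .b, .a, .c, .a, .b, .c]))) (nd 1694 (nd 1693 (lf [.a, .e, .b, .c, .b, .c, .a, .c, .d, .b, .a, .b, .c, .a, .c, .a, .b, .a, .c, .b, .e, .a, .c, .d, .b, .d, .a, .e, .a, .c, .d, .c, .a, .c, .b, .c, .a, .c, .b, .a, .c, .d, .c, .a, .b, .c, .a, .c, .b, .c, .e, .a, .d, .b, .d, .c]) (lf [.d, .a, .d, .c, .b, .e, .b, .c, .e, .c, .d, .a, .b, .a, .c, .b, .c, .a, .b, .a, .d, .c, .b, .e, .c, .b, .e, .a, .b, .a, .c, .a, .c, .a, .b, .c, .a, .b, .c, .a, .d, .c])) (nd 1695 (lf [.a, .d, .b, .d, .a, .d, .b, .d, .e, .d, .e, .d, .b, .e, .a, .e, .a, .c, .a, .b, .c, .a, .d, .a, .c, .b, .a, .c, .a, .b, .c, .a, .c, .a, .b, .e, .a, .e, .b, .d, .e, .d, .e]) (lf [.a, .c, .b, .a, .d, .b, .d, .c, .d,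 .a, .d, .c, .b, .e, .a, .b, .e, .d, .c, .b, .c, .b, .c, .d, .a, .c, .a, .c, .a, .d, .c, .b, .c, .b, .c, .d, .a, .c, .a, .c, .a, .e, .b, .a, .e, .a, .b, .c, .b, .a, .c, .b])))))) (nd 1712 (nd 1704 (nd 1700 (nd 1698 (nd 1697 (lf [.d, .c, .a, .b, .e, .c, .d, .e, .a, .d, .c, .a, .c, .d, .a, .b, .d, .b, .d, .b, .a, .d, .c, .a, .c, .d, .a, .b, .d, .b, .d, .b, .e, .d, .c, .e, .a, .b, .c, .a, .c, .b, .a, .c, .b, .a, .d, .b, .a, .b]) (lf [.d, .c, .b, .e, .c, .b, .e, .a, .b, .a, .c, .a, .c, .a, .b, .c, .a, .b, .c, .a, .d, .c, .d, .a, .d, .c, .b, .e, .b, .c, .e, .c, .d, .a, .b, .a, .c, .b, .c, .a, .b, .a])) (nd 1699 (lf [.a, .b, .e, .a, .c, .d, .b, .d, .a, .e, .b, .d, .b, .a, .c, .a, .c, .b, .c, .a, .c, .b, .a, .c, .a, .b, .d, .b, .b, .c, .a, .c, .b, .c, .e, .a, .d, .b, .d, .c, .a, .e, .d, .c, .a, .c, .a, .d, .c, .a, .d,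 .c, .a, .b, .a, .c, .a, .c, .b, .a, .c]) (lf [.b, .d, .b, .d, .b, .c, .a, .a, .b, .c, .b, .c, .b, .c, .a, .a, .c, .b, .d, .b, .d, .b, .c, .a, .e, .b, .a, .c, .b, .d, .a, .d, .b, .c, .b, .c, .a, .b, .a, .c, .b, .a, .b, .a, .e, .a, .c, .b, .c, .b, .c, .b, .a, .a, .c]))) (nd 1702 (nd 1701 (lf [.e, .b, .d, .c, .d, .c, .b, .c, .b, .c, .a, .c, .b, .b, .c, .d, .c, .d, .b, .b, .c, .a, .c, .b, .c, .e, .a, .d, .b, .d, .c, .a, .e, .c, .b, .d, .c, .a, .d, .a, .d, .a, .b, .c, .a, .b, .c, .a, .b, .c, .a, .b, .a, .c, .a, .b, .e, .a, .c, .d, .b, .d, .a]) (lf [.b, .c, .b, .a, .c, .b, .a, .c, .a, .b, .a, .b, .a, .e, .a, .b, .e, .d, .c, .b, .c, .b, .c, .d, .d, .b, .c, .b, .a, .b, .c, .b, .d, .d, .c, .b, .c, .b, .c, .d, .d, .b, .c, .b, .a, .b, .c, .b, .d, .e, .b, .a, .e, .b, .d, .b, .d, .c, .a, .c, .a, .d, .c])) (nd 1703 (lf [.c,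 .e, .a, .b, .e, .d, .b, .c, .b, .a, .b, .c, .b, .d, .b, .a, .b, .d, .b, .a, .b, .a, .d, .b, .c, .b, .a, .b, .c, .b, .d, .a, .b, .a, .b, .d, .b, .a, .b, .e, .b, .a, .e, .b, .a, .c, .b, .c, .a, .b, .c, .a, .b, .a, .d, .a, .c, .a, .c, .a, .b, .a]) (lf [.e, .a, .c, .d, .a, .d, .c, .a, .e, .a, .c, .d, .b, .d, .a, .e, .b, .d, .b, .a, .c, .a, .b, .d, .c, .d, .c, .b, .a, .c, .a, .b, .d, .b, .b, .c, .d, .c, .d, .b, .e, .a, .d, .b, .d, .c, .a])))) (nd 1708 (nd 1706 (nd 1705 (lf [.e, .a, .e, .b, .a, .c, .b, .c, .b, .a, .b, .c, .a, .b, .d, .c, .d, .a, .c, .b, .a, .e, .a, .e, .b, .d, .e, .d, .e, .d, .b, .d, .b, .c, .b, .d, .b, .d, .b, .c, .b, .e, .d, .e, .d, .b]) (lf [.d, .e, .c, .b, .c, .a, .c, .b, .c, .a, .e, .d, .e, .d, .b, .e, .a, .e, .a, .c, .a, .c, .b, .a, .c, .a, .b, .c, .a, .d, .c, .a, .d, .a, .d, .e, .a, .e, .b, .d,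 .e])) (nd 1707 (lf [.c, .b, .c, .a, .c, .b, .b, .d, .c, .d, .c, .b, .b, .c, .a, .c, .b, .c, .b, .c, .d, .c, .d, .b, .e, .a, .d, .b, .d, .c, .a, .e, .b, .a, .c, .a, .b, .a, .c, .b, .a, .c, .b, .a, .c, .b, .a, .d, .a, .d, .a, .c, .d, .b, .c, .e, .a, .c, .d, .b, .d, .a, .e]) (lf [.c, .d, .b, .a, .b, .d, .e, .a, .e, .a, .c, .b, .c, .b, .c, .a, .d, .a, .c, .a, .c, .a, .b, .c, .b, .c, .b, .a, .e, .a, .e, .c, .d, .a, .d, .c, .d, .b, .a, .b, .d, .c, .d, .a, .d]))) (nd 1710 (nd 1709 (lf [.c, .a, .c, .b, .b, .d, .c, .d, .c, .b, .b, .c, .a, .c, .b, .c, .b, .c, .d, .c, .d, .b, .e, .a, .d, .b, .d, .c, .a, .e, .b, .a, .c, .a, .b, .a, .c, .b, .a, .c, .b, .a, .c, .b, .a, .d, .a, .d, .a, .c, .d, .b, .c, .e, .a, .c, .d, .b, .d, .a, .e, .c, .b]) (lf [.a, .b, .d, .e, .a, .e, .c, .d, .a, .b, .d, .c, .d, .b, .c, .b, .c, .b, .a, .c,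 .b, .a, .c, .b, .c, .b, .a, .b, .a, .e, .a, .e, .b, .d, .c, .d, .b, .d, .b, .a, .b, .d, .b, .d, .c, .d, .b, .d, .b])) (nd 1711 (lf [.d, .b, .d, .c, .a, .b, .a, .d, .c, .d, .b, .d, .b, .d, .e, .c, .b, .e, .b, .c, .b, .c, .b, .a, .c, .a, .c, .b, .d, .a, .c, .b, .c, .d, .b, .e, .b, .c, .e, .c, .d, .a, .b, .a, .c, .d, .b]) (lf [.d, .b, .d, .b, .c, .e, .c, .b, .c, .b, .c, .a, .b, .a, .d, .c, .d, .b, .e, .a, .c, .b, .c, .b, .c, .b, .a, .c, .b, .d, .b, .d, .b, .c, .a, .b, .c, .b, .c, .b, .c, .a, .c, .b]))))) (nd 1720 (nd 1716 (nd 1714 (nd 1713 (lf [.c, .a, .c, .a, .d, .b, .c, .b, .a, .b, .c, .b, .d, .a, .c, .a, .c, .a, .d, .b, .c, .b, .a, .b, .c, .b, .d, .e, .b, .a, .e, .b, .a, .c, .a, .d, .b, .c, .a, .d, .c, .a, .c, .b, .a, .c, .b, .a, .c, .a, .b, .a, .b, .a, .e, .a, .b, .e, .a]) (lf [.c, .a, .b, .c, .b, .a, .b, .e,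 .a, .c, .d, .b, .d, .a, .e, .a, .c, .d, .c, .a, .b, .d, .c, .d, .c, .b, .a, .c, .d, .c, .a, .b, .c, .d, .c, .d, .b, .e, .a, .d, .b, .d, .c, .a, .e, .a, .c, .b, .a, .c, .b, .d, .b, .c, .a, .b, .a, .b, .c, .b])) (nd 1715 (lf [.c, .b, .c, .a, .d, .b, .a, .d, .b, .c, .e, .b, .c, .e, .c, .b, .d, .a, .b, .a, .b, .c, .d, .c, .a, .b, .a, .c, .d, .c, .b, .a, .b, .a, .d, .b, .c, .d, .c, .a, .b, .a, .c, .d, .e, .c, .b, .e, .a, .c, .b, .c, .a, .b]) (lf [.b, .e, .c, .b, .e, .b, .a, .c, .a, .b, .c, .a, .b, .a, .c, .d, .b, .c, .b, .c, .b, .c, .e, .b, .c, .e, .d, .c, .a, .b, .a, .c, .d, .b, .d, .c, .a, .b, .a, .c, .d]))) (nd 1718 (nd 1717 (lf [.b, .c, .a, .c, .b, .b, .c, .d, .c, .d, .b, .b, .c, .a, .c, .b, .c, .e, .a, .d, .b, .d, .c, .a, .e, .c, .b, .d, .c, .a, .d, .a, .d, .a, .b, .c, .a, .b, .c, .a, .b, .c, .a, .b, .a, .c, .a,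 .b, .e, .a, .c, .d, .b, .d, .a, .e, .b, .d, .c, .d, .c, .b, .c]) (lf [.a, .c, .b, .d, .b, .a, .c, .a, .c, .b, .a, .b, .e, .b, .c, .e, .c, .d, .a, .b, .a, .c, .c, .b, .d, .a, .b, .a, .b, .c, .c, .a, .b, .a, .d, .c, .c, .b, .a, .b, .a, .d, .b, .c, .e, .c, .b, .e, .b, .a, .d])) (nd 1719 (lf [.d, .b, .d, .b, .c, .d, .a, .b, .a, .c, .b, .d, .b, .d, .b, .c, .a, .b, .a, .d, .e, .a, .c, .a, .b, .c, .a, .b, .c, .b, .a, .c, .d, .b, .d, .a, .b, .c, .b, .e, .c, .b]) (lf [.a, .b, .a, .b, .e, .a, .c, .b, .d, .b, .d, .b, .c, .a, .c, .d, .a, .b, .a, .c, .a, .c, .b, .d, .b, .d, .b, .c, .a, .c, .a, .b, .a, .d, .c, .e, .b, .c, .b, .a, .c, .b, .a, .b, .c, .b, .c, .b, .a, .d, .b, .c, .d, .c])))) (nd 1724 (nd 1722 (nd 1721 (lf [.a, .c, .a, .c, .b, .a, .c, .a, .b, .a, .b, .a, .c, .a, .b, .a, .b, .a, .e, .b, .c, .e, .b, .c, .b, .d, .a,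 .b, .a, .b, .c, .b, .c, .b, .a, .b, .a, .d, .b, .c, .e, .c, .b, .e, .b, .a, .c, .d, .a, .c, .d, .b, .d]) (lf [.e, .d, .b, .d, .b, .c, .b, .d, .b, .d, .b, .c, .b, .e, .d, .e, .d, .b, .e, .a, .e, .b, .a, .c, .b, .c, .b, .a, .b, .c, .a, .b, .d, .c, .d, .a, .c, .b, .a, .e, .a, .e, .b, .d, .e, .d])) (nd 1723 (lf [.d, .b, .d, .b, .c, .a, .e, .b, .a, .b, .a, .c, .d, .c, .b, .d, .a, .b, .c, .b, .c, .b, .a, .b, .c, .a, .b, .c, .b, .e, .c, .d, .a, .b, .a, .c, .a, .c, .b, .d, .b, .d, .b, .c, .a, .c, .a, .b, .a, .d, .c, .a, .c, .b]) (lf [.b, .c, .b, .a, .c, .a, .c, .a, .d, .a, .c, .b, .c, .b, .c, .a, .e, .a, .e, .d, .b, .a, .b, .d, .c, .d, .a, .d, .c, .d, .b, .a, .b, .d, .c, .d, .a, .d, .c, .e, .a, .e, .a, .b, .c]))) (nd 1726 (nd 1725 (lf [.c, .a, .e, .a, .e, .d, .b, .a, .b, .d, .c, .d, .a, .d, .c, .d, .b, .a, .b, .d, .c,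 .d, .a, .d, .c, .e, .a, .e, .a, .b, .c, .b, .c, .b, .a, .c, .a, .c, .a, .d, .a, .c, .b, .c, .b]) (lf [.e, .d, .e, .b, .c, .b, .a, .b, .c, .b, .a, .e, .d, .e, .d, .b, .e, .a, .e, .b, .a, .c, .b, .a, .c, .b, .a, .b, .c, .b, .c, .a, .d, .c, .a, .b, .a, .b, .e, .a, .e, .b, .d])) (nd 1727 (lf [.d, .b, .c, .a, .c, .a, .b, .c, .b, .c, .e, .c, .d, .e, .a, .d, .c, .a, .c, .d, .a, .a, .c, .b, .c, .b, .c, .b, .a, .a, .d, .c, .a, .c, .d, .a, .a, .b, .c, .b, .c, .b, .c, .a, .e, .d, .c, .e, .d, .c, .b, .c, .a]) (lf [.b, .a, .c, .a, .c, .a, .b, .c, .a, .b, .c, .a, .d, .c, .d, .a, .d, .c, .b, .e, .b, .c, .e, .c, .d, .a, .b, .a, .c, .b, .c, .a, .b, .a, .d, .c, .b, .e, .c, .b, .e, .a])))))))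
noncomputable def tc3kw_circT_c27 : ℕ → List Gen := (nd 1760 (nd 1744 (nd 1736 (nd 1732 (nd 1730 (nd 1729 (lf [.a, .e, .b, .d, .b, .a, .c, .a, .b, .d, .c, .d, .c, .b, .a, .c, .a, .b, .d, .b, .b, .c, .d, .c, .d, .b, .e, .a, .d, .b, .d, .c, .a, .e, .a, .c, .d, .a, .d, .c, .a, .e, .a, .c, .d, .b, .d]) (lf [.a, .d, .b, .d, .c, .a, .b, .c, .b, .a, .c, .b, .a, .c, .a, .e, .d, .a, .b, .a, .c, .b, .d, .b, .d, .b, .c, .a, .b, .a, .d, .c, .b, .d, .b, .d, .b, .c, .e, .b, .c, .b])) (nd 1731 (lf [.a, .e, .a, .c, .d, .b, .d, .a, .e, .b, .d, .b, .a, .c, .a, .b, .d, .c, .d, .c, .b, .a, .c, .a, .b, .d, .b, .b, .c, .d, .c, .d, .b, .e, .a, .d, .b, .d, .c, .a, .e, .a, .c, .d, .a, .d, .c]) (lf [.d, .b, .a, .c, .d, .c, .a, .e, .a, .d, .b, .d, .c, .a, .e, .b, .a, .b, .c, .b, .a, .c, .b, .c, .b, .a, .b, .a, .c, .b, .d, .b, .c, .a, .b,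 .c, .a, .e, .a, .c, .d, .b, .d, .a, .e, .b, .d, .c, .d, .c, .b, .a, .c, .d, .c, .a, .b, .c, .d, .c]))) (nd 1734 (nd 1733 (lf [.d, .b, .a, .b, .d, .e, .a, .e, .c, .d, .a, .b, .d, .c, .d, .b, .c, .b, .c, .b, .a, .c, .b, .a, .c, .b, .c, .b, .a, .b, .a, .e, .a, .e, .b, .d, .c, .d, .b, .d, .b, .a, .b, .d, .b, .d, .c, .d, .b]) (lf [.c, .a, .e, .a, .d, .b, .d, .c, .a, .e, .b, .a, .b, .c, .a, .b, .c, .b, .c, .b, .a, .b, .d, .b, .c, .d, .a, .d, .b, .c, .e, .a, .c, .d, .b, .d, .a, .e, .b, .d, .b, .a, .c, .a, .a, .c, .d, .c, .a, .a, .c, .a, .b, .d, .b, .a, .c, .d])) (nd 1735 (lf [.c, .b, .d, .a, .d, .c, .b, .d, .b, .a, .b, .c, .b, .c, .b, .a, .c, .b, .a, .b, .e, .a, .c, .d, .b, .d, .a, .e, .a, .c, .d, .c, .a, .b, .d, .b, .a, .c, .a, .a, .c, .d, .c, .a, .a, .c, .a, .b, .d, .b, .e, .a, .d, .b, .d, .c, .a, .e]) (lf [.e, .b,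 .c, .b, .c, .a, .c, .d, .b, .a, .b, .c, .a, .c, .a, .b, .a, .c, .b, .e, .a, .c, .d, .b, .d, .a, .e, .a, .c, .d, .c, .a, .c, .b, .c, .a, .c, .b, .a, .c, .d, .c, .a, .b, .c, .a, .c, .b, .c, .e, .a, .d, .b, .d, .c, .a])))) (nd 1740 (nd 1738 (nd 1737 (lf [.b, .a, .a, .d, .c, .a, .c, .d, .a, .a, .b, .c, .b, .c, .b, .c, .a, .a, .d, .c, .a, .c, .d, .a, .e, .d, .c, .e, .c, .b, .c, .b, .a, .c, .a, .c, .b, .d, .a, .c, .b, .c, .d, .e, .c, .d, .e, .a, .c, .b, .c, .b, .c]) (lf [.d, .a, .e, .a, .c, .b, .d, .b, .d, .b, .c, .a, .d, .a, .b, .a, .a, .c, .b, .d, .b, .d, .b, .c, .a, .a, .b, .a, .d, .e, .a, .b, .a, .c, .a, .c, .a, .b, .c, .a, .b, .c, .b, .c, .d, .a, .c, .b, .a, .b])) (nd 1739 (lf [.e, .a, .b, .e, .d, .b, .c, .b, .a, .b, .c, .b, .d, .b, .a, .b, .d, .b, .a, .b, .a, .d, .b, .c, .b, .a, .b, .c, .b, .d, .a, .b, .a, .b,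 .d, .b, .a, .b, .e, .b, .a, .e, .b, .a, .c, .b, .c, .a, .b, .c, .a, .b, .a, .d, .a, .c, .a, .c, .a, .b, .a, .c]) (lf [.b, .d, .c, .d, .b, .a, .c, .a, .c, .a, .b, .d, .c, .d, .b, .a, .c, .a, .c, .a, .e, .a, .e, .c, .b, .a, .c, .b, .a, .c, .b, .c, .b, .c, .d, .a, .c, .b, .a, .c, .e, .a, .e]))) (nd 1742 (nd 1741 (lf [.c, .a, .c, .b, .c, .a, .c, .b, .c, .d, .b, .a, .d, .c, .d, .a, .b, .d, .a, .c, .b]) (lf [.a, .b, .c, .a, .b, .c, .b, .c, .b, .a, .b, .d, .b, .c, .d, .a, .d, .b, .c, .e, .a, .c, .d, .b, .d, .a, .e, .b, .d, .b, .a, .c, .a, .a, .c, .d, .c, .a, .a, .c, .a, .b, .d, .b, .a, .c, .d, .c, .a, .e, .a, .d, .b, .d, .c, .a, .e, .b])) (nd 1743 (lf [.c, .a, .e, .a, .e, .a, .b, .a, .b, .a, .c, .b, .a, .c, .b, .a, .c, .b, .c, .b, .d, .b, .a, .b, .c, .a, .b, .a, .b, .e, .a, .e, .d, .b, .a, .b, .d, .a, .c, .a, .c, .a,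 .d, .b, .a, .b, .d, .a, .c, .a]) (lf [.d, .b, .e, .a, .e, .b, .a, .c, .a, .c, .b, .a, .c, .a, .b, .c, .a, .d, .a, .c, .b, .a, .c, .a, .e, .a, .e, .b, .d, .e, .d, .e, .d, .b, .d, .a, .d, .b, .d, .a, .e, .d, .e]))))) (nd 1752 (nd 1748 (nd 1746 (nd 1745 (lf [.a, .b, .c, .a, .c, .a, .b, .a, .c, .b, .e, .a, .c, .d, .b, .d, .a, .e, .a, .c, .d, .c, .a, .c, .b, .c, .a, .c, .b, .a, .c, .d, .c, .a, .b, .c, .a, .c, .b, .c, .e, .a, .d, .b, .d, .c, .a, .e, .b, .c, .b, .c, .a, .c, .d, .b]) (lf [.d, .a, .c, .b, .c, .d, .b, .e, .b, .c, .e, .c, .d, .a, .b, .a, .c, .d, .b, .d, .b, .d, .c, .a, .b, .a, .d, .c, .d, .b, .d, .b, .d, .e, .c, .b, .e, .b, .c, .b, .c, .b, .a, .c, .a, .c, .b])) (nd 1747 (lf [.a, .e, .b, .d, .e, .d, .e, .d, .b, .d, .b, .c, .b, .d, .b, .d, .b, .c, .b, .e, .d, .e, .d, .b, .e, .a, .e, .b, .a, .c, .b, .c, .b,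 .a, .b, .c, .a, .b, .d, .c, .d, .a, .c, .b, .a, .e]) (lf [.a, .c, .b, .a, .c, .b, .a, .c, .a, .c, .a, .b, .a, .e, .b, .c, .e, .b, .c, .d, .a, .b, .a, .c, .b, .c, .a, .b, .a, .d, .c, .e, .c, .b, .e, .b, .c, .d, .a, .d, .c, .d]))) (nd 1750 (nd 1749 (lf [.e, .a, .d, .b, .d, .c, .a, .e, .d, .c, .a, .c, .a, .d, .c, .a, .d, .c, .a, .b, .a, .c, .a, .c, .b, .a, .c, .a, .b, .e, .a, .c, .d, .b, .d, .a, .e, .b, .d, .b, .a, .c, .a, .c, .b, .c, .a, .c, .b, .a, .c, .a, .b, .d, .b, .b, .c, .a, .c, .b, .c]) (lf [.b, .e, .a, .e, .b, .a, .c, .b, .a, .c, .b, .a, .b, .c, .b, .c, .a, .d, .c, .a, .b, .a, .b, .e, .a, .e, .b, .d, .e, .d, .e, .b, .c, .b, .a, .b, .c, .b, .a, .e, .d, .e, .d])) (nd 1751 (lf [.c, .b, .c, .d, .b, .d, .c, .b, .c, .e, .d, .e, .d, .b, .e, .a, .e, .a, .b, .a, .b, .c, .a, .b, .c, .b, .c, .b, .a, .b, .a, .d, .a,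 .c, .a, .b, .a, .d, .b, .e, .a, .e, .b, .d, .e, .d, .e, .d, .b, .d]) (lf [.e, .a, .b, .a, .c, .b, .a, .c, .b, .a, .b, .c, .a, .d, .b, .d, .b, .d, .c, .e, .a, .b, .e, .b, .a, .b, .d, .b, .a, .b, .a, .a, .c, .a, .c, .a, .a, .b, .a, .b, .d, .b, .a, .b, .a, .c, .a, .c, .a, .e, .b, .a])))) (nd 1756 (nd 1754 (nd 1753 (lf [.a, .c, .d, .b, .c, .e, .a, .c, .d, .b, .d, .a, .e, .c, .b, .c, .a, .c, .b, .b, .d, .c, .d, .c, .b, .b, .c, .a, .c, .b, .c, .b, .c, .d, .c, .d, .b, .e, .a, .d, .b, .d, .c, .a, .e, .b, .a, .c, .a, .b, .a, .c, .b, .a, .c, .b, .a, .c, .b, .a, .d, .a, .d]) (lf [.a, .b, .c, .b, .c, .b, .a, .b, .a, .d, .b, .c, .b, .e, .c, .b, .e, .a, .b, .a, .b, .a, .c, .a, .b, .a, .b, .a, .c, .a, .b, .c, .a, .c, .a, .d, .b, .d, .c, .a, .d, .c, .a, .b, .e, .b, .c, .e, .c, .b, .d, .a, .b])) (nd 1755 (lf [.d, .e, .d, .e, .d,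 .b, .d, .c, .b, .c, .d, .b, .d, .c, .b, .c, .e, .d, .e, .d, .b, .e, .a, .e, .a, .b, .a, .b, .c, .a, .b, .c, .b, .c, .b, .a, .b, .a, .d, .a, .c, .a, .b, .a, .d, .b, .e, .a, .e, .b]) (lf [.a, .d, .a, .c, .b, .d, .b, .d, .b, .c, .a, .e, .a, .d, .b, .a, .b, .c, .a, .d, .c, .b, .c, .b, .a, .c, .b, .a, .c, .a, .c, .a, .b, .a, .e, .d, .a, .b, .a, .a, .c, .b, .d, .b, .d, .b, .c, .a, .a, .b]))) (nd 1758 (nd 1757 (lf [.a, .c, .b, .a, .b, .d, .c, .a, .c, .b, .c, .b, .e, .a, .c, .d, .b, .d, .a, .e, .c, .b, .c, .a, .c, .b, .a, .c, .d, .c, .a, .b, .c, .a, .c, .b, .c, .a, .c, .d, .c, .a, .e, .a, .d, .b, .d, .c, .a, .e, .b, .c, .a, .b, .a, .c]) (lf [.c, .b, .b, .d, .b, .a, .c, .a, .b, .c, .d, .c, .d, .b, .a, .c, .a, .b, .d, .b, .e, .a, .d, .b, .d, .c, .a, .e, .a, .c, .d, .a, .d, .c, .a, .e, .a, .c, .d, .b, .d, .a, .e, .b, .d,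 .c, .d])) (nd 1759 (lf [.a, .d, .a, .b, .e, .b, .c, .e, .c, .b, .d, .a, .b, .a, .b, .c, .c, .d, .a, .b, .a, .c, .c, .b, .a, .b, .a, .d, .b, .c, .c, .a, .b, .a, .d, .c, .e, .c, .b, .e, .b, .a, .b, .c, .a, .c, .a, .b, .d, .b, .c]) (lf [.e, .a, .e, .b, .d, .e, .d, .e, .b, .c, .b, .d, .b, .d, .b, .c, .b, .d, .b, .d, .e, .d, .e, .d, .b, .e, .a, .e, .a, .b, .c, .a, .d, .c, .d, .b, .a, .c, .b, .a, .b, .c, .b, .c, .a, .b])))))) (nd 1776 (nd 1768 (nd 1764 (nd 1762 (nd 1761 (lf [.b, .e, .a, .c, .d, .b, .d, .a, .e, .c, .b, .c, .a, .c, .b, .a, .c, .d, .c, .a, .b, .c, .a, .c, .b, .c, .a, .c, .d, .c, .a, .e, .a, .d, .b, .d, .c, .a, .e, .b, .c, .a, .b, .a, .c, .a, .c, .b, .a, .b, .d, .c, .a, .c, .b, .c]) (lf [.a, .d, .b, .c, .d, .c, .a, .b, .a, .b, .e, .a, .c, .b, .d, .b, .d, .b, .c, .a, .c, .d, .a, .b, .a, .c, .a, .c, .b, .d,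 .b, .d, .b, .c, .a, .c, .a, .b, .a, .d, .c, .e, .b, .c, .b, .a, .c, .b, .a, .b, .c, .b, .c, .b])) (nd 1763 (lf [.d, .b, .d, .c, .a, .e, .d, .c, .a, .c, .a, .d, .c, .a, .d, .c, .a, .b, .a, .c, .a, .c, .b, .a, .c, .a, .b, .e, .a, .c, .d, .b, .d, .a, .e, .b, .d, .b, .a, .c, .a, .c, .b, .c, .a, .c, .b, .a, .c, .a, .b, .d, .b, .b, .c, .a, .c, .b, .c, .e, .a]) (lf [.d, .b, .d, .c, .a, .b, .a, .c, .d, .b, .e, .c, .b, .e, .b, .a, .c, .a, .b, .c, .a, .b, .a, .c, .d, .b, .c, .b, .c, .b, .c, .e, .b, .c, .e, .d, .c, .a, .b, .a, .c]))) (nd 1766 (nd 1765 (lf [.c, .a, .b, .a, .c, .b, .a, .b, .a, .e, .a, .c, .b, .c, .b, .c, .b, .a, .a, .c, .b, .d, .b, .d, .b, .c, .a, .a, .b, .c, .b, .c, .b, .c, .a, .a, .c, .b, .d, .b, .d, .b, .c, .a, .e, .b, .a, .c, .b, .d, .a, .d, .b, .c, .b]) (lf [.e, .b, .c, .e, .c, .b, .d, .a, .b, .a, .b,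 .c, .d, .c, .a, .b, .a, .c, .d, .c, .b, .a, .b, .a, .d, .b, .c, .d, .c, .a, .b, .a, .c, .d, .e, .c, .b, .e, .a, .c, .b, .c, .a, .b, .c, .b, .c, .a, .d, .b, .a, .d, .b, .c])) (nd 1767 (lf [.d, .c, .b, .c, .b, .c, .d, .e, .b, .a, .e, .b, .c, .d, .a, .d, .c, .d, .b, .d, .a, .b, .c, .a, .b, .c, .a, .b, .c, .b, .a, .e, .a, .b, .e, .a, .c, .a, .c, .a, .d, .c, .b, .c, .b, .c, .d, .a, .c, .a, .c, .a]) (lf [.b, .d, .b, .c, .b, .d, .b, .d, .e, .d, .e, .d, .b, .e, .a, .e, .a, .b, .c, .a, .d, .c, .d, .b, .a, .c, .b, .a, .b, .c, .b, .c, .a, .b, .e, .a, .e, .b, .d, .e, .d, .e, .b, .c, .b, .d])))) (nd 1772 (nd 1770 (nd 1769 (lf [.a, .c, .a, .c, .a, .b, .c, .a, .b, .c, .b, .c, .d, .a, .c, .b, .a, .b, .d, .a, .e, .a, .c, .b, .d, .b, .d, .b, .c, .a, .d, .a, .b, .a, .a, .c, .b, .d, .b, .d, .b, .c, .a, .a, .b, .a, .d, .e, .a, .b])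 (lf [.a, .d, .b, .d, .a, .e, .d, .e, .d, .b, .e, .a, .e, .b, .a, .c, .a, .c, .b, .a, .c, .a, .b, .c, .a, .d, .a, .c, .b, .a, .c, .a, .e, .a, .e, .b, .d, .e, .d, .e, .d, .b, .d])) (nd 1771 (lf [.b, .d, .b, .a, .b, .c, .b, .c, .b, .a, .c, .b, .a, .b, .e, .a, .c, .d, .b, .d, .a, .e, .a, .c, .d, .c, .a, .b, .d, .b, .a, .c, .a, .a, .c, .d, .c, .a, .a, .c, .a, .b, .d, .b, .e, .a, .d, .b, .d, .c, .a, .e, .c, .b, .d, .a, .d, .c]) (lf [.d, .b, .e, .a, .e, .a, .c, .a, .b, .c, .a, .d, .a, .c, .b, .a, .c, .a, .b, .c, .a, .c, .a, .b, .e, .a, .e, .b, .d, .e, .d, .e, .a, .d, .b, .d, .a, .d, .b, .d, .e, .d, .e]))) (nd 1774 (nd 1773 (lf [.b, .e, .a, .d, .b, .d, .c, .a, .e, .a, .c, .d, .a, .d, .c, .a, .e, .a, .c, .d, .b, .d, .a, .e, .b, .d, .c, .d, .c, .b, .b, .d, .b, .a, .c, .a, .b, .c, .d, .c, .d, .b, .a, .c, .a, .b, .d]) (lf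 [.d, .b, .d, .b, .d, .c, .a, .b, .a, .d, .c, .d, .b, .d, .b, .d, .e, .c, .b, .e, .b, .c, .b, .c, .b, .a, .c, .a, .c, .b, .d, .a, .c, .b, .c, .d, .b, .e, .b, .c, .e, .c, .d, .a, .b, .a, .c])) (nd 1775 (lf [.c, .d, .e, .c, .b, .e, .a, .c, .b, .c, .a, .b, .c, .b, .c, .a, .d, .b, .a, .d, .b, .c, .e, .b, .c, .e, .c, .b, .d, .a, .b, .a, .b, .c, .d, .c, .a, .b, .a, .c, .d, .c, .b, .a, .b, .a, .d, .b, .c, .d, .c, .a, .b, .a]) (lf [.a, .d, .a, .b, .a, .c, .b, .a, .c, .b, .c, .a, .b, .e, .a, .b, .e, .b, .a, .b, .d, .b, .a, .b, .a, .d, .b, .c, .b, .a, .b, .c, .b, .d, .a, .b, .a, .b, .d, .b, .a, .b, .d, .b, .c, .b, .a, .b, .c, .b, .d, .e, .b, .a, .e, .c, .a, .b, .a, .c, .a, .c]))))) (nd 1784 (nd 1780 (nd 1778 (nd 1777 (lf [.d, .b, .e, .a, .d, .b, .d, .c, .a, .e, .c, .b, .d, .a, .d, .c, .b, .d, .b, .a, .b, .c, .b, .c, .b, .a,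 .c, .b, .a, .b, .e, .a, .c, .d, .b, .d, .a, .e, .a, .c, .d, .c, .a, .b, .d, .b, .a, .c, .a, .a, .c, .d, .c, .a, .a, .c, .a, .b]) (lf [.e, .d, .e, .d, .b, .e, .a, .e, .a, .c, .a, .c, .b, .a, .c, .a, .b, .c, .a, .d, .c, .a, .d, .a, .d, .e, .a, .e, .b, .d, .e, .d, .e, .c, .b, .c, .a, .c, .b, .c, .a])) (nd 1779 (lf [.a, .e, .b, .d, .e, .d, .e, .a, .c, .b, .c, .a, .c, .b, .c, .e, .d, .e, .d, .b, .e, .a, .e, .d, .a, .d, .a, .c, .d, .a, .c, .b, .a, .c, .a, .b, .c, .a, .c, .a, .e]) (lf [.b, .e, .a, .e, .b, .a, .c, .a, .c, .b, .a, .c, .a, .b, .c, .a, .d, .a, .c, .b, .a, .c, .a, .e, .a, .e, .b, .d, .e, .d, .e, .d, .b, .d, .a, .d, .b, .d, .a, .e, .d, .e, .d]))) (nd 1782 (nd 1781 (lf [.e, .a, .c, .d, .b, .d, .a, .e, .a, .c, .d, .c, .a, .c, .b, .c, .a, .c, .b, .a, .c, .d, .c, .a, .b, .c, .a, .c, .b, .c, .e, .a, .d, .b, .d,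 .c, .a, .e, .b, .c, .b, .c, .a, .c, .d, .b, .a, .b, .c, .a, .c, .a, .b, .a, .c, .b]) (lf [.b, .a, .c, .d, .d, .b, .d, .b, .d, .d, .c, .a, .b, .a, .c, .d, .e, .c, .b, .e, .b, .a, .d, .c, .d, .b, .d, .c, .b, .c, .a, .b, .c, .a, .b, .a, .b, .a, .c, .b, .a, .e, .b, .c, .e, .d, .b, .d, .b, .d, .d, .c, .a])) (nd 1783 (lf [.c, .a, .c, .a, .b, .c, .b, .c, .b, .e, .b, .c, .e, .d, .b, .d, .b, .d, .c, .d, .a, .b, .a, .c, .d, .b, .d, .b, .d, .c, .a, .b, .a, .d, .c, .e, .c, .b, .e, .b, .d, .c, .b, .c, .a, .d, .b]) (lf [.a, .d, .c, .d, .b, .a, .b, .d, .e, .a, .e, .a, .c, .b, .c, .b, .c, .a, .d, .a, .c, .a, .c, .a, .b, .c, .b, .c, .b, .a, .e, .a, .e, .c, .d, .a, .d, .c, .d, .b, .a, .b, .d, .c, .d])))) (nd 1788 (nd 1786 (nd 1785 (lf [.c, .b, .c, .d, .b, .e, .b, .c, .e, .c, .d, .a, .b, .a, .c, .d, .b, .d, .b, .d, .c, .a, .b, .a,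 .d, .c, .d, .b, .d, .b, .d, .e, .c, .b, .e, .b, .c, .b, .c, .b, .a, .c, .a, .c, .b, .d, .a]) (lf [.c, .a, .d, .c, .b, .c, .b, .a, .c, .b, .a, .c, .a, .c, .a, .b, .a, .e, .d, .a, .b, .a, .a, .c, .b, .d, .b, .d, .b, .c, .a, .a, .b, .a, .d, .a, .c, .b, .d, .b, .d, .b, .c, .a, .e, .a, .d, .b, .a, .b])) (nd 1787 (lf [.c, .e, .a, .e, .b, .c, .a, .c, .d, .b, .d, .a, .c, .a, .b, .c, .b, .c, .a, .b, .c, .b, .a, .b, .a, .e, .a, .e, .a, .c, .a, .c, .a, .c, .d, .a, .d, .c, .a, .c, .a, .c, .a, .c, .d, .a, .d]) (lf [.a, .d, .a, .c, .d, .a, .c, .b, .a, .c, .a, .b, .c, .a, .c, .a, .e, .a, .e, .b, .d, .e, .d, .e, .a, .c, .b, .c, .a, .c, .b, .c, .e, .d, .e, .d, .b, .e, .a, .e, .d]))) (nd 1790 (nd 1789 (lf [.d, .b, .a, .d, .c, .a, .c, .d, .a, .b, .d, .b, .d, .b, .e, .d, .c, .e, .a, .b, .c, .a, .c, .b, .a, .c, .b, .a, .d, .b, .a,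 .b, .d, .c, .a, .b, .e, .c, .d, .e, .a, .d, .c, .a, .c, .d, .a, .b, .d, .b]) (lf [.e, .a, .b, .e, .a, .c, .a, .c, .a, .d, .b, .c, .b, .a, .b, .c, .b, .d, .a, .c, .a, .c, .a, .d, .b, .c, .b, .a, .b, .c, .b, .d, .e, .b, .a, .e, .b, .a, .c, .a, .d, .b, .c, .a, .d, .c, .a, .c, .b, .a, .c, .b, .a, .c, .a, .b, .a, .b, .a])) (nd 1791 (lf [.e, .d, .b, .e, .a, .e, .a, .b, .a, .b, .c, .a, .b, .c, .b, .c, .b, .a, .b, .a, .d, .a, .c, .a, .b, .a, .d, .b, .e, .a, .e, .b, .d, .e, .d, .e, .d, .b, .d, .c, .b, .c, .d, .b, .d, .c, .b, .c, .e, .d]) (lf [.c, .d, .b, .a, .c, .a, .c, .a, .b, .d, .c, .d, .b, .a, .c, .a, .c, .a, .e, .a, .e, .c, .b, .a, .c, .b, .a, .c, .b, .c, .b, .c, .d, .a, .c, .b, .a, .c, .e, .a, .e, .b, .d])))))))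
noncomputable def tc3kw_circT_c28 : ℕ → List Gen := (nd 1824 (nd 1808 (nd 1800 (nd 1796 (nd 1794 (nd 1793 (lf [.b, .d, .e, .d, .e, .c, .b, .c, .d, .b, .d, .c, .b, .c, .d, .b, .d, .e, .d, .e, .d, .b, .e, .a, .e, .b, .d, .a, .b, .a, .c, .a, .d, .a, .b, .a, .b, .c, .b, .c, .b, .a, .c, .b, .a, .b, .a, .e, .a, .e]) (lf [.d, .e, .d, .e, .b, .c, .b, .a, .b, .c, .b, .a, .e, .d, .e, .d, .b, .e, .a, .e, .b, .a, .c, .b, .a, .c, .b, .a, .b, .c, .b, .c, .a, .d, .c, .a, .b, .a, .b, .e, .a, .e, .b])) (nd 1795 (lf [.c, .b, .e, .a, .c, .d, .b, .d, .a, .e, .c, .b, .c, .a, .c, .b, .a, .c, .d, .c, .a, .b, .c, .a, .c, .b, .c, .a, .c, .d, .c, .a, .e, .a, .d, .b, .d, .c, .a, .e, .b, .c, .a, .b, .a, .c, .a, .c, .b, .a, .b, .d, .c, .a, .c, .b]) (lf [.a, .b, .d, .c, .a, .b, .e, .c, .d, .e, .a, .d, .c, .a, .c, .d, .a, .b, .d, .b, .d, .b,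 .a, .d, .c, .a, .c, .d, .a, .b, .d, .b, .d, .b, .e, .d, .c, .e, .a, .b, .c, .a, .c, .b, .a, .c, .b, .a, .d, .b]))) (nd 1798 (nd 1797 (lf [.e, .a, .d, .b, .d, .c, .a, .e, .b, .a, .b, .c, .b, .a, .c, .b, .c, .b, .a, .b, .a, .c, .b, .d, .b, .c, .a, .b, .c, .a, .e, .a, .c, .d, .b, .d, .a, .e, .b, .d, .c, .d, .c, .b, .a, .c, .d, .c, .a, .b, .c, .d, .c, .d, .b, .a, .c, .d, .c, .a]) (lf [.c, .b, .a, .b, .d, .b, .d, .b, .a, .b, .c, .b, .c, .b, .c, .a, .e, .d, .c, .e, .d, .a, .b, .a, .e, .c, .d, .e, .b, .d, .b, .d, .b, .a, .c, .b, .c, .b])) (nd 1799 (lf [.b, .c, .b, .d, .a, .b, .a, .b, .c, .b, .c, .b, .a, .b, .a, .d, .b, .c, .e, .c, .b, .e, .b, .a, .c, .d, .a, .c, .d, .b, .d, .a, .c, .a, .c, .b, .a, .c, .a, .b, .a, .b, .a, .c, .a, .b, .a, .b, .a, .e, .b, .c, .e]) (lf [.a, .b, .a, .b, .c, .b, .c, .b, .a, .b, .a, .d, .b,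 .c, .e, .c, .b, .e, .b, .a, .c, .d, .a, .c, .d, .b, .d, .a, .c, .a, .c, .b, .a, .c, .a, .b, .a, .b, .a, .c, .a, .b, .a, .b, .a, .e, .b, .c, .e, .b, .c, .b, .d])))) (nd 1804 (nd 1802 (nd 1801 (lf [.c, .a, .c, .a, .d, .b, .a, .b, .d, .a, .c, .a, .c, .a, .d, .b, .a, .b, .d, .e, .a, .e, .b, .a, .b, .a, .c, .b, .a, .b, .d, .b, .c, .b, .c, .a, .b, .c, .a, .b, .c, .a, .b, .a, .b, .a, .e, .a, .e, .a]) (lf [.b, .c, .b, .c, .a, .d, .c, .a, .b, .a, .b, .e, .a, .e, .b, .d, .e, .d, .e, .b, .c, .b, .a, .b, .c, .b, .a, .e, .d, .e, .d, .b, .e, .a, .e, .b, .a, .c, .b, .a, .c, .b, .a])) (nd 1803 (lf [.a, .e, .d, .e, .d, .b, .e, .a, .e, .b, .a, .c, .a, .c, .b, .a, .c, .a, .b, .c, .a, .d, .a, .c, .b, .a, .c, .a, .e, .a, .e, .b, .d, .e, .d, .e, .d, .b, .d, .a, .d, .b, .d]) (lf [.c, .d, .c, .b, .b, .c, .a, .c, .b, .c, .b, .c, .d, .c,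 .d, .b, .e, .a, .d, .b, .d, .c, .a, .e, .b, .a, .c, .a, .b, .a, .c, .b, .a, .c, .b, .a, .c, .b, .a, .d, .a, .d, .a, .c, .d, .b, .c, .e, .a, .c, .d, .b, .d, .a, .e, .c, .b, .c, .a, .c, .b, .b, .d]))) (nd 1806 (nd 1805 (lf [.b, .e, .d, .e, .d, .b, .e, .a, .e, .b, .a, .b, .a, .c, .d, .a, .c, .b, .c, .b, .a, .b, .c, .a, .b, .c, .a, .b, .e, .a, .e, .b, .d, .e, .d, .e, .a, .b, .c, .b, .a, .b, .c]) (lf [.d, .b, .d, .b, .d, .c, .b, .d, .a, .b, .a, .b, .c, .d, .b, .d, .b, .d, .c, .b, .a, .b, .a, .d, .b, .c, .e, .c, .b, .e, .b, .a, .d, .a, .d, .b, .c, .d, .b, .a, .c, .b, .a, .b, .a, .c, .b, .c, .a, .e, .b, .c, .e])) (nd 1807 (lf [.b, .c, .a, .d, .c, .d, .b, .a, .c, .b, .a, .b, .c, .b, .c, .a, .b, .e, .a, .e, .b, .d, .e, .d, .e, .b, .c, .b, .d, .b, .d, .b, .c, .b, .d, .b, .d, .e, .d, .e, .d, .b, .e, .a, .e, .a]) (lf [.c,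 .a, .b, .d, .b, .d, .b, .e, .d, .c, .e, .a, .b, .a, .d, .e, .c, .d, .e, .a, .c, .b, .c, .b, .c, .b, .a, .b, .d, .b, .d, .b, .a, .b, .c, .b, .c, .b]))))) (nd 1816 (nd 1812 (nd 1810 (nd 1809 (lf [.d, .b, .e, .a, .e, .d, .a, .d, .a, .c, .d, .a, .c, .b, .a, .c, .a, .b, .c, .a, .c, .a, .e, .a, .e, .b, .d, .e, .d, .e, .a, .c, .b, .c, .a, .c, .b, .c, .e, .d, .e]) (lf [.c, .d, .b, .d, .b, .a, .b, .d, .b, .d, .c, .d, .b, .d, .b, .a, .b, .d, .e, .a, .e, .c, .d, .a, .b, .d, .c, .d, .b, .c, .b, .c, .b, .a, .c, .b, .a, .c, .b, .c, .b, .a, .b, .a, .e, .a, .e, .b, .d])) (nd 1811 (lf [.d, .b, .d, .a, .b, .c, .b, .e, .c, .b, .d, .b, .d, .b, .c, .d, .a, .b, .a, .c, .b, .d, .b, .d, .b, .c, .a, .b, .a, .d, .e, .a, .c, .a, .b, .c, .a, .b, .c, .b, .a, .c]) (lf [.d, .e, .d, .b, .e, .a, .e, .b, .a, .c, .b, .a, .c, .b, .a, .b, .c, .b,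 .c, .a, .d, .c, .a, .b, .a, .b, .e, .a, .e, .b, .d, .e, .d, .e, .b, .c, .b, .a, .b, .c, .b, .a, .e]))) (nd 1814 (nd 1813 (lf [.e, .b, .d, .e, .d, .e, .d, .b, .d, .c, .b, .c, .d, .b, .d, .c, .b, .c, .e, .d, .e, .d, .b, .e, .a, .e, .a, .b, .a, .b, .c, .a, .b, .c, .b, .c, .b, .a, .b, .a, .d, .a, .c, .a, .b, .a, .d, .b, .e, .a]) (lf [.e, .d, .e, .d, .b, .e, .a, .e, .b, .a, .c, .b, .a, .c, .b, .a, .b, .c, .b, .c, .a, .d, .c, .a, .b, .a, .b, .e, .a, .e, .b, .d, .e, .d, .e, .b, .c, .b, .a, .b, .c, .b, .a])) (nd 1815 (lf [.b, .e, .a, .d, .b, .d, .c, .a, .e, .b, .a, .c, .a, .b, .a, .c, .b, .a, .c, .b, .a, .c, .b, .a, .d, .a, .d, .a, .c, .d, .b, .c, .e, .a, .c, .d, .b, .d, .a, .e, .c, .b, .c, .a, .c, .b, .b, .d, .c, .d, .c, .b, .b, .c, .a, .c, .b, .c, .b, .c, .d, .c, .d]) (lf [.e, .b, .d, .b, .a, .c, .a, .a, .c, .d, .c,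 .a, .a, .c, .a, .b, .d, .b, .a, .c, .d, .c, .a, .e, .a, .d, .b, .d, .c, .a, .e, .b, .a, .b, .c, .a, .b, .c, .b, .c, .b, .a, .b, .d, .b, .c, .d, .a, .d, .b, .c, .e, .a, .c, .d, .b, .d, .a])))) (nd 1820 (nd 1818 (nd 1817 (lf [.b, .d, .b, .d, .b, .c, .a, .a, .c, .b, .c, .b, .c, .b, .a, .a, .c, .b, .d, .b, .d, .b, .c, .a, .a, .b, .c, .b, .c, .b, .c, .a, .e, .a, .b, .a, .b, .c, .a, .b, .a, .c, .b, .c, .b, .d, .a, .d, .b, .c, .a, .b, .e, .a, .c]) (lf [.d, .b, .c, .b, .a, .b, .c, .b, .d, .a, .c, .a, .c, .a, .d, .b, .c, .b, .a, .b, .c, .b, .d, .a, .c, .a, .c, .a, .e, .b, .a, .e, .a, .b, .a, .b, .a, .c, .a, .b, .c, .a, .b, .c, .a, .c, .d, .a, .c, .b, .d, .a, .c, .a, .b, .e, .a, .b, .e])) (nd 1819 (lf [.e, .d, .b, .d, .b, .d, .d, .c, .a, .b, .a, .c, .d, .d, .b, .d, .b, .d, .d, .c, .a, .b, .a, .c, .d, .e, .c, .b, .e, .b,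 .a, .d, .c, .d, .b, .d, .c, .b, .c, .a, .b, .c, .a, .b, .a, .b, .a, .c, .b, .a, .e, .b, .c]) (lf [.b, .d, .e, .d, .e, .a, .c, .b, .c, .a, .c, .b, .c, .e, .d, .e, .d, .b, .e, .a, .e, .d, .a, .d, .a, .c, .d, .a, .c, .b, .a, .c, .a, .b, .c, .a, .c, .a, .e, .a, .e]))) (nd 1822 (nd 1821 (lf [.a, .e, .c, .b, .c, .a, .c, .b, .b, .d, .c, .d, .c, .b, .b, .c, .a, .c, .b, .c, .b, .c, .d, .c, .d, .b, .e, .a, .d, .b, .d, .c, .a, .e, .b, .a, .c, .a, .b, .a, .c, .b, .a, .c, .b, .a, .c, .b, .a, .d, .a, .d, .a, .c, .d, .b, .c, .e, .a, .c, .d, .b, .d]) (lf [.a, .b, .a, .b, .c, .b, .a, .c, .a, .c, .a, .d, .c, .b, .c, .d, .b, .c, .b, .d])) (nd 1823 (lf [.b, .c, .a, .d, .b, .c, .a, .c, .a, .b, .c, .b, .c, .b, .e, .b, .c, .e, .d, .b, .d, .b, .d, .c, .d, .a, .b, .a, .c, .d, .b, .d, .b, .d, .c, .a, .b, .a, .d, .c, .e, .c, .b, .e, .b,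 .d, .c]) (lf [.d, .e, .d, .b, .d, .c, .b, .c, .d, .b, .d, .c, .b, .c, .e, .d, .e, .d, .b, .e, .a, .e, .a, .b, .a, .b, .c, .a, .b, .c, .b, .c, .b, .a, .b, .a, .d, .a, .c, .a, .b, .a, .d, .b, .e, .a, .e, .b, .d, .e])))))) (nd 1840 (nd 1832 (nd 1828 (nd 1826 (nd 1825 (lf [.e, .b, .a, .e, .b, .a, .c, .b, .c, .a, .b, .c, .a, .b, .a, .d, .a, .c, .a, .c, .a, .b, .a, .c, .e, .a, .b, .e, .d, .b, .c, .b, .a, .b, .c, .b, .d, .b, .a, .b, .d, .b, .a, .b, .a, .d, .b, .c, .b, .a, .b, .c, .b, .d, .a, .b, .a, .b, .d, .b, .a, .b]) (lf [.e, .c, .b, .e, .b, .d, .c, .b, .c, .a, .d, .b, .c, .a, .c, .a, .b, .c, .b, .c, .b, .e, .b, .c, .e, .d, .b, .d, .b, .d, .c, .d, .a, .b, .a, .c, .d, .b, .d, .b, .d, .c, .a, .b, .a, .d, .c])) (nd 1827 (lf [.a, .e, .b, .a, .b, .a, .c, .d, .a, .c, .b, .c, .b, .a, .b, .c, .a, .b, .c, .a, .b, .e, .a, .e,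 .b, .d, .e, .d, .e, .a, .b, .c, .b, .a, .b, .c, .b, .e, .d, .e, .d, .b, .e]) (lf [.a, .e, .a, .e, .b, .d, .e, .d, .e, .a, .c, .b, .c, .a, .c, .b, .c, .e, .d, .e, .d, .b, .e, .a, .e, .d, .a, .d, .a, .c, .d, .a, .c, .b, .a, .c, .a, .b, .c, .a, .c]))) (nd 1830 (nd 1829 (lf [.b, .d, .b, .d, .b, .c, .a, .a, .b, .a, .d, .e, .a, .b, .a, .c, .a, .c, .a, .b, .c, .a, .b, .c, .b, .c, .d, .a, .c, .b, .a, .b, .d, .a, .e, .a, .c, .b, .d, .b, .d, .b, .c, .a, .d, .a, .b, .a, .a, .c]) (lf [.d, .c, .e, .a, .e, .a, .b, .c, .b, .c, .b, .a, .c, .a, .c, .a, .d, .a, .c, .b, .c, .b, .c, .a, .e, .a, .e, .d, .b, .a, .b, .d, .c, .d, .a, .d, .c, .d, .b, .a, .b, .d, .c, .d, .a])) (nd 1831 (lf [.a, .c, .b, .a, .b, .d, .a, .e, .a, .c, .b, .d, .b, .d, .b, .c, .a, .d, .a, .b, .a, .a, .c, .b, .d, .b, .d, .b, .c, .a, .a, .b, .a, .d, .e, .a, .b,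 .a, .c, .a, .c, .a, .b, .c, .a, .b, .c, .b, .c, .d]) (lf [.c, .a, .b, .a, .d, .c, .e, .b, .c, .b, .a, .c, .b, .a, .b, .c, .b, .c, .b, .a, .d, .b, .c, .d, .c, .a, .b, .a, .b, .e, .a, .c, .b, .d, .b, .d, .b, .c, .a, .c, .d, .a, .b, .a, .c, .a, .c, .b, .d, .b, .d, .b, .c, .a])))) (nd 1836 (nd 1834 (nd 1833 (lf [.a, .e, .c, .d, .b, .d, .b, .d, .a, .b, .c, .b, .c, .a, .b, .a, .b, .e, .c, .d, .a, .b, .a, .c, .a, .c, .b, .c, .b, .c, .b, .a, .c, .a, .b, .a, .d, .c, .a, .b, .c, .b, .c, .b, .c]) (lf [.b, .e, .b, .c, .e, .d, .c, .a, .b, .a, .c, .d, .d, .b, .d, .b, .d, .d, .c, .a, .b, .a, .c, .d, .d, .b, .d, .b, .d, .e, .c, .b, .e, .a, .b, .c, .a, .b, .a, .b, .a, .c, .b, .a, .c, .b, .c, .d, .b, .d, .c, .d, .a])) (nd 1835 (lf [.d, .b, .d, .b, .d, .c, .d, .a, .b, .a, .c, .d, .b, .d, .b, .d, .c, .a, .b, .a, .d, .c, .e, .c, .b,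 .e, .b, .d, .c, .b, .c, .a, .d, .b, .c, .a, .c, .a, .b, .c, .b, .c, .b, .e, .b, .c, .e]) (lf [.c, .b, .c, .b, .d, .c, .a, .b, .a, .c, .b, .a, .c, .a, .b, .e, .b, .c, .e, .b, .d, .c, .a, .b, .a, .c, .d, .b, .d, .c, .a, .b, .a, .c, .d, .e, .c, .b, .e, .c, .b]))) (nd 1838 (nd 1837 (lf [.b, .a, .d, .b, .c, .e, .b, .c, .e, .c, .b, .d, .a, .b, .a, .b, .c, .d, .c, .a, .b, .a, .c, .d, .c, .b, .a, .b, .a, .d, .b, .c, .d, .c, .a, .b, .a, .c, .d, .e, .c, .b, .e, .a, .c, .b, .c, .a, .b, .c, .b, .c, .a, .d]) (lf [.e, .d, .b, .e, .a, .e, .b, .a, .c, .b, .c, .b, .a, .b, .c, .a, .b, .d, .c, .d, .a, .c, .b, .a, .e, .a, .e, .b, .d, .e, .d, .e, .d, .b, .d, .b, .c, .b, .d, .b, .d, .b, .c, .b, .e, .d])) (nd 1839 (lf [.c, .b, .a, .b, .e, .a, .c, .d, .b, .d, .a, .e, .a, .c, .d, .c, .a, .b, .d, .c, .d, .c, .b, .a, .c, .d, .c, .a, .b,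 .c, .d, .c, .d, .b, .e, .a, .d, .b, .d, .c, .a, .e, .a, .c, .b, .a, .c, .b, .d, .b, .c, .a, .b, .a, .b, .c, .b, .c, .a, .b]) (lf [.b, .c, .d, .c, .a, .b, .a, .b, .e, .a, .c, .b, .d, .b, .d, .b, .c, .a, .c, .d, .a, .b, .a, .c, .a, .c, .b, .d, .b, .d, .b, .c, .a, .c, .a, .b, .a, .d, .c, .e, .b, .c, .b, .a, .c, .b, .a, .b, .c, .b, .c, .b, .a, .d]))))) (nd 1848 (nd 1844 (nd 1842 (nd 1841 (lf [.c, .a, .b, .c, .a, .e, .a, .c, .d, .b, .d, .a, .e, .b, .d, .c, .d, .c, .b, .a, .c, .d, .c, .a, .b, .c, .d, .c, .d, .b, .a, .c, .d, .c, .a, .e, .a, .d, .b, .d, .c, .a, .e, .b, .a, .b, .c, .b, .a, .c, .b, .c, .b, .a, .b, .a, .c, .b, .d, .b]) (lf [.e, .d, .e, .b, .c, .b, .d, .b, .d, .b, .c, .b, .d, .b, .d, .e, .d, .e, .d, .b, .e, .a, .e, .a, .b, .c, .a, .d, .c, .d, .b, .a, .c, .b, .a, .b, .c, .b, .c, .a, .b, .e, .a, .e, .b, .d]))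 (nd 1843 (lf [.d, .b, .c, .a, .d, .a, .b, .a, .a, .c, .b, .d, .b, .d, .b, .c, .a, .a, .b, .a, .d, .e, .a, .b, .a, .c, .a, .c, .a, .b, .c, .a, .b, .c, .b, .c, .d, .a, .c, .b, .a, .b, .d, .a, .e, .a, .c, .b, .d, .b]) (lf [.c, .b, .a, .b, .c, .d, .a, .d, .c, .a, .d, .a, .b, .c, .d, .a, .d, .c, .b, .a, .b, .c, .b]))) (nd 1846 (nd 1845 (lf [.c, .a, .e, .b, .d, .c, .d, .a, .b, .a, .c, .b, .c, .b, .c, .e, .c, .b, .d, .b, .d, .b, .c, .a, .c, .b, .c, .b, .c, .b, .a, .c, .b, .d, .b, .d, .b, .c, .a, .b, .c, .b, .c, .b]) (lf [.a, .c, .a, .b, .c, .b, .c, .e, .c, .d, .e, .a, .d, .c, .a, .c, .d, .a, .a, .c, .b, .c, .b, .c, .b, .a, .a, .d, .c, .a, .c, .d, .a, .a, .b, .c, .b, .c, .b, .c, .a, .e, .d, .c, .e, .d, .c, .b, .c, .a, .d, .b, .c])) (nd 1847 (lf [.e, .d, .b, .e, .a, .e, .b, .a, .c, .b, .a, .c, .b, .a, .b, .c, .b, .c, .a,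 .d, .c, .a, .b, .a, .b, .e, .a, .e, .b, .d, .e, .d, .e, .b, .c, .b, .a, .b, .c, .b, .a, .e, .d]) (lf [.b, .d, .c, .d, .a, .b, .a, .c, .d, .b, .d, .b, .d, .c, .a, .b, .a, .d, .c, .e, .c, .b, .e, .b, .d, .c, .b, .c, .a, .d, .b, .c, .a, .c, .a, .b, .c, .b, .c, .b, .e, .b, .c, .e, .d, .b, .d])))) (nd 1852 (nd 1850 (nd 1849 (lf [.b, .a, .b, .d, .c, .d, .a, .d, .c, .d, .b, .a, .b, .d, .c, .d, .a, .d, .c, .e, .a, .e, .a, .b, .c, .b, .c, .b, .a, .c, .a, .c, .a, .d, .a, .c, .b, .c, .b, .c, .a, .e, .a, .e, .d]) (lf [.b, .d, .e, .d, .e, .d, .b, .e, .a, .e, .b, .d, .a, .b, .a, .c, .a, .d, .a, .b, .a, .b, .c, .b, .c, .b, .a, .c, .b, .a, .b, .a, .e, .a, .e, .b, .d, .e, .d, .e, .c, .b, .c, .d, .b, .d, .c, .b, .c, .d])) (nd 1851 (lf [.a, .c, .b, .c, .a, .b, .c, .b, .c, .a, .d, .b, .a, .d, .b, .c, .e, .b, .c, .e, .c, .b, .d, .a,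 .b, .a, .b, .c, .d, .c, .a, .b, .a, .c, .d, .c, .b, .a, .b, .a, .d, .b, .c, .d, .c, .a, .b, .a, .c, .d, .e, .c, .b, .e]) (lf [.c, .d, .b, .d, .e, .d, .e, .d, .b, .e, .a, .e, .b, .d, .a, .b, .a, .c, .a, .d, .a, .b, .a, .b, .c, .b, .c, .b, .a, .c, .b, .a, .b, .a, .e, .a, .e, .b, .d, .e, .d, .e, .c, .b, .c, .d, .b, .d, .c, .b]))) (nd 1854 (nd 1853 (lf [.b, .c, .b, .d, .b, .d, .b, .c, .b, .d, .b, .d, .e, .d, .e, .d, .b, .e, .a, .e, .a, .b, .c, .a, .d, .c, .d, .b, .a, .c, .b, .a, .b, .c, .b, .c, .a, .b, .e, .a, .e, .b, .d, .e, .d, .e]) (lf [.e, .a, .d, .b, .d, .c, .a, .e, .c, .b, .d, .c, .a, .d, .a, .d, .a, .b, .c, .a, .b, .c, .a, .b, .c, .a, .b, .a, .c, .a, .b, .e, .a, .c, .d, .b, .d, .a, .e, .b, .d, .c, .d, .c, .b, .c, .b, .c, .a, .c, .b, .b, .c, .d, .c, .d, .b, .b, .c, .a, .c, .b, .c])) (nd 1855 (lf [.a, .b, .c,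 .b, .a, .c, .b, .a, .c, .a, .e, .d, .a, .b, .a, .c, .b, .d, .b, .d, .b, .c, .a, .b, .a, .d, .c, .b, .d, .b, .d, .b, .c, .e, .b, .c, .b, .a, .d, .b, .d, .c]) (lf [.b, .d, .c, .d, .a, .d, .c, .b, .e, .a, .b, .e, .d, .c, .b, .c, .b, .c, .d, .a, .c, .a, .c, .a, .d, .c, .b, .c, .b, .c, .d, .a, .c, .a, .c, .a, .e, .b, .a, .e, .a, .b, .c, .b, .a, .c, .b, .a, .c, .b, .a, .d])))))))
noncomputable def tc3kw_circT_c29 : ℕ → List Gen := (nd 1888 (nd 1872 (nd 1864 (nd 1860 (nd 1858 (nd 1857 (lf [.b, .d, .b, .d, .c, .a, .b, .a, .d, .c, .e, .c, .b, .e, .b, .d, .c, .b, .c, .a, .d, .b, .c, .a, .c, .a, .b, .c, .b, .c, .b, .e, .b, .c, .e, .d, .b, .d, .b, .d, .c, .d, .a, .b, .a, .c, .d]) (lf [.e, .c, .b, .c, .a, .c, .b, .b, .d, .b, .a, .c, .a, .b, .c, .a, .c, .b, .c, .a, .c, .a, .b, .d, .b, .e, .a, .d, .b, .d, .c, .a, .e, .b, .a,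 .c, .a, .b, .c, .a, .c, .a, .b, .a, .c, .d, .a, .c, .d, .a, .c, .a, .c, .d, .e, .a, .c, .d, .b, .d, .a])) (nd 1859 (lf [.b, .d, .c, .b, .c, .a, .b, .c, .a, .b, .a, .b, .a, .c, .b, .a, .e, .b, .c, .e, .d, .b, .d, .b, .d, .d, .c, .a, .b, .a, .c, .d, .d, .b, .d, .b, .d, .d, .c, .a, .b, .a, .c, .d, .e, .c, .b, .e, .b, .a, .d, .c, .d]) (lf [.c, .a, .b, .c, .b, .c, .d, .a, .c, .b, .a, .b, .d, .a, .e, .a, .c, .b, .d, .b, .d, .b, .c, .a, .d, .a, .b, .a, .a, .c, .b, .d, .b, .d, .b, .c, .a, .a, .b, .a, .d, .e, .a, .b, .a, .c, .a, .c, .a, .b]))) (nd 1862 (nd 1861 (lf [.c, .a, .e, .a, .e, .a, .b, .a, .b, .c, .b, .a, .c, .b, .c, .b, .a, .c, .a, .d, .b, .d, .c, .a, .c, .b, .e, .a, .e, .c, .d, .a, .d, .c, .a, .c, .a, .c, .a, .c, .d, .a, .d, .c, .a, .c, .a]) (lf [.d, .e, .d, .b, .d, .a, .d, .b, .d, .a, .e, .d, .e, .d, .b, .e,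 .a, .e, .b, .a, .c, .a, .c, .b, .a, .c, .a, .b, .c, .a, .d, .a, .c, .b, .a, .c, .a, .e, .a, .e, .b, .d, .e])) (nd 1863 (lf [.c, .b, .d, .b, .d, .b, .c, .a, .b, .a, .d, .e, .a, .c, .a, .b, .c, .a, .b, .c, .b, .a, .c, .d, .b, .d, .a, .b, .c, .b, .e, .c, .b, .d, .b, .d, .b, .c, .d, .a, .b, .a]) (lf [.c, .a, .d, .a, .b, .e, .b, .c, .e, .c, .b, .d, .a, .b, .a, .b, .c, .c, .d, .a, .b, .a, .c, .c, .b, .a, .b, .a, .d, .b, .c, .c, .a, .b, .a, .d, .c, .e, .c, .b, .e, .b, .a, .b, .c, .a, .c, .a, .b, .d, .b])))) (nd 1868 (nd 1866 (nd 1865 (lf [.c, .b, .d, .b, .a, .b, .c, .b, .c, .b, .a, .c, .b, .a, .b, .e, .a, .c, .d, .b, .d, .a, .e, .a, .c, .d, .c, .a, .b, .d, .b, .a, .c, .a, .a, .c, .d, .c, .a, .a, .c, .a, .b, .d, .b, .e, .a, .d, .b, .d, .c, .a, .e, .c, .b, .d, .a, .d]) (lf [.b, .c, .b, .a, .b, .c, .b, .a, .e, .d, .e, .d,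 .b, .e, .a, .e, .b, .a, .c, .b, .a, .c, .b, .a, .b, .c, .b, .c, .a, .d, .c, .a, .b, .a, .b, .e, .a, .e, .b, .d, .e, .d, .e])) (nd 1867 (lf [.e, .a, .b, .a, .b, .a, .c, .b, .a, .c, .b, .a, .c, .b, .c, .b, .d, .b, .a, .b, .c, .a, .b, .a, .b, .e, .a, .e, .d, .b, .a, .b, .d, .a, .c, .a, .c, .a, .d, .b, .a, .b, .d, .a, .c, .a, .c, .a, .e, .a]) (lf [.a, .c, .b, .a, .d, .b, .a, .b, .d, .c, .a, .b, .e, .c, .d, .e, .a, .d, .c, .a, .c, .d, .a, .b, .d, .b, .d, .b, .a, .d, .c, .a, .c, .d, .a, .b, .d, .b, .d, .b, .e, .d, .c, .e, .a, .b, .c, .a, .c, .b]))) (nd 1870 (nd 1869 (lf [.c, .a, .e, .b, .a, .e, .a, .b, .c, .b, .a, .c, .b, .a, .c, .b, .a, .d, .b, .d, .c, .d, .a, .d, .c, .b, .e, .a, .b, .e, .d, .c, .b, .c, .b, .c, .d, .a, .c, .a, .c, .a, .d, .c, .b, .c, .b, .c, .d, .a, .c, .a]) (lf [.d, .a, .c, .d, .b, .d, .a, .c, .a,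 .c, .b, .a, .c, .a, .b, .a, .b, .a, .c, .a, .b, .a, .b, .a, .e, .b, .c, .e, .b, .c, .b, .d, .a, .b, .a, .b, .c, .b, .c, .b, .a, .b, .a, .d, .b, .c, .e, .c, .b, .e, .b, .a, .c])) (nd 1871 (lf [.e, .b, .a, .d, .a, .d, .b, .c, .d, .b, .a, .c, .b, .a, .b, .a, .c, .b, .c, .a, .e, .b, .c, .e, .d, .b, .d, .b, .d, .c, .b, .d, .a, .b, .a, .b, .c, .d, .b, .d, .b, .d, .c, .b, .a, .b, .a, .d, .b, .c, .e, .c, .b]) (lf [.a, .b, .a, .c, .a, .c, .a, .b, .a, .c, .b, .c, .b, .d, .a, .c, .d, .c, .d, .b, .a, .d, .c, .b, .d, .a, .b]))))) (nd 1880 (nd 1876 (nd 1874 (nd 1873 (lf [.e, .d, .e, .d, .b, .e, .a, .e, .a, .b, .c, .a, .d, .c, .d, .b, .a, .c, .b, .a, .b, .c, .b, .c, .a, .b, .e, .a, .e, .b, .d, .e, .d, .e, .b, .c, .b, .d, .b, .d, .b, .c, .b, .d, .b, .d]) (lf [.e, .d, .e, .d, .b, .e, .a, .e, .b, .a, .c, .b, .c, .b, .a, .b, .c,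 .a, .b, .d, .c, .d, .a, .c, .b, .a, .e, .a, .e, .b, .d, .e, .d, .e, .d, .b, .d, .b, .c, .b, .d, .b, .d, .b, .c, .b])) (nd 1875 (lf [.e, .a, .e, .b, .d, .e, .d, .e, .b, .c, .b, .a, .b, .c, .b, .a, .e, .d, .e, .d, .b, .e, .a, .e, .b, .a, .c, .b, .a, .c, .b, .a, .b, .c, .b, .c, .a, .d, .c, .a, .b, .a, .b]) (lf [.c, .a, .c, .d, .b, .a, .b, .c, .a, .c, .a, .b, .a, .c, .b, .e, .a, .c, .d, .b, .d, .a, .e, .a, .c, .d, .c, .a, .c, .b, .c, .a, .c, .b, .a, .c, .d, .c, .a, .b, .c, .a, .c, .b, .c, .e, .a, .d, .b, .d, .c, .a, .e, .b, .c, .b]))) (nd 1878 (nd 1877 (lf [.c, .e, .d, .e, .d, .b, .e, .a, .e, .d, .a, .d, .a, .c, .d, .a, .c, .b, .a, .c, .a, .b, .c, .a, .c, .a, .e, .a, .e, .b, .d, .e, .d, .e, .a, .c, .b, .c, .a, .c, .b]) (lf [.b, .d, .a, .c, .a, .b, .c, .b, .c, .a, .b, .c, .b, .a, .b, .a, .e, .a, .e, .a, .c, .a, .c,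 .a, .c, .d, .a, .d, .c, .a, .c, .a, .c, .a, .c, .d, .a, .d, .c, .e, .a, .e, .b, .c, .a, .c, .d])) (nd 1879 (lf [.b, .d, .a, .e, .b, .d, .c, .d, .c, .b, .c, .b, .c, .a, .c, .b, .b, .c, .d, .c, .d, .b, .b, .c, .a, .c, .b, .c, .e, .a, .d, .b, .d, .c, .a, .e, .c, .b, .d, .c, .a, .d, .a, .d, .a, .b, .c, .a, .b, .c, .a, .b, .c, .a, .b, .a, .c, .a, .b, .e, .a, .c, .d]) (lf [.d, .b, .d, .d, .c, .a, .b, .a, .c, .d, .e, .c, .b, .e, .b, .a, .d, .c, .d, .b, .d, .c, .b, .c, .a, .b, .c, .a, .b, .a, .b, .a, .c, .b, .a, .e, .b, .c, .e, .d, .b, .d, .b, .d, .d, .c, .a, .b, .a, .c, .d, .d, .b])))) (nd 1884 (nd 1882 (nd 1881 (lf [.c, .a, .d, .c, .d, .a, .d, .c, .b, .e, .b, .c, .e, .c, .d, .a, .b, .a, .c, .b, .c, .a, .b, .a, .d, .c, .b, .e, .c, .b, .e, .a, .b, .a, .c, .a, .c, .a, .b, .c, .a, .b]) (lf [.a, .d, .c, .e, .c, .b, .e, .b,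 .d, .c, .b, .c, .a, .d, .b, .c, .a, .c, .a, .b, .c, .b, .c, .b, .e, .b, .c, .e, .d, .b, .d, .b, .d, .c, .d, .a, .b, .a, .c, .d, .b, .d, .b, .d, .c, .a, .b])) (nd 1883 (lf [.b, .e, .a, .c, .b, .d, .b, .d, .b, .c, .a, .a, .c, .b, .c, .b, .c, .b, .a, .a, .c, .b, .d, .b, .d, .b, .c, .a, .a, .b, .c, .b, .c, .b, .c, .a, .e, .a, .b, .a, .b, .c, .a, .b, .a, .c, .b, .c, .b, .d, .a, .d, .b, .c, .a]) (lf [.c, .a, .b, .a, .e, .a, .b, .e, .a, .c, .a, .c, .a, .b, .a, .b, .d, .b, .a, .b, .a, .a, .c, .a, .c, .a, .a, .b, .a, .b, .d, .b, .a, .b, .e, .b, .a, .e, .c, .d, .b, .d, .b, .d, .a, .c, .b, .a, .b, .c, .a, .b]))) (nd 1886 (nd 1885 (lf [.a, .c, .d, .b, .d, .a, .e, .b, .d, .b, .a, .c, .a, .b, .d, .c, .d, .c, .b, .a, .c, .a, .b, .d, .b, .b, .c, .d, .c, .d, .b, .e, .a, .d, .b, .d, .c, .a, .e, .a, .c, .d, .a, .d, .c, .a, .e]) (lf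 [.c, .a, .d, .c, .a, .c, .b, .a, .c, .b, .a, .c, .a, .b, .a, .b, .a, .e, .a, .b, .e, .a, .c, .a, .c, .a, .d, .b, .c, .b, .a, .b, .c, .b, .d, .a, .c, .a, .c, .a, .d, .b, .c, .b, .a, .b, .c, .b, .d, .e, .b, .a, .e, .b, .a, .c, .a, .d, .b])) (nd 1887 (lf [.d, .c, .b, .c, .d, .b, .d, .e, .d, .e, .d, .b, .e, .a, .e, .b, .d, .a, .b, .a, .c, .a, .d, .a, .b, .a, .b, .c, .b, .c, .b, .a, .c, .b, .a, .b, .a, .e, .a, .e, .b, .d, .e, .d, .e, .c, .b, .c, .d, .b]) (lf [.d, .e, .d, .e, .a, .d, .b, .d, .a, .d, .b, .d, .e, .d, .e, .d, .b, .e, .a, .e, .a, .c, .a, .b, .c, .a, .d, .a, .c, .b, .a, .c, .a, .b, .c, .a, .c, .a, .b, .e, .a, .e, .b])))))) (nd 1904 (nd 1896 (nd 1892 (nd 1890 (nd 1889 (lf [.d, .b, .d, .a, .e, .c, .b, .c, .a, .c, .b, .b, .d, .b, .a, .c, .a, .b, .c, .a, .c, .b, .c, .a, .c, .a, .b, .d, .b, .e, .a, .d, .b, .d,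 .c, .a, .e, .b, .a, .c, .a, .b, .c, .a, .c, .a, .b, .a, .c, .d, .a, .c, .d, .a, .c, .a, .c, .d, .e, .a, .c]) (lf [.b, .e, .a, .b, .e, .b, .a, .b, .d, .b, .a, .b, .a, .d, .b, .c, .b, .a, .b, .c, .b, .d, .a, .b, .a, .b, .d, .b, .a, .b, .d, .b, .c, .b, .a, .b, .c, .b, .d, .e, .b, .a, .e, .c, .a, .b, .a, .c, .a, .c, .a, .d, .a, .b, .a, .c, .b, .a, .c, .b, .c, .a])) (nd 1891 (lf [.a, .b, .a, .d, .c, .c, .b, .d, .b, .d, .b, .c, .e, .b, .d, .c, .d, .c, .b, .a, .c, .a, .b, .a, .c, .a, .c, .b, .e, .c, .d, .a, .b, .a, .c, .c, .b, .d, .b, .d, .b, .c, .c]) (lf [.a, .b, .d, .b, .d, .c, .d, .b, .d, .b, .a, .b, .d, .e, .a, .e, .c, .d, .a, .b, .d, .c, .d, .b, .c, .b, .c, .b, .a, .c, .b, .a, .c, .b, .c, .b, .a, .b, .a, .e, .a, .e, .b, .d, .c, .d, .b, .d, .b]))) (nd 1894 (nd 1893 (lf [.d, .b, .d, .a, .e, .b, .d, .c, .d, .c, .b,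 .c, .b, .c, .a, .c, .b, .b, .c, .d, .c, .d, .b, .b, .c, .a, .c, .b, .c, .e, .a, .d, .b, .d, .c, .a, .e, .c, .b, .d, .c, .a, .d, .a, .d, .a, .b, .c, .a, .b, .c, .a, .b, .c, .a, .b, .a, .c, .a, .b, .e, .a, .c]) (lf [.e, .b, .d, .e, .d, .e, .a, .b, .c, .b, .a, .b, .c, .b, .e, .d, .e, .d, .b, .e, .a, .e, .b, .a, .b, .a, .c, .d, .a, .c, .b, .c, .b, .a, .b, .c, .a, .b, .c, .a, .b, .e, .a])) (nd 1895 (lf [.a, .b, .c, .b, .c, .d, .a, .c, .b, .a, .b, .d, .a, .e, .a, .c, .b, .d, .b, .d, .b, .c, .a, .d, .a, .b, .a, .a, .c, .b, .d, .b, .d, .b, .c, .a, .a, .b, .a, .d, .e, .a, .b, .a, .c, .a, .c, .a, .b, .c]) (lf [.d, .b, .d, .c, .a, .e, .a, .c, .d, .a, .d, .c, .a, .e, .a, .c, .d, .b, .d, .a, .e, .b, .d, .c, .d, .c, .b, .b, .d, .b, .a, .c, .a, .b, .c, .d, .c, .d, .b, .a, .c, .a, .b, .d, .b, .e, .a])))) (nd 1900 (nd 1898 (nd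 1897 (lf [.b, .a, .c, .b, .c, .b, .d, .b, .a, .b, .c, .a, .b, .a, .b, .e, .a, .e, .d, .b, .a, .b, .d, .a, .c, .a, .c, .a, .d, .b, .a, .b, .d, .a, .c, .a, .c, .a, .e, .a, .e, .a, .b, .a, .b, .a, .c, .b, .a, .c]) (lf [.a, .b, .c, .b, .a, .c, .a, .c, .a, .d, .c, .b, .c, .d, .b, .c, .b, .d, .a, .b])) (nd 1899 (lf [.d, .e, .d, .e, .d, .b, .d, .b, .c, .b, .d, .b, .d, .b, .c, .b, .e, .d, .e, .d, .b, .e, .a, .e, .b, .a, .c, .b, .c, .b, .a, .b, .c, .a, .b, .d, .c, .d, .a, .c, .b, .a, .e, .a, .e, .b]) (lf [.e, .a, .e, .b, .d, .e, .d, .e, .c, .b, .c, .a, .c, .b, .c, .a, .e, .d, .e, .d, .b, .e, .a, .e, .a, .c, .a, .c, .b, .a, .c, .a, .b, .c, .a, .d, .c, .a, .d, .a, .d]))) (nd 1902 (nd 1901 (lf [.e, .b, .c, .e, .d, .b, .d, .b, .d, .d, .c, .a, .b, .a, .c, .d, .d, .b, .d, .b, .d, .d, .c, .a, .b, .a, .c, .d, .e, .c, .b, .e, .b,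 .a, .d, .c, .d, .b, .d, .c, .b, .c, .a, .b, .c, .a, .b, .a, .b, .a, .c, .b, .a]) (lf [.a, .c, .a, .c, .a, .d, .b, .c, .b, .a, .b, .c, .b, .d, .a, .c, .a, .c, .a, .d, .b, .c, .b, .a, .b, .c, .b, .d, .e, .b, .a, .e, .b, .a, .c, .a, .d, .b, .c, .a, .d, .c, .a, .c, .b, .a, .c, .b, .a, .c, .a, .b, .a, .b, .a, .e, .a, .b, .e])) (nd 1903 (lf [.e, .d, .e, .d, .b, .d, .b, .c, .b, .d, .b, .d, .b, .c, .b, .e, .d, .e, .d, .b, .e, .a, .e, .b, .a, .c, .b, .c, .b, .a, .b, .c, .a, .b, .d, .c, .d, .a, .c, .b, .a, .e, .a, .e, .b, .d]) (lf [.d, .c, .a, .b, .a, .c, .d, .c, .b, .d, .a, .b, .a, .b, .c, .d, .c, .a, .b, .a, .c, .d, .c, .b, .a, .b, .a, .d, .b, .c, .e, .c, .b, .e, .c, .b, .d, .a, .b, .d, .a, .c, .b, .c, .b, .a, .c, .b, .c, .a, .e, .b, .c, .e]))))) (nd 1912 (nd 1908 (nd 1906 (nd 1905 (lf [.b, .e, .d, .c, .e, .a, .b, .a,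 .d, .e, .c, .d, .e, .a, .c, .b, .c, .b, .c, .b, .a, .b, .d, .b, .d, .b, .a, .b, .c, .b, .c, .b, .c, .a, .b, .d, .b, .d]) (lf [.e, .d, .b, .e, .a, .e, .b, .d, .a, .b, .a, .c, .a, .d, .a, .b, .a, .b, .c, .b, .c, .b, .a, .c, .b, .a, .b, .a, .e, .a, .e, .b, .d, .e, .d, .e, .c, .b, .c, .d, .b, .d, .c, .b, .c, .d, .b, .d, .e, .d])) (nd 1907 (lf [.d, .a, .c, .b, .a, .b, .d, .a, .e, .a, .c, .b, .d, .b, .d, .b, .c, .a, .d, .a, .b, .a, .a, .c, .b, .d, .b, .d, .b, .c, .a, .a, .b, .a, .d, .e, .a, .b, .a, .c, .a, .c, .a, .b, .c, .a, .b, .c, .b, .c]) (lf [.d, .e, .d, .b, .e, .a, .e, .a, .b, .a, .b, .c, .a, .b, .c, .b, .c, .b, .a, .b, .a, .d, .a, .c, .a, .b, .a, .d, .b, .e, .a, .e, .b, .d, .e, .d, .e, .d, .b, .d, .c, .b, .c, .d, .b, .d, .c, .b, .c, .e]))) (nd 1910 (nd 1909 (lf [.a, .d, .c, .c, .b, .d, .b, .d, .b, .c, .e, .b,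 .d, .c, .d, .c, .b, .a, .c, .a, .b, .a, .c, .a, .c, .b, .e, .c, .d, .a, .b, .a, .c, .c, .b, .d, .b, .d, .b, .c, .c, .a, .b]) (lf [.d, .c, .b, .e, .a, .b, .e, .d, .c, .b, .c, .b, .c, .d, .a, .c, .a, .c, .a, .d, .c, .b, .c, .b, .c, .d, .a, .c, .a, .c, .a, .e, .b, .a, .e, .a, .b, .c, .b, .a, .c, .b, .a, .c, .b, .a, .d, .b, .d, .c, .d, .a])) (nd 1911 (lf [.d, .a, .d, .c, .e, .a, .e, .a, .b, .c, .b, .c, .b, .a, .c, .a, .c, .a, .d, .a, .c, .b, .c, .b, .c, .a, .e, .a, .e, .d, .b, .a, .b, .d, .c, .d, .a, .d, .c, .d, .b, .a, .b, .d, .c]) (lf [.e, .c, .d, .e, .a, .d, .c, .a, .c, .d, .a, .b, .d, .b, .d, .b, .a, .d, .c, .a, .c, .d, .a, .b, .d, .b, .d, .b, .e, .d, .c, .e, .a, .b, .c, .a, .c, .b, .a, .c, .b, .a, .d, .b, .a, .b, .d, .c, .a, .b])))) (nd 1916 (nd 1914 (nd 1913 (lf [.c, .a, .c, .b, .a, .c, .b, .a, .c, .a, .b, .a,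 .b, .a, .e, .a, .b, .e, .a, .c, .a, .c, .a, .d, .b, .c, .b, .a, .b, .c, .b, .d, .a, .c, .a, .c, .a, .d, .b, .c, .b, .a, .b, .c, .b, .d, .e, .b, .a, .e, .b, .a, .c, .a, .d, .b, .c, .a, .d]) (lf [.a, .e, .b, .a, .c, .b, .a, .c, .b, .a, .b, .c, .b, .c, .a, .d, .c, .a, .b, .a, .b, .e, .a, .e, .b, .d, .e, .d, .e, .b, .c, .b, .a, .b, .c, .b, .a, .e, .d, .e, .d, .b, .e])) (nd 1915 (lf [.d, .b, .d, .a, .c, .b, .a, .b, .c, .a, .b, .c, .a, .b, .a, .e, .a, .b, .e, .a, .c, .a, .c, .a, .b, .a, .b, .d, .b, .a, .b, .a, .a, .c, .a, .c, .a, .a, .b, .a, .b, .d, .b, .a, .b, .e, .b, .a, .e, .c, .d, .b]) (lf [.e, .b, .a, .b, .a, .c, .d, .a, .c, .b, .c, .b, .a, .b, .c, .a, .b, .c, .a, .b, .e, .a, .e, .b, .d, .e, .d, .e, .a, .b, .c, .b, .a, .b, .c, .b, .e, .d, .e, .d, .b, .e, .a]))) (nd 1918 (nd 1917 (lf [.b, .c, .b, .c, .a, .e, .c,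 .b, .a, .b, .a, .c, .b, .c, .a, .b, .a, .b, .e, .d, .a, .b, .a, .a, .c, .b, .c, .b, .c, .b, .a, .a, .b, .a, .d, .a, .b, .c]) (lf [.a, .b, .d, .a, .c, .a, .c, .a, .d, .b, .a, .b, .d, .e, .a, .e, .b, .a, .b, .a, .c, .b, .a, .b, .d, .b, .c, .b, .c, .a, .b, .c, .a, .b, .c, .a, .b, .a, .b, .a, .e, .a, .e, .a, .c, .a, .c, .a, .d, .b])) (nd 1919 (lf [.d, .a, .b, .a, .c, .b, .c, .a, .b, .a, .d, .c, .e, .c, .b, .e, .b, .c, .d, .a, .d, .c, .d, .a, .c, .b, .a, .c, .b, .a, .c, .a, .c, .a, .b, .a, .e, .b, .c, .e, .b, .c]) (lf [.c, .d, .c, .a, .b, .c, .d, .c, .d, .b, .a, .c, .d, .c, .a, .e, .a, .d, .b, .d, .c, .a, .e, .b, .a, .b, .c, .b, .a, .c, .b, .c, .b, .a, .b, .a, .c, .b, .d, .b, .c, .a, .b, .c, .a, .e, .a, .c, .d, .b, .d, .a, .e, .b, .d, .c, .d, .c, .b, .a])))))))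
noncomputable def tc3kw_circT_c30 : ℕ → List Gen := (nd 1952 (nd 1936 (nd 1928 (nd 1924 (nd 1922 (nd 1921 (lf [.b, .a, .e, .a, .e, .a, .c, .a, .c, .a, .d, .b, .a, .b, .d, .a, .c, .a, .c, .a, .d, .b, .a, .b, .d, .e, .a, .e, .b, .a, .b, .a, .c, .b, .a, .b, .d, .b, .c, .b, .c, .a, .b, .c, .a, .b, .c, .a, .b, .a]) (lf [.a, .c, .a, .b, .d, .c, .d, .b, .e, .a, .e, .c, .a, .b, .c, .a, .d, .c, .b, .c, .b, .c, .a, .b, .c, .a, .b, .c, .e, .a, .e, .a, .c, .a, .c, .a, .b, .d, .c, .d, .b, .a, .c])) (nd 1923 (lf [.a, .e, .b, .d, .b, .a, .c, .a, .a, .c, .d, .c, .a, .a, .c, .a, .b, .d, .b, .a, .c, .d, .c, .a, .e, .a, .d, .b, .d, .c, .a, .e, .b, .a, .b, .c, .a, .b, .c, .b, .c, .b, .a, .b, .d, .b, .c, .d, .a, .d, .b, .c, .e, .a, .c, .d, .b, .d]) (lf [.b, .e, .a, .e, .a, .c, .a, .b, .c, .a, .d, .a, .c, .b, .a, .c, .a, .b, .c, .a,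 .c, .a, .b, .e, .a, .e, .b, .d, .e, .d, .e, .a, .d, .b, .d, .a, .d, .b, .d, .e, .d, .e, .d]))) (nd 1926 (nd 1925 (lf [.b, .d, .b, .c, .c, .a, .b, .a, .d, .c, .e, .b, .c, .a, .c, .a, .b, .a, .c, .a, .b, .c, .d, .c, .d, .b, .e, .c, .b, .d, .b, .d, .b, .c, .c, .d, .a, .b, .a, .c, .c, .b, .d]) (lf [.e, .a, .b, .e, .d, .c, .b, .c, .b, .c, .d, .d, .b, .c, .b, .a, .b, .c, .b, .d, .d, .c, .b, .c, .b, .c, .d, .d, .b, .c, .b, .a, .b, .c, .b, .d, .e, .b, .a, .e, .b, .d, .b, .d, .c, .a, .c, .a, .d, .c, .b, .c, .b, .a, .c, .b, .a, .c, .a, .b, .a, .b, .a])) (nd 1927 (lf [.d, .a, .c, .a, .b, .e, .a, .b, .e, .d, .b, .c, .b, .a, .b, .c, .b, .d, .a, .c, .a, .c, .a, .d, .b, .c, .b, .a, .b, .c, .b, .d, .a, .c, .a, .c, .a, .e, .b, .a, .e, .a, .b, .a, .b, .a, .c, .a, .b, .c, .a, .b, .c, .a, .c, .d, .a, .c, .b]) (lf [.d, .b, .c, .b,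 .c, .b, .c, .e, .b, .c, .e, .d, .c, .a, .b, .a, .c, .d, .b, .d, .c, .a, .b, .a, .c, .d, .b, .e, .c, .b, .e, .b, .a, .c, .a, .b, .c, .a, .b, .a, .c])))) (nd 1932 (nd 1930 (nd 1929 (lf [.a, .b, .a, .d, .c, .e, .b, .c, .a, .c, .a, .b, .a, .c, .a, .b, .c, .d, .c, .d, .b, .e, .c, .b, .d, .b, .d, .b, .c, .c, .d, .a, .b, .a, .c, .c, .b, .d, .b, .d, .b, .c, .c]) (lf [.c, .d, .e, .a, .c, .d, .b, .d, .a, .e, .c, .b, .c, .a, .c, .b, .b, .d, .b, .a, .c, .a, .b, .c, .a, .c, .b, .c, .a, .c, .a, .b, .d, .b, .e, .a, .d, .b, .d, .c, .a, .e, .b, .a, .c, .a, .b, .c, .a, .c, .a, .b, .a, .c, .d, .a, .c, .d, .a, .c, .a])) (nd 1931 (lf [.b, .a, .e, .a, .c, .b, .c, .b, .c, .b, .a, .a, .c, .b, .d, .b, .d, .b, .c, .a, .a, .b, .c, .b, .c, .b, .c, .a, .a, .c, .b, .d, .b, .d, .b, .c, .a, .e, .b, .a, .c, .b, .d, .a, .d, .b, .c, .b, .c, .a,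 .b, .a, .c, .b, .a]) (lf [.c, .a, .d, .c, .b, .c, .b, .c, .a, .b, .c, .a, .b, .c, .e, .a, .e, .a, .c, .a, .c, .a, .b, .d, .c, .d, .b, .a, .c, .a, .c, .a, .b, .d, .c, .d, .b, .e, .a, .e, .c, .a, .b]))) (nd 1934 (nd 1933 (lf [.a, .d, .c, .a, .b, .c, .a, .c, .b, .a, .d, .b, .d, .c, .b, .c, .b, .c, .a, .b, .c, .b, .a, .b]) (lf [.a, .c, .a, .c, .b, .a, .c, .a, .b, .c, .a, .d, .c, .a, .d, .a, .d, .e, .a, .e, .b, .d, .e, .d, .e, .c, .b, .c, .a, .c, .b, .c, .a, .e, .d, .e, .d, .b, .e, .a, .e])) (nd 1935 (lf [.b, .e, .a, .e, .b, .d, .e, .d, .e, .d, .b, .d, .c, .b, .c, .d, .b, .d, .c, .b, .c, .e, .d, .e, .d, .b, .e, .a, .e, .a, .b, .a, .b, .c, .a, .b, .c, .b, .c, .b, .a, .b, .a, .d, .a, .c, .a, .b, .a, .d]) (lf [.e, .a, .d, .b, .d, .c, .a, .e, .b, .c, .a, .b, .a, .c, .a, .c, .b, .a, .b, .d, .c, .a, .c, .b, .c, .b, .e, .a,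 .c, .d, .b, .d, .a, .e, .c, .b, .c, .a, .c, .b, .a, .c, .d, .c, .a, .b, .c, .a, .c, .b, .c, .a, .c, .d, .c, .a]))))) (nd 1944 (nd 1940 (nd 1938 (nd 1937 (lf [.a, .c, .d, .b, .d, .a, .e, .b, .d, .b, .a, .c, .a, .c, .b, .c, .a, .c, .b, .a, .c, .a, .b, .d, .b, .b, .c, .a, .c, .b, .c, .e, .a, .d, .b, .d, .c, .a, .e, .d, .c, .a, .c, .a, .d, .c, .a, .d, .c, .a, .b, .a, .c, .a, .c, .b, .a, .c, .a, .b, .e]) (lf [.b, .c, .b, .a, .c, .b, .c, .b, .a, .c, .a, .d, .b, .d, .c, .a, .c, .b, .e, .a, .e, .c, .d, .a, .d, .c, .a, .c, .a, .c, .a, .c, .d, .a, .d, .c, .a, .c, .a, .c, .a, .e, .a, .e, .a, .b, .a])) (nd 1939 (lf [.b, .a, .e, .a, .e, .b, .d, .e, .d, .e, .c, .b, .c, .d, .b, .d, .c, .b, .c, .d, .b, .d, .e, .d, .e, .d, .b, .e, .a, .e, .b, .d, .a, .b, .a, .c, .a, .d, .a, .b, .a, .b, .c, .b, .c, .b, .a, .c, .b, .a]) (lf [.d,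 .b, .c, .b, .e, .c, .b, .e, .a, .b, .a, .b, .a, .c, .a, .b, .a, .b, .a, .c, .a, .b, .c, .a, .c, .a, .d, .b, .d, .c, .a, .d, .c, .a, .b, .e, .b, .c, .e, .c, .b, .d, .a, .b, .a, .b, .c, .b, .c, .b, .a, .b, .a]))) (nd 1942 (nd 1941 (lf [.e, .b, .d, .e, .d, .e, .c, .b, .c, .d, .b, .d, .c, .b, .c, .d, .b, .d, .e, .d, .e, .d, .b, .e, .a, .e, .b, .d, .a, .b, .a, .c, .a, .d, .a, .b, .a, .b, .c, .b, .c, .b, .a, .c, .b, .a, .b, .a, .e, .a]) (lf [.d, .c, .a, .b, .a, .c, .d, .b, .e, .c, .b, .e, .b, .a, .c, .a, .b, .c, .a, .b, .a, .c, .d, .b, .c, .b, .c, .b, .c, .e, .b, .c, .e, .d, .c, .a, .b, .a, .c, .d, .b])) (nd 1943 (lf [.a, .b, .a, .d, .c, .b, .e, .c, .b, .e, .a, .b, .a, .c, .a, .c, .a, .b, .c, .a, .b, .c, .a, .d, .c, .d, .a, .d, .c, .b, .e, .b, .c, .e, .c, .d, .a, .b, .a, .c, .b, .c]) (lf [.d, .c, .a, .b, .a, .c, .d,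 .b, .d, .c, .a, .b, .a, .c, .d, .e, .c, .b, .e, .c, .b, .c, .b, .c, .b, .d, .c, .a, .b, .a, .c, .b, .a, .c, .a, .b, .e, .b, .c, .e, .b])))) (nd 1948 (nd 1946 (nd 1945 (lf [.a, .e, .a, .b, .c, .a, .d, .c, .d, .b, .a, .c, .b, .a, .b, .c, .b, .c, .a, .b, .e, .a, .e, .b, .d, .e, .d, .e, .b, .c, .b, .d, .b, .d, .b, .c, .b, .d, .b, .d, .e, .d, .e, .d, .b, .e]) (lf [.e, .a, .c, .d, .c, .a, .b, .d, .c, .d, .c, .b, .a, .c, .d, .c, .a, .b, .c, .d, .c, .d, .b, .e, .a, .d, .b, .d, .c, .a, .e, .a, .c, .b, .a, .c, .b, .d, .b, .c, .a, .b, .a, .b, .c, .b, .c, .a, .b, .c, .b, .a, .b, .e, .a, .c, .d, .b, .d, .a])) (nd 1947 (lf [.c, .a, .b, .c, .b, .c, .e, .c, .d, .e, .a, .d, .c, .a, .c, .d, .a, .a, .c, .b, .c, .b, .c, .b, .a, .a, .d, .c, .a, .c, .d, .a, .a, .b, .c, .b, .c, .b, .c, .a, .e, .d, .c, .e, .d, .c, .b, .c, .a, .d, .b,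 .c, .a]) (lf [.d, .b, .e, .a, .e, .a, .b, .a, .b, .c, .b, .c, .a, .b, .c, .a, .b, .c, .b, .c, .b, .d, .c, .d, .b, .a, .d, .c, .e, .a, .e, .d, .b, .a, .b, .d, .b, .d, .c, .d, .b, .d, .b, .a, .b, .d, .b, .d, .c]))) (nd 1950 (nd 1949 (lf [.e, .c, .b, .c, .a, .c, .b, .a, .c, .d, .c, .a, .b, .c, .a, .c, .b, .c, .a, .c, .d, .c, .a, .e, .a, .d, .b, .d, .c, .a, .e, .b, .c, .a, .b, .a, .c, .a, .c, .b, .a, .b, .d, .c, .a, .c, .b, .c, .b, .e, .a, .c, .d, .b, .d, .a]) (lf [.e, .b, .d, .c, .d, .c, .b, .a, .c, .d, .c, .a, .b, .c, .d, .c, .d, .b, .a, .c, .d, .c, .a, .e, .a, .d, .b, .d, .c, .a, .e, .b, .a, .b, .c, .b, .a, .c, .b, .c, .b, .a, .b, .a, .c, .b, .d, .b, .c, .a, .b, .c, .a, .e, .a, .c, .d, .b, .d, .a])) (nd 1951 (lf [.a, .e, .c, .b, .c, .a, .c, .b, .b, .d, .b, .a, .c, .a, .b, .c, .a, .c, .b, .c, .a, .c, .a, .b, .d,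 .b, .e, .a, .d, .b, .d, .c, .a, .e, .b, .a, .c, .a, .b, .c, .a, .c, .a, .b, .a, .c, .d, .a, .c, .d, .a, .c, .a, .c, .d, .e, .a, .c, .d, .b, .d]) (lf [.d, .b, .a, .d, .b, .c, .e, .b, .c, .e, .c, .b, .d, .a, .b, .a, .b, .c, .d, .c, .a, .b, .a, .c, .d, .c, .b, .a, .b, .a, .d, .b, .c, .d, .c, .a, .b, .a, .c, .d, .e, .c, .b, .e, .a, .c, .b, .c, .a, .b, .c, .b, .c, .a])))))) (nd 1968 (nd 1960 (nd 1956 (nd 1954 (nd 1953 (lf [.d, .c, .a, .e, .c, .b, .d, .c, .a, .d, .a, .d, .a, .b, .c, .a, .b, .c, .a, .b, .c, .a, .b, .a, .c, .a, .b, .e, .a, .c, .d, .b, .d, .a, .e, .b, .d, .c, .d, .c, .b, .c, .b, .c, .a, .c, .b, .b, .c, .d, .c, .d, .b, .b, .c, .a, .c, .b, .c, .e, .a, .d, .b]) (lf [.a, .b, .a, .c, .a, .c, .b, .a, .c, .a, .b, .e, .a, .c, .d, .b, .d, .a, .e, .b, .d, .b, .a, .c, .a, .c, .b, .c, .a, .c, .b, .a, .c, .a, .b, .d,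 .b, .b, .c, .a, .c, .b, .c, .e, .a, .d, .b, .d, .c, .a, .e, .d, .c, .a, .c, .a, .d, .c, .a, .d, .c])) (nd 1955 (lf [.c, .a, .c, .a, .b, .a, .c, .d, .a, .c, .d, .a, .c, .a, .c, .d, .e, .a, .c, .d, .b, .d, .a, .e, .c, .b, .c, .a, .c, .b, .b, .d, .b, .a, .c, .a, .b, .c, .a, .c, .b, .c, .a, .c, .a, .b, .d, .b, .e, .a, .d, .b, .d, .c, .a, .e, .b, .a, .c, .a, .b]) (lf [.d, .e, .b, .a, .e, .a, .b, .a, .b, .a, .c, .a, .b, .c, .a, .b, .c, .b, .c, .d, .a, .c, .a, .c, .d, .b, .d, .b, .e, .a, .b, .e, .d, .b, .c, .b, .a, .b, .c, .b, .d, .d, .c, .b, .c, .b, .c, .d, .d, .b, .c, .b, .a, .b, .c, .b, .d, .d, .c, .b, .c, .b, .c]))) (nd 1958 (nd 1957 (lf [.c, .d, .b, .d, .c, .b, .c, .e, .d, .e, .d, .b, .e, .a, .e, .a, .b, .a, .b, .c, .a, .b, .c, .b, .c, .b, .a, .b, .a, .d, .a, .c, .a, .b, .a, .d, .b, .e, .a, .e, .b, .d, .e, .d, .e,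 .d, .b, .d, .c, .b]) (lf [.c, .a, .b, .a, .c, .d, .e, .c, .b, .e, .c, .b, .c, .b, .c, .b, .d, .c, .a, .b, .a, .c, .b, .a, .c, .a, .b, .e, .b, .c, .e, .b, .d, .c, .a, .b, .a, .c, .d, .b, .d])) (nd 1959 (lf [.a, .c, .a, .c, .b, .c, .b, .c, .b, .a, .c, .a, .b, .a, .d, .c, .a, .b, .c, .b, .c, .b, .c, .a, .e, .c, .d, .b, .d, .b, .d, .a, .b, .c, .b, .c, .a, .b, .a, .b, .e, .c, .d, .a, .b]) (lf [.b, .d, .a, .d, .b, .d, .a, .e, .d, .e, .d, .b, .e, .a, .e, .b, .a, .c, .a, .c, .b, .a, .c, .a, .b, .c, .a, .d, .a, .c, .b, .a, .c, .a, .e, .a, .e, .b, .d, .e, .d, .e, .d])))) (nd 1964 (nd 1962 (nd 1961 (lf [.b, .c, .a, .b, .c, .b, .c, .b, .d, .c, .d, .b, .a, .d, .c, .e, .a, .e, .d, .b, .a, .b, .d, .b, .d, .c, .d, .b, .d, .b, .a, .b, .d, .b, .d, .c, .d, .b, .e, .a, .e, .a, .b, .a, .b, .c, .b, .c, .a]) (lf [.e, .b, .d, .b, .a,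 .c, .a, .b, .d, .c, .d, .c, .b, .a, .c, .a, .b, .d, .b, .b, .c, .d, .c, .d, .b, .e, .a, .d, .b, .d, .c, .a, .e, .a, .c, .d, .a, .d, .c, .a, .e, .a, .c, .d, .b, .d, .a])) (nd 1963 (lf [.d, .a, .c, .b, .a, .b, .c, .a, .b, .c, .a, .b, .a, .e, .a, .b, .e, .a, .c, .a, .c, .a, .b, .a, .b, .d, .b, .a, .b, .a, .a, .c, .a, .c, .a, .a, .b, .a, .b, .d, .b, .a, .b, .e, .b, .a, .e, .c, .d, .b, .d, .b]) (lf [.b, .e, .c, .b, .e, .a, .b, .a, .b, .a, .c, .a, .b, .a, .b, .a, .c, .a, .b, .c, .a, .c, .a, .d, .b, .d, .c, .a, .d, .c, .a, .b, .e, .b, .c, .e, .c, .b, .d, .a, .b, .a, .b, .c, .b, .c, .b, .a, .b, .a, .d, .b, .c]))) (nd 1966 (nd 1965 (lf [.b, .d, .c, .d, .c, .b, .b, .d, .b, .a, .c, .a, .b, .c, .d, .c, .d, .b, .a, .c, .a, .b, .d, .b, .e, .a, .d, .b, .d, .c, .a, .e, .a, .c, .d, .a, .d, .c, .a, .e, .a, .c, .d, .b, .d, .a, .e])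 (lf [.c, .d, .c, .a, .b, .c, .a, .c, .b, .c, .e, .a, .d, .b, .d, .c, .a, .e, .b, .c, .b, .c, .a, .c, .d, .b, .a, .b, .c, .a, .c, .a, .b, .a, .c, .b, .e, .a, .c, .d, .b, .d, .a, .e, .a, .c, .d, .c, .a, .c, .b, .c, .a, .c, .b, .a])) (nd 1967 (lf [.e, .a, .b, .c, .a, .d, .c, .d, .b, .a, .c, .b, .a, .b, .c, .b, .c, .a, .b, .e, .a, .e, .b, .d, .e, .d, .e, .b, .c, .b, .d, .b, .d, .b, .c, .b, .d, .b, .d, .e, .d, .e, .d, .b, .e, .a]) (lf [.d, .b, .d, .b, .a, .b, .d, .b, .d, .c, .d, .b, .e, .a, .e, .a, .b, .a, .b, .c, .b, .c, .a, .b, .c, .a, .b, .c, .b, .c, .b, .d, .c, .d, .b, .a, .d, .c, .e, .a, .e, .d, .b, .a, .b, .d, .b, .d, .c]))))) (nd 1976 (nd 1972 (nd 1970 (nd 1969 (lf [.b, .c, .a, .e, .a, .d, .b, .a, .b, .c, .a, .d, .c, .b, .c, .b, .a, .c, .b, .a, .c, .a, .c, .a, .b, .a, .e, .d, .a, .b, .a, .a, .c, .b, .d, .b, .d,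 .b, .c, .a, .a, .b, .a, .d, .a, .c, .b, .d, .b, .d]) (lf [.a, .e, .a, .c, .a, .b, .c, .a, .d, .a, .c, .b, .a, .c, .a, .b, .c, .a, .c, .a, .b, .e, .a, .e, .b, .d, .e, .d, .e, .a, .d, .b, .d, .a, .d, .b, .d, .e, .d, .e, .d, .b, .e])) (nd 1971 (lf [.c, .a, .e, .b, .c, .a, .b, .a, .c, .a, .c, .b, .a, .b, .d, .c, .a, .c, .b, .c, .b, .e, .a, .c, .d, .b, .d, .a, .e, .c, .b, .c, .a, .c, .b, .a, .c, .d, .c, .a, .b, .c, .a, .c, .b, .c, .a, .c, .d, .c, .a, .e, .a, .d, .b, .d]) (lf [.e, .a, .e, .b, .d, .e, .d, .e, .d, .b, .d, .b, .c, .b, .d, .b, .d, .b, .c, .b, .e, .d, .e, .d, .b, .e, .a, .e, .b, .a, .c, .b, .c, .b, .a, .b, .c, .a, .b, .d, .c, .d, .a, .c, .b, .a]))) (nd 1974 (nd 1973 (lf [.e, .d, .b, .d, .c, .b, .c, .d, .b, .d, .c, .b, .c, .e, .d, .e, .d, .b, .e, .a, .e, .a, .b, .a, .b, .c, .a, .b, .c, .b, .c, .b, .a, .b,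 .a, .d, .a, .c, .a, .b, .a, .d, .b, .e, .a, .e, .b, .d, .e, .d]) (lf [.a, .c, .a, .c, .a, .e, .a, .e, .a, .b, .a, .b, .a, .c, .b, .a, .c, .b, .a, .c, .b, .c, .b, .d, .b, .a, .b, .c, .a, .b, .a, .b, .e, .a, .e, .d, .b, .a, .b, .d, .a, .c, .a, .c, .a, .d, .b, .a, .b, .d])) (nd 1975 (lf [.c, .a, .c, .a, .b, .a, .b, .d, .b, .a, .b, .a, .a, .c, .a, .c, .a, .a, .b, .a, .b, .d, .b, .a, .b, .e, .b, .a, .e, .c, .d, .b, .d, .b, .d, .a, .c, .b, .a, .b, .c, .a, .b, .c, .a, .b, .a, .e, .a, .b, .e, .a]) (lf [.a, .e, .b, .a, .c, .b, .c, .b, .a, .b, .c, .a, .b, .d, .c, .d, .a, .c, .b, .a, .e, .a, .e, .b, .d, .e, .d, .e, .d, .b, .d, .b, .c, .b, .d, .b, .d, .b, .c, .b, .e, .d, .e, .d, .b, .e])))) (nd 1980 (nd 1978 (nd 1977 (lf [.e, .a, .e, .b, .d, .a, .b, .a, .c, .a, .d, .a, .b, .a, .b, .c, .b, .c, .b, .a, .c, .b, .a, .b, .a, .e,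 .a, .e, .b, .d, .e, .d, .e, .c, .b, .c, .d, .b, .d, .c, .b, .c, .d, .b, .d, .e, .d, .e, .d, .b]) (lf [.d, .e, .a, .e, .a, .c, .b, .c, .b, .c, .a, .d, .a, .c, .a, .c, .a, .b, .c, .b, .c, .b, .a, .e, .a, .e, .c, .d, .a, .d, .c, .d, .b, .a, .b, .d, .c, .d, .a, .d, .c, .d, .b, .a, .b])) (nd 1979 (lf [.a, .d, .c, .a, .c, .d, .a, .b, .d, .b, .d, .b, .a, .d, .c, .a, .c, .d, .a, .b, .d, .b, .d, .b, .e, .d, .c, .e, .a, .b, .c, .a, .c, .b, .a, .c, .b, .a, .d, .b, .a, .b, .d, .c, .a, .b, .e, .c, .d, .e]) (lf [.a, .c, .b, .c, .b, .d, .a, .d, .b, .c, .a, .b, .e, .a, .c, .b, .d, .b, .d, .b, .c, .a, .a, .c, .b, .c, .b, .c, .b, .a, .a, .c, .b, .d, .b, .d, .b, .c, .a, .a, .b, .c, .b, .c, .b, .c, .a, .e, .a, .b, .a, .b, .c, .a, .b]))) (nd 1982 (nd 1981 (lf [.b, .d, .c, .a, .e, .b, .c, .a, .b, .a, .c, .a, .c, .b, .a, .b, .d, .c,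 .a, .c, .b, .c, .b, .e, .a, .c, .d, .b, .d, .a, .e, .c, .b, .c, .a, .c, .b, .a, .c, .d, .c, .a, .b, .c, .a, .c, .b, .c, .a, .c, .d, .c, .a, .e, .a, .d]) (lf [.a, .c, .b, .a, .c, .a, .e, .a, .e, .b, .d, .e, .d, .e, .d, .b, .d, .a, .d, .b, .d, .a, .e, .d, .e, .d, .b, .e, .a, .e, .b, .a, .c, .a, .c, .b, .a, .c, .a, .b, .c, .a, .d])) (nd 1983 (lf [.d, .c, .b, .d, .a, .b, .c, .b, .c, .b, .a, .b, .c, .a, .b, .c, .b, .e, .c, .d, .a, .b, .a, .c, .a, .c, .b, .d, .b, .d, .b, .c, .a, .c, .a, .b, .a, .d, .c, .a, .c, .b, .d, .b, .d, .b, .c, .a, .e, .b, .a, .b, .a, .c]) (lf [.d, .c, .a, .e, .a, .c, .d, .a, .d, .c, .a, .e, .a, .c, .d, .b, .d, .a, .e, .b, .d, .b, .a, .c, .a, .b, .d, .c, .d, .c, .b, .a, .c, .a, .b, .d, .b, .b, .c, .d, .c, .d, .b, .e, .a, .d, .b])))))))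
noncomputable def tc3kw_circT_c31 : ℕ → List Gen := (nd 2016 (nd 2000 (nd 1992 (nd 1988 (nd 1986 (nd 1985 (lf [.d, .c, .a, .c, .a, .d, .c, .a, .d, .c, .a, .b, .a, .c, .a, .c, .b, .a, .c, .a, .b, .e, .a, .c, .d, .b, .d, .a, .e, .b, .d, .b, .a, .c, .a, .c, .b, .c, .a, .c, .b, .a, .c, .a, .b, .d, .b, .b, .c, .a, .c, .b, .c, .e, .a, .d, .b, .d, .c, .a, .e]) (lf [.c, .d, .a, .b, .a, .c, .b, .c, .a, .b, .a, .d, .c, .e, .c, .b, .e, .b, .c, .d, .a, .d, .c, .d, .a, .c, .b, .a, .c, .b, .a, .c, .a, .c, .a, .b, .a, .e, .b, .c, .e, .b])) (nd 1987 (lf [.d, .b, .a, .c, .a, .c, .b, .a, .b, .e, .b, .c, .e, .c, .d, .a, .b, .a, .c, .c, .b, .d, .a, .b, .a, .b, .c, .c, .a, .b, .a, .d, .c, .c, .b, .a, .b, .a, .d, .b, .c, .e, .c, .b, .e, .b, .a, .d, .a, .c, .b]) (lf [.d, .b, .e, .c, .b, .e, .b, .a, .c, .a, .b, .c, .a, .b, .a, .c, .d,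 .b, .c, .b, .c, .b, .c, .e, .b, .c, .e, .d, .c, .a, .b, .a, .c, .d, .b, .d, .c, .a, .b, .a, .c]))) (nd 1990 (nd 1989 (lf [.d, .a, .d, .c, .b, .a, .b, .c, .b, .c, .b, .a, .b, .c, .d, .a, .d, .c, .a, .d, .a, .b, .c]) (lf [.e, .a, .c, .a, .c, .b, .a, .c, .a, .b, .c, .a, .d, .c, .a, .d, .a, .d, .e, .a, .e, .b, .d, .e, .d, .e, .c, .b, .c, .a, .c, .b, .c, .a, .e, .d, .e, .d, .b, .e, .a])) (nd 1991 (lf [.e, .d, .e, .d, .b, .d, .a, .d, .b, .d, .a, .e, .d, .e, .d, .b, .e, .a, .e, .b, .a, .c, .a, .c, .b, .a, .c, .a, .b, .c, .a, .d, .a, .c, .b, .a, .c, .a, .e, .a, .e, .b, .d]) (lf [.b, .d, .e, .d, .e, .c, .b, .c, .a, .c, .b, .c, .a, .e, .d, .e, .d, .b, .e, .a, .e, .a, .c, .a, .c, .b, .a, .c, .a, .b, .c, .a, .d, .c, .a, .d, .a, .d, .e, .a, .e])))) (nd 1996 (nd 1994 (nd 1993 (lf [.b, .e, .d, .c, .e, .a, .b, .c, .a, .c, .b,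 .a, .c, .b, .a, .d, .b, .a, .b, .d, .c, .a, .b, .e, .c, .d, .e, .a, .d, .c, .a, .c, .d, .a, .b, .d, .b, .d, .b, .a, .d, .c, .a, .c, .d, .a, .b, .d, .b, .d]) (lf [.d, .a, .c, .d, .b, .c, .e, .a, .c, .d, .b, .d, .a, .e, .c, .b, .c, .a, .c, .b, .b, .d, .c, .d, .c, .b, .b, .c, .a, .c, .b, .c, .b, .c, .d, .c, .d, .b, .e, .a, .d, .b, .d, .c, .a, .e, .b, .a, .c, .a, .b, .a, .c, .b, .a, .c, .b, .a, .c, .b, .a, .d, .a])) (nd 1995 (lf [.d, .b, .d, .e, .d, .e, .d, .b, .e, .a, .e, .a, .c, .a, .b, .c, .a, .d, .a, .c, .b, .a, .c, .a, .b, .c, .a, .c, .a, .b, .e, .a, .e, .b, .d, .e, .d, .e, .a, .d, .b, .d, .a]) (lf [.d, .b, .c, .b, .d, .b, .d, .e, .d, .e, .d, .b, .e, .a, .e, .a, .b, .c, .a, .d, .c, .d, .b, .a, .c, .b, .a, .b, .c, .b, .c, .a, .b, .e, .a, .e, .b, .d, .e, .d, .e, .b, .c, .b, .d, .b]))) (nd 1998 (nd 1997 (lf [.d,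 .c, .b, .a, .b, .c, .b, .c, .b, .a, .b, .c, .d, .a, .d, .c, .a, .d, .a, .b, .c, .d, .a]) (lf [.d, .e, .d, .e, .b, .c, .b, .d, .b, .d, .b, .c, .b, .d, .b, .d, .e, .d, .e, .d, .b, .e, .a, .e, .a, .b, .c, .a, .d, .c, .d, .b, .a, .c, .b, .a, .b, .c, .b, .c, .a, .b, .e, .a, .e, .b])) (nd 1999 (lf [.d, .b, .d, .c, .b, .a, .b, .a, .d, .b, .c, .e, .c, .b, .e, .b, .a, .d, .a, .d, .b, .c, .d, .b, .a, .c, .b, .a, .b, .a, .c, .b, .c, .a, .e, .b, .c, .e, .d, .b, .d, .b, .d, .c, .b, .d, .a, .b, .a, .b, .c, .d, .b]) (lf [.a, .c, .d, .d, .b, .d, .b, .d, .d, .c, .a, .b, .a, .c, .d, .e, .c, .b, .e, .b, .a, .d, .c, .d, .b, .d, .c, .b, .c, .a, .b, .c, .a, .b, .a, .b, .a, .c, .b, .a, .e, .b, .c, .e, .d, .b, .d, .b, .d, .d, .c, .a, .b]))))) (nd 2008 (nd 2004 (nd 2002 (nd 2001 (lf [.b, .a, .b, .a, .e, .a, .c, .b, .c, .b, .c, .b, .a,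 .a, .c, .b, .d, .b, .d, .b, .c, .a, .a, .b, .c, .b, .c, .b, .c, .a, .a, .c, .b, .d, .b, .d, .b, .c, .a, .e, .b, .a, .c, .b, .d, .a, .d, .b, .c, .b, .c, .a, .b, .a, .c]) (lf [.d, .a, .d, .c, .a, .e, .a, .c, .d, .b, .d, .a, .e, .b, .d, .c, .d, .c, .b, .b, .d, .b, .a, .c, .a, .b, .c, .d, .c, .d, .b, .a, .c, .a, .b, .d, .b, .e, .a, .d, .b, .d, .c, .a, .e, .a, .c])) (nd 2003 (lf [.b, .a, .d, .b, .c, .d, .c, .a, .b, .a, .c, .d, .e, .c, .b, .e, .a, .c, .b, .c, .a, .b, .c, .b, .c, .a, .d, .b, .a, .d, .b, .c, .e, .b, .c, .e, .c, .b, .d, .a, .b, .a, .b, .c, .d, .c, .a, .b, .a, .c, .d, .c, .b, .a]) (lf [.c, .b, .d, .a, .b, .a, .b, .c, .d, .c, .a, .b, .a, .c, .d, .c, .b, .a, .b, .a, .d, .b, .c, .d, .c, .a, .b, .a, .c, .d, .e, .c, .b, .e, .a, .c, .b, .c, .a, .b, .c, .b, .c, .a, .d, .b, .a, .d, .b, .c, .e, .b, .c, .e]))) (nd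 2006 (nd 2005 (lf [.d, .b, .d, .a, .e, .d, .e, .d, .b, .e, .a, .e, .b, .a, .c, .a, .c, .b, .a, .c, .a, .b, .c, .a, .d, .a, .c, .b, .a, .c, .a, .e, .a, .e, .b, .d, .e, .d, .e, .d, .b, .d, .a]) (lf [.c, .a, .e, .b, .a, .b, .c, .a, .b, .c, .b, .c, .b, .a, .b, .d, .b, .c, .d, .a, .d, .b, .c, .e, .a, .c, .d, .b, .d, .a, .e, .b, .d, .b, .a, .c, .a, .a, .c, .d, .c, .a, .a, .c, .a, .b, .d, .b, .a, .c, .d, .c, .a, .e, .a, .d, .b, .d])) (nd 2007 (lf [.c, .d, .b, .d, .a, .e, .b, .d, .b, .a, .c, .a, .c, .b, .c, .a, .c, .b, .a, .c, .a, .b, .d, .b, .b, .c, .a, .c, .b, .c, .e, .a, .d, .b, .d, .c, .a, .e, .d, .c, .a, .c, .a, .d, .c, .a, .d, .c, .a, .b, .a, .c, .a, .c, .b, .a, .c, .a, .b, .e, .a]) (lf [.a, .e, .b, .d, .e, .d, .e, .a, .d, .b, .d, .a, .d, .b, .d, .e, .d, .e, .d, .b, .e, .a, .e, .a, .c, .a, .b, .c, .a, .d, .a, .c,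 .b, .a, .c, .a, .b, .c, .a, .c, .a, .b, .e])))) (nd 2012 (nd 2010 (nd 2009 (lf [.b, .d, .a, .b, .c, .b, .c, .b, .a, .b, .c, .a, .b, .c, .b, .e, .c, .d, .a, .b, .a, .c, .a, .c, .b, .d, .b, .d, .b, .c, .a, .c, .a, .b, .a, .d, .c, .a, .c, .b, .d, .b, .d, .b, .c, .a, .e, .b, .a, .b, .a, .c, .d, .c]) (lf [.a, .c, .c, .b, .d, .b, .d, .b, .c, .c, .a, .b, .a, .d, .c, .c, .b, .d, .b, .d, .b, .c, .e, .b, .d, .c, .d, .c, .b, .a, .c, .a, .b, .a, .c, .a, .c, .b, .e, .c, .d, .a, .b])) (nd 2011 (lf [.b, .d, .c, .a, .e, .b, .a, .c, .a, .b, .a, .c, .b, .a, .c, .b, .a, .c, .b, .a, .d, .a, .d, .a, .c, .d, .b, .c, .e, .a, .c, .d, .b, .d, .a, .e, .c, .b, .c, .a, .c, .b, .b, .d, .c, .d, .c, .b, .b, .c, .a, .c, .b, .c, .b, .c, .d, .c, .d, .b, .e, .a, .d]) (lf [.b, .d, .c, .d, .c, .b, .c, .b, .c, .a, .c, .b, .b, .c, .d, .c, .d, .b, .b,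 .c, .a, .c, .b, .c, .e, .a, .d, .b, .d, .c, .a, .e, .c, .b, .d, .c, .a, .d, .a, .d, .a, .b, .c, .a, .b, .c, .a, .b, .c, .a, .b, .a, .c, .a, .b, .e, .a, .c, .d, .b, .d, .a, .e]))) (nd 2014 (nd 2013 (lf [.a, .e, .c, .b, .d, .c, .a, .d, .a, .d, .a, .b, .c, .a, .b, .c, .a, .b, .c, .a, .b, .a, .c, .a, .b, .e, .a, .c, .d, .b, .d, .a, .e, .b, .d, .c, .d, .c, .b, .c, .b, .c, .a, .c, .b, .b, .c, .d, .c, .d, .b, .b, .c, .a, .c, .b, .c, .e, .a, .d, .b, .d, .c]) (lf [.d, .a, .c, .b, .a, .e, .a, .e, .b, .d, .e, .d, .e, .d, .b, .d, .b, .c, .b, .d, .b, .d, .b, .c, .b, .e, .d, .e, .d, .b, .e, .a, .e, .b, .a, .c, .b, .c, .b, .a, .b, .c, .a, .b, .d, .c])) (nd 2015 (lf [.d, .b, .d, .c, .a, .e, .b, .a, .c, .a, .b, .a, .c, .b, .a, .c, .b, .a, .c, .b, .a, .d, .a, .d, .a, .c, .d, .b, .c, .e, .a, .c, .d, .b, .d, .a, .e, .c, .b, .c, .a,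 .c, .b, .b, .d, .c, .d, .c, .b, .b, .c, .a, .c, .b, .c, .b, .c, .d, .c, .d, .b, .e, .a]) (lf [.c, .a, .d, .c, .b, .c, .b, .a, .c, .b, .a, .c, .a, .b, .a, .b, .a, .e, .a, .b, .e, .d, .c, .b, .c, .b, .c, .d, .d, .b, .c, .b, .a, .b, .c, .b, .d, .d, .c, .b, .c, .b, .c, .d, .d, .b, .c, .b, .a, .b, .c, .b, .d, .e, .b, .a, .e, .b, .d, .b, .d, .c, .a])))))) (nd 2032 (nd 2024 (nd 2020 (nd 2018 (nd 2017 (lf [.e, .a, .e, .b, .d, .e, .d, .e, .c, .b, .c, .d, .b, .d, .c, .b, .c, .d, .b, .d, .e, .d, .e, .d, .b, .e, .a, .e, .b, .d, .a, .b, .a, .c, .a, .d, .a, .b, .a, .b, .c, .b, .c, .b, .a, .c, .b, .a, .b, .a]) (lf [.a, .c, .a, .c, .a, .b, .a, .b, .d, .b, .a, .b, .a, .a, .c, .a, .c, .a, .a, .b, .a, .b, .d, .b, .a, .b, .e, .b, .a, .e, .c, .d, .b, .d, .b, .d, .a, .c, .b, .a, .b, .c, .a, .b, .c, .a, .b, .a, .e, .a, .b, .e])) (nd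 2019 (lf [.d, .c, .a, .b, .a, .c, .b, .a, .c, .a, .b, .e, .b, .c, .e, .b, .d, .c, .a, .b, .a, .c, .d, .b, .d, .c, .a, .b, .a, .c, .d, .e, .c, .b, .e, .c, .b, .c, .b, .c, .b]) (lf [.d, .c, .e, .a, .e, .b, .c, .a, .c, .d, .b, .d, .a, .c, .a, .b, .c, .b, .c, .a, .b, .c, .b, .a, .b, .a, .e, .a, .e, .a, .c, .a, .c, .a, .c, .d, .a, .d, .c, .a, .c, .a, .c, .a, .c, .d, .a]))) (nd 2022 (nd 2021 (lf [.d, .a, .c, .b, .c, .b, .a, .c, .b, .c, .a, .e, .b, .c, .e, .d, .c, .a, .b, .a, .c, .d, .c, .b, .d, .a, .b, .a, .b, .c, .d, .c, .a, .b, .a, .c, .d, .c, .b, .a, .b, .a, .d, .b, .c, .e, .c, .b, .e, .c, .b, .d, .a, .b]) (lf [.a, .d, .c, .d, .b, .a, .b, .d, .c, .d, .a, .d, .c, .d, .b, .a, .b, .d, .e, .a, .e, .a, .c, .b, .c, .b, .c, .a, .d, .a, .c, .a, .c, .a, .b, .c, .b, .c, .b, .a, .e, .a, .e, .c, .d])) (nd 2023 (lf [.e, .a, .c,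 .d, .c, .a, .b, .d, .b, .a, .c, .a, .a, .c, .d, .c, .a, .a, .c, .a, .b, .d, .b, .e, .a, .d, .b, .d, .c, .a, .e, .c, .b, .d, .a, .d, .c, .b, .d, .b, .a, .b, .c, .b, .c, .b, .a, .c, .b, .a, .b, .e, .a, .c, .d, .b, .d, .a]) (lf [.d, .b, .e, .a, .e, .b, .a, .c, .b, .c, .b, .a, .b, .c, .a, .b, .d, .c, .d, .a, .c, .b, .a, .e, .a, .e, .b, .d, .e, .d, .e, .d, .b, .d, .b, .c, .b, .d, .b, .d, .b, .c, .b, .e, .d, .e])))) (nd 2028 (nd 2026 (nd 2025 (lf [.c, .b, .d, .b, .d, .b, .c, .e, .b, .c, .b, .a, .d, .b, .d, .c, .a, .b, .c, .b, .a, .c, .b, .a, .c, .a, .e, .d, .a, .b, .a, .c, .b, .d, .b, .d, .b, .c, .a, .b, .a, .d]) (lf [.d, .a, .d, .a, .c, .d, .a, .c, .b, .a, .c, .a, .b, .c, .a, .c, .a, .e, .a, .e, .b, .d, .e, .d, .e, .a, .c, .b, .c, .a, .c, .b, .c, .e, .d, .e, .d, .b, .e, .a, .e])) (nd 2027 (lf [.c, .a, .b, .d, .b, .a,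 .c, .a, .a, .c, .d, .c, .a, .a, .c, .a, .b, .d, .b, .e, .a, .d, .b, .d, .c, .a, .e, .c, .b, .d, .a, .d, .c, .b, .d, .b, .a, .b, .c, .b, .c, .b, .a, .c, .b, .a, .b, .e, .a, .c, .d, .b, .d, .a, .e, .a, .c, .d]) (lf [.c, .b, .c, .a, .b, .c, .b, .a, .b, .a, .e, .a, .e, .a, .c, .a, .c, .a, .c, .d, .a, .d, .c, .a, .c, .a, .c, .a, .c, .d, .a, .d, .c, .e, .a, .e, .b, .c, .a, .c, .d, .b, .d, .a, .c, .a, .b]))) (nd 2030 (nd 2029 (lf [.a, .b, .d, .b, .a, .c, .a, .a, .c, .d, .c, .a, .a, .c, .a, .b, .d, .b, .e, .a, .d, .b, .d, .c, .a, .e, .c, .b, .d, .a, .d, .c, .b, .d, .b, .a, .b, .c, .b, .c, .b, .a, .c, .b, .a, .b, .e, .a, .c, .d, .b, .d, .a, .e, .a, .c, .d, .c]) (lf [.e, .d, .e, .c, .b, .c, .d, .b, .d, .c, .b, .c, .d, .b, .d, .e, .d, .e, .d, .b, .e, .a, .e, .b, .d, .a, .b, .a, .c, .a, .d, .a, .b, .a, .b, .c, .b, .c, .b,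 .a, .c, .b, .a, .b, .a, .e, .a, .e, .b, .d])) (nd 2031 (lf [.c, .d, .c, .a, .b, .a, .c, .d, .e, .c, .b, .e, .a, .c, .b, .c, .a, .b, .c, .b, .c, .a, .d, .b, .a, .d, .b, .c, .e, .b, .c, .e, .c, .b, .d, .a, .b, .a, .b, .c, .d, .c, .a, .b, .a, .c, .d, .c, .b, .a, .b, .a, .d, .b]) (lf [.a, .e, .b, .a, .c, .a, .b, .a, .c, .b, .a, .c, .b, .a, .c, .b, .a, .d, .a, .d, .a, .c, .d, .b, .c, .e, .a, .c, .d, .b, .d, .a, .e, .c, .b, .c, .a, .c, .b, .b, .d, .c, .d, .c, .b, .b, .c, .a, .c, .b, .c, .b, .c, .d, .c, .d, .b, .e, .a, .d, .b, .d, .c]))))) (nd 2040 (nd 2036 (nd 2034 (nd 2033 (lf [.a, .b, .a, .c, .b, .a, .c, .b, .a, .b, .c, .a, .d, .b, .d, .b, .d, .c, .e, .a, .b, .e, .b, .a, .b, .d, .b, .a, .b, .a, .a, .c, .a, .c, .a, .a, .b, .a, .b, .d, .b, .a, .b, .a, .c, .a, .c, .a, .e, .b, .a, .e]) (lf [.d, .a, .b, .a, .b, .c, .b,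 .c, .b, .a, .b, .a, .d, .b, .c, .b, .e, .c, .b, .e, .a, .b, .a, .b, .a, .c, .a, .b, .a, .b, .a, .c, .a, .b, .c, .a, .c, .a, .d, .b, .d, .c, .a, .d, .c, .a, .b, .e, .b, .c, .e, .c, .b])) (nd 2035 (lf [.c, .a, .c, .a, .b, .d, .c, .d, .b, .a, .c, .a, .c, .a, .b, .d, .c, .d, .b, .e, .a, .e, .c, .a, .b, .c, .a, .d, .c, .b, .c, .b, .c, .a, .b, .c, .a, .b, .c, .e, .a, .e, .a]) (lf [.c, .a, .c, .a, .c, .a, .c, .d, .a, .d, .c, .e, .a, .e, .b, .c, .a, .c, .d, .b, .d, .a, .c, .a, .b, .c, .b, .c, .a, .b, .c, .b, .a, .b, .a, .e, .a, .e, .a, .c, .a, .c, .a, .c, .d, .a, .d]))) (nd 2038 (nd 2037 (lf [.d, .c, .b, .c, .b, .c, .d, .a, .c, .a, .c, .a, .d, .c, .b, .c, .b, .c, .d, .a, .c, .a, .c, .a, .e, .b, .a, .e, .a, .b, .c, .b, .a, .c, .b, .a, .c, .b, .a, .d, .b, .d, .c, .d, .a, .d, .c, .b, .e, .a, .b, .e]) (lf [.b, .d, .e, .d,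 .e, .d, .b, .d, .b, .c, .b, .d, .b, .d, .b, .c, .b, .e, .d, .e, .d, .b, .e, .a, .e, .b, .a, .c, .b, .c, .b, .a, .b, .c, .a, .b, .d, .c, .d, .a, .c, .b, .a, .e, .a, .e])) (nd 2039 (lf [.c, .d, .a, .b, .a, .c, .b, .c, .a, .b, .a, .d, .c, .b, .e, .c, .b, .e, .a, .b, .a, .c, .a, .c, .a, .b, .c, .a, .b, .c, .a, .d, .c, .d, .a, .d, .c, .b, .e, .b, .c, .e]) (lf [.d, .c, .d, .a, .d, .c, .b, .e, .a, .b, .e, .d, .c, .b, .c, .b, .c, .d, .a, .c, .a, .c, .a, .d, .c, .b, .c, .b, .c, .d, .a, .c, .a, .c, .a, .e, .b, .a, .e, .a, .b, .c, .b, .a, .c, .b, .a, .c, .b, .a, .d, .b])))) (nd 2044 (nd 2042 (nd 2041 (lf [.a, .d, .b, .d, .c, .a, .e, .c, .b, .d, .c, .a, .d, .a, .d, .a, .b, .c, .a, .b, .c, .a, .b, .c, .a, .b, .a, .c, .a, .b, .e, .a, .c, .d, .b, .d, .a, .e, .b, .d, .c, .d, .c, .b, .c, .b, .c, .a, .c, .b, .b, .c, .d, .c, .d,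 .b, .b, .c, .a, .c, .b, .c, .e]) (lf [.d, .b, .c, .a, .d, .c, .a, .c, .b, .a, .c, .b, .a, .c, .a, .b, .a, .b, .a, .e, .a, .b, .e, .a, .c, .a, .c, .a, .d, .b, .c, .b, .a, .b, .c, .b, .d, .a, .c, .a, .c, .a, .d, .b, .c, .b, .a, .b, .c, .b, .d, .e, .b, .a, .e, .b, .a, .c, .a])) (nd 2043 (lf [.a, .b, .a, .b, .c, .a, .b, .a, .c, .b, .c, .b, .d, .a, .d, .b, .c, .a, .b, .e, .a, .c, .b, .d, .b, .d, .b, .c, .a, .a, .c, .b, .c, .b, .c, .b, .a, .a, .c, .b, .d, .b, .d, .b, .c, .a, .a, .b, .c, .b, .c, .b, .c, .a, .e]) (lf [.a, .e, .a, .c, .d, .b, .d, .a, .e, .b, .d, .c, .d, .c, .b, .b, .d, .b, .a, .c, .a, .b, .c, .d, .c, .d, .b, .a, .c, .a, .b, .d, .b, .e, .a, .d, .b, .d, .c, .a, .e, .a, .c, .d, .a, .d, .c]))) (nd 2046 (nd 2045 (lf [.b, .e, .a, .e, .b, .d, .a, .b, .a, .c, .a, .d, .a, .b, .a, .b, .c, .b, .c, .b, .a, .c, .b,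 .a, .b, .a, .e, .a, .e, .b, .d, .e, .d, .e, .c, .b, .c, .d, .b, .d, .c, .b, .c, .d, .b, .d, .e, .d, .e, .d]) (lf [.b, .e, .a, .e, .c, .d, .a, .d, .c, .a, .c, .a, .c, .a, .c, .d, .a, .d, .c, .a, .c, .a, .c, .a, .e, .a, .e, .a, .b, .a, .b, .c, .b, .a, .c, .b, .c, .b, .a, .c, .a, .d, .b, .d, .c, .a, .c])) (nd 2047 (lf [.c, .d, .b, .c, .e, .a, .c, .d, .b, .d, .a, .e, .c, .b, .c, .a, .c, .b, .b, .d, .c, .d, .c, .b, .b, .c, .a, .c, .b, .c, .b, .c, .d, .c, .d, .b, .e, .a, .d, .b, .d, .c, .a, .e, .b, .a, .c, .a, .b, .a, .c, .b, .a, .c, .b, .a, .c, .b, .a, .d, .a, .d, .a]) (lf [.b, .d, .b, .c, .e, .b, .d, .c, .d, .c, .b, .a, .c, .a, .b, .a, .c, .a, .c, .b, .e, .c, .d, .a, .b, .a, .c, .c, .b, .d, .b, .d, .b, .c, .c, .a, .b, .a, .d, .c, .c, .b, .d])))))))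
noncomputable def tc3kw_circT_c32 : ℕ → List Gen := (nd 2080 (nd 2064 (nd 2056 (nd 2052 (nd 2050 (nd 2049 (lf [.a, .c, .d, .b, .d, .a, .e, .a, .c, .d, .c, .a, .c, .b, .c, .a, .c, .b, .a, .c, .d, .c, .a, .b, .c, .a, .c, .b, .c, .e, .a, .d, .b, .d, .c, .a, .e, .b, .c, .b, .c, .a, .c, .d, .b, .a, .b, .c, .a, .c, .a, .b, .a, .c, .b, .e]) (lf [.a, .b, .a, .d, .c, .e, .c, .b, .e, .b, .d, .c, .b, .c, .a, .d, .b, .c, .a, .c, .a, .b, .c, .b, .c, .b, .e, .b, .c, .e, .d, .b, .d, .b, .d, .c, .d, .a, .b, .a, .c, .d, .b, .d, .b, .d, .c])) (nd 2051 (lf [.c, .e, .c, .b, .e, .b, .d, .c, .b, .c, .a, .d, .b, .c, .a, .c, .a, .b, .c, .b, .c, .b, .e, .b, .c, .e, .d, .b, .d, .b, .d, .c, .d, .a, .b, .a, .c, .d, .b, .d, .b, .d, .c, .a, .b, .a, .d]) (lf [.b, .a, .c, .b, .c, .a, .b, .c, .a, .b, .a, .d, .a, .c, .a, .c, .a, .b, .a, .c, .e,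 .a, .b, .e, .d, .b, .c, .b, .a, .b, .c, .b, .d, .b, .a, .b, .d, .b, .a, .b, .a, .d, .b, .c, .b, .a, .b, .c, .b, .d, .a, .b, .a, .b, .d, .b, .a, .b, .e, .b, .a, .e]))) (nd 2054 (nd 2053 (lf [.c, .a, .e, .a, .c, .d, .a, .d, .c, .a, .e, .a, .c, .d, .b, .d, .a, .e, .b, .d, .b, .a, .c, .a, .b, .d, .c, .d, .c, .b, .a, .c, .a, .b, .d, .b, .b, .c, .d, .c, .d, .b, .e, .a, .d, .b, .d]) (lf [.d, .b, .d, .a, .e, .b, .d, .b, .a, .c, .a, .c, .b, .c, .a, .c, .b, .a, .c, .a, .b, .d, .b, .b, .c, .a, .c, .b, .c, .e, .a, .d, .b, .d, .c, .a, .e, .d, .c, .a, .c, .a, .d, .c, .a, .d, .c, .a, .b, .a, .c, .a, .c, .b, .a, .c, .a, .b, .e, .a, .c])) (nd 2055 (lf [.a, .c, .b, .a, .b, .c, .a, .b, .c, .a, .b, .a, .e, .a, .b, .e, .a, .c, .a, .c, .a, .b, .a, .b, .d, .b, .a, .b, .a, .a, .c, .a, .c, .a, .a, .b, .a, .b, .d, .b, .a, .b, .e, .b, .a,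 .e, .c, .d, .b, .d, .b, .d]) (lf [.d, .b, .d, .b, .a, .b, .d, .b, .d, .c, .d, .b, .d, .b, .a, .b, .d, .e, .a, .e, .c, .d, .a, .b, .d, .c, .d, .b, .c, .b, .c, .b, .a, .c, .b, .a, .c, .b, .c, .b, .a, .b, .a, .e, .a, .e, .b, .d, .c])))) (nd 2060 (nd 2058 (nd 2057 (lf [.b, .d, .b, .d, .b, .a, .d, .c, .a, .c, .d, .a, .b, .d, .b, .d, .b, .a, .d, .c, .a, .c, .d, .a, .e, .d, .c, .e, .b, .a, .c, .d, .b, .a, .b, .d, .a, .b, .c, .a, .b, .c, .a, .c, .b, .a, .e, .c, .d, .e]) (lf [.a, .c, .b, .c, .b, .c, .b, .a, .a, .d, .c, .a, .c, .d, .a, .a, .b, .c, .b, .c, .b, .c, .a, .a, .d, .c, .a, .c, .d, .a, .e, .d, .c, .e, .c, .b, .c, .b, .a, .c, .a, .c, .b, .d, .a, .c, .b, .c, .d, .e, .c, .d, .e])) (nd 2059 (lf [.a, .e, .b, .d, .e, .d, .e, .d, .b, .d, .a, .d, .b, .d, .a, .e, .d, .e, .d, .b, .e, .a, .e, .b, .a, .c, .a, .c, .b, .a, .c,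 .a, .b, .c, .a, .d, .a, .c, .b, .a, .c, .a, .e]) (lf [.c, .a, .b, .d, .b, .c, .a, .d, .a, .b, .e, .b, .c, .e, .c, .b, .d, .a, .b, .a, .b, .c, .c, .d, .a, .b, .a, .c, .c, .b, .a, .b, .a, .d, .b, .c, .c, .a, .b, .a, .d, .c, .e, .c, .b, .e, .b, .a, .b, .c, .a]))) (nd 2062 (nd 2061 (lf [.e, .a, .d, .b, .d, .c, .a, .e, .b, .a, .c, .a, .b, .c, .a, .c, .a, .b, .a, .c, .d, .a, .c, .d, .a, .c, .a, .c, .d, .e, .a, .c, .d, .b, .d, .a, .e, .c, .b, .c, .a, .c, .b, .b, .d, .b, .a, .c, .a, .b, .c, .a, .c, .b, .c, .a, .c, .a, .b, .d, .b]) (lf [.a, .e, .b, .d, .e, .d, .e, .b, .c, .b, .a, .b, .c, .b, .a, .e, .d, .e, .d, .b, .e, .a, .e, .b, .a, .c, .b, .a, .c, .b, .a, .b, .c, .b, .c, .a, .d, .c, .a, .b, .a, .b, .e])) (nd 2063 (lf [.c, .b, .c, .b, .e, .b, .c, .e, .d, .b, .d, .b, .d, .c, .d, .a, .b, .a, .c, .d, .b, .d, .b, .d, .c,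 .a, .b, .a, .d, .c, .e, .c, .b, .e, .b, .d, .c, .b, .c, .a, .d, .b, .c, .a, .c, .a, .b]) (lf [.b, .d, .c, .a, .b, .a, .d, .c, .e, .c, .b, .e, .b, .d, .c, .b, .c, .a, .d, .b, .c, .a, .c, .a, .b, .c, .b, .c, .b, .e, .b, .c, .e, .d, .b, .d, .b, .d, .c, .d, .a, .b, .a, .c, .d, .b, .d]))))) (nd 2072 (nd 2068 (nd 2066 (nd 2065 (lf [.c, .b, .c, .d, .e, .c, .d, .e, .a, .c, .b, .c, .b, .c, .b, .a, .a, .d, .c, .a, .c, .d, .a, .a, .b, .c, .b, .c, .b, .c, .a, .a, .d, .c, .a, .c, .d, .a, .e, .d, .c, .e, .c, .b, .c, .b, .a, .c, .a, .c, .b, .d, .a]) (lf [.c, .b, .d, .a, .d, .a, .b, .e, .b, .c, .e, .c, .b, .d, .a, .b, .a, .b, .c, .d, .b, .d, .b, .d, .c, .b, .a, .b, .a, .d, .b, .c, .d, .b, .d, .b, .d, .e, .c, .b, .e, .a, .c, .b, .c, .a, .b, .a, .b, .c, .a, .b, .d])) (nd 2067 (lf [.d, .b, .a, .c, .a, .a, .c, .d, .c, .a, .a, .c,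 .a, .b, .d, .b, .e, .a, .d, .b, .d, .c, .a, .e, .c, .b, .d, .a, .d, .c, .b, .d, .b, .a, .b, .c, .b, .c, .b, .a, .c, .b, .a, .b, .e, .a, .c, .d, .b, .d, .a, .e, .a, .c, .d, .c, .a, .b]) (lf [.a, .c, .a, .d, .a, .c, .b, .c, .b, .c, .a, .e, .a, .e, .d, .b, .a, .b, .d, .c, .d, .a, .d, .c, .d, .b, .a, .b, .d, .c, .d, .a, .d, .c, .e, .a, .e, .a, .b, .c, .b, .c, .b, .a, .c]))) (nd 2070 (nd 2069 (lf [.e, .c, .b, .c, .a, .c, .b, .b, .d, .c, .d, .c, .b, .b, .c, .a, .c, .b, .c, .b, .c, .d, .c, .d, .b, .e, .a, .d, .b, .d, .c, .a, .e, .b, .a, .c, .a, .b, .a, .c, .b, .a, .c, .b, .a, .c, .b, .a, .d, .a, .d, .a, .c, .d, .b, .c, .e, .a, .c, .d, .b, .d, .a]) (lf [.b, .c, .b, .c, .a, .a, .b, .a, .d, .e, .b, .a, .b, .a, .c, .b, .c, .a, .b, .a, .b, .c, .e, .a, .c, .b, .c, .b, .c, .b, .a, .d, .a, .b, .a, .a, .b, .c])) (nd 2071 (lf [.b,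 .d, .c, .a, .e, .c, .b, .d, .c, .a, .d, .a, .d, .a, .b, .c, .a, .b, .c, .a, .b, .c, .a, .b, .a, .c, .a, .b, .e, .a, .c, .d, .b, .d, .a, .e, .b, .d, .c, .d, .c, .b, .c, .b, .c, .a, .c, .b, .b, .c, .d, .c, .d, .b, .b, .c, .a, .c, .b, .c, .e, .a, .d]) (lf [.c, .b, .c, .b, .c, .b, .d, .c, .a, .b, .a, .c, .b, .a, .c, .a, .b, .e, .b, .c, .e, .b, .d, .c, .a, .b, .a, .c, .d, .b, .d, .c, .a, .b, .a, .c, .d, .e, .c, .b, .e])))) (nd 2076 (nd 2074 (nd 2073 (lf [.c, .d, .b, .d, .a, .e, .c, .b, .c, .a, .c, .b, .b, .d, .c, .d, .c, .b, .b, .c, .a, .c, .b, .c, .b, .c, .d, .c, .d, .b, .e, .a, .d, .b, .d, .c, .a, .e, .b, .a, .c, .a, .b, .a, .c, .b, .a, .c, .b, .a, .c, .b, .a, .d, .a, .d, .a, .c, .d, .b, .c, .e, .a]) (lf [.e, .b, .a, .c, .b, .c, .b, .a, .b, .c, .a, .b, .d, .c, .d, .a, .c, .b, .a, .e, .a, .e, .b, .d, .e, .d, .e, .d,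 .b, .d, .b, .c, .b, .d, .b, .d, .b, .c, .b, .e, .d, .e, .d, .b, .e, .a])) (nd 2075 (lf [.c, .b, .a, .c, .b, .a, .c, .a, .b, .a, .b, .a, .e, .a, .b, .e, .a, .c, .a, .c, .a, .d, .b, .c, .b, .a, .b, .c, .b, .d, .a, .c, .a, .c, .a, .d, .b, .c, .b, .a, .b, .c, .b, .d, .e, .b, .a, .e, .b, .a, .c, .a, .d, .b, .c, .a, .d, .c, .a]) (lf [.c, .d, .b, .e, .a, .e, .a, .b, .a, .b, .c, .b, .c, .a, .b, .c, .a, .b, .c, .b, .c, .b, .d, .c, .d, .b, .a, .d, .c, .e, .a, .e, .d, .b, .a, .b, .d, .b, .d, .c, .d, .b, .d, .b, .a, .b, .d, .b, .d]))) (nd 2078 (nd 2077 (lf [.e, .a, .c, .d, .b, .d, .a, .e, .b, .d, .c, .d, .c, .b, .b, .d, .b, .a, .c, .a, .b, .c, .d, .c, .d, .b, .a, .c, .a, .b, .d, .b, .e, .a, .d, .b, .d, .c, .a, .e, .a, .c, .d, .a, .d, .c, .a]) (lf [.b, .d, .b, .c, .a, .a, .b, .a, .d, .a, .c, .b, .d, .b, .d, .b, .c, .a, .e,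 .a, .d, .b, .a, .b, .c, .a, .d, .c, .b, .c, .b, .a, .c, .b, .a, .c, .a, .c, .a, .b, .a, .e, .d, .a, .b, .a, .a, .c, .b, .d])) (nd 2079 (lf [.d, .c, .a, .e, .b, .a, .c, .a, .b, .a, .c, .b, .a, .c, .b, .a, .c, .b, .a, .d, .a, .d, .a, .c, .d, .b, .c, .e, .a, .c, .d, .b, .d, .a, .e, .c, .b, .c, .a, .c, .b, .b, .d, .c, .d, .c, .b, .b, .c, .a, .c, .b, .c, .b, .c, .d, .c, .d, .b, .e, .a, .d, .b]) (lf [.c, .b, .c, .d, .a, .c, .b, .a, .c, .e, .a, .e, .b, .d, .c, .d, .b, .a, .c, .a, .c, .a, .b, .d, .c, .d, .b, .a, .c, .a, .c, .a, .e, .a, .e, .c, .b, .a, .c, .b, .a, .c, .b])))))) (nd 2096 (nd 2088 (nd 2084 (nd 2082 (nd 2081 (lf [.b, .c, .a, .d, .c, .b, .c, .b, .c, .a, .b, .c, .a, .b, .c, .e, .a, .e, .a, .c, .a, .c, .a, .b, .d, .c, .d, .b, .a, .c, .a, .c, .a, .b, .d, .c, .d, .b, .e, .a, .e, .c, .a]) (lf [.d, .e, .a, .e, .b,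 .d, .e, .d, .e, .c, .b, .c, .a, .c, .b, .c, .a, .e, .d, .e, .d, .b, .e, .a, .e, .a, .c, .a, .c, .b, .a, .c, .a, .b, .c, .a, .d, .c, .a, .d, .a])) (nd 2083 (lf [.c, .d, .b, .d, .a, .e, .b, .d, .b, .a, .c, .a, .b, .d, .c, .d, .c, .b, .a, .c, .a, .b, .d, .b, .b, .c, .d, .c, .d, .b, .e, .a, .d, .b, .d, .c, .a, .e, .a, .c, .d, .a, .d, .c, .a, .e, .a]) (lf [.c, .b, .d, .a, .b, .a, .b, .c, .d, .b, .d, .b, .d, .c, .b, .a, .b, .a, .d, .b, .c, .d, .b, .d, .b, .d, .e, .c, .b, .e, .a, .c, .b, .c, .a, .b, .a, .b, .c, .a, .b, .d, .c, .b, .d, .a, .d, .a, .b, .e, .b, .c, .e]))) (nd 2086 (nd 2085 (lf [.a, .e, .d, .c, .e, .d, .c, .b, .c, .a, .d, .b, .c, .a, .c, .a, .b, .c, .b, .c, .e, .c, .d, .e, .a, .d, .c, .a, .c, .d, .a, .a, .c, .b, .c, .b, .c, .b, .a, .a, .d, .c, .a, .c, .d, .a, .a, .b, .c, .b, .c, .b, .c]) (lf [.d, .b, .d,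 .c, .d, .a, .b, .a, .c, .d, .b, .d, .b, .d, .c, .a, .b, .a, .d, .c, .e, .c, .b, .e, .b, .d, .c, .b, .c, .a, .d, .b, .c, .a, .c, .a, .b, .c, .b, .c, .b, .e, .b, .c, .e, .d, .b])) (nd 2087 (lf [.e, .a, .c, .d, .c, .a, .c, .b, .c, .a, .c, .b, .a, .c, .d, .c, .a, .b, .c, .a, .c, .b, .c, .e, .a, .d, .b, .d, .c, .a, .e, .b, .c, .b, .c, .a, .c, .d, .b, .a, .b, .c, .a, .c, .a, .b, .a, .c, .b, .e, .a, .c, .d, .b, .d, .a]) (lf [.d, .c, .d, .b, .a, .b, .d, .e, .a, .e, .a, .c, .b, .c, .b, .c, .a, .d, .a, .c, .a, .c, .a, .b, .c, .b, .c, .b, .a, .e, .a, .e, .c, .d, .a, .d, .c, .d, .b, .a, .b, .d, .c, .d, .a])))) (nd 2092 (nd 2090 (nd 2089 (lf [.a, .b, .e, .c, .d, .a, .b, .a, .c, .a, .c, .b, .c, .b, .c, .b, .a, .c, .a, .b, .a, .d, .c, .a, .b, .c, .b, .c, .b, .c, .a, .e, .c, .d, .b, .d, .b, .d, .a, .b, .c, .b, .c, .a, .b]) (lf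 [.d, .a, .e, .b, .d, .b, .a, .c, .a, .c, .b, .c, .a, .c, .b, .a, .c, .a, .b, .d, .b, .b, .c, .a, .c, .b, .c, .e, .a, .d, .b, .d, .c, .a, .e, .d, .c, .a, .c, .a, .d, .c, .a, .d, .c, .a, .b, .a, .c, .a, .c, .b, .a, .c, .a, .b, .e, .a, .c, .d, .b])) (nd 2091 (lf [.d, .b, .e, .a, .e, .a, .b, .c, .a, .d, .c, .d, .b, .a, .c, .b, .a, .b, .c, .b, .c, .a, .b, .e, .a, .e, .b, .d, .e, .d, .e, .b, .c, .b, .d, .b, .d, .b, .c, .b, .d, .b, .d, .e, .d, .e]) (lf [.b, .d, .b, .d, .b, .c, .b, .e, .d, .e, .d, .b, .e, .a, .e, .b, .a, .c, .b, .c, .b, .a, .b, .c, .a, .b, .d, .c, .d, .a, .c, .b, .a, .e, .a, .e, .b, .d, .e, .d, .e, .d, .b, .d, .b, .c]))) (nd 2094 (nd 2093 (lf [.d, .b, .d, .a, .e, .c, .b, .c, .a, .c, .b, .b, .d, .c, .d, .c, .b, .b, .c, .a, .c, .b, .c, .b, .c, .d, .c, .d, .b, .e, .a, .d, .b, .d, .c, .a, .e, .b, .a, .c, .a,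 .b, .a, .c, .b, .a, .c, .b, .a, .c, .b, .a, .d, .a, .d, .a, .c, .d, .b, .c, .e, .a, .c]) (lf [.b, .a, .e, .d, .e, .d, .b, .e, .a, .e, .b, .a, .c, .b, .a, .c, .b, .a, .b, .c, .b, .c, .a, .d, .c, .a, .b, .a, .b, .e, .a, .e, .b, .d, .e, .d, .e, .b, .c, .b, .a, .b, .c])) (nd 2095 (lf [.a, .e, .b, .a, .b, .c, .b, .a, .c, .b, .c, .b, .a, .b, .a, .c, .b, .d, .b, .c, .a, .b, .c, .a, .e, .a, .c, .d, .b, .d, .a, .e, .b, .d, .c, .d, .c, .b, .a, .c, .d, .c, .a, .b, .c, .d, .c, .d, .b, .a, .c, .d, .c, .a, .e, .a, .d, .b, .d, .c]) (lf [.c, .d, .b, .d, .b, .a, .b, .d, .e, .a, .e, .c, .d, .a, .b, .d, .c, .d, .b, .c, .b, .c, .b, .a, .c, .b, .a, .c, .b, .c, .b, .a, .b, .a, .e, .a, .e, .b, .d, .c, .d, .b, .d, .b, .a, .b, .d, .b, .d]))))) (nd 2104 (nd 2100 (nd 2098 (nd 2097 (lf [.a, .b, .c, .b, .c, .e, .c, .d, .e, .a, .d, .c, .a,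 .c, .d, .a, .a, .c, .b, .c, .b, .c, .b, .a, .a, .d, .c, .a, .c, .d, .a, .a, .b, .c, .b, .c, .b, .c, .a, .e, .d, .c, .e, .d, .c, .b, .c, .a, .d, .b, .c, .a, .c]) (lf [.a, .e, .a, .c, .d, .c, .a, .b, .d, .c, .d, .c, .b, .a, .c, .d, .c, .a, .b, .c, .d, .c, .d, .b, .e, .a, .d, .b, .d, .c, .a, .e, .a, .c, .b, .a, .c, .b, .d, .b, .c, .a, .b, .a, .b, .c, .b, .c, .a, .b, .c, .b, .a, .b, .e, .a, .c, .d, .b, .d])) (nd 2099 (lf [.a, .e, .b, .d, .e, .d, .e, .c, .b, .c, .d, .b, .d, .c, .b, .c, .d, .b, .d, .e, .d, .e, .d, .b, .e, .a, .e, .b, .d, .a, .b, .a, .c, .a, .d, .a, .b, .a, .b, .c, .b, .c, .b, .a, .c, .b, .a, .b, .a, .e]) (lf [.a, .d, .b, .d, .e, .d, .e, .d, .b, .e, .a, .e, .a, .c, .a, .b, .c, .a, .d, .a, .c, .b, .a, .c, .a, .b, .c, .a, .c, .a, .b, .e, .a, .e, .b, .d, .e, .d, .e, .a, .d, .b, .d]))) (nd 2102 (nd 2101 (lf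 [.d, .b, .d, .c, .a, .e, .a, .c, .d, .a, .d, .c, .a, .e, .a, .c, .d, .b, .d, .a, .e, .b, .d, .b, .a, .c, .a, .b, .d, .c, .d, .c, .b, .a, .c, .a, .b, .d, .b, .b, .c, .d, .c, .d, .b, .e, .a]) (lf [.b, .a, .c, .d, .b, .d, .c, .a, .b, .a, .c, .d, .b, .e, .c, .b, .e, .b, .a, .c, .a, .b, .c, .a, .b, .a, .c, .d, .b, .c, .b, .c, .b, .c, .e, .b, .c, .e, .d, .c, .a])) (nd 2103 (lf [.e, .b, .a, .c, .a, .c, .b, .a, .c, .a, .b, .c, .a, .d, .a, .c, .b, .a, .c, .a, .e, .a, .e, .b, .d, .e, .d, .e, .d, .b, .d, .a, .d, .b, .d, .a, .e, .d, .e, .d, .b, .e, .a]) (lf [.b, .d, .b, .c, .a, .e, .a, .d, .b, .a, .b, .c, .a, .d, .c, .b, .c, .b, .a, .c, .b, .a, .c, .a, .c, .a, .b, .a, .e, .d, .a, .b, .a, .a, .c, .b, .d, .b, .d, .b, .c, .a, .a, .b, .a, .d, .a, .c, .b, .d])))) (nd 2108 (nd 2106 (nd 2105 (lf [.a, .c, .a, .b, .c, .d, .c, .d, .b,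 .e, .c, .b, .d, .b, .d, .b, .c, .c, .d, .a, .b, .a, .c, .c, .b, .d, .b, .d, .b, .c, .c, .a, .b, .a, .d, .c, .e, .b, .c, .a, .c, .a, .b]) (lf [.d, .b, .c, .e, .b, .d, .c, .d, .c, .b, .a, .c, .a, .b, .a, .c, .a, .c, .b, .e, .c, .d, .a, .b, .a, .c, .c, .b, .d, .b, .d, .b, .c, .c, .a, .b, .a, .d, .c, .c, .b, .d, .b])) (nd 2107 (lf [.a, .d, .b, .d, .c, .a, .e, .b, .c, .a, .b, .a, .c, .a, .c, .b, .a, .b, .d, .c, .a, .c, .b, .c, .b, .e, .a, .c, .d, .b, .d, .a, .e, .c, .b, .c, .a, .c, .b, .a, .c, .d, .c, .a, .b, .c, .a, .c, .b, .c, .a, .c, .d, .c, .a, .e]) (lf [.d, .b, .c, .a, .c, .a, .b, .c, .b, .c, .b, .e, .b, .c, .e, .d, .b, .d, .b, .d, .c, .d, .a, .b, .a, .c, .d, .b, .d, .b, .d, .c, .a, .b, .a, .d, .c, .e, .c, .b, .e, .b, .d, .c, .b, .c, .a]))) (nd 2110 (nd 2109 (lf [.a, .c, .b, .c, .a, .b, .a, .b, .c, .a, .b, .d,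 .c, .b, .d, .a, .d, .a, .b, .e, .b, .c, .e, .c, .b, .d, .a, .b, .a, .b, .c, .d, .b, .d, .b, .d, .c, .b, .a, .b, .a, .d, .b, .c, .d, .b, .d, .b, .d, .e, .c, .b, .e]) (lf [.c, .a, .b, .c, .b, .c, .a, .d, .b, .a, .d, .b, .c, .e, .b, .c, .e, .c, .b, .d, .a, .b, .a, .b, .c, .d, .c, .a, .b, .a, .c, .d, .c, .b, .a, .b, .a, .d, .b, .c, .d, .c, .a, .b, .a, .c, .d, .e, .c, .b, .e, .a, .c, .b])) (nd 2111 (lf [.c, .b, .c, .e, .b, .c, .e, .d, .c, .a, .b, .a, .c, .d, .b, .d, .c, .a, .b, .a, .c, .d, .b, .e, .c, .b, .e, .b, .a, .c, .a, .b, .c, .a, .b, .a, .c, .d, .b, .c, .b]) (lf [.b, .d, .c, .a, .b, .a, .c, .d, .b, .e, .c, .b, .e, .b, .a, .c, .a, .b, .c, .a, .b, .a, .c, .d, .b, .c, .b, .c, .b, .c, .e, .b, .c, .e, .d, .c, .a, .b, .a, .c, .d])))))))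
noncomputable def tc3kw_circT_c33 : ℕ → List Gen := (nd 2144 (nd 2128 (nd 2120 (nd 2116 (nd 2114 (nd 2113 (lf [.c, .e, .a, .b, .e, .b, .a, .b, .d, .b, .a, .b, .a, .a, .c, .a, .c, .a, .a, .b, .a, .b, .d, .b, .a, .b, .a, .c, .a, .c, .a, .e, .b, .a, .e, .a, .b, .a, .c, .b, .a, .c, .b, .a, .b, .c, .a, .d, .b, .d, .b, .d]) (lf [.a, .c, .d, .b, .a, .b, .c, .a, .c, .a, .b, .a, .c, .b, .e, .a, .c, .d, .b, .d, .a, .e, .a, .c, .d, .c, .a, .c, .b, .c, .a, .c, .b, .a, .c, .d, .c, .a, .b, .c, .a, .c, .b, .c, .e, .a, .d, .b, .d, .c, .a, .e, .b, .c, .b, .c])) (nd 2115 (lf [.d, .b, .a, .b, .e, .b, .a, .e, .c, .d, .b, .d, .b, .d, .a, .c, .b, .a, .b, .c, .a, .b, .c, .a, .b, .a, .e, .a, .b, .e, .a, .c, .a, .c, .a, .b, .a, .b, .d, .b, .a, .b, .a, .a, .c, .a, .c, .a, .a, .b, .a, .b]) (lf [.d, .e, .b, .a, .e, .b, .d, .b, .d, .c, .a,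 .c, .a, .d, .c, .b, .c, .b, .a, .c, .b, .a, .c, .a, .b, .a, .b, .a, .e, .a, .b, .e, .d, .c, .b, .c, .b, .c, .d, .d, .b, .c, .b, .a, .b, .c, .b, .d, .d, .c, .b, .c, .b, .c, .d, .d, .b, .c, .b, .a, .b, .c, .b]))) (nd 2118 (nd 2117 (lf [.a, .c, .b, .c, .a, .c, .b, .c, .e, .d, .e, .d, .b, .e, .a, .e, .d, .a, .d, .a, .c, .d, .a, .c, .b, .a, .c, .a, .b, .c, .a, .c, .a, .e, .a, .e, .b, .d, .e, .d, .e]) (lf [.b, .a, .b, .c, .a, .b, .c, .b, .c, .b, .a, .b, .d, .b, .c, .d, .a, .d, .b, .c, .e, .a, .c, .d, .b, .d, .a, .e, .b, .d, .b, .a, .c, .a, .a, .c, .d, .c, .a, .a, .c, .a, .b, .d, .b, .a, .c, .d, .c, .a, .e, .a, .d, .b, .d, .c, .a, .e])) (nd 2119 (lf [.b, .d, .b, .d, .b, .c, .c, .a, .b, .a, .d, .c, .c, .b, .d, .b, .d, .b, .c, .e, .b, .d, .c, .d, .c, .b, .a, .c, .a, .b, .a, .c, .a, .c, .b, .e, .c, .d, .a, .b, .a, .c, .c])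 (lf [.d, .a, .d, .e, .a, .e, .b, .d, .e, .d, .e, .c, .b, .c, .a, .c, .b, .c, .a, .e, .d, .e, .d, .b, .e, .a, .e, .a, .c, .a, .c, .b, .a, .c, .a, .b, .c, .a, .d, .c, .a])))) (nd 2124 (nd 2122 (nd 2121 (lf [.e, .b, .d, .b, .a, .c, .a, .c, .b, .c, .a, .c, .b, .a, .c, .a, .b, .d, .b, .b, .c, .a, .c, .b, .c, .e, .a, .d, .b, .d, .c, .a, .e, .d, .c, .a, .c, .a, .d, .c, .a, .d, .c, .a, .b, .a, .c, .a, .c, .b, .a, .c, .a, .b, .e, .a, .c, .d, .b, .d, .a]) (lf [.c, .d, .a, .b, .d, .b, .d, .b, .e, .d, .c, .e, .a, .b, .c, .a, .c, .b, .a, .c, .b, .a, .d, .b, .a, .b, .d, .c, .a, .b, .e, .c, .d, .e, .a, .d, .c, .a, .c, .d, .a, .b, .d, .b, .d, .b, .a, .d, .c, .a])) (nd 2123 (lf [.c, .e, .a, .e, .b, .d, .c, .d, .b, .a, .c, .a, .c, .a, .b, .d, .c, .d, .b, .a, .c, .a, .c, .a, .e, .a, .e, .c, .b, .a, .c, .b, .a, .c, .b, .c, .b, .c,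 .d, .a, .c, .b, .a]) (lf [.d, .a, .e, .b, .d, .c, .d, .c, .b, .c, .b, .c, .a, .c, .b, .b, .c, .d, .c, .d, .b, .b, .c, .a, .c, .b, .c, .e, .a, .d, .b, .d, .c, .a, .e, .c, .b, .d, .c, .a, .d, .a, .d, .a, .b, .c, .a, .b, .c, .a, .b, .c, .a, .b, .a, .c, .a, .b, .e, .a, .c, .d, .b]))) (nd 2126 (nd 2125 (lf [.e, .a, .c, .a, .b, .c, .a, .d, .a, .c, .b, .a, .c, .a, .b, .c, .a, .c, .a, .b, .e, .a, .e, .b, .d, .e, .d, .e, .a, .d, .b, .d, .a, .d, .b, .d, .e, .d, .e, .d, .b, .e, .a]) (lf [.d, .b, .d, .e, .d, .e, .d, .b, .e, .a, .e, .a, .b, .c, .a, .d, .c, .d, .b, .a, .c, .b, .a, .b, .c, .b, .c, .a, .b, .e, .a, .e, .b, .d, .e, .d, .e, .b, .c, .b, .d, .b, .d, .b, .c, .b])) (nd 2127 (lf [.b, .d, .c, .a, .e, .b, .a, .c, .a, .b, .c, .a, .c, .a, .b, .a, .c, .d, .a, .c, .d, .a, .c, .a, .c, .d, .e, .a, .c, .d, .b, .d, .a, .e, .c,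 .b, .c, .a, .c, .b, .b, .d, .b, .a, .c, .a, .b, .c, .a, .c, .b, .c, .a, .c, .a, .b, .d, .b, .e, .a, .d]) (lf [.c, .a, .b, .e, .b, .c, .e, .b, .d, .c, .a, .b, .a, .c, .d, .b, .d, .c, .a, .b, .a, .c, .d, .e, .c, .b, .e, .c, .b, .c, .b, .c, .b, .d, .c, .a, .b, .a, .c, .b, .a]))))) (nd 2136 (nd 2132 (nd 2130 (nd 2129 (lf [.c, .a, .e, .b, .a, .c, .a, .b, .c, .a, .c, .a, .b, .a, .c, .d, .a, .c, .d, .a, .c, .a, .c, .d, .e, .a, .c, .d, .b, .d, .a, .e, .c, .b, .c, .a, .c, .b, .b, .d, .b, .a, .c, .a, .b, .c, .a, .c, .b, .c, .a, .c, .a, .b, .d, .b, .e, .a, .d, .b, .d]) (lf [.c, .b, .d, .a, .c, .b, .c, .d, .e, .c, .d, .e, .a, .c, .b, .c, .b, .c, .b, .a, .a, .d, .c, .a, .c, .d, .a, .a, .b, .c, .b, .c, .b, .c, .a, .a, .d, .c, .a, .c, .d, .a, .e, .d, .c, .e, .c, .b, .c, .b, .a, .c, .a])) (nd 2131 (lf [.b, .e, .b, .a, .e, .c,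 .d, .b, .d, .b, .d, .a, .c, .b, .a, .b, .c, .a, .b, .c, .a, .b, .a, .e, .a, .b, .e, .a, .c, .a, .c, .a, .b, .a, .b, .d, .b, .a, .b, .a, .a, .c, .a, .c, .a, .a, .b, .a, .b, .d, .b, .a]) (lf [.b, .c, .b, .c, .a, .b, .c, .a, .b, .c, .a, .b, .a, .b, .a, .e, .a, .e, .a, .c, .a, .c, .a, .d, .b, .a, .b, .d, .a, .c, .a, .c, .a, .d, .b, .a, .b, .d, .e, .a, .e, .b, .a, .b, .a, .c, .b, .a, .b, .d]))) (nd 2134 (nd 2133 (lf [.b, .c, .a, .c, .a, .b, .d, .b, .c, .a, .d, .a, .b, .e, .b, .c, .e, .c, .b, .d, .a, .b, .a, .b, .c, .c, .d, .a, .b, .a, .c, .c, .b, .a, .b, .a, .d, .b, .c, .c, .a, .b, .a, .d, .c, .e, .c, .b, .e, .b, .a]) (lf [.c, .b, .c, .a, .e, .b, .c, .e, .d, .c, .a, .b, .a, .c, .d, .c, .b, .d, .a, .b, .a, .b, .c, .d, .c, .a, .b, .a, .c, .d, .c, .b, .a, .b, .a, .d, .b, .c, .e, .c, .b, .e, .c, .b, .d, .a, .b, .d, .a,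 .c, .b, .c, .b, .a])) (nd 2135 (lf [.e, .a, .d, .b, .d, .c, .a, .e, .a, .c, .b, .a, .c, .b, .d, .b, .c, .a, .b, .a, .b, .c, .b, .c, .a, .b, .c, .b, .a, .b, .e, .a, .c, .d, .b, .d, .a, .e, .a, .c, .d, .c, .a, .b, .d, .c, .d, .c, .b, .a, .c, .d, .c, .a, .b, .c, .d, .c, .d, .b]) (lf [.a, .b, .c, .b, .c, .a, .d, .b, .a, .d, .b, .c, .e, .b, .c, .e, .c, .b, .d, .a, .b, .a, .b, .c, .d, .c, .a, .b, .a, .c, .d, .c, .b, .a, .b, .a, .d, .b, .c, .d, .c, .a, .b, .a, .c, .d, .e, .c, .b, .e, .a, .c, .b, .c])))) (nd 2140 (nd 2138 (nd 2137 (lf [.a, .c, .a, .a, .b, .a, .b, .d, .b, .a, .b, .e, .b, .a, .e, .c, .d, .b, .d, .b, .d, .a, .c, .b, .a, .b, .c, .a, .b, .c, .a, .b, .a, .e, .a, .b, .e, .a, .c, .a, .c, .a, .b, .a, .b, .d, .b, .a, .b, .a, .a, .c]) (lf [.b, .a, .b, .c, .b, .a, .e, .d, .e, .d, .b, .e, .a, .e, .b, .a, .c, .b, .a,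 .c, .b, .a, .b, .c, .b, .c, .a, .d, .c, .a, .b, .a, .b, .e, .a, .e, .b, .d, .e, .d, .e, .b, .c])) (nd 2139 (lf [.d, .c, .b, .c, .e, .d, .e, .d, .b, .e, .a, .e, .a, .b, .a, .b, .c, .a, .b, .c, .b, .c, .b, .a, .b, .a, .d, .a, .c, .a, .b, .a, .d, .b, .e, .a, .e, .b, .d, .e, .d, .e, .d, .b, .d, .c, .b, .c, .d, .b]) (lf [.c, .d, .b, .d, .a, .e, .c, .b, .c, .a, .c, .b, .a, .c, .d, .c, .a, .b, .c, .a, .c, .b, .c, .a, .c, .d, .c, .a, .e, .a, .d, .b, .d, .c, .a, .e, .b, .c, .a, .b, .a, .c, .a, .c, .b, .a, .b, .d, .c, .a, .c, .b, .c, .b, .e, .a]))) (nd 2142 (nd 2141 (lf [.a, .c, .a, .c, .a, .d, .b, .a, .b, .d, .a, .c, .a, .c, .a, .d, .b, .a, .b, .d, .e, .a, .e, .b, .a, .b, .a, .c, .b, .a, .b, .d, .b, .c, .b, .c, .a, .b, .c, .a, .b, .c, .a, .b, .a, .b, .a, .e, .a, .e]) (lf [.b, .e, .b, .c, .e, .c, .d, .a, .b, .a, .c, .c,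 .b, .d, .a, .b, .a, .b, .c, .c, .a, .b, .a, .d, .c, .c, .b, .a, .b, .a, .d, .b, .c, .e, .c, .b, .e, .b, .a, .d, .a, .c, .b, .d, .b, .a, .c, .a, .c, .b, .a])) (nd 2143 (lf [.d, .b, .d, .e, .c, .b, .e, .a, .b, .c, .a, .b, .a, .b, .a, .c, .b, .a, .c, .b, .c, .d, .b, .d, .c, .d, .a, .b, .e, .b, .c, .e, .d, .c, .a, .b, .a, .c, .d, .d, .b, .d, .b, .d, .d, .c, .a, .b, .a, .c, .d, .d, .b]) (lf [.c, .a, .e, .a, .c, .d, .b, .d, .a, .e, .b, .d, .c, .d, .c, .b, .b, .d, .b, .a, .c, .a, .b, .c, .d, .c, .d, .b, .a, .c, .a, .b, .d, .b, .e, .a, .d, .b, .d, .c, .a, .e, .a, .c, .d, .a, .d])))))) (nd 2160 (nd 2152 (nd 2148 (nd 2146 (nd 2145 (lf [.d, .b, .d, .b, .c, .b, .d, .b, .d, .b, .c, .b, .e, .d, .e, .d, .b, .e, .a, .e, .b, .a, .c, .b, .c, .b, .a, .b, .c, .a, .b, .d, .c, .d, .a, .c, .b, .a, .e, .a, .e, .b, .d, .e, .d, .e]) (lf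 [.a, .e, .a, .b, .e, .a, .c, .a, .c, .a, .b, .a, .b, .d, .b, .a, .b, .a, .a, .c, .a, .c, .a, .a, .b, .a, .b, .d, .b, .a, .b, .e, .b, .a, .e, .c, .d, .b, .d, .b, .d, .a, .c, .b, .a, .b, .c, .a, .b, .c, .a, .b])) (nd 2147 (lf [.b, .c, .b, .c, .b, .c, .a, .e, .c, .b, .a, .b, .a, .c, .b, .c, .a, .b, .a, .b, .e, .d, .a, .b, .a, .a, .c, .b, .c, .b, .c, .b, .a, .a, .b, .a, .d, .a]) (lf [.d, .b, .d, .c, .b, .c, .d, .b, .d, .c, .b, .c, .e, .d, .e, .d, .b, .e, .a, .e, .a, .b, .a, .b, .c, .a, .b, .c, .b, .c, .b, .a, .b, .a, .d, .a, .c, .a, .b, .a, .d, .b, .e, .a, .e, .b, .d, .e, .d, .e]))) (nd 2150 (nd 2149 (lf [.b, .d, .b, .d, .e, .d, .e, .d, .b, .e, .a, .e, .a, .b, .c, .a, .d, .c, .d, .b, .a, .c, .b, .a, .b, .c, .b, .c, .a, .b, .e, .a, .e, .b, .d, .e, .d, .e, .b, .c, .b, .d, .b, .d, .b, .c]) (lf [.c, .b, .e, .d, .e, .d,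 .b, .e, .a, .e, .b, .a, .c, .b, .c, .b, .a, .b, .c, .a, .b, .d, .c, .d, .a, .c, .b, .a, .e, .a, .e, .b, .d, .e, .d, .e, .d, .b, .d, .b, .c, .b, .d, .b, .d, .b])) (nd 2151 (lf [.b, .a, .b, .c, .b, .e, .d, .e, .d, .b, .e, .a, .e, .b, .a, .b, .a, .c, .d, .a, .c, .b, .c, .b, .a, .b, .c, .a, .b, .c, .a, .b, .e, .a, .e, .b, .d, .e, .d, .e, .a, .b, .c]) (lf [.b, .d, .b, .a, .b, .c, .b, .c, .b, .c, .a, .e, .d, .c, .e, .d, .a, .b, .a, .e, .c, .d, .e, .b, .d, .b, .d, .b, .a, .c, .b, .c, .b, .c, .b, .a, .b, .d])))) (nd 2156 (nd 2154 (nd 2153 (lf [.d, .b, .d, .c, .a, .e, .b, .c, .a, .b, .a, .c, .a, .c, .b, .a, .b, .d, .c, .a, .c, .b, .c, .b, .e, .a, .c, .d, .b, .d, .a, .e, .c, .b, .c, .a, .c, .b, .a, .c, .d, .c, .a, .b, .c, .a, .c, .b, .c, .a, .c, .d, .c, .a, .e, .a]) (lf [.c, .a, .b, .a, .c, .d, .b, .e, .c, .b, .e, .b, .a,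 .c, .a, .b, .c, .a, .b, .a, .c, .d, .b, .c, .b, .c, .b, .c, .e, .b, .c, .e, .d, .c, .a, .b, .a, .c, .d, .b, .d])) (nd 2155 (lf [.b, .c, .b, .a, .e, .d, .e, .d, .b, .e, .a, .e, .b, .a, .c, .b, .a, .c, .b, .a, .b, .c, .b, .c, .a, .d, .c, .a, .b, .a, .b, .e, .a, .e, .b, .d, .e, .d, .e, .b, .c, .b, .a]) (lf [.b, .c, .d, .a, .d, .c, .d, .a, .c, .b, .a, .c, .b, .a, .c, .a, .c, .a, .b, .a, .e, .b, .c, .e, .b, .c, .d, .a, .b, .a, .c, .b, .c, .a, .b, .a, .d, .c, .e, .c, .b, .e]))) (nd 2158 (nd 2157 (lf [.c, .a, .c, .d, .a, .d, .c, .a, .c, .a, .c, .a, .c, .d, .a, .d, .c, .e, .a, .e, .b, .c, .a, .c, .d, .b, .d, .a, .c, .a, .b, .c, .b, .c, .a, .b, .c, .b, .a, .b, .a, .e, .a, .e, .a, .c, .a]) (lf [.d, .a, .b, .a, .b, .c, .c, .a, .b, .a, .d, .c, .c, .b, .a, .b, .a, .d, .b, .c, .e, .c, .b, .e, .b, .a, .d, .a, .c, .b, .d, .b,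 .a, .c, .a, .c, .b, .a, .b, .e, .b, .c, .e, .c, .d, .a, .b, .a, .c, .c, .b])) (nd 2159 (lf [.c, .d, .b, .d, .a, .e, .a, .c, .d, .c, .a, .c, .b, .c, .a, .c, .b, .a, .c, .d, .c, .a, .b, .c, .a, .c, .b, .c, .e, .a, .d, .b, .d, .c, .a, .e, .b, .c, .b, .c, .a, .c, .d, .b, .a, .b, .c, .a, .c, .a, .b, .a, .c, .b, .e, .a]) (lf [.b, .c, .e, .a, .e, .a, .c, .a, .c, .a, .b, .d, .c, .d, .b, .a, .c, .a, .c, .a, .b, .d, .c, .d, .b, .e, .a, .e, .c, .a, .b, .c, .a, .d, .c, .b, .c, .b, .c, .a, .b, .c, .a]))))) (nd 2168 (nd 2164 (nd 2162 (nd 2161 (lf [.d, .e, .d, .e, .d, .b, .e, .a, .e, .a, .b, .c, .a, .d, .c, .d, .b, .a, .c, .b, .a, .b, .c, .b, .c, .a, .b, .e, .a, .e, .b, .d, .e, .d, .e, .b, .c, .b, .d, .b, .d, .b, .c, .b, .d, .b]) (lf [.c, .b, .c, .b, .a, .b, .a, .d, .b, .c, .b, .e, .c, .b, .e, .a, .b, .a, .b, .a, .c, .a, .b,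 .a, .b, .a, .c, .a, .b, .c, .a, .c, .a, .d, .b, .d, .c, .a, .d, .c, .a, .b, .e, .b, .c, .e, .c, .b, .d, .a, .b, .a, .b])) (nd 2163 (lf [.a, .b, .a, .c, .b, .e, .a, .c, .d, .b, .d, .a, .e, .a, .c, .d, .c, .a, .c, .b, .c, .a, .c, .b, .a, .c, .d, .c, .a, .b, .c, .a, .c, .b, .c, .e, .a, .d, .b, .d, .c, .a, .e, .b, .c, .b, .c, .a, .c, .d, .b, .a, .b, .c, .a, .c]) (lf [.b, .d, .a, .e, .d, .e, .d, .b, .e, .a, .e, .b, .a, .c, .a, .c, .b, .a, .c, .a, .b, .c, .a, .d, .a, .c, .b, .a, .c, .a, .e, .a, .e, .b, .d, .e, .d, .e, .d, .b, .d, .a, .d]))) (nd 2166 (nd 2165 (lf [.b, .c, .a, .b, .c, .b, .c, .a, .d, .b, .a, .d, .b, .c, .e, .b, .c, .e, .c, .b, .d, .a, .b, .a, .b, .c, .d, .c, .a, .b, .a, .c, .d, .c, .b, .a, .b, .a, .d, .b, .c, .d, .c, .a, .b, .a, .c, .d, .e, .c, .b, .e, .a, .c]) (lf [.c, .b, .a, .c, .a, .c, .a, .d, .a,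 .c, .b, .c, .b, .c, .a, .e, .a, .e, .d, .b, .a, .b, .d, .c, .d, .a, .d, .c, .d, .b, .a, .b, .d, .c, .d, .a, .d, .c, .e, .a, .e, .a, .b, .c, .b])) (nd 2167 (lf [.b, .c, .a, .b, .c, .a, .b, .c, .e, .a, .e, .a, .c, .a, .c, .a, .b, .d, .c, .d, .b, .a, .c, .a, .c, .a, .b, .d, .c, .d, .b, .e, .a, .e, .c, .a, .b, .c, .a, .d, .c, .b, .c]) (lf [.d, .b, .d, .c, .b, .c, .d, .b, .d, .e, .d, .e, .d, .b, .e, .a, .e, .b, .d, .a, .b, .a, .c, .a, .d, .a, .b, .a, .b, .c, .b, .c, .b, .a, .c, .b, .a, .b, .a, .e, .a, .e, .b, .d, .e, .d, .e, .c, .b, .c])))) (nd 2172 (nd 2170 (nd 2169 (lf [.a, .b, .a, .b, .a, .c, .a, .b, .c, .a, .b, .c, .b, .c, .d, .a, .c, .a, .c, .d, .b, .d, .b, .e, .a, .b, .e, .d, .b, .c, .b, .a, .b, .c, .b, .d, .d, .c, .b, .c, .b, .c, .d, .d, .b, .c, .b, .a, .b, .c, .b, .d, .d, .c, .b, .c, .b, .c, .d, .e, .b, .a,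 .e]) (lf [.c, .a, .c, .d, .a, .d, .c, .e, .a, .e, .b, .c, .a, .c, .d, .b, .d, .a, .c, .a, .b, .c, .b, .c, .a, .b, .c, .b, .a, .b, .a, .e, .a, .e, .a, .c, .a, .c, .a, .c, .d, .a, .d, .c, .a, .c, .a])) (nd 2171 (lf [.b, .d, .b, .c, .a, .b, .c, .b, .c, .b, .c, .a, .e, .b, .d, .c, .d, .a, .b, .a, .c, .b, .c, .b, .c, .e, .c, .b, .d, .b, .d, .b, .c, .a, .c, .b, .c, .b, .c, .b, .a, .c, .b, .d]) (lf [.c, .b, .a, .b, .a, .e, .a, .c, .b, .c, .b, .c, .b, .a, .a, .c, .b, .d, .b, .d, .b, .c, .a, .a, .b, .c, .b, .c, .b, .c, .a, .a, .c, .b, .d, .b, .d, .b, .c, .a, .e, .b, .a, .c, .b, .d, .a, .d, .b, .c, .b, .c, .a, .b, .a]))) (nd 2174 (nd 2173 (lf [.c, .b, .a, .c, .a, .c, .b, .d, .a, .c, .b, .c, .d, .b, .e, .b, .c, .e, .c, .d, .a, .b, .a, .c, .d, .b, .d, .b, .d, .c, .a, .b, .a, .d, .c, .d, .b, .d, .b, .d, .e, .c, .b, .e, .b,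 .c, .b]) (lf [.a, .e, .a, .e, .d, .b, .a, .b, .d, .c, .d, .a, .d, .c, .d, .b, .a, .b, .d, .c, .d, .a, .d, .c, .e, .a, .e, .a, .b, .c, .b, .c, .b, .a, .c, .a, .c, .a, .d, .a, .c, .b, .c, .b, .c])) (nd 2175 (lf [.c, .b, .c, .b, .a, .b, .a, .d, .b, .c, .e, .c, .b, .e, .b, .a, .c, .d, .a, .c, .d, .b, .d, .a, .c, .a, .c, .b, .a, .c, .a, .b, .a, .b, .a, .c, .a, .b, .a, .b, .a, .e, .b, .c, .e, .b, .c, .b, .d, .a, .b, .a, .b]) (lf [.e, .d, .a, .d, .a, .c, .d, .a, .c, .b, .a, .c, .a, .b, .c, .a, .c, .a, .e, .a, .e, .b, .d, .e, .d, .e, .a, .c, .b, .c, .a, .c, .b, .c, .e, .d, .e, .d, .b, .e, .a])))))))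
noncomputable def tc3kw_circT_c34 : ℕ → List Gen := (nd 2208 (nd 2192 (nd 2184 (nd 2180 (nd 2178 (nd 2177 (lf [.c, .b, .a, .b, .c, .a, .b, .c, .a, .b, .a, .e, .a, .b, .e, .a, .c, .a, .c, .a, .b, .a, .b, .d, .b, .a, .b, .a, .a, .c, .a, .c, .a, .a, .b, .a, .b, .d, .b, .a, .b, .e, .b, .a, .e, .c, .d, .b, .d, .b, .d, .a]) (lf [.b, .a, .c, .b, .c, .a, .b, .a, .d, .c, .e, .c, .b, .e, .b, .c, .d, .a, .d, .c, .d, .a, .c, .b, .a, .c, .b, .a, .c, .a, .c, .a, .b, .a, .e, .b, .c, .e, .b, .c, .d, .a])) (nd 2179 (lf [.c, .b, .c, .d, .b, .d, .c, .b, .c, .d, .b, .d, .e, .d, .e, .d, .b, .e, .a, .e, .b, .d, .a, .b, .a, .c, .a, .d, .a, .b, .a, .b, .c, .b, .c, .b, .a, .c, .b, .a, .b, .a, .e, .a, .e, .b, .d, .e, .d, .e]) (lf [.c, .b, .c, .a, .b, .c, .b, .c, .a, .d, .b, .a, .d, .b, .c, .e, .b, .c, .e, .c, .b, .d, .a, .b, .a, .b, .c,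 .d, .c, .a, .b, .a, .c, .d, .c, .b, .a, .b, .a, .d, .b, .c, .d, .c, .a, .b, .a, .c, .d, .e, .c, .b, .e, .a]))) (nd 2182 (nd 2181 (lf [.e, .a, .d, .b, .d, .c, .a, .e, .b, .c, .b, .c, .a, .c, .d, .b, .a, .b, .c, .a, .c, .a, .b, .a, .c, .b, .e, .a, .c, .d, .b, .d, .a, .e, .a, .c, .d, .c, .a, .c, .b, .c, .a, .c, .b, .a, .c, .d, .c, .a, .b, .c, .a, .c, .b, .c]) (lf [.c, .a, .c, .a, .b, .d, .b, .c, .a, .d, .a, .b, .e, .b, .c, .e, .c, .b, .d, .a, .b, .a, .b, .c, .c, .d, .a, .b, .a, .c, .c, .b, .a, .b, .a, .d, .b, .c, .c, .a, .b, .a, .d, .c, .e, .c, .b, .e, .b, .a, .b])) (nd 2183 (lf [.a, .c, .b, .a, .c, .b, .a, .d, .b, .a, .b, .d, .c, .a, .b, .e, .c, .d, .e, .a, .d, .c, .a, .c, .d, .a, .b, .d, .b, .d, .b, .a, .d, .c, .a, .c, .d, .a, .b, .d, .b, .d, .b, .e, .d, .c, .e, .a, .b, .c]) (lf [.c, .a, .e, .b, .a, .c, .a, .b,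 .a, .c, .b, .a, .c, .b, .a, .c, .b, .a, .d, .a, .d, .a, .c, .d, .b, .c, .e, .a, .c, .d, .b, .d, .a, .e, .c, .b, .c, .a, .c, .b, .b, .d, .c, .d, .c, .b, .b, .c, .a, .c, .b, .c, .b, .c, .d, .c, .d, .b, .e, .a, .d, .b, .d])))) (nd 2188 (nd 2186 (nd 2185 (lf [.b, .c, .b, .c, .b, .a, .c, .a, .c, .a, .d, .a, .c, .b, .c, .b, .c, .a, .e, .a, .e, .d, .b, .a, .b, .d, .c, .d, .a, .d, .c, .d, .b, .a, .b, .d, .c, .d, .a, .d, .c, .e, .a, .e, .a]) (lf [.c, .b, .c, .b, .a, .b, .d, .b, .d, .b, .a, .b, .c, .b, .c, .b, .c, .a, .e, .d, .c, .e, .d, .a, .b, .a, .e, .c, .d, .e, .b, .d, .b, .d, .b, .a, .c, .b])) (nd 2187 (lf [.c, .a, .b, .a, .b, .d, .b, .a, .b, .a, .a, .c, .a, .c, .a, .a, .b, .a, .b, .d, .b, .a, .b, .e, .b, .a, .e, .c, .d, .b, .d, .b, .d, .a, .c, .b, .a, .b, .c, .a, .b, .c, .a, .b, .a, .e, .a, .b, .e, .a, .c, .a]) (lf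 [.b, .d, .b, .d, .b, .c, .c, .a, .b, .a, .d, .c, .e, .b, .c, .a, .c, .a, .b, .a, .c, .a, .b, .c, .d, .c, .d, .b, .e, .c, .b, .d, .b, .d, .b, .c, .c, .d, .a, .b, .a, .c, .c]))) (nd 2190 (nd 2189 (lf [.a, .e, .b, .a, .e, .a, .b, .a, .c, .b, .a, .c, .b, .a, .b, .c, .a, .d, .b, .d, .b, .d, .c, .e, .a, .b, .e, .b, .a, .b, .d, .b, .a, .b, .a, .a, .c, .a, .c, .a, .a, .b, .a, .b, .d, .b, .a, .b, .a, .c, .a, .c]) (lf [.d, .b, .d, .c, .d, .b, .e, .a, .e, .a, .b, .a, .b, .c, .b, .c, .a, .b, .c, .a, .b, .c, .b, .c, .b, .d, .c, .d, .b, .a, .d, .c, .e, .a, .e, .d, .b, .a, .b, .d, .b, .d, .c, .d, .b, .d, .b, .a, .b])) (nd 2191 (lf [.a, .c, .a, .d, .a, .b, .a, .c, .b, .a, .c, .b, .c, .a, .b, .e, .a, .b, .e, .b, .a, .b, .d, .b, .a, .b, .a, .d, .b, .c, .b, .a, .b, .c, .b, .d, .a, .b, .a, .b, .d, .b, .a, .b, .d, .b, .c, .b, .a, .b,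 .c, .b, .d, .e, .b, .a, .e, .c, .a, .b, .a, .c]) (lf [.d, .b, .d, .b, .c, .a, .d, .a, .b, .a, .a, .c, .b, .d, .b, .d, .b, .c, .a, .a, .b, .a, .d, .e, .a, .b, .a, .c, .a, .c, .a, .b, .c, .a, .b, .c, .b, .c, .d, .a, .c, .b, .a, .b, .d, .a, .e, .a, .c, .b]))))) (nd 2200 (nd 2196 (nd 2194 (nd 2193 (lf [.a, .d, .c, .a, .b, .a, .c, .a, .c, .b, .a, .c, .a, .b, .e, .a, .c, .d, .b, .d, .a, .e, .b, .d, .b, .a, .c, .a, .c, .b, .c, .a, .c, .b, .a, .c, .a, .b, .d, .b, .b, .c, .a, .c, .b, .c, .e, .a, .d, .b, .d, .c, .a, .e, .d, .c, .a, .c, .a, .d, .c]) (lf [.a, .b, .c, .a, .e, .a, .c, .d, .b, .d, .a, .e, .b, .d, .c, .d, .c, .b, .a, .c, .d, .c, .a, .b, .c, .d, .c, .d, .b, .a, .c, .d, .c, .a, .e, .a, .d, .b, .d, .c, .a, .e, .b, .a, .b, .c, .b, .a, .c, .b, .c, .b, .a, .b, .a, .c, .b, .d, .b, .c])) (nd 2195 (lf [.c, .b, .d, .b,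 .d, .b, .c, .b, .d, .b, .d, .e, .d, .e, .d, .b, .e, .a, .e, .a, .b, .c, .a, .d, .c, .d, .b, .a, .c, .b, .a, .b, .c, .b, .c, .a, .b, .e, .a, .e, .b, .d, .e, .d, .e, .b]) (lf [.c, .e, .c, .b, .e, .b, .a, .d, .a, .d, .b, .c, .d, .b, .a, .c, .b, .a, .b, .a, .c, .b, .c, .a, .e, .b, .c, .e, .d, .b, .d, .b, .d, .c, .b, .d, .a, .b, .a, .b, .c, .d, .b, .d, .b, .d, .c, .b, .a, .b, .a, .d, .b]))) (nd 2198 (nd 2197 (lf [.b, .d, .b, .c, .a, .d, .a, .b, .e, .b, .c, .e, .c, .b, .d, .a, .b, .a, .b, .c, .c, .d, .a, .b, .a, .c, .c, .b, .a, .b, .a, .d, .b, .c, .c, .a, .b, .a, .d, .c, .e, .c, .b, .e, .b, .a, .b, .c, .a, .c, .a]) (lf [.b, .a, .d, .a, .b, .a, .a, .b, .c, .b, .c, .b, .c, .a, .a, .b, .a, .d, .e, .b, .a, .b, .a, .c, .b, .c, .a, .b, .a, .b, .c, .e, .a, .c, .b, .c, .b, .c])) (nd 2199 (lf [.b, .c, .e, .a, .c, .d, .b, .d,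 .a, .e, .b, .d, .b, .a, .c, .a, .a, .c, .d, .c, .a, .a, .c, .a, .b, .d, .b, .a, .c, .d, .c, .a, .e, .a, .d, .b, .d, .c, .a, .e, .b, .a, .b, .c, .a, .b, .c, .b, .c, .b, .a, .b, .d, .b, .c, .d, .a, .d]) (lf [.d, .b, .d, .a, .b, .c, .a, .b, .c, .a, .b, .c, .b, .a, .e, .a, .b, .e, .a, .c, .a, .c, .a, .d, .c, .b, .c, .b, .c, .d, .a, .c, .a, .c, .a, .d, .c, .b, .c, .b, .c, .d, .e, .b, .a, .e, .b, .c, .d, .a, .d, .c])))) (nd 2204 (nd 2202 (nd 2201 (lf [.b, .c, .d, .b, .d, .e, .d, .e, .d, .b, .e, .a, .e, .b, .d, .a, .b, .a, .c, .a, .d, .a, .b, .a, .b, .c, .b, .c, .b, .a, .c, .b, .a, .b, .a, .e, .a, .e, .b, .d, .e, .d, .e, .c, .b, .c, .d, .b, .d, .c]) (lf [.d, .a, .d, .c, .a, .c, .a, .c, .a, .c, .d, .a, .d, .c, .a, .c, .a, .c, .a, .e, .a, .e, .a, .b, .a, .b, .c, .b, .a, .c, .b, .c, .b, .a, .c, .a, .d, .b, .d, .c, .a, .c,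 .b, .e, .a, .e, .c])) (nd 2203 (lf [.c, .d, .b, .a, .c, .a, .c, .a, .e, .a, .e, .c, .b, .a, .c, .b, .a, .c, .b, .c, .b, .c, .d, .a, .c, .b, .a, .c, .e, .a, .e, .b, .d, .c, .d, .b, .a, .c, .a, .c, .a, .b, .d]) (lf [.d, .b, .a, .c, .a, .c, .a, .b, .d, .c, .d, .b, .a, .c, .a, .c, .a, .e, .a, .e, .c, .b, .a, .c, .b, .a, .c, .b, .c, .b, .c, .d, .a, .c, .b, .a, .c, .e, .a, .e, .b, .d, .c]))) (nd 2206 (nd 2205 (lf [.c, .b, .c, .e, .d, .e, .d, .b, .e, .a, .e, .a, .b, .a, .b, .c, .a, .b, .c, .b, .c, .b, .a, .b, .a, .d, .a, .c, .a, .b, .a, .d, .b, .e, .a, .e, .b, .d, .e, .d, .e, .d, .b, .d, .c, .b, .c, .d, .b, .d]) (lf [.d, .c, .d, .a, .b, .e, .b, .c, .e, .d, .c, .a, .b, .a, .c, .d, .d, .b, .d, .b, .d, .d, .c, .a, .b, .a, .c, .d, .d, .b, .d, .b, .d, .e, .c, .b, .e, .a, .b, .c, .a, .b, .a, .b, .a, .c, .b, .a, .c, .b, .c,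 .d, .b])) (nd 2207 (lf [.a, .c, .b, .c, .b, .a, .c, .b, .c, .a, .e, .b, .c, .e, .d, .c, .a, .b, .a, .c, .d, .c, .b, .d, .a, .b, .a, .b, .c, .d, .c, .a, .b, .a, .c, .d, .c, .b, .a, .b, .a, .d, .b, .c, .e, .c, .b, .e, .c, .b, .d, .a, .b, .d]) (lf [.b, .a, .b, .c, .b, .c, .b, .a, .d, .b, .c, .d, .c, .a, .b, .a, .b, .e, .a, .c, .b, .d, .b, .d, .b, .c, .a, .c, .d, .a, .b, .a, .c, .a, .c, .b, .d, .b, .d, .b, .c, .a, .c, .a, .b, .a, .d, .c, .e, .b, .c, .b, .a, .c])))))) (nd 2224 (nd 2216 (nd 2212 (nd 2210 (nd 2209 (lf [.a, .b, .a, .d, .c, .b, .d, .b, .d, .b, .c, .e, .b, .c, .b, .a, .d, .b, .d, .c, .a, .b, .c, .b, .a, .c, .b, .a, .c, .a, .e, .d, .a, .b, .a, .c, .b, .d, .b, .d, .b, .c]) (lf [.a, .c, .b, .c, .e, .a, .d, .b, .d, .c, .a, .e, .d, .c, .a, .c, .a, .d, .c, .a, .d, .c, .a, .b, .a, .c, .a, .c, .b, .a, .c, .a, .b,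 .e, .a, .c, .d, .b, .d, .a, .e, .b, .d, .b, .a, .c, .a, .c, .b, .c, .a, .c, .b, .a, .c, .a, .b, .d, .b, .b, .c])) (nd 2211 (lf [.b, .a, .b, .e, .a, .c, .b, .d, .b, .d, .b, .c, .a, .c, .d, .a, .b, .a, .c, .a, .c, .b, .d, .b, .d, .b, .c, .a, .c, .a, .b, .a, .d, .c, .e, .b, .c, .b, .a, .c, .b, .a, .b, .c, .b, .c, .b, .a, .d, .b, .c, .d, .c, .a]) (lf [.a, .b, .d, .b, .c, .d, .a, .d, .b, .c, .e, .a, .c, .d, .b, .d, .a, .e, .b, .d, .b, .a, .c, .a, .a, .c, .d, .c, .a, .a, .c, .a, .b, .d, .b, .a, .c, .d, .c, .a, .e, .a, .d, .b, .d, .c, .a, .e, .b, .a, .b, .c, .a, .b, .c, .b, .c, .b]))) (nd 2214 (nd 2213 (lf [.c, .a, .b, .a, .d, .a, .c, .a, .c, .a, .b, .a, .c, .e, .a, .b, .e, .d, .b, .c, .b, .a, .b, .c, .b, .d, .b, .a, .b, .d, .b, .a, .b, .a, .d, .b, .c, .b, .a, .b, .c, .b, .d, .a, .b, .a, .b, .d, .b, .a, .b, .e, .b, .a,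 .e, .b, .a, .c, .b, .c, .a, .b]) (lf [.c, .a, .c, .b, .c, .e, .d, .e, .d, .b, .e, .a, .e, .d, .a, .d, .a, .c, .d, .a, .c, .b, .a, .c, .a, .b, .c, .a, .c, .a, .e, .a, .e, .b, .d, .e, .d, .e, .a, .c, .b])) (nd 2215 (lf [.a, .b, .d, .c, .d, .a, .d, .c, .d, .b, .a, .b, .d, .c, .d, .a, .d, .c, .e, .a, .e, .a, .b, .c, .b, .c, .b, .a, .c, .a, .c, .a, .d, .a, .c, .b, .c, .b, .c, .a, .e, .a, .e, .d, .b]) (lf [.c, .a, .b, .a, .c, .b, .a, .c, .a, .b, .e, .b, .c, .e, .b, .d, .c, .a, .b, .a, .c, .d, .b, .d, .c, .a, .b, .a, .c, .d, .e, .c, .b, .e, .c, .b, .c, .b, .c, .b, .d])))) (nd 2220 (nd 2218 (nd 2217 (lf [.a, .c, .b, .c, .b, .e, .a, .c, .d, .b, .d, .a, .e, .c, .b, .c, .a, .c, .b, .a, .c, .d, .c, .a, .b, .c, .a, .c, .b, .c, .a, .c, .d, .c, .a, .e, .a, .d, .b, .d, .c, .a, .e, .b, .c, .a, .b, .a, .c, .a, .c, .b, .a, .b, .d,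 .c]) (lf [.b, .c, .b, .e, .c, .b, .e, .a, .b, .a, .b, .a, .c, .a, .b, .a, .b, .a, .c, .a, .b, .c, .a, .c, .a, .d, .b, .d, .c, .a, .d, .c, .a, .b, .e, .b, .c, .e, .c, .b, .d, .a, .b, .a, .b, .c, .b, .c, .b, .a, .b, .a, .d])) (nd 2219 (lf [.c, .d, .a, .d, .c, .a, .e, .a, .c, .d, .b, .d, .a, .e, .b, .d, .c, .d, .c, .b, .b, .d, .b, .a, .c, .a, .b, .c, .d, .c, .d, .b, .a, .c, .a, .b, .d, .b, .e, .a, .d, .b, .d, .c, .a, .e, .a]) (lf [.a, .d, .c, .a, .c, .a, .c, .a, .e, .a, .e, .a, .b, .a, .b, .c, .b, .a, .c, .b, .c, .b, .a, .c, .a, .d, .b, .d, .c, .a, .c, .b, .e, .a, .e, .c, .d, .a, .d, .c, .a, .c, .a, .c, .a, .c, .d]))) (nd 2222 (nd 2221 (lf [.d, .a, .c, .b, .d, .b, .a, .c, .a, .c, .b, .a, .b, .e, .b, .c, .e, .c, .d, .a, .b, .a, .c, .c, .b, .d, .a, .b, .a, .b, .c, .c, .a, .b, .a, .d, .c, .c, .b, .a, .b, .a, .d, .b,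 .c, .e, .c, .b, .e, .b, .a]) (lf [.d, .b, .c, .a, .c, .b, .c, .b, .c, .b, .a, .c, .b, .d, .b, .d, .b, .c, .a, .b, .c, .b, .c, .b, .c, .a, .e, .b, .d, .c, .d, .a, .b, .a, .c, .b, .c, .b, .c, .e, .c, .b, .d, .b])) (nd 2223 (lf [.c, .a, .c, .d, .b, .d, .b, .e, .a, .b, .e, .d, .b, .c, .b, .a, .b, .c, .b, .d, .d, .c, .b, .c, .b, .c, .d, .d, .b, .c, .b, .a, .b, .c, .b, .d, .d, .c, .b, .c, .b, .c, .d, .e, .b, .a, .e, .a, .b, .a, .b, .a, .c, .a, .b, .c, .a, .b, .c, .b, .c, .d, .a]) (lf [.b, .c, .e, .c, .d, .e, .a, .d, .c, .a, .c, .d, .a, .a, .c, .b, .c, .b, .c, .b, .a, .a, .d, .c, .a, .c, .d, .a, .a, .b, .c, .b, .c, .b, .c, .a, .e, .d, .c, .e, .d, .c, .b, .c, .a, .d, .b, .c, .a, .c, .a, .b, .c]))))) (nd 2232 (nd 2228 (nd 2226 (nd 2225 (lf [.c, .a, .c, .a, .c, .a, .c, .d, .a, .d, .c, .a, .c, .a, .c, .a, .e, .a, .e, .a,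 .b, .a, .b, .c, .b, .a, .c, .b, .c, .b, .a, .c, .a, .d, .b, .d, .c, .a, .c, .b, .e, .a, .e, .c, .d, .a, .d]) (lf [.d, .c, .a, .b, .c, .a, .c, .b, .c, .a, .c, .d, .c, .a, .e, .a, .d, .b, .d, .c, .a, .e, .b, .c, .a, .b, .a, .c, .a, .c, .b, .a, .b, .d, .c, .a, .c, .b, .c, .b, .e, .a, .c, .d, .b, .d, .a, .e, .c, .b, .c, .a, .c, .b, .a, .c])) (nd 2227 (lf [.c, .b, .a, .c, .b, .c, .d, .b, .d, .c, .d, .a, .b, .e, .b, .c, .e, .d, .c, .a, .b, .a, .c, .d, .d, .b, .d, .b, .d, .d, .c, .a, .b, .a, .c, .d, .d, .b, .d, .b, .d, .e, .c, .b, .e, .a, .b, .c, .a, .b, .a, .b, .a]) (lf [.a, .c, .b, .c, .e, .d, .e, .d, .b, .e, .a, .e, .d, .a, .d, .a, .c, .d, .a, .c, .b, .a, .c, .a, .b, .c, .a, .c, .a, .e, .a, .e, .b, .d, .e, .d, .e, .a, .c, .b, .c]))) (nd 2230 (nd 2229 (lf [.b, .d, .a, .b, .a, .b, .c, .d, .b, .d, .b, .d, .c, .b, .a,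 .b, .a, .d, .b, .c, .d, .b, .d, .b, .d, .e, .c, .b, .e, .a, .c, .b, .c, .a, .b, .a, .b, .c, .a, .b, .d, .c, .b, .d, .a, .d, .a, .b, .e, .b, .c, .e, .c]) (lf [.b, .d, .b, .c, .b, .d, .b, .d, .b, .c, .b, .e, .d, .e, .d, .b, .e, .a, .e, .b, .a, .c, .b, .c, .b, .a, .b, .c, .a, .b, .d, .c, .d, .a, .c, .b, .a, .e, .a, .e, .b, .d, .e, .d, .e, .d])) (nd 2231 (lf [.a, .d, .b, .c, .e, .c, .b, .e, .b, .a, .c, .d, .a, .c, .d, .b, .d, .a, .c, .a, .c, .b, .a, .c, .a, .b, .a, .b, .a, .c, .a, .b, .a, .b, .a, .e, .b, .c, .e, .b, .c, .b, .d, .a, .b, .a, .b, .c, .b, .c, .b, .a, .b]) (lf [.c, .a, .d, .a, .c, .a, .c, .a, .b, .c, .b, .c, .b, .a, .e, .a, .e, .c, .d, .a, .d, .c, .d, .b, .a, .b, .d, .c, .d, .a, .d, .c, .d, .b, .a, .b, .d, .e, .a, .e, .a, .c, .b, .c, .b])))) (nd 2236 (nd 2234 (nd 2233 (lf [.b, .a, .c, .b, .a, .c, .b, .c,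 .b, .d, .b, .a, .b, .c, .a, .b, .a, .b, .e, .a, .e, .d, .b, .a, .b, .d, .a, .c, .a, .c, .a, .d, .b, .a, .b, .d, .a, .c, .a, .c, .a, .e, .a, .e, .a, .b, .a, .b, .a, .c]) (lf [.b, .a, .c, .b, .d, .b, .d, .b, .c, .a, .b, .a, .d, .c, .b, .d, .b, .d, .b, .c, .e, .b, .c, .b, .a, .d, .b, .d, .c, .a, .b, .c, .b, .a, .c, .b, .a, .c, .a, .e, .d, .a])) (nd 2235 (lf [.b, .c, .e, .c, .b, .e, .b, .a, .d, .a, .d, .b, .c, .d, .b, .a, .c, .b, .a, .b, .a, .c, .b, .c, .a, .e, .b, .c, .e, .d, .b, .d, .b, .d, .c, .b, .d, .a, .b, .a, .b, .c, .d, .b, .d, .b, .d, .c, .b, .a, .b, .a, .d]) (lf [.a, .d, .b, .c, .b, .a, .b, .c, .b, .d, .e, .b, .a, .e, .b, .a, .c, .a, .d, .b, .c, .a, .d, .c, .a, .c, .b, .a, .c, .b, .a, .c, .a, .b, .a, .b, .a, .e, .a, .b, .e, .a, .c, .a, .c, .a, .d, .b, .c, .b, .a, .b, .c, .b, .d, .a, .c, .a, .c]))) (nd 2238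 (nd 2237 (lf [.b, .c, .a, .c, .a, .b, .c, .b, .c, .b, .e, .b, .c, .e, .d, .b, .d, .b, .d, .c, .d, .a, .b, .a, .c, .d, .b, .d, .b, .d, .c, .a, .b, .a, .d, .c, .e, .c, .b, .e, .b, .d, .c, .b, .c, .a, .d]) (lf [.b, .a, .b, .d, .b, .d, .c, .d, .b, .e, .a, .e, .a, .b, .a, .b, .c, .b, .c, .a, .b, .c, .a, .b, .c, .b, .c, .b, .d, .c, .d, .b, .a, .d, .c, .e, .a, .e, .d, .b, .a, .b, .d, .b, .d, .c, .d, .b, .d])) (nd 2239 (lf [.d, .b, .c, .b, .e, .d, .e, .d, .b, .e, .a, .e, .b, .a, .c, .b, .c, .b, .a, .b, .c, .a, .b, .d, .c, .d, .a, .c, .b, .a, .e, .a, .e, .b, .d, .e, .d, .e, .d, .b, .d, .b, .c, .b, .d, .b]) (lf [.c, .b, .a, .b, .d, .a, .e, .a, .c, .b, .d, .b, .d, .b, .c, .a, .d, .a, .b, .a, .a, .c, .b, .d, .b, .d, .b, .c, .a, .a, .b, .a, .d, .e, .a, .b, .a, .c, .a, .c, .a, .b, .c, .a, .b, .c, .b, .c, .d, .a])))))))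
noncomputable def tc3kw_circT_c35 : ℕ → List Gen := (nd 2272 (nd 2256 (nd 2248 (nd 2244 (nd 2242 (nd 2241 (lf [.a, .b, .c, .a, .d, .a, .c, .b, .a, .c, .a, .b, .c, .a, .c, .a, .b, .e, .a, .e, .b, .d, .e, .d, .e, .a, .d, .b, .d, .a, .d, .b, .d, .e, .d, .e, .d, .b, .e, .a, .e, .a, .c]) (lf [.c, .b, .c, .b, .a, .d, .b, .c, .d, .c, .a, .b, .a, .b, .e, .a, .c, .b, .d, .b, .d, .b, .c, .a, .c, .d, .a, .b, .a, .c, .a, .c, .b, .d, .b, .d, .b, .c, .a, .c, .a, .b, .a, .d, .c, .e, .b, .c, .b, .a, .c, .b, .a, .b])) (nd 2243 (lf [.c, .b, .d, .b, .d, .b, .c, .a, .a, .b, .c, .b, .c, .b, .c, .a, .a, .c, .b, .d, .b, .d, .b, .c, .a, .e, .b, .a, .c, .b, .d, .a, .d, .b, .c, .b, .c, .a, .b, .a, .c, .b, .a, .b, .a, .e, .a, .c, .b, .c, .b, .c, .b, .a, .a]) (lf [.c, .a, .c, .b, .b, .d, .b, .a, .c, .a, .b, .c, .a, .c, .b, .c, .a, .c, .a,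 .b, .d, .b, .e, .a, .d, .b, .d, .c, .a, .e, .b, .a, .c, .a, .b, .c, .a, .c, .a, .b, .a, .c, .d, .a, .c, .d, .a, .c, .a, .c, .d, .e, .a, .c, .d, .b, .d, .a, .e, .c, .b]))) (nd 2246 (nd 2245 (lf [.c, .a, .c, .a, .d, .a, .c, .b, .c, .b, .c, .a, .e, .a, .e, .d, .b, .a, .b, .d, .c, .d, .a, .d, .c, .d, .b, .a, .b, .d, .c, .d, .a, .d, .c, .e, .a, .e, .a, .b, .c, .b, .c, .b, .a]) (lf [.a, .c, .a, .c, .a, .d, .c, .b, .c, .b, .c, .d, .a, .c, .a, .c, .a, .d, .c, .b, .c, .b, .c, .d, .e, .b, .a, .e, .b, .c, .d, .a, .d, .c, .d, .b, .d, .a, .b, .c, .a, .b, .c, .a, .b, .c, .b, .a, .e, .a, .b, .e])) (nd 2247 (lf [.a, .d, .b, .c, .e, .a, .c, .d, .b, .d, .a, .e, .b, .d, .b, .a, .c, .a, .a, .c, .d, .c, .a, .a, .c, .a, .b, .d, .b, .a, .c, .d, .c, .a, .e, .a, .d, .b, .d, .c, .a, .e, .b, .a, .b, .c, .a, .b, .c, .b, .c, .b, .a, .b, .d,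 .b, .c, .d]) (lf [.a, .d, .c, .a, .c, .d, .a, .b, .d, .b, .d, .b, .a, .d, .c, .a, .c, .d, .a, .e, .d, .c, .e, .b, .a, .c, .d, .b, .a, .b, .d, .a, .b, .c, .a, .b, .c, .a, .c, .b, .a, .e, .c, .d, .e, .b, .d, .b, .d, .b])))) (nd 2252 (nd 2250 (nd 2249 (lf [.d, .a, .d, .b, .c, .a, .b, .e, .a, .c, .b, .d, .b, .d, .b, .c, .a, .a, .c, .b, .c, .b, .c, .b, .a, .a, .c, .b, .d, .b, .d, .b, .c, .a, .a, .b, .c, .b, .c, .b, .c, .a, .e, .a, .b, .a, .b, .c, .a, .b, .a, .c, .b, .c, .b]) (lf [.c, .b, .a, .c, .b, .a, .c, .a, .c, .a, .b, .a, .e, .b, .c, .e, .b, .c, .d, .a, .b, .a, .c, .b, .c, .a, .b, .a, .d, .c, .e, .c, .b, .e, .b, .c, .d, .a, .d, .c, .d, .a])) (nd 2251 (lf [.d, .e, .d, .e, .d, .b, .e, .a, .e, .b, .d, .a, .b, .a, .c, .a, .d, .a, .b, .a, .b, .c, .b, .c, .b, .a, .c, .b, .a, .b, .a, .e, .a, .e, .b, .d, .e, .d, .e, .c,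 .b, .c, .d, .b, .d, .c, .b, .c, .d, .b]) (lf [.c, .d, .e, .c, .d, .e, .a, .c, .b, .c, .b, .c, .b, .a, .a, .d, .c, .a, .c, .d, .a, .a, .b, .c, .b, .c, .b, .c, .a, .a, .d, .c, .a, .c, .d, .a, .e, .d, .c, .e, .c, .b, .c, .b, .a, .c, .a, .c, .b, .d, .a, .c, .b]))) (nd 2254 (nd 2253 (lf [.a, .b, .e, .b, .c, .e, .c, .b, .d, .a, .b, .a, .b, .c, .c, .d, .a, .b, .a, .c, .c, .b, .a, .b, .a, .d, .b, .c, .c, .a, .b, .a, .d, .c, .e, .c, .b, .e, .b, .a, .b, .c, .a, .c, .a, .b, .d, .b, .c, .a, .d]) (lf [.d, .c, .c, .b, .a, .b, .a, .d, .b, .c, .e, .c, .b, .e, .b, .a, .d, .a, .c, .b, .d, .b, .a, .c, .a, .c, .b, .a, .b, .e, .b, .c, .e, .c, .d, .a, .b, .a, .c, .c, .b, .d, .a, .b, .a, .b, .c, .c, .a, .b, .a])) (nd 2255 (lf [.c, .a, .c, .b, .a, .e, .c, .d, .e, .b, .d, .b, .d, .b, .a, .d, .c, .a, .c, .d, .a, .b, .d, .b, .d, .b, .a,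 .d, .c, .a, .c, .d, .a, .e, .d, .c, .e, .b, .a, .c, .d, .b, .a, .b, .d, .a, .b, .c, .a, .b]) (lf [.a, .e, .a, .e, .a, .b, .a, .b, .c, .b, .a, .c, .b, .c, .b, .a, .c, .a, .d, .b, .d, .c, .a, .c, .b, .e, .a, .e, .c, .d, .a, .d, .c, .a, .c, .a, .c, .a, .c, .d, .a, .d, .c, .a, .c, .a, .c]))))) (nd 2264 (nd 2260 (nd 2258 (nd 2257 (lf [.c, .b, .a, .b, .c, .a, .b, .c, .b, .e, .c, .d, .a, .b, .a, .c, .a, .c, .b, .d, .b, .d, .b, .c, .a, .c, .a, .b, .a, .d, .c, .a, .c, .b, .d, .b, .d, .b, .c, .a, .e, .b, .a, .b, .a, .c, .d, .c, .b, .d, .a, .b, .c, .b]) (lf [.a, .c, .d, .b, .d, .a, .b, .c, .b, .e, .c, .b, .d, .b, .d, .b, .c, .d, .a, .b, .a, .c, .b, .d, .b, .d, .b, .c, .a, .b, .a, .d, .e, .a, .c, .a, .b, .c, .a, .b, .c, .b])) (nd 2259 (lf [.c, .b, .a, .b, .d, .b, .c, .d, .a, .d, .b, .c, .e, .a, .c, .d, .b, .d, .a, .e, .b,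 .d, .b, .a, .c, .a, .a, .c, .d, .c, .a, .a, .c, .a, .b, .d, .b, .a, .c, .d, .c, .a, .e, .a, .d, .b, .d, .c, .a, .e, .b, .a, .b, .c, .a, .b, .c, .b]) (lf [.c, .b, .a, .c, .b, .c, .b, .d, .b, .a, .b, .c, .a, .b, .a, .b, .e, .a, .e, .d, .b, .a, .b, .d, .a, .c, .a, .c, .a, .d, .b, .a, .b, .d, .a, .c, .a, .c, .a, .e, .a, .e, .a, .b, .a, .b, .a, .c, .b, .a]))) (nd 2262 (nd 2261 (lf [.b, .a, .b, .d, .e, .a, .e, .a, .c, .b, .c, .b, .c, .a, .d, .a, .c, .a, .c, .a, .b, .c, .b, .c, .b, .a, .e, .a, .e, .c, .d, .a, .d, .c, .d, .b, .a, .b, .d, .c, .d, .a, .d, .c, .d]) (lf [.c, .a, .c, .a, .b, .d, .c, .d, .b, .e, .a, .e, .c, .a, .b, .c, .a, .d, .c, .b, .c, .b, .c, .a, .b, .c, .a, .b, .c, .e, .a, .e, .a, .c, .a, .c, .a, .b, .d, .c, .d, .b, .a])) (nd 2263 (lf [.c, .b, .d, .e, .b, .a, .e, .b, .d, .b, .d, .c, .a, .c, .a, .d, .c,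 .b, .c, .b, .a, .c, .b, .a, .c, .a, .b, .a, .b, .a, .e, .a, .b, .e, .d, .c, .b, .c, .b, .c, .d, .d, .b, .c, .b, .a, .b, .c, .b, .d, .d, .c, .b, .c, .b, .c, .d, .d, .b, .c, .b, .a, .b]) (lf [.d, .e, .d, .e, .c, .b, .c, .d, .b, .d, .c, .b, .c, .d, .b, .d, .e, .d, .e, .d, .b, .e, .a, .e, .b, .d, .a, .b, .a, .c, .a, .d, .a, .b, .a, .b, .c, .b, .c, .b, .a, .c, .b, .a, .b, .a, .e, .a, .e, .b])))) (nd 2268 (nd 2266 (nd 2265 (lf [.b, .c, .a, .a, .b, .a, .d, .e, .b, .a, .b, .a, .c, .b, .c, .a, .b, .a, .b, .c, .e, .a, .c, .b, .c, .b, .c, .b, .a, .d, .a, .b, .a, .a, .b, .c, .b, .c]) (lf [.b, .c, .a, .e, .a, .b, .a, .b, .c, .a, .b, .a, .c, .b, .c, .b, .d, .a, .d, .b, .c, .a, .b, .e, .a, .c, .b, .d, .b, .d, .b, .c, .a, .a, .c, .b, .c, .b, .c, .b, .a, .a, .c, .b, .d, .b, .d, .b, .c, .a, .a, .b, .c, .b, .c])) (nd 2267 (lf [.b,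 .c, .e, .d, .e, .d, .b, .e, .a, .e, .a, .b, .a, .b, .c, .a, .b, .c, .b, .c, .b, .a, .b, .a, .d, .a, .c, .a, .b, .a, .d, .b, .e, .a, .e, .b, .d, .e, .d, .e, .d, .b, .d, .c, .b, .c, .d, .b, .d, .c]) (lf [.b, .c, .b, .d, .b, .d, .e, .d, .e, .d, .b, .e, .a, .e, .a, .b, .c, .a, .d, .c, .d, .b, .a, .c, .b, .a, .b, .c, .b, .c, .a, .b, .e, .a, .e, .b, .d, .e, .d, .e, .b, .c, .b, .d, .b, .d]))) (nd 2270 (nd 2269 (lf [.b, .a, .d, .b, .e, .a, .e, .b, .d, .e, .d, .e, .d, .b, .d, .c, .b, .c, .d, .b, .d, .c, .b, .c, .e, .d, .e, .d, .b, .e, .a, .e, .a, .b, .a, .b, .c, .a, .b, .c, .b, .c, .b, .a, .b, .a, .d, .a, .c, .a]) (lf [.c, .b, .c, .b, .a, .c, .a, .c, .a, .d, .a, .c, .b, .c, .b, .c, .a, .e, .a, .e, .d, .b, .a, .b, .d, .c, .d, .a, .d, .c, .d, .b, .a, .b, .d, .c, .d, .a, .d, .c, .e, .a, .e, .a, .b])) (nd 2271 (lf [.d, .a,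 .c, .b, .c, .b, .a, .b, .c, .a, .b, .c, .a, .b, .e, .a, .e, .b, .d, .e, .d, .e, .a, .b, .c, .b, .a, .b, .c, .b, .e, .d, .e, .d, .b, .e, .a, .e, .b, .a, .b, .a, .c]) (lf [.a, .c, .a, .c, .a, .d, .b, .a, .b, .d, .e, .a, .e, .b, .a, .b, .a, .c, .b, .a, .b, .d, .b, .c, .b, .c, .a, .b, .c, .a, .b, .c, .a, .b, .a, .b, .a, .e, .a, .e, .a, .c, .a, .c, .a, .d, .b, .a, .b, .d])))))) (nd 2288 (nd 2280 (nd 2276 (nd 2274 (nd 2273 (lf [.c, .d, .a, .d, .c, .d, .b, .d, .a, .b, .c, .a, .b, .c, .a, .b, .c, .b, .a, .e, .a, .b, .e, .a, .c, .a, .c, .a, .d, .c, .b, .c, .b, .c, .d, .a, .c, .a, .c, .a, .d, .c, .b, .c, .b, .c, .d, .e, .b, .a, .e, .b]) (lf [.d, .c, .d, .a, .c, .b, .a, .e, .a, .e, .b, .d, .e, .d, .e, .d, .b, .d, .b, .c, .b, .d, .b, .d, .b, .c, .b, .e, .d, .e, .d, .b, .e, .a, .e, .b, .a, .c, .b, .c, .b, .a, .b, .c, .a, .b]))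 (nd 2275 (lf [.c, .a, .b, .c, .a, .d, .c, .a, .d, .a, .d, .e, .a, .e, .b, .d, .e, .d, .e, .c, .b, .c, .a, .c, .b, .c, .a, .e, .d, .e, .d, .b, .e, .a, .e, .a, .c, .a, .c, .b, .a]) (lf [.b, .a, .d, .b, .a, .b, .d, .c, .a, .b, .e, .c, .d, .e, .a, .d, .c, .a, .c, .d, .a, .b, .d, .b, .d, .b, .a, .d, .c, .a, .c, .d, .a, .b, .d, .b, .d, .b, .e, .d, .c, .e, .a, .b, .c, .a, .c, .b, .a, .c]))) (nd 2278 (nd 2277 (lf [.b, .d, .e, .d, .e, .d, .b, .d, .c, .b, .c, .d, .b, .d, .c, .b, .c, .e, .d, .e, .d, .b, .e, .a, .e, .a, .b, .a, .b, .c, .a, .b, .c, .b, .c, .b, .a, .b, .a, .d, .a, .c, .a, .b, .a, .d, .b, .e, .a, .e]) (lf [.a, .e, .b, .c, .e, .d, .c, .a, .b, .a, .c, .d, .c, .b, .d, .a, .b, .a, .b, .c, .d, .c, .a, .b, .a, .c, .d, .c, .b, .a, .b, .a, .d, .b, .c, .e, .c, .b, .e, .c, .b, .d, .a, .b, .d, .a, .c, .b, .c, .b, .a, .c,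 .b, .c])) (nd 2279 (lf [.c, .a, .b, .c, .a, .b, .a, .b, .a, .c, .b, .a, .e, .b, .c, .e, .d, .b, .d, .b, .d, .d, .c, .a, .b, .a, .c, .d, .d, .b, .d, .b, .d, .d, .c, .a, .b, .a, .c, .d, .e, .c, .b, .e, .b, .a, .d, .c, .d, .b, .d, .c, .b]) (lf [.a, .c, .a, .d, .c, .b, .c, .b, .a, .c, .b, .a, .c, .a, .b, .a, .b, .a, .e, .a, .b, .e, .d, .c, .b, .c, .b, .c, .d, .d, .b, .c, .b, .a, .b, .c, .b, .d, .d, .c, .b, .c, .b, .c, .d, .d, .b, .c, .b, .a, .b, .c, .b, .d, .e, .b, .a, .e, .b, .d, .b, .d, .c])))) (nd 2284 (nd 2282 (nd 2281 (lf [.b, .a, .e, .b, .c, .e, .d, .b, .d, .b, .d, .d, .c, .a, .b, .a, .c, .d, .d, .b, .d, .b, .d, .d, .c, .a, .b, .a, .c, .d, .e, .c, .b, .e, .b, .a, .d, .c, .d, .b, .d, .c, .b, .c, .a, .b, .c, .a, .b, .a, .b, .a, .c]) (lf [.a, .b, .c, .a, .b, .a, .c, .b, .c, .b, .d, .a, .d, .b, .c, .a, .b, .e, .a,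 .c, .b, .d, .b, .d, .b, .c, .a, .a, .c, .b, .c, .b, .c, .b, .a, .a, .c, .b, .d, .b, .d, .b, .c, .a, .a, .b, .c, .b, .c, .b, .c, .a, .e, .a, .b])) (nd 2283 (lf [.c, .b, .d, .b, .d, .e, .d, .e, .d, .b, .e, .a, .e, .a, .b, .c, .a, .d, .c, .d, .b, .a, .c, .b, .a, .b, .c, .b, .c, .a, .b, .e, .a, .e, .b, .d, .e, .d, .e, .b, .c, .b, .d, .b, .d, .b]) (lf [.a, .d, .c, .a, .b, .a, .b, .e, .a, .e, .b, .d, .e, .d, .e, .b, .c, .b, .a, .b, .c, .b, .a, .e, .d, .e, .d, .b, .e, .a, .e, .b, .a, .c, .b, .a, .c, .b, .a, .b, .c, .b, .c]))) (nd 2286 (nd 2285 (lf [.b, .a, .c, .a, .c, .b, .d, .a, .c, .b, .c, .d, .b, .e, .b, .c, .e, .c, .d, .a, .b, .a, .c, .d, .b, .d, .b, .d, .c, .a, .b, .a, .d, .c, .d, .b, .d, .b, .d, .e, .c, .b, .e, .b, .c, .b, .c]) (lf [.d, .a, .b, .e, .b, .c, .e, .d, .c, .a, .b, .a, .c, .d, .d, .b, .d, .b, .d, .d,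 .c, .a, .b, .a, .c, .d, .d, .b, .d, .b, .d, .e, .c, .b, .e, .a, .b, .c, .a, .b, .a, .b, .a, .c, .b, .a, .c, .b, .c, .d, .b, .d, .c])) (nd 2287 (lf [.a, .c, .a, .b, .e, .a, .c, .d, .b, .d, .a, .e, .b, .d, .b, .a, .c, .a, .c, .b, .c, .a, .c, .b, .a, .c, .a, .b, .d, .b, .b, .c, .a, .c, .b, .c, .e, .a, .d, .b, .d, .c, .a, .e, .d, .c, .a, .c, .a, .d, .c, .a, .d, .c, .a, .b, .a, .c, .a, .c, .b]) (lf [.a, .b, .c, .b, .e, .c, .b, .d, .b, .d, .b, .c, .d, .a, .b, .a, .c, .b, .d, .b, .d, .b, .c, .a, .b, .a, .d, .e, .a, .c, .a, .b, .c, .a, .b, .c, .b, .a, .c, .d, .b, .d]))))) (nd 2296 (nd 2292 (nd 2290 (nd 2289 (lf [.d, .a, .c, .a, .c, .a, .b, .c, .b, .c, .b, .a, .e, .a, .e, .c, .d, .a, .d, .c, .d, .b, .a, .b, .d, .c, .d, .a, .d, .c, .d, .b, .a, .b, .d, .e, .a, .e, .a, .c, .b, .c, .b, .c, .a]) (lf [.b, .d, .b, .c, .a, .c,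 .a, .b, .a, .d, .c, .e, .b, .c, .b, .a, .c, .b, .a, .b, .c, .b, .c, .b, .a, .d, .b, .c, .d, .c, .a, .b, .a, .b, .e, .a, .c, .b, .d, .b, .d, .b, .c, .a, .c, .d, .a, .b, .a, .c, .a, .c, .b, .d])) (nd 2291 (lf [.c, .a, .c, .b, .e, .a, .e, .c, .d, .a, .d, .c, .a, .c, .a, .c, .a, .c, .d, .a, .d, .c, .a, .c, .a, .c, .a, .e, .a, .e, .a, .b, .a, .b, .c, .b, .a, .c, .b, .c, .b, .a, .c, .a, .d, .b, .d]) (lf [.e, .b, .d, .e, .d, .e, .b, .c, .b, .d, .b, .d, .b, .c, .b, .d, .b, .d, .e, .d, .e, .d, .b, .e, .a, .e, .a, .b, .c, .a, .d, .c, .d, .b, .a, .c, .b, .a, .b, .c, .b, .c, .a, .b, .e, .a]))) (nd 2294 (nd 2293 (lf [.c, .a, .b, .a, .c, .d, .b, .c, .b, .c, .b, .c, .e, .b, .c, .e, .d, .c, .a, .b, .a, .c, .d, .b, .d, .c, .a, .b, .a, .c, .d, .b, .e, .c, .b, .e, .b, .a, .c, .a, .b]) (lf [.b, .d, .b, .d, .d, .c, .a, .b, .a, .c,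 .d, .d, .b, .d, .b, .d, .d, .c, .a, .b, .a, .c, .d, .e, .c, .b, .e, .b, .a, .d, .c, .d, .b, .d, .c, .b, .c, .a, .b, .c, .a, .b, .a, .b, .a, .c, .b, .a, .e, .b, .c, .e, .d])) (nd 2295 (lf [.b, .c, .a, .d, .c, .d, .a, .d, .c, .b, .e, .b, .c, .e, .c, .d, .a, .b, .a, .c, .b, .c, .a, .b, .a, .d, .c, .b, .e, .c, .b, .e, .a, .b, .a, .c, .a, .c, .a, .b, .c, .a]) (lf [.b, .c, .a, .c, .b, .b, .d, .b, .a, .c, .a, .b, .c, .a, .c, .b, .c, .a, .c, .a, .b, .d, .b, .e, .a, .d, .b, .d, .c, .a, .e, .b, .a, .c, .a, .b, .c, .a, .c, .a, .b, .a, .c, .d, .a, .c, .d, .a, .c, .a, .c, .d, .e, .a, .c, .d, .b, .d, .a, .e, .c])))) (nd 2300 (nd 2298 (nd 2297 (lf [.b, .a, .c, .b, .c, .b, .a, .b, .a, .e, .a, .e, .b, .d, .c, .d, .b, .d, .b, .a, .b, .d, .b, .d, .c, .d, .b, .d, .b, .a, .b, .d, .e, .a, .e, .c, .d, .a, .b, .d, .c, .d, .b, .c, .b,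 .c, .b, .a, .c]) (lf [.e, .a, .e, .a, .b, .a, .b, .c, .a, .b, .c, .b, .c, .b, .a, .b, .a, .d, .a, .c, .a, .b, .a, .d, .b, .e, .a, .e, .b, .d, .e, .d, .e, .d, .b, .d, .c, .b, .c, .d, .b, .d, .c, .b, .c, .e, .d, .e, .d, .b])) (nd 2299 (lf [.a, .c, .b, .a, .c, .e, .a, .e, .b, .d, .c, .d, .b, .a, .c, .a, .c, .a, .b, .d, .c, .d, .b, .a, .c, .a, .c, .a, .e, .a, .e, .c, .b, .a, .c, .b, .a, .c, .b, .c, .b, .c, .d]) (lf [.c, .b, .e, .a, .c, .d, .b, .d, .a, .e, .a, .c, .d, .c, .a, .c, .b, .c, .a, .c, .b, .a, .c, .d, .c, .a, .b, .c, .a, .c, .b, .c, .e, .a, .d, .b, .d, .c, .a, .e, .b, .c, .b, .c, .a, .c, .d, .b, .a, .b, .c, .a, .c, .a, .b, .a]))) (nd 2302 (nd 2301 (lf [.b, .a, .b, .a, .a, .c, .a, .c, .a, .a, .b, .a, .b, .d, .b, .a, .b, .e, .b, .a, .e, .c, .d, .b, .d, .b, .d, .a, .c, .b, .a, .b, .c, .a, .b, .c, .a, .b, .a,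 .e, .a, .b, .e, .a, .c, .a, .c, .a, .b, .a, .b, .d]) (lf [.c, .e, .d, .e, .d, .b, .e, .a, .e, .a, .b, .a, .b, .c, .a, .b, .c, .b, .c, .b, .a, .b, .a, .d, .a, .c, .a, .b, .a, .d, .b, .e, .a, .e, .b, .d, .e, .d, .e, .d, .b, .d, .c, .b, .c, .d, .b, .d, .c, .b])) (nd 2303 (lf [.a, .b, .a, .e, .a, .b, .e, .d, .c, .b, .c, .b, .c, .d, .d, .b, .c, .b, .a, .b, .c, .b, .d, .d, .c, .b, .c, .b, .c, .d, .d, .b, .c, .b, .a, .b, .c, .b, .d, .e, .b, .a, .e, .b, .d, .b, .d, .c, .a, .c, .a, .d, .c, .b, .c, .b, .a, .c, .b, .a, .c, .a, .b]) (lf [.c, .a, .b, .a, .b, .a, .e, .a, .b, .e, .d, .c, .b, .c, .b, .c, .d, .d, .b, .c, .b, .a, .b, .c, .b, .d, .d, .c, .b, .c, .b, .c, .d, .d, .b, .c, .b, .a, .b, .c, .b, .d, .e, .b, .a, .e, .b, .d, .b, .d, .c, .a, .c, .a, .d, .c, .b, .c, .b, .a, .c, .b, .a])))))))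
noncomputable def tc3kw_circT_c36 : ℕ → List Gen := (nd 2336 (nd 2320 (nd 2312 (nd 2308 (nd 2306 (nd 2305 (lf [.b, .c, .b, .c, .b, .c, .a, .a, .c, .b, .d, .b, .d, .b, .c, .a, .e, .b, .a, .c, .b, .d, .a, .d, .b, .c, .b, .c, .a, .b, .a, .c, .b, .a, .b, .a, .e, .a, .c, .b, .c, .b, .c, .b, .a, .a, .c, .b, .d, .b, .d, .b, .c, .a, .a]) (lf [.a, .d, .c, .c, .b, .a, .b, .a, .d, .b, .c, .e, .c, .b, .e, .b, .a, .d, .a, .c, .b, .d, .b, .a, .c, .a, .c, .b, .a, .b, .e, .b, .c, .e, .c, .d, .a, .b, .a, .c, .c, .b, .d, .a, .b, .a, .b, .c, .c, .a, .b])) (nd 2307 (lf [.c, .b, .c, .b, .c, .a, .e, .a, .b, .a, .b, .c, .a, .b, .a, .c, .b, .c, .b, .d, .a, .d, .b, .c, .a, .b, .e, .a, .c, .b, .d, .b, .d, .b, .c, .a, .a, .c, .b, .c, .b, .c, .b, .a, .a, .c, .b, .d, .b, .d, .b, .c, .a, .a, .b]) (lf [.c, .b, .c, .b, .a, .c, .b, .a, .b, .a,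 .e, .a, .e, .b, .d, .e, .d, .e, .c, .b, .c, .d, .b, .d, .c, .b, .c, .d, .b, .d, .e, .d, .e, .d, .b, .e, .a, .e, .b, .d, .a, .b, .a, .c, .a, .d, .a, .b, .a, .b]))) (nd 2310 (nd 2309 (lf [.c, .b, .a, .e, .a, .b, .e, .a, .c, .a, .c, .a, .d, .c, .b, .c, .b, .c, .d, .a, .c, .a, .c, .a, .d, .c, .b, .c, .b, .c, .d, .e, .b, .a, .e, .b, .c, .d, .a, .d, .c, .d, .b, .d, .a, .b, .c, .a, .b, .c, .a, .b]) (lf [.a, .b, .c, .b, .a, .e, .a, .b, .e, .a, .c, .a, .c, .a, .d, .c, .b, .c, .b, .c, .d, .a, .c, .a, .c, .a, .d, .c, .b, .c, .b, .c, .d, .e, .b, .a, .e, .b, .c, .d, .a, .d, .c, .d, .b, .d, .a, .b, .c, .a, .b, .c])) (nd 2311 (lf [.b, .c, .a, .e, .b, .c, .e, .d, .c, .a, .b, .a, .c, .d, .c, .b, .d, .a, .b, .a, .b, .c, .d, .c, .a, .b, .a, .c, .d, .c, .b, .a, .b, .a, .d, .b, .c, .e, .c, .b, .e, .c, .b, .d, .a, .b, .d, .a, .c, .b,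 .c, .b, .a, .c]) (lf [.b, .c, .a, .c, .a, .b, .c, .b, .c, .e, .c, .d, .e, .a, .d, .c, .a, .c, .d, .a, .a, .c, .b, .c, .b, .c, .b, .a, .a, .d, .c, .a, .c, .d, .a, .a, .b, .c, .b, .c, .b, .c, .a, .e, .d, .c, .e, .d, .c, .b, .c, .a, .d])))) (nd 2316 (nd 2314 (nd 2313 (lf [.c, .a, .c, .a, .b, .c, .a, .b, .c, .b, .c, .d, .a, .c, .b, .a, .b, .d, .a, .e, .a, .c, .b, .d, .b, .d, .b, .c, .a, .d, .a, .b, .a, .a, .c, .b, .d, .b, .d, .b, .c, .a, .a, .b, .a, .d, .e, .a, .b, .a]) (lf [.c, .d, .b, .d, .c, .b, .c, .d, .b, .d, .e, .d, .e, .d, .b, .e, .a, .e, .b, .d, .a, .b, .a, .c, .a, .d, .a, .b, .a, .b, .c, .b, .c, .b, .a, .c, .b, .a, .b, .a, .e, .a, .e, .b, .d, .e, .d, .e, .c, .b])) (nd 2315 (lf [.b, .d, .b, .d, .e, .c, .b, .e, .a, .b, .c, .a, .b, .a, .b, .a, .c, .b, .a, .c, .b, .c, .d, .b, .d, .c, .d, .a, .b, .e, .b, .c, .e,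 .d, .c, .a, .b, .a, .c, .d, .d, .b, .d, .b, .d, .d, .c, .a, .b, .a, .c, .d, .d]) (lf [.a, .c, .b, .a, .c, .b, .c, .b, .c, .d, .a, .c, .b, .a, .c, .e, .a, .e, .b, .d, .c, .d, .b, .a, .c, .a, .c, .a, .b, .d, .c, .d, .b, .a, .c, .a, .c, .a, .e, .a, .e, .c, .b]))) (nd 2318 (nd 2317 (lf [.d, .c, .a, .c, .a, .c, .a, .c, .d, .a, .d, .c, .e, .a, .e, .b, .c, .a, .c, .d, .b, .d, .a, .c, .a, .b, .c, .b, .c, .a, .b, .c, .b, .a, .b, .a, .e, .a, .e, .a, .c, .a, .c, .a, .c, .d, .a]) (lf [.e, .d, .c, .a, .c, .a, .d, .c, .a, .d, .c, .a, .b, .a, .c, .a, .c, .b, .a, .c, .a, .b, .e, .a, .c, .d, .b, .d, .a, .e, .b, .d, .b, .a, .c, .a, .c, .b, .c, .a, .c, .b, .a, .c, .a, .b, .d, .b, .b, .c, .a, .c, .b, .c, .e, .a, .d, .b, .d, .c, .a])) (nd 2319 (lf [.b, .a, .c, .d, .b, .d, .a, .b, .c, .b, .e, .c, .b, .d, .b, .d, .b, .c, .d, .a, .b,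 .a, .c, .b, .d, .b, .d, .b, .c, .a, .b, .a, .d, .e, .a, .c, .a, .b, .c, .a, .b, .c]) (lf [.c, .b, .a, .e, .c, .d, .e, .b, .d, .b, .d, .b, .a, .d, .c, .a, .c, .d, .a, .b, .d, .b, .d, .b, .a, .d, .c, .a, .c, .d, .a, .e, .d, .c, .e, .b, .a, .c, .d, .b, .a, .b, .d, .a, .b, .c, .a, .b, .c, .a]))))) (nd 2328 (nd 2324 (nd 2322 (nd 2321 (lf [.b, .a, .d, .c, .e, .b, .a, .b, .a, .c, .b, .c, .b, .a, .d, .b, .d, .b, .d, .c, .e, .a, .c, .b, .c, .b, .c, .b, .a, .c, .d, .a, .b, .a, .c, .a, .b, .c, .b, .c, .b, .c, .a, .c, .a]) (lf [.c, .a, .e, .d, .e, .d, .b, .e, .a, .e, .a, .c, .a, .c, .b, .a, .c, .a, .b, .c, .a, .d, .c, .a, .d, .a, .d, .e, .a, .e, .b, .d, .e, .d, .e, .c, .b, .c, .a, .c, .b])) (nd 2323 (lf [.a, .b, .a, .b, .c, .d, .c, .a, .b, .a, .c, .d, .c, .b, .a, .b, .a, .d, .b, .c, .d, .c, .a, .b, .a, .c, .d, .e, .c, .b,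 .e, .a, .c, .b, .c, .a, .b, .c, .b, .c, .a, .d, .b, .a, .d, .b, .c, .e, .b, .c, .e, .c, .b, .d]) (lf [.b, .d, .c, .b, .c, .d, .b, .d, .c, .b, .c, .e, .d, .e, .d, .b, .e, .a, .e, .a, .b, .a, .b, .c, .a, .b, .c, .b, .c, .b, .a, .b, .a, .d, .a, .c, .a, .b, .a, .d, .b, .e, .a, .e, .b, .d, .e, .d, .e, .d]))) (nd 2326 (nd 2325 (lf [.c, .b, .c, .a, .b, .a, .d, .c, .b, .e, .c, .b, .e, .a, .b, .a, .c, .a, .c, .a, .b, .c, .a, .b, .c, .a, .d, .c, .d, .a, .d, .c, .b, .e, .b, .c, .e, .c, .d, .a, .b, .a]) (lf [.b, .c, .d, .a, .d, .c, .a, .d, .a, .b, .c, .d, .a, .d, .c, .b, .a, .b, .c, .b, .c, .b, .a])) (nd 2327 (lf [.a, .d, .b, .c, .d, .a, .b, .d, .c, .d, .c, .a, .d, .b, .c, .b, .c, .a, .b, .a, .c, .a, .c, .a, .b, .a, .b]) (lf [.b, .a, .a, .b, .a, .d, .a, .b, .c, .b, .c, .b, .c, .a, .e, .c, .b, .a, .b, .a, .c, .b, .c, .a, .b,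 .a, .b, .e, .d, .a, .b, .a, .a, .c, .b, .c, .b, .c])))) (nd 2332 (nd 2330 (nd 2329 (lf [.b, .d, .b, .d, .c, .e, .a, .b, .e, .b, .a, .b, .d, .b, .a, .b, .a, .a, .c, .a, .c, .a, .a, .b, .a, .b, .d, .b, .a, .b, .a, .c, .a, .c, .a, .e, .b, .a, .e, .a, .b, .a, .c, .b, .a, .c, .b, .a, .b, .c, .a, .d]) (lf [.c, .b, .c, .b, .c, .a, .e, .d, .c, .e, .d, .a, .b, .a, .e, .c, .d, .e, .b, .d, .b, .d, .b, .a, .c, .b, .c, .b, .c, .b, .a, .b, .d, .b, .d, .b, .a, .b])) (nd 2331 (lf [.c, .d, .b, .a, .c, .a, .b, .d, .b, .e, .a, .d, .b, .d, .c, .a, .e, .a, .c, .d, .a, .d, .c, .a, .e, .a, .c, .d, .b, .d, .a, .e, .b, .d, .c, .d, .c, .b, .b, .d, .b, .a, .c, .a, .b, .c, .d]) (lf [.c, .b, .a, .c, .a, .b, .d, .b, .b, .c, .d, .c, .d, .b, .e, .a, .d, .b, .d, .c, .a, .e, .a, .c, .d, .a, .d, .c, .a, .e, .a, .c, .d, .b, .d, .a, .e, .b, .d, .b,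 .a, .c, .a, .b, .d, .c, .d]))) (nd 2334 (nd 2333 (lf [.c, .d, .a, .d, .c, .a, .c, .a, .c, .a, .c, .d, .a, .d, .c, .a, .c, .a, .c, .a, .e, .a, .e, .a, .b, .a, .b, .c, .b, .a, .c, .b, .c, .b, .a, .c, .a, .d, .b, .d, .c, .a, .c, .b, .e, .a, .e]) (lf [.c, .b, .c, .d, .b, .d, .c, .d, .a, .b, .e, .b, .c, .e, .d, .c, .a, .b, .a, .c, .d, .d, .b, .d, .b, .d, .d, .c, .a, .b, .a, .c, .d, .d, .b, .d, .b, .d, .e, .c, .b, .e, .a, .b, .c, .a, .b, .a, .b, .a, .c, .b, .a])) (nd 2335 (lf [.a, .b, .e, .a, .e, .b, .d, .e, .d, .e, .a, .b, .c, .b, .a, .b, .c, .b, .e, .d, .e, .d, .b, .e, .a, .e, .b, .a, .b, .a, .c, .d, .a, .c, .b, .c, .b, .a, .b, .c, .a, .b, .c]) (lf [.b, .a, .c, .b, .a, .b, .a, .e, .a, .e, .b, .d, .e, .d, .e, .c, .b, .c, .d, .b, .d, .c, .b, .c, .d, .b, .d, .e, .d, .e, .d, .b, .e, .a, .e, .b, .d, .a, .b, .a, .c, .a,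 .d, .a, .b, .a, .b, .c, .b, .c])))))) (nd 2352 (nd 2344 (nd 2340 (nd 2338 (nd 2337 (lf [.c, .a, .e, .d, .c, .e, .d, .a, .b, .a, .e, .c, .d, .e, .b, .d, .b, .d, .b, .a, .c, .b, .c, .b, .c, .b, .a, .b, .d, .b, .d, .b, .a, .b, .c, .b, .c, .b]) (lf [.a, .c, .d, .a, .c, .b, .a, .c, .a, .b, .c, .a, .c, .a, .e, .a, .e, .b, .d, .e, .d, .e, .a, .c, .b, .c, .a, .c, .b, .c, .e, .d, .e, .d, .b, .e, .a, .e, .d, .a, .d])) (nd 2339 (lf [.c, .d, .d, .b, .d, .b, .d, .e, .c, .b, .e, .a, .b, .c, .a, .b, .a, .b, .a, .c, .b, .a, .c, .b, .c, .d, .b, .d, .c, .d, .a, .b, .e, .b, .c, .e, .d, .c, .a, .b, .a, .c, .d, .d, .b, .d, .b, .d, .d, .c, .a, .b, .a]) (lf [.b, .d, .a, .b, .a, .c, .a, .d, .a, .b, .a, .b, .c, .b, .c, .b, .a, .c, .b, .a, .b, .a, .e, .a, .e, .b, .d, .e, .d, .e, .c, .b, .c, .d, .b, .d, .c, .b, .c, .d, .b, .d, .e, .d, .e,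 .d, .b, .e, .a, .e]))) (nd 2342 (nd 2341 (lf [.c, .a, .c, .b, .a, .c, .a, .b, .c, .a, .d, .a, .c, .b, .a, .c, .a, .e, .a, .e, .b, .d, .e, .d, .e, .d, .b, .d, .a, .d, .b, .d, .a, .e, .d, .e, .d, .b, .e, .a, .e, .b, .a]) (lf [.a, .b, .c, .b, .c, .a, .b, .c, .a, .b, .c, .b, .c, .b, .d, .c, .d, .b, .a, .d, .c, .e, .a, .e, .d, .b, .a, .b, .d, .b, .d, .c, .d, .b, .d, .b, .a, .b, .d, .b, .d, .c, .d, .b, .e, .a, .e, .a, .b])) (nd 2343 (lf [.c, .d, .d, .b, .c, .b, .a, .b, .c, .b, .d, .d, .c, .b, .c, .b, .c, .d, .d, .b, .c, .b, .a, .b, .c, .b, .d, .e, .b, .a, .e, .b, .d, .b, .d, .c, .a, .c, .a, .d, .c, .b, .c, .b, .a, .c, .b, .a, .c, .a, .b, .a, .b, .a, .e, .a, .b, .e, .d, .c, .b, .c, .b]) (lf [.b, .c, .b, .c, .b, .c, .e, .b, .c, .e, .d, .c, .a, .b, .a, .c, .d, .b, .d, .c, .a, .b, .a, .c, .d, .b, .e, .c, .b, .e, .b, .a,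 .c, .a, .b, .c, .a, .b, .a, .c, .d])))) (nd 2348 (nd 2346 (nd 2345 (lf [.c, .d, .c, .b, .c, .b, .c, .a, .c, .b, .b, .c, .d, .c, .d, .b, .b, .c, .a, .c, .b, .c, .e, .a, .d, .b, .d, .c, .a, .e, .c, .b, .d, .c, .a, .d, .a, .d, .a, .b, .c, .a, .b, .c, .a, .b, .c, .a, .b, .a, .c, .a, .b, .e, .a, .c, .d, .b, .d, .a, .e, .b, .d]) (lf [.c, .a, .c, .a, .c, .d, .a, .d, .c, .a, .c, .a, .c, .a, .c, .d, .a, .d, .c, .e, .a, .e, .b, .c, .a, .c, .d, .b, .d, .a, .c, .a, .b, .c, .b, .c, .a, .b, .c, .b, .a, .b, .a, .e, .a, .e, .a])) (nd 2347 (lf [.c, .a, .b, .e, .a, .e, .b, .d, .e, .d, .e, .a, .d, .b, .d, .a, .d, .b, .d, .e, .d, .e, .d, .b, .e, .a, .e, .a, .c, .a, .b, .c, .a, .d, .a, .c, .b, .a, .c, .a, .b, .c, .a]) (lf [.a, .d, .b, .d, .c, .a, .e, .b, .a, .b, .c, .b, .a, .c, .b, .c, .b, .a, .b, .a, .c, .b, .d, .b, .c, .a, .b, .c,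 .a, .e, .a, .c, .d, .b, .d, .a, .e, .b, .d, .c, .d, .c, .b, .a, .c, .d, .c, .a, .b, .c, .d, .c, .d, .b, .a, .c, .d, .c, .a, .e]))) (nd 2350 (nd 2349 (lf [.c, .b, .c, .d, .b, .d, .e, .d, .e, .d, .b, .e, .a, .e, .b, .d, .a, .b, .a, .c, .a, .d, .a, .b, .a, .b, .c, .b, .c, .b, .a, .c, .b, .a, .b, .a, .e, .a, .e, .b, .d, .e, .d, .e, .c, .b, .c, .d, .b, .d]) (lf [.b, .d, .b, .d, .b, .c, .a, .b, .a, .d, .e, .a, .c, .a, .b, .c, .a, .b, .c, .b, .a, .c, .d, .b, .d, .a, .b, .c, .b, .e, .c, .b, .d, .b, .d, .b, .c, .d, .a, .b, .a, .c])) (nd 2351 (lf [.a, .c, .b, .c, .a, .e, .b, .c, .e, .d, .b, .d, .b, .d, .c, .b, .d, .a, .b, .a, .b, .c, .d, .b, .d, .b, .d, .c, .b, .a, .b, .a, .d, .b, .c, .e, .c, .b, .e, .b, .a, .d, .a, .d, .b, .c, .d, .b, .a, .c, .b, .a, .b]) (lf [.e, .b, .a, .c, .b, .a, .c, .b, .a, .b, .c, .b, .c, .a, .d,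 .c, .a, .b, .a, .b, .e, .a, .e, .b, .d, .e, .d, .e, .b, .c, .b, .a, .b, .c, .b, .a, .e, .d, .e, .d, .b, .e, .a]))))) (nd 2360 (nd 2356 (nd 2354 (nd 2353 (lf [.b, .e, .a, .c, .d, .b, .d, .a, .e, .a, .c, .d, .c, .a, .c, .b, .c, .a, .c, .b, .a, .c, .d, .c, .a, .b, .c, .a, .c, .b, .c, .e, .a, .d, .b, .d, .c, .a, .e, .b, .c, .b, .c, .a, .c, .d, .b, .a, .b, .c, .a, .c, .a, .b, .a, .c]) (lf [.d, .b, .d, .b, .e, .d, .c, .e, .a, .b, .c, .a, .c, .b, .a, .c, .b, .a, .d, .b, .a, .b, .d, .c, .a, .b, .e, .c, .d, .e, .a, .d, .c, .a, .c, .d, .a, .b, .d, .b, .d, .b, .a, .d, .c, .a, .c, .d, .a, .b])) (nd 2355 (lf [.b, .d, .c, .d, .a, .b, .e, .b, .c, .e, .d, .c, .a, .b, .a, .c, .d, .d, .b, .d, .b, .d, .d, .c, .a, .b, .a, .c, .d, .d, .b, .d, .b, .d, .e, .c, .b, .e, .a, .b, .c, .a, .b, .a, .b, .a, .c, .b, .a, .c, .b, .c, .d]) (lf [.d,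 .a, .b, .a, .b, .c, .b, .c, .b, .a, .b, .a, .d, .b, .c, .e, .c, .b, .e, .b, .a, .c, .d, .a, .c, .d, .b, .d, .a, .c, .a, .c, .b, .a, .c, .a, .b, .a, .b, .a, .c, .a, .b, .a, .b, .a, .e, .b, .c, .e, .b, .c, .b]))) (nd 2358 (nd 2357 (lf [.b, .c, .e, .c, .b, .c, .b, .c, .a, .b, .a, .d, .c, .d, .b, .e, .a, .c, .b, .c, .b, .c, .b, .a, .c, .b, .d, .b, .d, .b, .c, .a, .b, .c, .b, .c, .b, .c, .a, .c, .b, .d, .b, .d]) (lf [.b, .c, .a, .d, .c, .a, .d, .a, .d, .e, .a, .e, .b, .d, .e, .d, .e, .c, .b, .c, .a, .c, .b, .c, .a, .e, .d, .e, .d, .b, .e, .a, .e, .a, .c, .a, .c, .b, .a, .c, .a])) (nd 2359 (lf [.d, .b, .c, .a, .b, .a, .b, .c, .b, .c, .a, .b, .c, .b, .a, .b, .e, .a, .c, .d, .b, .d, .a, .e, .a, .c, .d, .c, .a, .b, .d, .c, .d, .c, .b, .a, .c, .d, .c, .a, .b, .c, .d, .c, .d, .b, .e, .a, .d, .b, .d, .c, .a, .e, .a, .c, .b,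 .a, .c, .b]) (lf [.c, .a, .b, .e, .a, .b, .e, .b, .a, .b, .d, .b, .a, .b, .a, .d, .b, .c, .b, .a, .b, .c, .b, .d, .a, .b, .a, .b, .d, .b, .a, .b, .d, .b, .c, .b, .a, .b, .c, .b, .d, .e, .b, .a, .e, .c, .a, .b, .a, .c, .a, .c, .a, .d, .a, .b, .a, .c, .b, .a, .c, .b])))) (nd 2364 (nd 2362 (nd 2361 (lf [.b, .d, .b, .d, .b, .c, .a, .a, .b, .c, .b, .c, .b, .c, .a, .e, .a, .b, .a, .b, .c, .a, .b, .a, .c, .b, .c, .b, .d, .a, .d, .b, .c, .a, .b, .e, .a, .c, .b, .d, .b, .d, .b, .c, .a, .a, .c, .b, .c, .b, .c, .b, .a, .a, .c]) (lf [.a, .b, .d, .b, .c, .a, .d, .a, .b, .e, .b, .c, .e, .c, .b, .d, .a, .b, .a, .b, .c, .c, .d, .a, .b, .a, .c, .c, .b, .a, .b, .a, .d, .b, .c, .c, .a, .b, .a, .d, .c, .e, .c, .b, .e, .b, .a, .b, .c, .a, .c])) (nd 2363 (lf [.d, .a, .d, .c, .a, .c, .a, .c, .a, .c, .d, .a, .d, .c, .e, .a, .e, .b, .c,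 .a, .c, .d, .b, .d, .a, .c, .a, .b, .c, .b, .c, .a, .b, .c, .b, .a, .b, .a, .e, .a, .e, .a, .c, .a, .c, .a, .c]) (lf [.c, .a, .d, .b, .c, .a, .c, .a, .b, .c, .b, .c, .b, .e, .b, .c, .e, .d, .b, .d, .b, .d, .c, .d, .a, .b, .a, .c, .d, .b, .d, .b, .d, .c, .a, .b, .a, .d, .c, .e, .c, .b, .e, .b, .d, .c, .b]))) (nd 2366 (nd 2365 (lf [.c, .d, .c, .a, .e, .a, .d, .b, .d, .c, .a, .e, .b, .c, .a, .b, .a, .c, .a, .c, .b, .a, .b, .d, .c, .a, .c, .b, .c, .b, .e, .a, .c, .d, .b, .d, .a, .e, .c, .b, .c, .a, .c, .b, .a, .c, .d, .c, .a, .b, .c, .a, .c, .b, .c, .a]) (lf [.c, .b, .a, .c, .a, .e, .a, .e, .b, .d, .e, .d, .e, .d, .b, .d, .a, .d, .b, .d, .a, .e, .d, .e, .d, .b, .e, .a, .e, .b, .a, .c, .a, .c, .b, .a, .c, .a, .b, .c, .a, .d, .a])) (nd 2367 (lf [.a, .b, .c, .a, .d, .c, .d, .b, .a, .c, .b, .a, .b, .c, .b, .c, .a, .b,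 .e, .a, .e, .b, .d, .e, .d, .e, .b, .c, .b, .d, .b, .d, .b, .c, .b, .d, .b, .d, .e, .d, .e, .d, .b, .e, .a, .e]) (lf [.a, .c, .b, .a, .c, .b, .a, .b, .c, .b, .c, .a, .d, .c, .a, .b, .a, .b, .e, .a, .e, .b, .d, .e, .d, .e, .b, .c, .b, .a, .b, .c, .b, .a, .e, .d, .e, .d, .b, .e, .a, .e, .b])))))))
noncomputable def tc3kw_circT_c37 : ℕ → List Gen := (nd 2400 (nd 2384 (nd 2376 (nd 2372 (nd 2370 (nd 2369 (lf [.b, .d, .b, .a, .c, .a, .c, .b, .c, .a, .c, .b, .a, .c, .a, .b, .d, .b, .b, .c, .a, .c, .b, .c, .e, .a, .d, .b, .d, .c, .a, .e, .d, .c, .a, .c, .a, .d, .c, .a, .d, .c, .a, .b, .a, .c, .a, .c, .b, .a, .c, .a, .b, .e, .a, .c, .d, .b, .d, .a, .e]) (lf [.b, .d, .b, .a, .b, .d, .b, .d, .c, .d, .b, .d, .b, .a, .b, .d, .e, .a, .e, .c, .d, .a, .b, .d, .c, .d, .b, .c, .b, .c, .b, .a, .c, .b, .a, .c, .b, .c, .b, .a, .b,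 .a, .e, .a, .e, .b, .d, .c, .d])) (nd 2371 (lf [.b, .c, .a, .b, .c, .b, .a, .c, .d, .b, .d, .a, .b, .c, .b, .e, .c, .b, .d, .b, .d, .b, .c, .d, .a, .b, .a, .c, .b, .d, .b, .d, .b, .c, .a, .b, .a, .d, .e, .a, .c, .a]) (lf [.a, .c, .a, .c, .a, .e, .a, .e, .a, .b, .a, .b, .c, .b, .a, .c, .b, .c, .b, .a, .c, .a, .d, .b, .d, .c, .a, .c, .b, .e, .a, .e, .c, .d, .a, .d, .c, .a, .c, .a, .c, .a, .c, .d, .a, .d, .c]))) (nd 2374 (nd 2373 (lf [.a, .c, .b, .a, .b, .e, .a, .c, .d, .b, .d, .a, .e, .a, .c, .d, .c, .a, .b, .d, .b, .a, .c, .a, .a, .c, .d, .c, .a, .a, .c, .a, .b, .d, .b, .e, .a, .d, .b, .d, .c, .a, .e, .c, .b, .d, .a, .d, .c, .b, .d, .b, .a, .b, .c, .b, .c, .b]) (lf [.b, .a, .c, .d, .b, .d, .b, .d, .c, .a, .b, .a, .d, .c, .e, .c, .b, .e, .b, .d, .c, .b, .c, .a, .d, .b, .c, .a, .c, .a, .b, .c, .b, .c, .b, .e, .b,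 .c, .e, .d, .b, .d, .b, .d, .c, .d, .a])) (nd 2375 (lf [.d, .b, .d, .b, .c, .a, .a, .b, .c, .b, .c, .b, .c, .a, .a, .c, .b, .d, .b, .d, .b, .c, .a, .e, .b, .a, .c, .b, .d, .a, .d, .b, .c, .b, .c, .a, .b, .a, .c, .b, .a, .b, .a, .e, .a, .c, .b, .c, .b, .c, .b, .a, .a, .c, .b]) (lf [.b, .a, .c, .a, .e, .d, .a, .b, .a, .c, .b, .d, .b, .d, .b, .c, .a, .b, .a, .d, .c, .b, .d, .b, .d, .b, .c, .e, .b, .c, .b, .a, .d, .b, .d, .c, .a, .b, .c, .b, .a, .c])))) (nd 2380 (nd 2378 (nd 2377 (lf [.a, .d, .c, .a, .d, .a, .d, .e, .a, .e, .b, .d, .e, .d, .e, .c, .b, .c, .a, .c, .b, .c, .a, .e, .d, .e, .d, .b, .e, .a, .e, .a, .c, .a, .c, .b, .a, .c, .a, .b, .c]) (lf [.d, .a, .c, .b, .a, .c, .a, .e, .a, .e, .b, .d, .e, .d, .e, .d, .b, .d, .a, .d, .b, .d, .a, .e, .d, .e, .d, .b, .e, .a, .e, .b, .a, .c, .a, .c, .b, .a, .c, .a, .b, .c,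 .a])) (nd 2379 (lf [.a, .c, .a, .b, .c, .a, .d, .a, .c, .b, .a, .c, .a, .b, .c, .a, .c, .a, .b, .e, .a, .e, .b, .d, .e, .d, .e, .a, .d, .b, .d, .a, .d, .b, .d, .e, .d, .e, .d, .b, .e, .a, .e]) (lf [.b, .a, .a, .c, .b, .d, .b, .d, .b, .c, .a, .a, .b, .c, .b, .c, .b, .c, .a, .a, .c, .b, .d, .b, .d, .b, .c, .a, .e, .b, .a, .c, .b, .d, .a, .d, .b, .c, .b, .c, .a, .b, .a, .c, .b, .a, .b, .a, .e, .a, .c, .b, .c, .b, .c]))) (nd 2382 (nd 2381 (lf [.b, .a, .c, .a, .c, .a, .b, .a, .e, .b, .c, .e, .b, .c, .d, .a, .b, .a, .c, .b, .c, .a, .b, .a, .d, .c, .e, .c, .b, .e, .b, .c, .d, .a, .d, .c, .d, .a, .c, .b, .a, .c]) (lf [.b, .c, .b, .c, .b, .a, .c, .b, .a, .b, .e, .a, .c, .d, .b, .d, .a, .e, .a, .c, .d, .c, .a, .b, .d, .b, .a, .c, .a, .a, .c, .d, .c, .a, .a, .c, .a, .b, .d, .b, .e, .a, .d, .b, .d, .c, .a, .e, .c, .b, .d,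 .a, .d, .c, .b, .d, .b, .a])) (nd 2383 (lf [.a, .e, .d, .e, .d, .b, .e, .a, .e, .b, .a, .c, .b, .a, .c, .b, .a, .b, .c, .b, .c, .a, .d, .c, .a, .b, .a, .b, .e, .a, .e, .b, .d, .e, .d, .e, .b, .c, .b, .a, .b, .c, .b]) (lf [.c, .a, .b, .c, .b, .a, .c, .d, .b, .d, .a, .b, .c, .b, .e, .c, .b, .d, .b, .d, .b, .c, .d, .a, .b, .a, .c, .b, .d, .b, .d, .b, .c, .a, .b, .a, .d, .e, .a, .c, .a, .b]))))) (nd 2392 (nd 2388 (nd 2386 (nd 2385 (lf [.b, .d, .b, .c, .d, .a, .d, .b, .c, .e, .a, .c, .d, .b, .d, .a, .e, .b, .d, .b, .a, .c, .a, .a, .c, .d, .c, .a, .a, .c, .a, .b, .d, .b, .a, .c, .d, .c, .a, .e, .a, .d, .b, .d, .c, .a, .e, .b, .a, .b, .c, .a, .b, .c, .b, .c, .b, .a]) (lf [.c, .b, .c, .b, .a, .c, .a, .c, .b, .d, .a, .c, .b, .c, .d, .b, .e, .b, .c, .e, .c, .d, .a, .b, .a, .c, .d, .b, .d, .b, .d, .c, .a, .b, .a, .d, .c,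 .d, .b, .d, .b, .d, .e, .c, .b, .e, .b])) (nd 2387 (lf [.b, .c, .a, .b, .a, .c, .a, .c, .b, .a, .b, .d, .c, .a, .c, .b, .c, .b, .e, .a, .c, .d, .b, .d, .a, .e, .c, .b, .c, .a, .c, .b, .a, .c, .d, .c, .a, .b, .c, .a, .c, .b, .c, .a, .c, .d, .c, .a, .e, .a, .d, .b, .d, .c, .a, .e]) (lf [.c, .a, .e, .a, .e, .c, .b, .a, .c, .b, .a, .c, .b, .c, .b, .c, .d, .a, .c, .b, .a, .c, .e, .a, .e, .b, .d, .c, .d, .b, .a, .c, .a, .c, .a, .b, .d, .c, .d, .b, .a, .c, .a]))) (nd 2390 (nd 2389 (lf [.b, .d, .a, .c, .b, .c, .d, .b, .e, .b, .c, .e, .c, .d, .a, .b, .a, .c, .d, .b, .d, .b, .d, .c, .a, .b, .a, .d, .c, .d, .b, .d, .b, .d, .e, .c, .b, .e, .b, .c, .b, .c, .b, .a, .c, .a, .c]) (lf [.d, .c, .d, .b, .e, .a, .e, .c, .a, .b, .c, .a, .d, .c, .b, .c, .b, .c, .a, .b, .c, .a, .b, .c, .e, .a, .e, .a, .c, .a, .c, .a, .b, .d, .c, .d,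 .b, .a, .c, .a, .c, .a, .b])) (nd 2391 (lf [.b, .a, .e, .a, .e, .c, .d, .a, .d, .c, .d, .b, .a, .b, .d, .c, .d, .a, .d, .c, .d, .b, .a, .b, .d, .e, .a, .e, .a, .c, .b, .c, .b, .c, .a, .d, .a, .c, .a, .c, .a, .b, .c, .b, .c]) (lf [.c, .d, .b, .d, .c, .a, .b, .a, .c, .d, .e, .c, .b, .e, .c, .b, .c, .b, .c, .b, .d, .c, .a, .b, .a, .c, .b, .a, .c, .a, .b, .e, .b, .c, .e, .b, .d, .c, .a, .b, .a])))) (nd 2396 (nd 2394 (nd 2393 (lf [.a, .b, .a, .b, .c, .d, .c, .a, .b, .a, .c, .d, .c, .b, .a, .b, .a, .d, .b, .c, .e, .c, .b, .e, .c, .b, .d, .a, .b, .d, .a, .c, .b, .c, .b, .a, .c, .b, .c, .a, .e, .b, .c, .e, .d, .c, .a, .b, .a, .c, .d, .c, .b, .d]) (lf [.a, .c, .a, .b, .c, .b, .c, .b, .e, .b, .c, .e, .d, .b, .d, .b, .d, .c, .d, .a, .b, .a, .c, .d, .b, .d, .b, .d, .c, .a, .b, .a, .d, .c, .e, .c, .b, .e, .b, .d, .c, .b, .c,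 .a, .d, .b, .c])) (nd 2395 (lf [.c, .d, .b, .a, .c, .a, .c, .a, .b, .d, .c, .d, .b, .e, .a, .e, .c, .a, .b, .c, .a, .d, .c, .b, .c, .b, .c, .a, .b, .c, .a, .b, .c, .e, .a, .e, .a, .c, .a, .c, .a, .b, .d]) (lf [.b, .e, .c, .d, .e, .a, .d, .c, .a, .c, .d, .a, .b, .d, .b, .d, .b, .a, .d, .c, .a, .c, .d, .a, .b, .d, .b, .d, .b, .e, .d, .c, .e, .a, .b, .c, .a, .c, .b, .a, .c, .b, .a, .d, .b, .a, .b, .d, .c, .a]))) (nd 2398 (nd 2397 (lf [.c, .d, .b, .e, .b, .c, .e, .c, .d, .a, .b, .a, .c, .d, .b, .d, .b, .d, .c, .a, .b, .a, .d, .c, .d, .b, .d, .b, .d, .e, .c, .b, .e, .b, .c, .b, .c, .b, .a, .c, .a, .c, .b, .d, .a, .c, .b]) (lf [.a, .b, .c, .a, .b, .c, .a, .b, .a, .e, .a, .b, .e, .a, .c, .a, .c, .a, .b, .a, .b, .d, .b, .a, .b, .a, .a, .c, .a, .c, .a, .a, .b, .a, .b, .d, .b, .a, .b, .e, .b, .a, .e, .c, .d, .b, .d, .b,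 .d, .a, .c, .b])) (nd 2399 (lf [.b, .e, .b, .c, .e, .d, .b, .d, .b, .d, .c, .d, .a, .b, .a, .c, .d, .b, .d, .b, .d, .c, .a, .b, .a, .d, .c, .e, .c, .b, .e, .b, .d, .c, .b, .c, .a, .d, .b, .c, .a, .c, .a, .b, .c, .b, .c]) (lf [.d, .a, .c, .b, .a, .c, .e, .a, .e, .b, .d, .c, .d, .b, .a, .c, .a, .c, .a, .b, .d, .c, .d, .b, .a, .c, .a, .c, .a, .e, .a, .e, .c, .b, .a, .c, .b, .a, .c, .b, .c, .b, .c])))))) (nd 2416 (nd 2408 (nd 2404 (nd 2402 (nd 2401 (lf [.b, .c, .a, .b, .c, .e, .a, .e, .a, .c, .a, .c, .a, .b, .d, .c, .d, .b, .a, .c, .a, .c, .a, .b, .d, .c, .d, .b, .e, .a, .e, .c, .a, .b, .c, .a, .d, .c, .b, .c, .b, .c, .a]) (lf [.c, .b, .c, .b, .c, .e, .b, .c, .e, .d, .c, .a, .b, .a, .c, .d, .b, .d, .c, .a, .b, .a, .c, .d, .b, .e, .c, .b, .e, .b, .a, .c, .a, .b, .c, .a, .b, .a, .c, .d, .b])) (nd 2403 (lf [.a, .d, .a,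 .c, .a, .c, .a, .b, .c, .b, .c, .b, .a, .e, .a, .e, .c, .d, .a, .d, .c, .d, .b, .a, .b, .d, .c, .d, .a, .d, .c, .d, .b, .a, .b, .d, .e, .a, .e, .a, .c, .b, .c, .b, .c]) (lf [.a, .b, .d, .c, .d, .a, .c, .b, .a, .e, .a, .e, .b, .d, .e, .d, .e, .d, .b, .d, .b, .c, .b, .d, .b, .d, .b, .c, .b, .e, .d, .e, .d, .b, .e, .a, .e, .b, .a, .c, .b, .c, .b, .a, .b, .c]))) (nd 2406 (nd 2405 (lf [.c, .b, .c, .b, .e, .a, .c, .d, .b, .d, .a, .e, .c, .b, .c, .a, .c, .b, .a, .c, .d, .c, .a, .b, .c, .a, .c, .b, .c, .a, .c, .d, .c, .a, .e, .a, .d, .b, .d, .c, .a, .e, .b, .c, .a, .b, .a, .c, .a, .c, .b, .a, .b, .d, .c, .a]) (lf [.a, .e, .b, .d, .e, .d, .e, .b, .c, .b, .d, .b, .d, .b, .c, .b, .d, .b, .d, .e, .d, .e, .d, .b, .e, .a, .e, .a, .b, .c, .a, .d, .c, .d, .b, .a, .c, .b, .a, .b, .c, .b, .c, .a, .b, .e])) (nd 2407 (lf [.c, .a,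 .b, .c, .b, .c, .b, .d, .c, .d, .b, .a, .d, .c, .e, .a, .e, .d, .b, .a, .b, .d, .b, .d, .c, .d, .b, .d, .b, .a, .b, .d, .b, .d, .c, .d, .b, .e, .a, .e, .a, .b, .a, .b, .c, .b, .c, .a, .b]) (lf [.b, .d, .b, .c, .a, .c, .b, .c, .b, .c, .b, .a, .c, .b, .d, .b, .d, .b, .c, .a, .b, .c, .b, .c, .b, .c, .a, .e, .b, .d, .c, .d, .a, .b, .a, .c, .b, .c, .b, .c, .e, .c, .b, .d])))) (nd 2412 (nd 2410 (nd 2409 (lf [.b, .c, .d, .b, .e, .b, .c, .e, .c, .d, .a, .b, .a, .c, .d, .b, .d, .b, .d, .c, .a, .b, .a, .d, .c, .d, .b, .d, .b, .d, .e, .c, .b, .e, .b, .c, .b, .c, .b, .a, .c, .a, .c, .b, .d, .a, .c]) (lf [.a, .b, .d, .c, .d, .b, .a, .c, .a, .c, .a, .b, .d, .c, .d, .b, .e, .a, .e, .c, .a, .b, .c, .a, .d, .c, .b, .c, .b, .c, .a, .b, .c, .a, .b, .c, .e, .a, .e, .a, .c, .a, .c])) (nd 2411 (lf [.d, .b, .c, .a, .b, .e, .a, .c, .b,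 .d, .b, .d, .b, .c, .a, .a, .c, .b, .c, .b, .c, .b, .a, .a, .c, .b, .d, .b, .d, .b, .c, .a, .a, .b, .c, .b, .c, .b, .c, .a, .e, .a, .b, .a, .b, .c, .a, .b, .a, .c, .b, .c, .b, .d, .a]) (lf [.b, .a, .b, .c, .a, .c, .a, .b, .a, .c, .b, .e, .a, .c, .d, .b, .d, .a, .e, .a, .c, .d, .c, .a, .c, .b, .c, .a, .c, .b, .a, .c, .d, .c, .a, .b, .c, .a, .c, .b, .c, .e, .a, .d, .b, .d, .c, .a, .e, .b, .c, .b, .c, .a, .c, .d]))) (nd 2414 (nd 2413 (lf [.c, .b, .a, .c, .b, .a, .d, .b, .a, .b, .d, .c, .a, .b, .e, .c, .d, .e, .a, .d, .c, .a, .c, .d, .a, .b, .d, .b, .d, .b, .a, .d, .c, .a, .c, .d, .a, .b, .d, .b, .d, .b, .e, .d, .c, .e, .a, .b, .c, .a]) (lf [.a, .d, .e, .a, .e, .b, .d, .e, .d, .e, .c, .b, .c, .a, .c, .b, .c, .a, .e, .d, .e, .d, .b, .e, .a, .e, .a, .c, .a, .c, .b, .a, .c, .a, .b, .c, .a, .d, .c, .a, .d])) (nd 2415 (lf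 [.c, .b, .c, .a, .b, .e, .a, .b, .e, .b, .a, .b, .d, .b, .a, .b, .a, .d, .b, .c, .b, .a, .b, .c, .b, .d, .a, .b, .a, .b, .d, .b, .a, .b, .d, .b, .c, .b, .a, .b, .c, .b, .d, .e, .b, .a, .e, .c, .a, .b, .a, .c, .a, .c, .a, .d, .a, .b, .a, .c, .b, .a]) (lf [.a, .b, .d, .c, .d, .c, .b, .a, .c, .d, .c, .a, .b, .c, .d, .c, .d, .b, .e, .a, .d, .b, .d, .c, .a, .e, .a, .c, .b, .a, .c, .b, .d, .b, .c, .a, .b, .a, .b, .c, .b, .c, .a, .b, .c, .b, .a, .b, .e, .a, .c, .d, .b, .d, .a, .e, .a, .c, .d, .c]))))) (nd 2424 (nd 2420 (nd 2418 (nd 2417 (lf [.c, .a, .c, .a, .c, .d, .a, .d, .c, .e, .a, .e, .b, .c, .a, .c, .d, .b, .d, .a, .c, .a, .b, .c, .b, .c, .a, .b, .c, .b, .a, .b, .a, .e, .a, .e, .a, .c, .a, .c, .a, .c, .d, .a, .d, .c, .a]) (lf [.d, .b, .a, .b, .d, .e, .a, .e, .a, .c, .b, .c, .b, .c, .a, .d, .a, .c, .a, .c, .a, .b,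 .c, .b, .c, .b, .a, .e, .a, .e, .c, .d, .a, .d, .c, .d, .b, .a, .b, .d, .c, .d, .a, .d, .c])) (nd 2419 (lf [.b, .c, .a, .c, .a, .b, .d, .b, .e, .a, .d, .b, .d, .c, .a, .e, .b, .a, .c, .a, .b, .c, .a, .c, .a, .b, .a, .c, .d, .a, .c, .d, .a, .c, .a, .c, .d, .e, .a, .c, .d, .b, .d, .a, .e, .c, .b, .c, .a, .c, .b, .b, .d, .b, .a, .c, .a, .b, .c, .a, .c]) (lf [.d, .b, .d, .b, .d, .c, .e, .a, .b, .e, .b, .a, .b, .d, .b, .a, .b, .a, .a, .c, .a, .c, .a, .a, .b, .a, .b, .d, .b, .a, .b, .a, .c, .a, .c, .a, .e, .b, .a, .e, .a, .b, .a, .c, .b, .a, .c, .b, .a, .b, .c, .a]))) (nd 2422 (nd 2421 (lf [.a, .c, .b, .a, .b, .a, .e, .a, .c, .b, .c, .b, .c, .b, .a, .a, .c, .b, .d, .b, .d, .b, .c, .a, .a, .b, .c, .b, .c, .b, .c, .a, .a, .c, .b, .d, .b, .d, .b, .c, .a, .e, .b, .a, .c, .b, .d, .a, .d, .b, .c, .b, .c, .a, .b]) (lf [.b,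 .a, .c, .b, .c, .b, .c, .d, .a, .c, .b, .a, .c, .e, .a, .e, .b, .d, .c, .d, .b, .a, .c, .a, .c, .a, .b, .d, .c, .d, .b, .a, .c, .a, .c, .a, .e, .a, .e, .c, .b, .a, .c])) (nd 2423 (lf [.c, .b, .d, .b, .d, .b, .c, .b, .e, .d, .e, .d, .b, .e, .a, .e, .b, .a, .c, .b, .c, .b, .a, .b, .c, .a, .b, .d, .c, .d, .a, .c, .b, .a, .e, .a, .e, .b, .d, .e, .d, .e, .d, .b, .d, .b]) (lf [.d, .b, .d, .c, .a, .e, .b, .a, .b, .c, .b, .a, .c, .b, .c, .b, .a, .b, .a, .c, .b, .d, .b, .c, .a, .b, .c, .a, .e, .a, .c, .d, .b, .d, .a, .e, .b, .d, .c, .d, .c, .b, .a, .c, .d, .c, .a, .b, .c, .d, .c, .d, .b, .a, .c, .d, .c, .a, .e, .a])))) (nd 2428 (nd 2426 (nd 2425 (lf [.d, .b, .d, .c, .d, .a, .d, .c, .b, .e, .a, .b, .e, .d, .c, .b, .c, .b, .c, .d, .a, .c, .a, .c, .a, .d, .c, .b, .c, .b, .c, .d, .a, .c, .a, .c, .a, .e, .b, .a, .e, .a, .b,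 .c, .b, .a, .c, .b, .a, .c, .b, .a]) (lf [.c, .a, .d, .b, .a, .b, .d, .a, .c, .a, .c, .a, .e, .a, .e, .a, .b, .a, .b, .a, .c, .b, .a, .c, .b, .a, .c, .b, .c, .b, .d, .b, .a, .b, .c, .a, .b, .a, .b, .e, .a, .e, .d, .b, .a, .b, .d, .a, .c, .a])) (nd 2427 (lf [.c, .a, .c, .a, .e, .a, .e, .a, .b, .a, .b, .a, .c, .b, .a, .c, .b, .a, .c, .b, .c, .b, .d, .b, .a, .b, .c, .a, .b, .a, .b, .e, .a, .e, .d, .b, .a, .b, .d, .a, .c, .a, .c, .a, .d, .b, .a, .b, .d, .a]) (lf [.a, .b, .c, .a, .b, .c, .a, .c, .b, .a, .e, .c, .d, .e, .b, .d, .b, .d, .b, .a, .d, .c, .a, .c, .d, .a, .b, .d, .b, .d, .b, .a, .d, .c, .a, .c, .d, .a, .e, .d, .c, .e, .b, .a, .c, .d, .b, .a, .b, .d]))) (nd 2430 (nd 2429 (lf [.b, .a, .b, .d, .a, .e, .a, .c, .b, .d, .b, .d, .b, .c, .a, .d, .a, .b, .a, .a, .c, .b, .d, .b, .d, .b, .c, .a, .a, .b, .a, .d, .e,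 .a, .b, .a, .c, .a, .c, .a, .b, .c, .a, .b, .c, .b, .c, .d, .a, .c]) (lf [.a, .b, .a, .a, .c, .b, .d, .b, .d, .b, .c, .a, .a, .b, .a, .d, .e, .a, .b, .a, .c, .a, .c, .a, .b, .c, .a, .b, .c, .b, .c, .d, .a, .c, .b, .a, .b, .d, .a, .e, .a, .c, .b, .d, .b, .d, .b, .c, .a, .d])) (nd 2431 (lf [.c, .d, .b, .d, .a, .b, .c, .b, .e, .c, .b, .d, .b, .d, .b, .c, .d, .a, .b, .a, .c, .b, .d, .b, .d, .b, .c, .a, .b, .a, .d, .e, .a, .c, .a, .b, .c, .a, .b, .c, .b, .a]) (lf [.a, .c, .b, .a, .c, .a, .c, .a, .b, .a, .e, .d, .a, .b, .a, .a, .c, .b, .d, .b, .d, .b, .c, .a, .a, .b, .a, .d, .a, .c, .b, .d, .b, .d, .b, .c, .a, .e, .a, .d, .b, .a, .b, .c, .a, .d, .c, .b, .c, .b])))))))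
noncomputable def tc3kw_circT_c38 : ℕ → List Gen := (nd 2464 (nd 2448 (nd 2440 (nd 2436 (nd 2434 (nd 2433 (lf [.b, .c, .b, .e, .d, .e, .d, .b, .e, .a, .e, .b, .a, .c, .b, .c, .b, .a, .b, .c, .a, .b, .d, .c, .d, .a, .c, .b, .a, .e, .a, .e, .b, .d, .e, .d, .e, .d, .b, .d, .b, .c, .b, .d, .b, .d]) (lf [.e, .a, .e, .b, .d, .e, .d, .e, .a, .c, .b, .c, .a, .c, .b, .c, .e, .d, .e, .d, .b, .e, .a, .e, .d, .a, .d, .a, .c, .d, .a, .c, .b, .a, .c, .a, .b, .c, .a, .c, .a])) (nd 2435 (lf [.c, .a, .c, .b, .c, .a, .c, .b, .a, .c, .d, .c, .a, .b, .c, .a, .c, .b, .c, .e, .a, .d, .b, .d, .c, .a, .e, .b, .c, .b, .c, .a, .c, .d, .b, .a, .b, .c, .a, .c, .a, .b, .a, .c, .b, .e, .a, .c, .d, .b, .d, .a, .e, .a, .c, .d]) (lf [.a, .c, .b, .a, .c, .a, .b, .c, .a, .c, .a, .b, .e, .a, .e, .b, .d, .e, .d, .e, .a, .d, .b, .d, .a, .d, .b, .d,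 .e, .d, .e, .d, .b, .e, .a, .e, .a, .c, .a, .b, .c, .a, .d]))) (nd 2438 (nd 2437 (lf [.c, .b, .a, .b, .d, .c, .a, .c, .b, .c, .b, .e, .a, .c, .d, .b, .d, .a, .e, .c, .b, .c, .a, .c, .b, .a, .c, .d, .c, .a, .b, .c, .a, .c, .b, .c, .a, .c, .d, .c, .a, .e, .a, .d, .b, .d, .c, .a, .e, .b, .c, .a, .b, .a, .c, .a]) (lf [.b, .c, .d, .a, .d, .b, .c, .e, .a, .c, .d, .b, .d, .a, .e, .b, .d, .b, .a, .c, .a, .a, .c, .d, .c, .a, .a, .c, .a, .b, .d, .b, .a, .c, .d, .c, .a, .e, .a, .d, .b, .d, .c, .a, .e, .b, .a, .b, .c, .a, .b, .c, .b, .c, .b, .a, .b, .d])) (nd 2439 (lf [.a, .d, .c, .a, .c, .d, .a, .b, .d, .b, .d, .b, .e, .d, .c, .e, .a, .b, .c, .a, .c, .b, .a, .c, .b, .a, .d, .b, .a, .b, .d, .c, .a, .b, .e, .c, .d, .e, .a, .d, .c, .a, .c, .d, .a, .b, .d, .b, .d, .b]) (lf [.c, .a, .b, .c, .b, .c, .a, .b, .c, .b, .a, .b, .a,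 .e, .a, .e, .a, .c, .a, .c, .a, .c, .d, .a, .d, .c, .a, .c, .a, .c, .a, .c, .d, .a, .d, .c, .e, .a, .e, .b, .c, .a, .c, .d, .b, .d, .a])))) (nd 2444 (nd 2442 (nd 2441 (lf [.d, .b, .a, .b, .c, .b, .c, .b, .a, .c, .b, .a, .b, .e, .a, .c, .d, .b, .d, .a, .e, .a, .c, .d, .c, .a, .b, .d, .b, .a, .c, .a, .a, .c, .d, .c, .a, .a, .c, .a, .b, .d, .b, .e, .a, .d, .b, .d, .c, .a, .e, .c, .b, .d, .a, .d, .c, .b]) (lf [.d, .c, .d, .c, .b, .b, .d, .b, .a, .c, .a, .b, .c, .d, .c, .d, .b, .a, .c, .a, .b, .d, .b, .e, .a, .d, .b, .d, .c, .a, .e, .a, .c, .d, .a, .d, .c, .a, .e, .a, .c, .d, .b, .d, .a, .e, .b])) (nd 2443 (lf [.d, .c, .c, .b, .d, .b, .d, .b, .c, .e, .b, .d, .c, .d, .c, .b, .a, .c, .a, .b, .a, .c, .a, .c, .b, .e, .c, .d, .a, .b, .a, .c, .c, .b, .d, .b, .d, .b, .c, .c, .a, .b, .a]) (lf [.b, .a, .b, .d, .a, .c, .a, .c,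 .a, .d, .b, .a, .b, .d, .a, .c, .a, .c, .a, .e, .a, .e, .a, .b, .a, .b, .a, .c, .b, .a, .c, .b, .a, .c, .b, .c, .b, .d, .b, .a, .b, .c, .a, .b, .a, .b, .e, .a, .e, .d]))) (nd 2446 (nd 2445 (lf [.b, .d, .b, .e, .a, .d, .b, .d, .c, .a, .e, .a, .c, .d, .a, .d, .c, .a, .e, .a, .c, .d, .b, .d, .a, .e, .b, .d, .c, .d, .c, .b, .b, .d, .b, .a, .c, .a, .b, .c, .d, .c, .d, .b, .a, .c, .a]) (lf [.b, .a, .c, .a, .c, .a, .e, .a, .e, .c, .b, .a, .c, .b, .a, .c, .b, .c, .b, .c, .d, .a, .c, .b, .a, .c, .e, .a, .e, .b, .d, .c, .d, .b, .a, .c, .a, .c, .a, .b, .d, .c, .d])) (nd 2447 (lf [.e, .a, .c, .d, .b, .d, .a, .e, .a, .c, .d, .c, .a, .b, .d, .c, .d, .c, .b, .a, .c, .d, .c, .a, .b, .c, .d, .c, .d, .b, .e, .a, .d, .b, .d, .c, .a, .e, .a, .c, .b, .a, .c, .b, .d, .b, .c, .a, .b, .a, .b, .c, .b, .c, .a, .b, .c, .b, .a, .b]) (lf [.b,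 .a, .b, .d, .c, .a, .b, .e, .c, .d, .e, .a, .d, .c, .a, .c, .d, .a, .b, .d, .b, .d, .b, .a, .d, .c, .a, .c, .d, .a, .b, .d, .b, .d, .b, .e, .d, .c, .e, .a, .b, .c, .a, .c, .b, .a, .c, .b, .a, .d]))))) (nd 2456 (nd 2452 (nd 2450 (nd 2449 (lf [.a, .b, .e, .b, .c, .e, .d, .c, .a, .b, .a, .c, .d, .d, .b, .d, .b, .d, .d, .c, .a, .b, .a, .c, .d, .d, .b, .d, .b, .d, .e, .c, .b, .e, .a, .b, .c, .a, .b, .a, .b, .a, .c, .b, .a, .c, .b, .c, .d, .b, .d, .c, .d]) (lf [.d, .c, .d, .b, .d, .b, .d, .e, .c, .b, .e, .b, .c, .b, .c, .b, .a, .c, .a, .c, .b, .d, .a, .c, .b, .c, .d, .b, .e, .b, .c, .e, .c, .d, .a, .b, .a, .c, .d, .b, .d, .b, .d, .c, .a, .b, .a])) (nd 2451 (lf [.d, .b, .d, .c, .d, .b, .d, .b, .a, .b, .d, .e, .a, .e, .c, .d, .a, .b, .d, .c, .d, .b, .c, .b, .c, .b, .a, .c, .b, .a, .c, .b, .c, .b, .a, .b, .a, .e, .a, .e,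 .b, .d, .c, .d, .b, .d, .b, .a, .b]) (lf [.d, .e, .b, .a, .e, .b, .c, .d, .a, .d, .c, .d, .b, .d, .a, .b, .c, .a, .b, .c, .a, .b, .c, .b, .a, .e, .a, .b, .e, .a, .c, .a, .c, .a, .d, .c, .b, .c, .b, .c, .d, .a, .c, .a, .c, .a, .d, .c, .b, .c, .b, .c]))) (nd 2454 (nd 2453 (lf [.c, .a, .b, .e, .a, .e, .b, .d, .e, .d, .e, .b, .c, .b, .d, .b, .d, .b, .c, .b, .d, .b, .d, .e, .d, .e, .d, .b, .e, .a, .e, .a, .b, .c, .a, .d, .c, .d, .b, .a, .c, .b, .a, .b, .c, .b]) (lf [.b, .d, .b, .c, .a, .b, .c, .a, .e, .a, .c, .d, .b, .d, .a, .e, .b, .d, .c, .d, .c, .b, .a, .c, .d, .c, .a, .b, .c, .d, .c, .d, .b, .a, .c, .d, .c, .a, .e, .a, .d, .b, .d, .c, .a, .e, .b, .a, .b, .c, .b, .a, .c, .b, .c, .b, .a, .b, .a, .c])) (nd 2455 (lf [.b, .c, .a, .b, .c, .a, .b, .a, .e, .a, .b, .e, .a, .c, .a, .c, .a, .b, .a, .b, .d, .b, .a, .b, .a,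 .a, .c, .a, .c, .a, .a, .b, .a, .b, .d, .b, .a, .b, .e, .b, .a, .e, .c, .d, .b, .d, .b, .d, .a, .c, .b, .a]) (lf [.c, .b, .d, .c, .a, .b, .a, .c, .b, .a, .c, .a, .b, .e, .b, .c, .e, .b, .d, .c, .a, .b, .a, .c, .d, .b, .d, .c, .a, .b, .a, .c, .d, .e, .c, .b, .e, .c, .b, .c, .b])))) (nd 2460 (nd 2458 (nd 2457 (lf [.b, .c, .a, .d, .a, .b, .a, .a, .c, .b, .d, .b, .d, .b, .c, .a, .a, .b, .a, .d, .e, .a, .b, .a, .c, .a, .c, .a, .b, .c, .a, .b, .c, .b, .c, .d, .a, .c, .b, .a, .b, .d, .a, .e, .a, .c, .b, .d, .b, .d]) (lf [.b, .c, .a, .d, .b, .c, .a, .c, .a, .b, .c, .b, .c, .e, .c, .d, .e, .a, .d, .c, .a, .c, .d, .a, .a, .c, .b, .c, .b, .c, .b, .a, .a, .d, .c, .a, .c, .d, .a, .a, .b, .c, .b, .c, .b, .c, .a, .e, .d, .c, .e, .d, .c])) (nd 2459 (lf [.c, .d, .b, .a, .d, .c, .e, .a, .e, .d, .b, .a, .b, .d, .b, .d, .c, .d, .b,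 .d, .b, .a, .b, .d, .b, .d, .c, .d, .b, .e, .a, .e, .a, .b, .a, .b, .c, .b, .c, .a, .b, .c, .a, .b, .c, .b, .c, .b, .d]) (lf [.c, .b, .a, .c, .a, .b, .c, .a, .d, .c, .a, .d, .a, .d, .e, .a, .e, .b, .d, .e, .d, .e, .c, .b, .c, .a, .c, .b, .c, .a, .e, .d, .e, .d, .b, .e, .a, .e, .a, .c, .a]))) (nd 2462 (nd 2461 (lf [.d, .b, .c, .b, .d, .b, .d, .b, .c, .b, .e, .d, .e, .d, .b, .e, .a, .e, .b, .a, .c, .b, .c, .b, .a, .b, .c, .a, .b, .d, .c, .d, .a, .c, .b, .a, .e, .a, .e, .b, .d, .e, .d, .e, .d, .b]) (lf [.d, .b, .a, .b, .d, .b, .d, .c, .d, .b, .d, .b, .a, .b, .d, .e, .a, .e, .c, .d, .a, .b, .d, .c, .d, .b, .c, .b, .c, .b, .a, .c, .b, .a, .c, .b, .c, .b, .a, .b, .a, .e, .a, .e, .b, .d, .c, .d, .b])) (nd 2463 (lf [.b, .a, .c, .d, .b, .c, .b, .c, .b, .c, .e, .b, .c, .e, .d, .c, .a, .b, .a, .c, .d, .b, .d, .c, .a, .b,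 .a, .c, .d, .b, .e, .c, .b, .e, .b, .a, .c, .a, .b, .c, .a]) (lf [.b, .c, .b, .d, .c, .a, .b, .a, .c, .b, .a, .c, .a, .b, .e, .b, .c, .e, .b, .d, .c, .a, .b, .a, .c, .d, .b, .d, .c, .a, .b, .a, .c, .d, .e, .c, .b, .e, .c, .b, .c])))))) (nd 2480 (nd 2472 (nd 2468 (nd 2466 (nd 2465 (lf [.a, .c, .a, .c, .b, .a, .b, .d, .c, .a, .c, .b, .c, .b, .e, .a, .c, .d, .b, .d, .a, .e, .c, .b, .c, .a, .c, .b, .a, .c, .d, .c, .a, .b, .c, .a, .c, .b, .c, .a, .c, .d, .c, .a, .e, .a, .d, .b, .d, .c, .a, .e, .b, .c, .a, .b]) (lf [.c, .d, .b, .e, .a, .d, .b, .d, .c, .a, .e, .a, .c, .b, .a, .c, .b, .d, .b, .c, .a, .b, .a, .b, .c, .b, .c, .a, .b, .c, .b, .a, .b, .e, .a, .c, .d, .b, .d, .a, .e, .a, .c, .d, .c, .a, .b, .d, .c, .d, .c, .b, .a, .c, .d, .c, .a, .b, .c, .d])) (nd 2467 (lf [.a, .c, .a, .c, .b, .c, .a, .c, .b, .a, .c, .a, .b,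 .d, .b, .b, .c, .a, .c, .b, .c, .e, .a, .d, .b, .d, .c, .a, .e, .d, .c, .a, .c, .a, .d, .c, .a, .d, .c, .a, .b, .a, .c, .a, .c, .b, .a, .c, .a, .b, .e, .a, .c, .d, .b, .d, .a, .e, .b, .d, .b]) (lf [.c, .b, .c, .b, .c, .a, .b, .c, .a, .b, .c, .e, .a, .e, .a, .c, .a, .c, .a, .b, .d, .c, .d, .b, .a, .c, .a, .c, .a, .b, .d, .c, .d, .b, .e, .a, .e, .c, .a, .b, .c, .a, .d]))) (nd 2470 (nd 2469 (lf [.c, .b, .a, .a, .d, .c, .a, .c, .d, .a, .a, .b, .c, .b, .c, .b, .c, .a, .a, .d, .c, .a, .c, .d, .a, .e, .d, .c, .e, .c, .b, .c, .b, .a, .c, .a, .c, .b, .d, .a, .c, .b, .c, .d, .e, .c, .d, .e, .a, .c, .b, .c, .b]) (lf [.b, .a, .c, .b, .c, .a, .b, .a, .d, .c, .b, .e, .c, .b, .e, .a, .b, .a, .c, .a, .c, .a, .b, .c, .a, .b, .c, .a, .d, .c, .d, .a, .d, .c, .b, .e, .b, .c, .e, .c, .d, .a])) (nd 2471 (lf [.c, .a, .b, .c, .a, .b,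 .c, .a, .b, .a, .b, .a, .e, .a, .e, .a, .c, .a, .c, .a, .d, .b, .a, .b, .d, .a, .c, .a, .c, .a, .d, .b, .a, .b, .d, .e, .a, .e, .b, .a, .b, .a, .c, .b, .a, .b, .d, .b, .c, .b]) (lf [.c, .a, .b, .a, .c, .e, .a, .b, .e, .d, .b, .c, .b, .a, .b, .c, .b, .d, .b, .a, .b, .d, .b, .a, .b, .a, .d, .b, .c, .b, .a, .b, .c, .b, .d, .a, .b, .a, .b, .d, .b, .a, .b, .e, .b, .a, .e, .b, .a, .c, .b, .c, .a, .b, .c, .a, .b, .a, .d, .a, .c, .a])))) (nd 2476 (nd 2474 (nd 2473 (lf [.b, .a, .d, .c, .a, .c, .b, .d, .b, .d, .b, .c, .a, .e, .b, .a, .b, .a, .c, .d, .c, .b, .d, .a, .b, .c, .b, .c, .b, .a, .b, .c, .a, .b, .c, .b, .e, .c, .d, .a, .b, .a, .c, .a, .c, .b, .d, .b, .d, .b, .c, .a, .c, .a]) (lf [.a, .c, .b, .b, .d, .b, .a, .c, .a, .b, .c, .a, .c, .b, .c, .a, .c, .a, .b, .d, .b, .e, .a, .d, .b, .d, .c, .a, .e, .b, .a, .c, .a, .b,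 .c, .a, .c, .a, .b, .a, .c, .d, .a, .c, .d, .a, .c, .a, .c, .d, .e, .a, .c, .d, .b, .d, .a, .e, .c, .b, .c])) (nd 2475 (lf [.c, .d, .a, .c, .a, .c, .d, .e, .a, .c, .d, .b, .d, .a, .e, .c, .b, .c, .a, .c, .b, .b, .d, .b, .a, .c, .a, .b, .c, .a, .c, .b, .c, .a, .c, .a, .b, .d, .b, .e, .a, .d, .b, .d, .c, .a, .e, .b, .a, .c, .a, .b, .c, .a, .c, .a, .b, .a, .c, .d, .a]) (lf [.a, .b, .c, .a, .b, .a, .b, .e, .a, .e, .d, .b, .a, .b, .d, .a, .c, .a, .c, .a, .d, .b, .a, .b, .d, .a, .c, .a, .c, .a, .e, .a, .e, .a, .b, .a, .b, .a, .c, .b, .a, .c, .b, .a, .c, .b, .c, .b, .d, .b]))) (nd 2478 (nd 2477 (lf [.d, .a, .b, .a, .a, .c, .b, .d, .b, .d, .b, .c, .a, .a, .b, .a, .d, .e, .a, .b, .a, .c, .a, .c, .a, .b, .c, .a, .b, .c, .b, .c, .d, .a, .c, .b, .a, .b, .d, .a, .e, .a, .c, .b, .d, .b, .d, .b, .c, .a]) (lf [.c, .d, .a, .d,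 .c, .b, .e, .a, .b, .e, .d, .c, .b, .c, .b, .c, .d, .a, .c, .a, .c, .a, .d, .c, .b, .c, .b, .c, .d, .a, .c, .a, .c, .a, .e, .b, .a, .e, .a, .b, .c, .b, .a, .c, .b, .a, .c, .b, .a, .d, .b, .d])) (nd 2479 (lf [.d, .e, .c, .d, .e, .a, .c, .b, .c, .b, .c, .b, .a, .a, .d, .c, .a, .c, .d, .a, .a, .b, .c, .b, .c, .b, .c, .a, .a, .d, .c, .a, .c, .d, .a, .e, .d, .c, .e, .c, .b, .c, .b, .a, .c, .a, .c, .b, .d, .a, .c, .b, .c]) (lf [.a, .b, .c, .b, .c, .b, .e, .b, .c, .e, .d, .b, .d, .b, .d, .c, .d, .a, .b, .a, .c, .d, .b, .d, .b, .d, .c, .a, .b, .a, .d, .c, .e, .c, .b, .e, .b, .d, .c, .b, .c, .a, .d, .b, .c, .a, .c]))))) (nd 2488 (nd 2484 (nd 2482 (nd 2481 (lf [.b, .d, .b, .c, .e, .b, .c, .b, .a, .d, .b, .d, .c, .a, .b, .c, .b, .a, .c, .b, .a, .c, .a, .e, .d, .a, .b, .a, .c, .b, .d, .b, .d, .b, .c, .a, .b, .a, .d, .c, .b,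 .d]) (lf [.d, .b, .a, .c, .a, .c, .a, .b, .d, .c, .d, .b, .e, .a, .e, .c, .a, .b, .c, .a, .d, .c, .b, .c, .b, .c, .a, .b, .c, .a, .b, .c, .e, .a, .e, .a, .c, .a, .c, .a, .b, .d, .c])) (nd 2483 (lf [.b, .a, .d, .a, .d, .b, .c, .d, .b, .a, .c, .b, .a, .b, .a, .c, .b, .c, .a, .e, .b, .c, .e, .d, .b, .d, .b, .d, .c, .b, .d, .a, .b, .a, .b, .c, .d, .b, .d, .b, .d, .c, .b, .a, .b, .a, .d, .b, .c, .e, .c, .b, .e]) (lf [.c, .a, .b, .c, .b, .c, .b, .c, .a, .e, .c, .d, .b, .d, .b, .d, .a, .b, .c, .b, .c, .a, .b, .a, .b, .e, .c, .d, .a, .b, .a, .c, .a, .c, .b, .c, .b, .c, .b, .a, .c, .a, .b, .a, .d]))) (nd 2486 (nd 2485 (lf [.c, .b, .c, .b, .c, .a, .e, .c, .d, .b, .d, .b, .d, .a, .b, .c, .b, .c, .a, .b, .a, .b, .e, .c, .d, .a, .b, .a, .c, .a, .c, .b, .c, .b, .c, .b, .a, .c, .a, .b, .a, .d, .c, .a, .b]) (lf [.e, .b, .c, .a,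 .b, .a, .c, .a, .c, .b, .a, .b, .d, .c, .a, .c, .b, .c, .b, .e, .a, .c, .d, .b, .d, .a, .e, .c, .b, .c, .a, .c, .b, .a, .c, .d, .c, .a, .b, .c, .a, .c, .b, .c, .a, .c, .d, .c, .a, .e, .a, .d, .b, .d, .c, .a])) (nd 2487 (lf [.b, .a, .b, .d, .a, .c, .a, .c, .a, .e, .a, .e, .a, .b, .a, .b, .a, .c, .b, .a, .c, .b, .a, .c, .b, .c, .b, .d, .b, .a, .b, .c, .a, .b, .a, .b, .e, .a, .e, .d, .b, .a, .b, .d, .a, .c, .a, .c, .a, .d]) (lf [.b, .c, .b, .a, .c, .b, .c, .b, .a, .b, .a, .c, .b, .d, .b, .c, .a, .b, .c, .a, .e, .a, .c, .d, .b, .d, .a, .e, .b, .d, .c, .d, .c, .b, .a, .c, .d, .c, .a, .b, .c, .d, .c, .d, .b, .a, .c, .d, .c, .a, .e, .a, .d, .b, .d, .c, .a, .e, .b, .a])))) (nd 2492 (nd 2490 (nd 2489 (lf [.b, .a, .d, .b, .c, .d, .b, .d, .b, .d, .e, .c, .b, .e, .a, .c, .b, .c, .a, .b, .a, .b, .c, .a, .b, .d, .c, .b, .d,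 .a, .d, .a, .b, .e, .b, .c, .e, .c, .b, .d, .a, .b, .a, .b, .c, .d, .b, .d, .b, .d, .c, .b, .a]) (lf [.a, .d, .a, .c, .b, .d, .b, .a, .c, .a, .c, .b, .a, .b, .e, .b, .c, .e, .c, .d, .a, .b, .a, .c, .c, .b, .d, .a, .b, .a, .b, .c, .c, .a, .b, .a, .d, .c, .c, .b, .a, .b, .a, .d, .b, .c, .e, .c, .b, .e, .b])) (nd 2491 (lf [.c, .e, .a, .c, .d, .b, .d, .a, .e, .c, .b, .c, .a, .c, .b, .b, .d, .c, .d, .c, .b, .b, .c, .a, .c, .b, .c, .b, .c, .d, .c, .d, .b, .e, .a, .d, .b, .d, .c, .a, .e, .b, .a, .c, .a, .b, .a, .c, .b, .a, .c, .b, .a, .c, .b, .a, .d, .a, .d, .a, .c, .d, .b]) (lf [.d, .a, .b, .a, .c, .b, .a, .c, .b, .c, .a, .b, .e, .a, .b, .e, .b, .a, .b, .d, .b, .a, .b, .a, .d, .b, .c, .b, .a, .b, .c, .b, .d, .a, .b, .a, .b, .d, .b, .a, .b, .d, .b, .c, .b, .a, .b, .c, .b, .d, .e, .b, .a, .e, .c, .a, .b, .a, .c, .a, .c,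 .a]))) (nd 2494 (nd 2493 (lf [.b, .a, .c, .a, .c, .a, .b, .d, .c, .d, .b, .a, .c, .a, .c, .a, .e, .a, .e, .c, .b, .a, .c, .b, .a, .c, .b, .c, .b, .c, .d, .a, .c, .b, .a, .c, .e, .a, .e, .b, .d, .c, .d]) (lf [.b, .c, .d, .b, .d, .c, .b, .c, .d, .b, .d, .e, .d, .e, .d, .b, .e, .a, .e, .b, .d, .a, .b, .a, .c, .a, .d, .a, .b, .a, .b, .c, .b, .c, .b, .a, .c, .b, .a, .b, .a, .e, .a, .e, .b, .d, .e, .d, .e, .c])) (nd 2495 (lf [.e, .a, .c, .d, .b, .d, .a, .e, .b, .d, .b, .a, .c, .a, .c, .b, .c, .a, .c, .b, .a, .c, .a, .b, .d, .b, .b, .c, .a, .c, .b, .c, .e, .a, .d, .b, .d, .c, .a, .e, .d, .c, .a, .c, .a, .d, .c, .a, .d, .c, .a, .b, .a, .c, .a, .c, .b, .a, .c, .a, .b]) (lf [.a, .c, .a, .c, .a, .c, .d, .a, .d, .c, .e, .a, .e, .b, .c, .a, .c, .d, .b, .d, .a, .c, .a, .b, .c, .b, .c, .a, .b, .c, .b, .a, .b, .a, .e, .a, .e,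 .a, .c, .a, .c, .a, .c, .d, .a, .d, .c])))))))
noncomputable def tc3kw_circT_c39 : ℕ → List Gen := (nd 2528 (nd 2512 (nd 2504 (nd 2500 (nd 2498 (nd 2497 (lf [.e, .c, .b, .d, .c, .a, .d, .a, .d, .a, .b, .c, .a, .b, .c, .a, .b, .c, .a, .b, .a, .c, .a, .b, .e, .a, .c, .d, .b, .d, .a, .e, .b, .d, .c, .d, .c, .b, .c, .b, .c, .a, .c, .b, .b, .c, .d, .c, .d, .b, .b, .c, .a, .c, .b, .c, .e, .a, .d, .b, .d, .c, .a]) (lf [.c, .b, .a, .b, .c, .b, .d, .a, .b, .a, .b, .d, .b, .a, .b, .e, .b, .a, .e, .b, .a, .c, .b, .c, .a, .b, .c, .a, .b, .a, .d, .a, .c, .a, .c, .a, .b, .a, .c, .e, .a, .b, .e, .d, .b, .c, .b, .a, .b, .c, .b, .d, .b, .a, .b, .d, .b, .a, .b, .a, .d, .b])) (nd 2499 (lf [.b, .a, .b, .d, .e, .a, .e, .b, .a, .b, .a, .c, .b, .a, .b, .d, .b, .c, .b, .c, .a, .b, .c, .a, .b, .c, .a, .b, .a, .b, .a, .e, .a, .e, .a, .c,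 .a, .c, .a, .d, .b, .a, .b, .d, .a, .c, .a, .c, .a, .d]) (lf [.c, .a, .e, .a, .c, .d, .b, .d, .a, .e, .b, .d, .c, .d, .c, .b, .a, .c, .d, .c, .a, .b, .c, .d, .c, .d, .b, .a, .c, .d, .c, .a, .e, .a, .d, .b, .d, .c, .a, .e, .b, .a, .b, .c, .b, .a, .c, .b, .c, .b, .a, .b, .a, .c, .b, .d, .b, .c, .a, .b]))) (nd 2502 (nd 2501 (lf [.a, .b, .a, .e, .a, .c, .b, .c, .b, .c, .b, .a, .a, .c, .b, .d, .b, .d, .b, .c, .a, .a, .b, .c, .b, .c, .b, .c, .a, .a, .c, .b, .d, .b, .d, .b, .c, .a, .e, .b, .a, .c, .b, .d, .a, .d, .b, .c, .b, .c, .a, .b, .a, .c, .b]) (lf [.b, .c, .b, .c, .a, .b, .d, .b, .d, .b, .e, .d, .c, .e, .a, .b, .a, .d, .e, .c, .d, .e, .a, .c, .b, .c, .b, .c, .b, .a, .b, .d, .b, .d, .b, .a, .b, .c])) (nd 2503 (lf [.c, .a, .b, .d, .c, .d, .b, .a, .c, .a, .c, .a, .b, .d, .c, .d, .b, .e, .a, .e, .c, .a, .b, .c, .a,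 .d, .c, .b, .c, .b, .c, .a, .b, .c, .a, .b, .c, .e, .a, .e, .a, .c, .a]) (lf [.d, .b, .d, .c, .a, .b, .a, .d, .c, .e, .c, .b, .e, .b, .d, .c, .b, .c, .a, .d, .b, .c, .a, .c, .a, .b, .c, .b, .c, .b, .e, .b, .c, .e, .d, .b, .d, .b, .d, .c, .d, .a, .b, .a, .c, .d, .b])))) (nd 2508 (nd 2506 (nd 2505 (lf [.d, .a, .c, .b, .a, .c, .b, .a, .c, .a, .c, .a, .b, .a, .e, .b, .c, .e, .b, .c, .d, .a, .b, .a, .c, .b, .c, .a, .b, .a, .d, .c, .e, .c, .b, .e, .b, .c, .d, .a, .d, .c]) (lf [.b, .d, .b, .c, .a, .e, .b, .a, .b, .a, .c, .d, .c, .b, .d, .a, .b, .c, .b, .c, .b, .a, .b, .c, .a, .b, .c, .b, .e, .c, .d, .a, .b, .a, .c, .a, .c, .b, .d, .b, .d, .b, .c, .a, .c, .a, .b, .a, .d, .c, .a, .c, .b, .d])) (nd 2507 (lf [.c, .d, .a, .c, .b, .c, .b, .a, .b, .c, .a, .b, .c, .a, .b, .e, .a, .e, .b, .d, .e, .d, .e, .a, .b, .c, .b, .a, .b,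 .c, .b, .e, .d, .e, .d, .b, .e, .a, .e, .b, .a, .b, .a]) (lf [.b, .c, .b, .d, .b, .d, .b, .c, .b, .e, .d, .e, .d, .b, .e, .a, .e, .b, .a, .c, .b, .c, .b, .a, .b, .c, .a, .b, .d, .c, .d, .a, .c, .b, .a, .e, .a, .e, .b, .d, .e, .d, .e, .d, .b, .d]))) (nd 2510 (nd 2509 (lf [.b, .a, .c, .a, .b, .c, .a, .c, .a, .b, .e, .a, .e, .b, .d, .e, .d, .e, .a, .d, .b, .d, .a, .d, .b, .d, .e, .d, .e, .d, .b, .e, .a, .e, .a, .c, .a, .b, .c, .a, .d, .a, .c]) (lf [.c, .a, .c, .b, .a, .c, .b, .a, .d, .b, .a, .b, .d, .c, .a, .b, .e, .c, .d, .e, .a, .d, .c, .a, .c, .d, .a, .b, .d, .b, .d, .b, .a, .d, .c, .a, .c, .d, .a, .b, .d, .b, .d, .b, .e, .d, .c, .e, .a, .b])) (nd 2511 (lf [.a, .c, .a, .c, .b, .d, .a, .c, .b, .c, .d, .e, .c, .d, .e, .a, .c, .b, .c, .b, .c, .b, .a, .a, .d, .c, .a, .c, .d, .a, .a, .b, .c, .b, .c, .b, .c, .a, .a,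 .d, .c, .a, .c, .d, .a, .e, .d, .c, .e, .c, .b, .c, .b]) (lf [.a, .b, .c, .b, .c, .b, .c, .a, .e, .c, .b, .a, .b, .a, .c, .b, .c, .a, .b, .a, .b, .e, .d, .a, .b, .a, .a, .c, .b, .c, .b, .c, .b, .a, .a, .b, .a, .d]))))) (nd 2520 (nd 2516 (nd 2514 (nd 2513 (lf [.a, .d, .c, .d, .a, .d, .c, .b, .e, .b, .c, .e, .c, .d, .a, .b, .a, .c, .b, .c, .a, .b, .a, .d, .c, .b, .e, .c, .b, .e, .a, .b, .a, .c, .a, .c, .a, .b, .c, .a, .b, .c]) (lf [.d, .b, .d, .b, .e, .a, .b, .e, .d, .b, .c, .b, .a, .b, .c, .b, .d, .d, .c, .b, .c, .b, .c, .d, .d, .b, .c, .b, .a, .b, .c, .b, .d, .d, .c, .b, .c, .b, .c, .d, .e, .b, .a, .e, .a, .b, .a, .b, .a, .c, .a, .b, .c, .a, .b, .c, .b, .c, .d, .a, .c, .a, .c])) (nd 2515 (lf [.d, .c, .d, .b, .e, .a, .e, .a, .b, .a, .b, .c, .b, .c, .a, .b, .c, .a, .b, .c, .b, .c, .b, .d, .c, .d, .b, .a, .d, .c,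 .e, .a, .e, .d, .b, .a, .b, .d, .b, .d, .c, .d, .b, .d, .b, .a, .b, .d, .b]) (lf [.a, .c, .a, .d, .c, .b, .c, .b, .c, .d, .e, .b, .a, .e, .b, .c, .d, .a, .d, .c, .d, .b, .d, .a, .b, .c, .a, .b, .c, .a, .b, .c, .b, .a, .e, .a, .b, .e, .a, .c, .a, .c, .a, .d, .c, .b, .c, .b, .c, .d, .a, .c]))) (nd 2518 (nd 2517 (lf [.b, .a, .b, .d, .c, .a, .c, .b, .c, .b, .e, .a, .c, .d, .b, .d, .a, .e, .c, .b, .c, .a, .c, .b, .a, .c, .d, .c, .a, .b, .c, .a, .c, .b, .c, .a, .c, .d, .c, .a, .e, .a, .d, .b, .d, .c, .a, .e, .b, .c, .a, .b, .a, .c, .a, .c]) (lf [.a, .c, .d, .c, .a, .e, .a, .d, .b, .d, .c, .a, .e, .b, .a, .b, .c, .a, .b, .c, .b, .c, .b, .a, .b, .d, .b, .c, .d, .a, .d, .b, .c, .e, .a, .c, .d, .b, .d, .a, .e, .b, .d, .b, .a, .c, .a, .a, .c, .d, .c, .a, .a, .c, .a, .b, .d, .b])) (nd 2519 (lf [.a, .c, .a, .e, .a, .e, .b,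 .d, .e, .d, .e, .a, .c, .b, .c, .a, .c, .b, .c, .e, .d, .e, .d, .b, .e, .a, .e, .d, .a, .d, .a, .c, .d, .a, .c, .b, .a, .c, .a, .b, .c]) (lf [.b, .a, .c, .b, .a, .d, .b, .d, .c, .d, .a, .d, .c, .b, .e, .a, .b, .e, .d, .c, .b, .c, .b, .c, .d, .a, .c, .a, .c, .a, .d, .c, .b, .c, .b, .c, .d, .a, .c, .a, .c, .a, .e, .b, .a, .e, .a, .b, .c, .b, .a, .c])))) (nd 2524 (nd 2522 (nd 2521 (lf [.c, .b, .c, .b, .c, .b, .a, .b, .d, .b, .d, .b, .a, .b, .c, .b, .c, .b, .c, .a, .b, .d, .b, .d, .b, .e, .d, .c, .e, .a, .b, .a, .d, .e, .c, .d, .e, .a]) (lf [.c, .d, .b, .d, .b, .a, .b, .d, .b, .d, .c, .d, .b, .e, .a, .e, .a, .b, .a, .b, .c, .b, .c, .a, .b, .c, .a, .b, .c, .b, .c, .b, .d, .c, .d, .b, .a, .d, .c, .e, .a, .e, .d, .b, .a, .b, .d, .b, .d])) (nd 2523 (lf [.c, .d, .e, .b, .a, .e, .a, .b, .a, .b, .a, .c, .a, .b, .c, .a, .b,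 .c, .b, .c, .d, .a, .c, .a, .c, .d, .b, .d, .b, .e, .a, .b, .e, .d, .b, .c, .b, .a, .b, .c, .b, .d, .d, .c, .b, .c, .b, .c, .d, .d, .b, .c, .b, .a, .b, .c, .b, .d, .d, .c, .b, .c, .b]) (lf [.b, .d, .c, .d, .b, .a, .c, .a, .c, .a, .b, .d, .c, .d, .b, .e, .a, .e, .c, .a, .b, .c, .a, .d, .c, .b, .c, .b, .c, .a, .b, .c, .a, .b, .c, .e, .a, .e, .a, .c, .a, .c, .a]))) (nd 2526 (nd 2525 (lf [.a, .b, .c, .b, .d, .a, .b, .a, .b, .d, .b, .a, .b, .d, .b, .c, .b, .a, .b, .c, .b, .d, .e, .b, .a, .e, .c, .a, .b, .a, .c, .a, .c, .a, .d, .a, .b, .a, .c, .b, .a, .c, .b, .c, .a, .b, .e, .a, .b, .e, .b, .a, .b, .d, .b, .a, .b, .a, .d, .b, .c, .b]) (lf [.a, .c, .b, .c, .a, .b, .e, .a, .b, .e, .b, .a, .b, .d, .b, .a, .b, .a, .d, .b, .c, .b, .a, .b, .c, .b, .d, .a, .b, .a, .b, .d, .b, .a, .b, .d, .b, .c, .b, .a, .b, .c, .b, .d, .e,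 .b, .a, .e, .c, .a, .b, .a, .c, .a, .c, .a, .d, .a, .b, .a, .c, .b])) (nd 2527 (lf [.a, .d, .b, .c, .a, .c, .a, .b, .c, .b, .c, .b, .e, .b, .c, .e, .d, .b, .d, .b, .d, .c, .d, .a, .b, .a, .c, .d, .b, .d, .b, .d, .c, .a, .b, .a, .d, .c, .e, .c, .b, .e, .b, .d, .c, .b, .c]) (lf [.b, .d, .d, .c, .a, .b, .a, .c, .d, .d, .b, .d, .b, .d, .d, .c, .a, .b, .a, .c, .d, .e, .c, .b, .e, .b, .a, .d, .c, .d, .b, .d, .c, .b, .c, .a, .b, .c, .a, .b, .a, .b, .a, .c, .b, .a, .e, .b, .c, .e, .d, .b, .d])))))) (nd 2544 (nd 2536 (nd 2532 (nd 2530 (nd 2529 (lf [.b, .e, .a, .e, .b, .d, .e, .d, .e, .b, .c, .b, .d, .b, .d, .b, .c, .b, .d, .b, .d, .e, .d, .e, .d, .b, .e, .a, .e, .a, .b, .c, .a, .d, .c, .d, .b, .a, .c, .b, .a, .b, .c, .b, .c, .a]) (lf [.d, .b, .d, .b, .c, .a, .e, .b, .a, .c, .b, .d, .a, .d, .b, .c, .b, .c, .a, .b, .a, .c,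 .b, .a, .b, .a, .e, .a, .c, .b, .c, .b, .c, .b, .a, .a, .c, .b, .d, .b, .d, .b, .c, .a, .a, .b, .c, .b, .c, .b, .c, .a, .a, .c, .b])) (nd 2531 (lf [.c, .d, .a, .c, .b, .a, .e, .a, .e, .b, .d, .e, .d, .e, .d, .b, .d, .b, .c, .b, .d, .b, .d, .b, .c, .b, .e, .d, .e, .d, .b, .e, .a, .e, .b, .a, .c, .b, .c, .b, .a, .b, .c, .a, .b, .d]) (lf [.a, .b, .d, .a, .c, .a, .c, .a, .e, .a, .e, .a, .b, .a, .b, .a, .c, .b, .a, .c, .b, .a, .c, .b, .c, .b, .d, .b, .a, .b, .c, .a, .b, .a, .b, .e, .a, .e, .d, .b, .a, .b, .d, .a, .c, .a, .c, .a, .d, .b]))) (nd 2534 (nd 2533 (lf [.b, .d, .b, .a, .b, .d, .e, .a, .e, .c, .d, .a, .b, .d, .c, .d, .b, .c, .b, .c, .b, .a, .c, .b, .a, .c, .b, .c, .b, .a, .b, .a, .e, .a, .e, .b, .d, .c, .d, .b, .d, .b, .a, .b, .d, .b, .d, .c, .d]) (lf [.b, .a, .b, .c, .a, .b, .d, .c, .b, .d, .a, .d, .a, .b,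 .e, .b, .c, .e, .c, .b, .d, .a, .b, .a, .b, .c, .d, .b, .d, .b, .d, .c, .b, .a, .b, .a, .d, .b, .c, .d, .b, .d, .b, .d, .e, .c, .b, .e, .a, .c, .b, .c, .a])) (nd 2535 (lf [.c, .c, .b, .d, .a, .b, .a, .b, .c, .c, .a, .b, .a, .d, .c, .c, .b, .a, .b, .a, .d, .b, .c, .e, .c, .b, .e, .b, .a, .d, .a, .c, .b, .d, .b, .a, .c, .a, .c, .b, .a, .b, .e, .b, .c, .e, .c, .d, .a, .b, .a]) (lf [.a, .b, .a, .d, .b, .c, .b, .a, .b, .c, .b, .d, .a, .b, .a, .b, .d, .b, .a, .b, .d, .b, .c, .b, .a, .b, .c, .b, .d, .e, .b, .a, .e, .c, .a, .b, .a, .c, .a, .c, .a, .d, .a, .b, .a, .c, .b, .a, .c, .b, .c, .a, .b, .e, .a, .b, .e, .b, .a, .b, .d, .b])))) (nd 2540 (nd 2538 (nd 2537 (lf [.b, .c, .d, .c, .d, .b, .e, .a, .d, .b, .d, .c, .a, .e, .b, .a, .c, .a, .b, .a, .c, .b, .a, .c, .b, .a, .c, .b, .a, .d, .a, .d, .a, .c, .d, .b, .c, .e, .a,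 .c, .d, .b, .d, .a, .e, .c, .b, .c, .a, .c, .b, .b, .d, .c, .d, .c, .b, .b, .c, .a, .c, .b, .c]) (lf [.a, .c, .d, .c, .a, .c, .b, .c, .a, .c, .b, .a, .c, .d, .c, .a, .b, .c, .a, .c, .b, .c, .e, .a, .d, .b, .d, .c, .a, .e, .b, .c, .b, .c, .a, .c, .d, .b, .a, .b, .c, .a, .c, .a, .b, .a, .c, .b, .e, .a, .c, .d, .b, .d, .a, .e])) (nd 2539 (lf [.b, .c, .b, .c, .b, .a, .b, .d, .b, .c, .d, .a, .d, .b, .c, .e, .a, .c, .d, .b, .d, .a, .e, .b, .d, .b, .a, .c, .a, .a, .c, .d, .c, .a, .a, .c, .a, .b, .d, .b, .a, .c, .d, .c, .a, .e, .a, .d, .b, .d, .c, .a, .e, .b, .a, .b, .c, .a]) (lf [.b, .a, .c, .a, .b, .d, .c, .d, .c, .b, .a, .c, .a, .b, .d, .b, .b, .c, .d, .c, .d, .b, .e, .a, .d, .b, .d, .c, .a, .e, .a, .c, .d, .a, .d, .c, .a, .e, .a, .c, .d, .b, .d, .a, .e, .b, .d]))) (nd 2542 (nd 2541 (lf [.d, .a, .c, .b, .c, .d, .e,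 .c, .d, .e, .a, .c, .b, .c, .b, .c, .b, .a, .a, .d, .c, .a, .c, .d, .a, .a, .b, .c, .b, .c, .b, .c, .a, .a, .d, .c, .a, .c, .d, .a, .e, .d, .c, .e, .c, .b, .c, .b, .a, .c, .a, .c, .b]) (lf [.d, .a, .d, .c, .d, .b, .a, .b, .d, .c, .d, .a, .d, .c, .d, .b, .a, .b, .d, .e, .a, .e, .a, .c, .b, .c, .b, .c, .a, .d, .a, .c, .a, .c, .a, .b, .c, .b, .c, .b, .a, .e, .a, .e, .c])) (nd 2543 (lf [.a, .b, .c, .a, .b, .a, .c, .d, .b, .c, .b, .c, .b, .c, .e, .b, .c, .e, .d, .c, .a, .b, .a, .c, .d, .b, .d, .c, .a, .b, .a, .c, .d, .b, .e, .c, .b, .e, .b, .a, .c]) (lf [.d, .c, .e, .a, .b, .e, .b, .a, .b, .d, .b, .a, .b, .a, .a, .c, .a, .c, .a, .a, .b, .a, .b, .d, .b, .a, .b, .a, .c, .a, .c, .a, .e, .b, .a, .e, .a, .b, .a, .c, .b, .a, .c, .b, .a, .b, .c, .a, .d, .b, .d, .b]))))) (nd 2552 (nd 2548 (nd 2546 (nd 2545 (lf [.a, .c, .b,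 .c, .b, .c, .b, .a, .c, .b, .d, .b, .d, .b, .c, .a, .b, .c, .b, .c, .b, .c, .a, .e, .b, .d, .c, .d, .a, .b, .a, .c, .b, .c, .b, .c, .e, .c, .b, .d, .b, .d, .b, .c]) (lf [.d, .a, .a, .c, .b, .c, .b, .c, .b, .a, .a, .d, .c, .a, .c, .d, .a, .a, .b, .c, .b, .c, .b, .c, .a, .e, .d, .c, .e, .d, .c, .b, .c, .a, .d, .b, .c, .a, .c, .a, .b, .c, .b, .c, .e, .c, .d, .e, .a, .d, .c, .a, .c])) (nd 2547 (lf [.c, .b, .a, .e, .a, .e, .b, .d, .e, .d, .e, .d, .b, .d, .b, .c, .b, .d, .b, .d, .b, .c, .b, .e, .d, .e, .d, .b, .e, .a, .e, .b, .a, .c, .b, .c, .b, .a, .b, .c, .a, .b, .d, .c, .d, .a]) (lf [.b, .c, .b, .a, .d, .b, .c, .d, .c, .a, .b, .a, .b, .e, .a, .c, .b, .d, .b, .d, .b, .c, .a, .c, .d, .a, .b, .a, .c, .a, .c, .b, .d, .b, .d, .b, .c, .a, .c, .a, .b, .a, .d, .c, .e, .b, .c, .b, .a, .c, .b, .a, .b, .c]))) (nd 2550 (nd 2549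 (lf [.c, .d, .b, .a, .b, .d, .c, .d, .a, .d, .c, .e, .a, .e, .a, .b, .c, .b, .c, .b, .a, .c, .a, .c, .a, .d, .a, .c, .b, .c, .b, .c, .a, .e, .a, .e, .d, .b, .a, .b, .d, .c, .d, .a, .d]) (lf [.a, .d, .c, .a, .c, .b, .d, .b, .d, .b, .c, .a, .e, .b, .a, .b, .a, .c, .d, .c, .b, .d, .a, .b, .c, .b, .c, .b, .a, .b, .c, .a, .b, .c, .b, .e, .c, .d, .a, .b, .a, .c, .a, .c, .b, .d, .b, .d, .b, .c, .a, .c, .a, .b])) (nd 2551 (lf [.a, .d, .c, .d, .a, .c, .b, .a, .c, .b, .a, .c, .a, .c, .a, .b, .a, .e, .b, .c, .e, .b, .c, .d, .a, .b, .a, .c, .b, .c, .a, .b, .a, .d, .c, .e, .c, .b, .e, .b, .c, .d]) (lf [.b, .d, .b, .d, .e, .c, .b, .e, .b, .c, .b, .c, .b, .a, .c, .a, .c, .b, .d, .a, .c, .b, .c, .d, .b, .e, .b, .c, .e, .c, .d, .a, .b, .a, .c, .d, .b, .d, .b, .d, .c, .a, .b, .a, .d, .c, .d])))) (nd 2556 (nd 2554 (nd 2553 (lf [.c,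 .a, .c, .a, .b, .d, .b, .e, .a, .d, .b, .d, .c, .a, .e, .b, .a, .c, .a, .b, .c, .a, .c, .a, .b, .a, .c, .d, .a, .c, .d, .a, .c, .a, .c, .d, .e, .a, .c, .d, .b, .d, .a, .e, .c, .b, .c, .a, .c, .b, .b, .d, .b, .a, .c, .a, .b, .c, .a, .c, .b]) (lf [.d, .c, .d, .c, .b, .c, .b, .c, .a, .c, .b, .b, .c, .d, .c, .d, .b, .b, .c, .a, .c, .b, .c, .e, .a, .d, .b, .d, .c, .a, .e, .c, .b, .d, .c, .a, .d, .a, .d, .a, .b, .c, .a, .b, .c, .a, .b, .c, .a, .b, .a, .c, .a, .b, .e, .a, .c, .d, .b, .d, .a, .e, .b])) (nd 2555 (lf [.c, .b, .b, .d, .c, .d, .c, .b, .b, .c, .a, .c, .b, .c, .b, .c, .d, .c, .d, .b, .e, .a, .d, .b, .d, .c, .a, .e, .b, .a, .c, .a, .b, .a, .c, .b, .a, .c, .b, .a, .c, .b, .a, .d, .a, .d, .a, .c, .d, .b, .c, .e, .a, .c, .d, .b, .d, .a, .e, .c, .b, .c, .a]) (lf [.a, .c, .b, .a, .b, .e, .b, .c, .e, .c, .d, .a, .b,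 .a, .c, .c, .b, .d, .a, .b, .a, .b, .c, .c, .a, .b, .a, .d, .c, .c, .b, .a, .b, .a, .d, .b, .c, .e, .c, .b, .e, .b, .a, .d, .a, .c, .b, .d, .b, .a, .c]))) (nd 2558 (nd 2557 (lf [.d, .e, .c, .b, .e, .b, .c, .b, .c, .b, .a, .c, .a, .c, .b, .d, .a, .c, .b, .c, .d, .b, .e, .b, .c, .e, .c, .d, .a, .b, .a, .c, .d, .b, .d, .b, .d, .c, .a, .b, .a, .d, .c, .d, .b, .d, .b]) (lf [.a, .b, .a, .c, .b, .a, .b, .a, .e, .a, .c, .b, .c, .b, .c, .b, .a, .a, .c, .b, .d, .b, .d, .b, .c, .a, .a, .b, .c, .b, .c, .b, .c, .a, .a, .c, .b, .d, .b, .d, .b, .c, .a, .e, .b, .a, .c, .b, .d, .a, .d, .b, .c, .b, .c])) (nd 2559 (lf [.c, .d, .a, .c, .b, .a, .c, .a, .b, .c, .a, .c, .a, .e, .a, .e, .b, .d, .e, .d, .e, .a, .c, .b, .c, .a, .c, .b, .c, .e, .d, .e, .d, .b, .e, .a, .e, .d, .a, .d, .a]) (lf [.a, .c, .a, .c, .a, .d, .a, .c, .b, .c, .b,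 .c, .a, .e, .a, .e, .d, .b, .a, .b, .d, .c, .d, .a, .d, .c, .d, .b, .a, .b, .d, .c, .d, .a, .d, .c, .e, .a, .e, .a, .b, .c, .b, .c, .b])))))))
noncomputable def tc3kw_circT_c40 : ℕ → List Gen := (nd 2592 (nd 2576 (nd 2568 (nd 2564 (nd 2562 (nd 2561 (lf [.b, .a, .b, .c, .d, .b, .d, .b, .d, .c, .b, .a, .b, .a, .d, .b, .c, .e, .c, .b, .e, .b, .a, .d, .a, .d, .b, .c, .d, .b, .a, .c, .b, .a, .b, .a, .c, .b, .c, .a, .e, .b, .c, .e, .d, .b, .d, .b, .d, .c, .b, .d, .a]) (lf [.b, .d, .a, .c, .a, .c, .a, .d, .b, .a, .b, .d, .a, .c, .a, .c, .a, .e, .a, .e, .a, .b, .a, .b, .a, .c, .b, .a, .c, .b, .a, .c, .b, .c, .b, .d, .b, .a, .b, .c, .a, .b, .a, .b, .e, .a, .e, .d, .b, .a])) (nd 2563 (lf [.a, .d, .c, .a, .d, .c, .a, .b, .a, .c, .a, .c, .b, .a, .c, .a, .b, .e, .a, .c, .d, .b, .d, .a, .e, .b, .d, .b, .a, .c, .a, .c, .b, .c,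 .a, .c, .b, .a, .c, .a, .b, .d, .b, .b, .c, .a, .c, .b, .c, .e, .a, .d, .b, .d, .c, .a, .e, .d, .c, .a, .c]) (lf [.c, .b, .c, .b, .c, .d, .e, .b, .a, .e, .b, .c, .d, .a, .d, .c, .d, .b, .d, .a, .b, .c, .a, .b, .c, .a, .b, .c, .b, .a, .e, .a, .b, .e, .a, .c, .a, .c, .a, .d, .c, .b, .c, .b, .c, .d, .a, .c, .a, .c, .a, .d]))) (nd 2566 (nd 2565 (lf [.d, .c, .a, .c, .a, .d, .c, .b, .c, .b, .a, .c, .b, .a, .c, .a, .b, .a, .b, .a, .e, .a, .b, .e, .d, .c, .b, .c, .b, .c, .d, .d, .b, .c, .b, .a, .b, .c, .b, .d, .d, .c, .b, .c, .b, .c, .d, .d, .b, .c, .b, .a, .b, .c, .b, .d, .e, .b, .a, .e, .b, .d, .b]) (lf [.a, .c, .d, .c, .a, .b, .d, .b, .a, .c, .a, .a, .c, .d, .c, .a, .a, .c, .a, .b, .d, .b, .e, .a, .d, .b, .d, .c, .a, .e, .c, .b, .d, .a, .d, .c, .b, .d, .b, .a, .b, .c, .b, .c, .b, .a, .c, .b, .a, .b, .e, .a, .c, .d,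 .b, .d, .a, .e])) (nd 2567 (lf [.b, .d, .c, .a, .d, .c, .a, .b, .e, .b, .c, .e, .c, .b, .d, .a, .b, .a, .b, .c, .b, .c, .b, .a, .b, .a, .d, .b, .c, .b, .e, .c, .b, .e, .a, .b, .a, .b, .a, .c, .a, .b, .a, .b, .a, .c, .a, .b, .c, .a, .c, .a, .d]) (lf [.d, .e, .c, .b, .e, .c, .b, .c, .b, .c, .b, .d, .c, .a, .b, .a, .c, .b, .a, .c, .a, .b, .e, .b, .c, .e, .b, .d, .c, .a, .b, .a, .c, .d, .b, .d, .c, .a, .b, .a, .c])))) (nd 2572 (nd 2570 (nd 2569 (lf [.b, .c, .b, .a, .b, .c, .d, .a, .d, .c, .a, .d, .a, .b, .c, .d, .a, .d, .c, .b, .a, .b, .c]) (lf [.b, .a, .d, .c, .b, .e, .c, .b, .e, .a, .b, .a, .c, .a, .c, .a, .b, .c, .a, .b, .c, .a, .d, .c, .d, .a, .d, .c, .b, .e, .b, .c, .e, .c, .d, .a, .b, .a, .c, .b, .c, .a])) (nd 2571 (lf [.c, .a, .e, .a, .e, .b, .d, .e, .d, .e, .d, .b, .d, .a, .d, .b, .d, .a, .e, .d, .e, .d, .b,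 .e, .a, .e, .b, .a, .c, .a, .c, .b, .a, .c, .a, .b, .c, .a, .d, .a, .c, .b, .a]) (lf [.e, .a, .e, .b, .d, .e, .d, .e, .a, .d, .b, .d, .a, .d, .b, .d, .e, .d, .e, .d, .b, .e, .a, .e, .a, .c, .a, .b, .c, .a, .d, .a, .c, .b, .a, .c, .a, .b, .c, .a, .c, .a, .b]))) (nd 2574 (nd 2573 (lf [.b, .a, .d, .e, .b, .a, .b, .a, .c, .b, .c, .a, .b, .a, .b, .c, .e, .a, .c, .b, .c, .b, .c, .b, .a, .d, .a, .b, .a, .a, .b, .c, .b, .c, .b, .c, .a, .a]) (lf [.e, .b, .a, .c, .a, .b, .a, .c, .b, .a, .c, .b, .a, .c, .b, .a, .d, .a, .d, .a, .c, .d, .b, .c, .e, .a, .c, .d, .b, .d, .a, .e, .c, .b, .c, .a, .c, .b, .b, .d, .c, .d, .c, .b, .b, .c, .a, .c, .b, .c, .b, .c, .d, .c, .d, .b, .e, .a, .d, .b, .d, .c, .a])) (nd 2575 (lf [.c, .b, .c, .d, .a, .c, .b, .a, .b, .d, .a, .e, .a, .c, .b, .d, .b, .d, .b, .c, .a, .d, .a, .b, .a, .a, .c, .b,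 .d, .b, .d, .b, .c, .a, .a, .b, .a, .d, .e, .a, .b, .a, .c, .a, .c, .a, .b, .c, .a, .b]) (lf [.a, .b, .d, .b, .a, .b, .e, .b, .a, .e, .c, .d, .b, .d, .b, .d, .a, .c, .b, .a, .b, .c, .a, .b, .c, .a, .b, .a, .e, .a, .b, .e, .a, .c, .a, .c, .a, .b, .a, .b, .d, .b, .a, .b, .a, .a, .c, .a, .c, .a, .a, .b]))))) (nd 2584 (nd 2580 (nd 2578 (nd 2577 (lf [.d, .b, .d, .c, .a, .c, .b, .e, .a, .e, .c, .d, .a, .d, .c, .a, .c, .a, .c, .a, .c, .d, .a, .d, .c, .a, .c, .a, .c, .a, .e, .a, .e, .a, .b, .a, .b, .c, .b, .a, .c, .b, .c, .b, .a, .c, .a]) (lf [.b, .c, .a, .b, .c, .a, .e, .a, .c, .d, .b, .d, .a, .e, .b, .d, .c, .d, .c, .b, .a, .c, .d, .c, .a, .b, .c, .d, .c, .d, .b, .a, .c, .d, .c, .a, .e, .a, .d, .b, .d, .c, .a, .e, .b, .a, .b, .c, .b, .a, .c, .b, .c, .b, .a, .b, .a, .c, .b, .d])) (nd 2579 (lf [.b, .d, .a, .e, .a, .c,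 .b, .d, .b, .d, .b, .c, .a, .d, .a, .b, .a, .a, .c, .b, .d, .b, .d, .b, .c, .a, .a, .b, .a, .d, .e, .a, .b, .a, .c, .a, .c, .a, .b, .c, .a, .b, .c, .b, .c, .d, .a, .c, .b, .a]) (lf [.d, .c, .a, .b, .c, .b, .c, .b, .c, .a, .e, .c, .d, .b, .d, .b, .d, .a, .b, .c, .b, .c, .a, .b, .a, .b, .e, .c, .d, .a, .b, .a, .c, .a, .c, .b, .c, .b, .c, .b, .a, .c, .a, .b, .a]))) (nd 2582 (nd 2581 (lf [.b, .c, .a, .b, .a, .b, .a, .c, .b, .a, .e, .b, .c, .e, .d, .b, .d, .b, .d, .d, .c, .a, .b, .a, .c, .d, .d, .b, .d, .b, .d, .d, .c, .a, .b, .a, .c, .d, .e, .c, .b, .e, .b, .a, .d, .c, .d, .b, .d, .c, .b, .c, .a]) (lf [.a, .c, .a, .b, .e, .b, .c, .e, .b, .d, .c, .a, .b, .a, .c, .d, .b, .d, .c, .a, .b, .a, .c, .d, .e, .c, .b, .e, .c, .b, .c, .b, .c, .b, .d, .c, .a, .b, .a, .c, .b])) (nd 2583 (lf [.b, .d, .a, .b, .d, .a, .c, .b, .c,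 .b, .a, .c, .b, .c, .a, .e, .b, .c, .e, .d, .c, .a, .b, .a, .c, .d, .c, .b, .d, .a, .b, .a, .b, .c, .d, .c, .a, .b, .a, .c, .d, .c, .b, .a, .b, .a, .d, .b, .c, .e, .c, .b, .e, .c]) (lf [.d, .b, .c, .e, .c, .b, .e, .b, .a, .d, .a, .c, .b, .d, .b, .a, .c, .a, .c, .b, .a, .b, .e, .b, .c, .e, .c, .d, .a, .b, .a, .c, .c, .b, .d, .a, .b, .a, .b, .c, .c, .a, .b, .a, .d, .c, .c, .b, .a, .b, .a])))) (nd 2588 (nd 2586 (nd 2585 (lf [.c, .d, .b, .a, .c, .b, .a, .b, .c, .b, .c, .a, .b, .e, .a, .e, .b, .d, .e, .d, .e, .b, .c, .b, .d, .b, .d, .b, .c, .b, .d, .b, .d, .e, .d, .e, .d, .b, .e, .a, .e, .a, .b, .c, .a, .d]) (lf [.c, .d, .b, .d, .a, .e, .c, .b, .c, .a, .c, .b, .b, .d, .b, .a, .c, .a, .b, .c, .a, .c, .b, .c, .a, .c, .a, .b, .d, .b, .e, .a, .d, .b, .d, .c, .a, .e, .b, .a, .c, .a, .b, .c, .a, .c, .a, .b, .a, .c, .d, .a,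 .c, .d, .a, .c, .a, .c, .d, .e, .a])) (nd 2587 (lf [.c, .a, .b, .c, .b, .c, .b, .c, .a, .e, .b, .d, .c, .d, .a, .b, .a, .c, .b, .c, .b, .c, .e, .c, .b, .d, .b, .d, .b, .c, .a, .c, .b, .c, .b, .c, .b, .a, .c, .b, .d, .b, .d, .b]) (lf [.b, .c, .a, .d, .b, .d, .b, .d, .c, .e, .a, .b, .e, .b, .a, .b, .d, .b, .a, .b, .a, .a, .c, .a, .c, .a, .a, .b, .a, .b, .d, .b, .a, .b, .a, .c, .a, .c, .a, .e, .b, .a, .e, .a, .b, .a, .c, .b, .a, .c, .b, .a]))) (nd 2590 (nd 2589 (lf [.d, .a, .c, .a, .c, .a, .d, .b, .a, .b, .d, .e, .a, .e, .b, .a, .b, .a, .c, .b, .a, .b, .d, .b, .c, .b, .c, .a, .b, .c, .a, .b, .c, .a, .b, .a, .b, .a, .e, .a, .e, .a, .c, .a, .c, .a, .d, .b, .a, .b]) (lf [.c, .a, .d, .c, .a, .b, .a, .b, .e, .a, .e, .b, .d, .e, .d, .e, .b, .c, .b, .a, .b, .c, .b, .a, .e, .d, .e, .d, .b, .e, .a, .e, .b, .a, .c, .b, .a,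 .c, .b, .a, .b, .c, .b])) (nd 2591 (lf [.a, .b, .a, .c, .a, .b, .a, .b, .a, .e, .b, .c, .e, .b, .c, .b, .d, .a, .b, .a, .b, .c, .b, .c, .b, .a, .b, .a, .d, .b, .c, .e, .c, .b, .e, .b, .a, .c, .d, .a, .c, .d, .b, .d, .a, .c, .a, .c, .b, .a, .c, .a, .b]) (lf [.b, .a, .b, .c, .b, .c, .a, .d, .c, .a, .b, .a, .b, .e, .a, .e, .b, .d, .e, .d, .e, .b, .c, .b, .a, .b, .c, .b, .a, .e, .d, .e, .d, .b, .e, .a, .e, .b, .a, .c, .b, .a, .c])))))) (nd 2608 (nd 2600 (nd 2596 (nd 2594 (nd 2593 (lf [.d, .b, .d, .a, .c, .a, .c, .b, .a, .c, .a, .b, .a, .b, .a, .c, .a, .b, .a, .b, .a, .e, .b, .c, .e, .b, .c, .b, .d, .a, .b, .a, .b, .c, .b, .c, .b, .a, .b, .a, .d, .b, .c, .e, .c, .b, .e, .b, .a, .c, .d, .a, .c]) (lf [.c, .b, .c, .b, .a, .d, .a, .b, .a, .a, .b, .c, .b, .c, .b, .c, .a, .a, .b, .a, .d, .e, .b, .a, .b, .a, .c, .b, .c, .a,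 .b, .a, .b, .c, .e, .a, .c, .b])) (nd 2595 (lf [.d, .c, .b, .d, .b, .a, .b, .c, .b, .c, .b, .a, .c, .b, .a, .b, .e, .a, .c, .d, .b, .d, .a, .e, .a, .c, .d, .c, .a, .b, .d, .b, .a, .c, .a, .a, .c, .d, .c, .a, .a, .c, .a, .b, .d, .b, .e, .a, .d, .b, .d, .c, .a, .e, .c, .b, .d, .a]) (lf [.a, .b, .c, .b, .a, .c, .b, .c, .b, .a, .b, .a, .c, .b, .d, .b, .c, .a, .b, .c, .a, .e, .a, .c, .d, .b, .d, .a, .e, .b, .d, .c, .d, .c, .b, .a, .c, .d, .c, .a, .b, .c, .d, .c, .d, .b, .a, .c, .d, .c, .a, .e, .a, .d, .b, .d, .c, .a, .e, .b]))) (nd 2598 (nd 2597 (lf [.e, .a, .c, .d, .b, .d, .a, .e, .c, .b, .c, .a, .c, .b, .b, .d, .c, .d, .c, .b, .b, .c, .a, .c, .b, .c, .b, .c, .d, .c, .d, .b, .e, .a, .d, .b, .d, .c, .a, .e, .b, .a, .c, .a, .b, .a, .c, .b, .a, .c, .b, .a, .c, .b, .a, .d, .a, .d, .a, .c, .d, .b, .c]) (lf [.d, .a, .c,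 .b, .d, .b, .d, .b, .c, .a, .e, .a, .d, .b, .a, .b, .c, .a, .d, .c, .b, .c, .b, .a, .c, .b, .a, .c, .a, .c, .a, .b, .a, .e, .d, .a, .b, .a, .a, .c, .b, .d, .b, .d, .b, .c, .a, .a, .b, .a])) (nd 2599 (lf [.a, .b, .e, .a, .c, .d, .b, .d, .a, .e, .b, .d, .c, .d, .c, .b, .c, .b, .c, .a, .c, .b, .b, .c, .d, .c, .d, .b, .b, .c, .a, .c, .b, .c, .e, .a, .d, .b, .d, .c, .a, .e, .c, .b, .d, .c, .a, .d, .a, .d, .a, .b, .c, .a, .b, .c, .a, .b, .c, .a, .b, .a, .c]) (lf [.d, .c, .a, .b, .a, .d, .c, .d, .b, .d, .b, .d, .e, .c, .b, .e, .b, .c, .b, .c, .b, .a, .c, .a, .c, .b, .d, .a, .c, .b, .c, .d, .b, .e, .b, .c, .e, .c, .d, .a, .b, .a, .c, .d, .b, .d, .b])))) (nd 2604 (nd 2602 (nd 2601 (lf [.c, .a, .c, .a, .d, .b, .a, .b, .d, .e, .a, .e, .b, .a, .b, .a, .c, .b, .a, .b, .d, .b, .c, .b, .c, .a, .b, .c, .a, .b, .c, .a, .b, .a,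 .b, .a, .e, .a, .e, .a, .c, .a, .c, .a, .d, .b, .a, .b, .d, .a]) (lf [.d, .a, .c, .d, .a, .c, .b, .a, .c, .a, .b, .c, .a, .c, .a, .e, .a, .e, .b, .d, .e, .d, .e, .a, .c, .b, .c, .a, .c, .b, .c, .e, .d, .e, .d, .b, .e, .a, .e, .d, .a])) (nd 2603 (lf [.b, .d, .c, .d, .a, .d, .c, .d, .b, .a, .b, .d, .c, .d, .a, .d, .c, .e, .a, .e, .a, .b, .c, .b, .c, .b, .a, .c, .a, .c, .a, .d, .a, .c, .b, .c, .b, .c, .a, .e, .a, .e, .d, .b, .a]) (lf [.a, .d, .c, .e, .b, .a, .b, .a, .c, .b, .c, .b, .a, .d, .b, .d, .b, .d, .c, .e, .a, .c, .b, .c, .b, .c, .b, .a, .c, .d, .a, .b, .a, .c, .a, .b, .c, .b, .c, .b, .c, .a, .c, .a, .b]))) (nd 2606 (nd 2605 (lf [.c, .d, .a, .b, .e, .b, .c, .e, .d, .c, .a, .b, .a, .c, .d, .d, .b, .d, .b, .d, .d, .c, .a, .b, .a, .c, .d, .d, .b, .d, .b, .d, .e, .c, .b, .e, .a, .b, .c, .a, .b, .a, .b, .a, .c,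 .b, .a, .c, .b, .c, .d, .b, .d]) (lf [.d, .a, .b, .a, .c, .d, .b, .d, .b, .d, .c, .a, .b, .a, .d, .c, .e, .c, .b, .e, .b, .d, .c, .b, .c, .a, .d, .b, .c, .a, .c, .a, .b, .c, .b, .c, .b, .e, .b, .c, .e, .d, .b, .d, .b, .d, .c])) (nd 2607 (lf [.b, .c, .a, .b, .d, .c, .b, .d, .a, .d, .a, .b, .e, .b, .c, .e, .c, .b, .d, .a, .b, .a, .b, .c, .d, .b, .d, .b, .d, .c, .b, .a, .b, .a, .d, .b, .c, .d, .b, .d, .b, .d, .e, .c, .b, .e, .a, .c, .b, .c, .a, .b, .a]) (lf [.c, .b, .a, .c, .b, .a, .b, .c, .a, .d, .b, .d, .b, .d, .c, .e, .a, .b, .e, .b, .a, .b, .d, .b, .a, .b, .a, .a, .c, .a, .c, .a, .a, .b, .a, .b, .d, .b, .a, .b, .a, .c, .a, .c, .a, .e, .b, .a, .e, .a, .b, .a]))))) (nd 2616 (nd 2612 (nd 2610 (nd 2609 (lf [.a, .e, .d, .c, .e, .c, .b, .c, .b, .a, .c, .a, .c, .b, .d, .a, .c, .b, .c, .d, .e, .c, .d, .e, .a, .c, .b,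 .c, .b, .c, .b, .a, .a, .d, .c, .a, .c, .d, .a, .a, .b, .c, .b, .c, .b, .c, .a, .a, .d, .c, .a, .c, .d]) (lf [.a, .d, .c, .a, .c, .a, .c, .a, .c, .d, .a, .d, .c, .e, .a, .e, .b, .c, .a, .c, .d, .b, .d, .a, .c, .a, .b, .c, .b, .c, .a, .b, .c, .b, .a, .b, .a, .e, .a, .e, .a, .c, .a, .c, .a, .c, .d])) (nd 2611 (lf [.c, .a, .b, .a, .c, .d, .d, .b, .d, .b, .d, .d, .c, .a, .b, .a, .c, .d, .d, .b, .d, .b, .d, .e, .c, .b, .e, .a, .b, .c, .a, .b, .a, .b, .a, .c, .b, .a, .c, .b, .c, .d, .b, .d, .c, .d, .a, .b, .e, .b, .c, .e, .d]) (lf [.c, .a, .b, .a, .b, .c, .b, .c, .a, .b, .c, .b, .a, .b, .e, .a, .c, .d, .b, .d, .a, .e, .a, .c, .d, .c, .a, .b, .d, .c, .d, .c, .b, .a, .c, .d, .c, .a, .b, .c, .d, .c, .d, .b, .e, .a, .d, .b, .d, .c, .a, .e, .a, .c, .b, .a, .c, .b, .d, .b]))) (nd 2614 (nd 2613 (lf [.c, .b, .a, .c, .a, .c,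 .a, .b, .a, .e, .d, .a, .b, .a, .a, .c, .b, .d, .b, .d, .b, .c, .a, .a, .b, .a, .d, .a, .c, .b, .d, .b, .d, .b, .c, .a, .e, .a, .d, .b, .a, .b, .c, .a, .d, .c, .b, .c, .b, .a]) (lf [.d, .b, .a, .b, .d, .a, .c, .a, .c, .a, .d, .b, .a, .b, .d, .e, .a, .e, .b, .a, .b, .a, .c, .b, .a, .b, .d, .b, .c, .b, .c, .a, .b, .c, .a, .b, .c, .a, .b, .a, .b, .a, .e, .a, .e, .a, .c, .a, .c, .a])) (nd 2615 (lf [.c, .a, .c, .b, .a, .c, .a, .b, .c, .a, .d, .c, .a, .d, .a, .d, .e, .a, .e, .b, .d, .e, .d, .e, .c, .b, .c, .a, .c, .b, .c, .a, .e, .d, .e, .d, .b, .e, .a, .e, .a]) (lf [.d, .c, .b, .c, .b, .c, .d, .a, .c, .a, .c, .a, .d, .c, .b, .c, .b, .c, .d, .e, .b, .a, .e, .b, .c, .d, .a, .d, .c, .d, .b, .d, .a, .b, .c, .a, .b, .c, .a, .b, .c, .b, .a, .e, .a, .b, .e, .a, .c, .a, .c, .a])))) (nd 2620 (nd 2618 (nd 2617 (lf [.a, .b, .a,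 .e, .b, .c, .e, .b, .c, .d, .a, .b, .a, .c, .b, .c, .a, .b, .a, .d, .c, .e, .c, .b, .e, .b, .c, .d, .a, .d, .c, .d, .a, .c, .b, .a, .c, .b, .a, .c, .a, .c]) (lf [.d, .b, .e, .a, .d, .b, .d, .c, .a, .e, .b, .a, .c, .a, .b, .a, .c, .b, .a, .c, .b, .a, .c, .b, .a, .d, .a, .d, .a, .c, .d, .b, .c, .e, .a, .c, .d, .b, .d, .a, .e, .c, .b, .c, .a, .c, .b, .b, .d, .c, .d, .c, .b, .b, .c, .a, .c, .b, .c, .b, .c, .d, .c])) (nd 2619 (lf [.c, .a, .c, .a, .e, .a, .e, .a, .b, .a, .b, .c, .b, .a, .c, .b, .c, .b, .a, .c, .a, .d, .b, .d, .c, .a, .c, .b, .e, .a, .e, .c, .d, .a, .d, .c, .a, .c, .a, .c, .a, .c, .d, .a, .d, .c, .a]) (lf [.a, .b, .d, .c, .d, .a, .d, .c, .d, .b, .a, .b, .d, .e, .a, .e, .a, .c, .b, .c, .b, .c, .a, .d, .a, .c, .a, .c, .a, .b, .c, .b, .c, .b, .a, .e, .a, .e, .c, .d, .a, .d, .c, .d, .b]))) (nd 2622 (nd 2621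 (lf [.d, .b, .c, .b, .a, .b, .c, .b, .d, .a, .b, .a, .b, .d, .b, .a, .b, .e, .b, .a, .e, .b, .a, .c, .b, .c, .a, .b, .c, .a, .b, .a, .d, .a, .c, .a, .c, .a, .b, .a, .c, .e, .a, .b, .e, .d, .b, .c, .b, .a, .b, .c, .b, .d, .b, .a, .b, .d, .b, .a, .b, .a]) (lf [.b, .a, .b, .a, .c, .b, .c, .a, .e, .b, .c, .e, .d, .b, .d, .b, .d, .c, .b, .d, .a, .b, .a, .b, .c, .d, .b, .d, .b, .d, .c, .b, .a, .b, .a, .d, .b, .c, .e, .c, .b, .e, .b, .a, .d, .a, .d, .b, .c, .d, .b, .a, .c])) (nd 2623 (lf [.d, .c, .a, .b, .c, .d, .c, .d, .b, .e, .a, .d, .b, .d, .c, .a, .e, .a, .c, .b, .a, .c, .b, .d, .b, .c, .a, .b, .a, .b, .c, .b, .c, .a, .b, .c, .b, .a, .b, .e, .a, .c, .d, .b, .d, .a, .e, .a, .c, .d, .c, .a, .b, .d, .c, .d, .c, .b, .a, .c]) (lf [.b, .c, .d, .a, .b, .a, .c, .b, .d, .b, .d, .b, .c, .a, .b, .a, .d, .e, .a, .c, .a, .b, .c,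 .a, .b, .c, .b, .a, .c, .d, .b, .d, .a, .b, .c, .b, .e, .c, .b, .d, .b, .d])))))))
noncomputable def tc3kw_circT_c41 : ℕ → List Gen := (nd 2656 (nd 2640 (nd 2632 (nd 2628 (nd 2626 (nd 2625 (lf [.c, .b, .c, .a, .e, .d, .c, .e, .d, .a, .b, .a, .e, .c, .d, .e, .b, .d, .b, .d, .b, .a, .c, .b, .c, .b, .c, .b, .a, .b, .d, .b, .d, .b, .a, .b, .c, .b]) (lf [.c, .b, .c, .a, .b, .c, .a, .b, .c, .a, .b, .a, .b, .a, .e, .a, .e, .a, .c, .a, .c, .a, .d, .b, .a, .b, .d, .a, .c, .a, .c, .a, .d, .b, .a, .b, .d, .e, .a, .e, .b, .a, .b, .a, .c, .b, .a, .b, .d, .b])) (nd 2627 (lf [.c, .e, .a, .e, .a, .b, .c, .b, .c, .b, .a, .c, .a, .c, .a, .d, .a, .c, .b, .c, .b, .c, .a, .e, .a, .e, .d, .b, .a, .b, .d, .c, .d, .a, .d, .c, .d, .b, .a, .b, .d, .c, .d, .a, .d]) (lf [.c, .a, .c, .b, .d, .a, .c, .b, .c, .d, .e, .c, .d, .e, .a, .c, .b,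 .c, .b, .c, .b, .a, .a, .d, .c, .a, .c, .d, .a, .a, .b, .c, .b, .c, .b, .c, .a, .a, .d, .c, .a, .c, .d, .a, .e, .d, .c, .e, .c, .b, .c, .b, .a]))) (nd 2630 (nd 2629 (lf [.d, .c, .d, .b, .a, .b, .d, .c, .d, .a, .d, .c, .e, .a, .e, .a, .b, .c, .b, .c, .b, .a, .c, .a, .c, .a, .d, .a, .c, .b, .c, .b, .c, .a, .e, .a, .e, .d, .b, .a, .b, .d, .c, .d, .a]) (lf [.a, .e, .b, .c, .a, .b, .a, .c, .a, .c, .b, .a, .b, .d, .c, .a, .c, .b, .c, .b, .e, .a, .c, .d, .b, .d, .a, .e, .c, .b, .c, .a, .c, .b, .a, .c, .d, .c, .a, .b, .c, .a, .c, .b, .c, .a, .c, .d, .c, .a, .e, .a, .d, .b, .d, .c])) (nd 2631 (lf [.d, .c, .a, .b, .e, .b, .c, .e, .c, .b, .d, .a, .b, .a, .b, .c, .b, .c, .b, .a, .b, .a, .d, .b, .c, .b, .e, .c, .b, .e, .a, .b, .a, .b, .a, .c, .a, .b, .a, .b, .a, .c, .a, .b, .c, .a, .c, .a, .d, .b, .d, .c, .a]) (lf [.c, .b,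 .d, .b, .d, .b, .c, .e, .c, .b, .c, .b, .c, .a, .b, .a, .d, .c, .d, .b, .e, .a, .c, .b, .c, .b, .c, .b, .a, .c, .b, .d, .b, .d, .b, .c, .a, .b, .c, .b, .c, .b, .c, .a])))) (nd 2636 (nd 2634 (nd 2633 (lf [.c, .a, .d, .b, .d, .c, .a, .c, .b, .e, .a, .e, .c, .d, .a, .d, .c, .a, .c, .a, .c, .a, .c, .d, .a, .d, .c, .a, .c, .a, .c, .a, .e, .a, .e, .a, .b, .a, .b, .c, .b, .a, .c, .b, .c, .b, .a]) (lf [.b, .c, .a, .b, .a, .b, .a, .c, .b, .a, .c, .b, .c, .d, .b, .d, .c, .d, .a, .b, .e, .b, .c, .e, .d, .c, .a, .b, .a, .c, .d, .d, .b, .d, .b, .d, .d, .c, .a, .b, .a, .c, .d, .d, .b, .d, .b, .d, .e, .c, .b, .e, .a])) (nd 2635 (lf [.a, .d, .c, .b, .c, .b, .a, .c, .b, .a, .c, .a, .c, .a, .b, .a, .e, .d, .a, .b, .a, .a, .c, .b, .d, .b, .d, .b, .c, .a, .a, .b, .a, .d, .a, .c, .b, .d, .b, .d, .b, .c, .a, .e, .a, .d, .b, .a, .b,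 .c]) (lf [.a, .e, .b, .c, .e, .d, .b, .d, .b, .d, .d, .c, .a, .b, .a, .c, .d, .d, .b, .d, .b, .d, .d, .c, .a, .b, .a, .c, .d, .e, .c, .b, .e, .b, .a, .d, .c, .d, .b, .d, .c, .b, .c, .a, .b, .c, .a, .b, .a, .b, .a, .c, .b]))) (nd 2638 (nd 2637 (lf [.a, .b, .a, .b, .e, .a, .e, .b, .d, .e, .d, .e, .b, .c, .b, .a, .b, .c, .b, .a, .e, .d, .e, .d, .b, .e, .a, .e, .b, .a, .c, .b, .a, .c, .b, .a, .b, .c, .b, .c, .a, .d, .c]) (lf [.b, .a, .c, .b, .a, .c, .a, .b, .e, .b, .c, .e, .b, .d, .c, .a, .b, .a, .c, .d, .b, .d, .c, .a, .b, .a, .c, .d, .e, .c, .b, .e, .c, .b, .c, .b, .c, .b, .d, .c, .a])) (nd 2639 (lf [.c, .b, .c, .a, .c, .b, .b, .d, .b, .a, .c, .a, .b, .c, .a, .c, .b, .c, .a, .c, .a, .b, .d, .b, .e, .a, .d, .b, .d, .c, .a, .e, .b, .a, .c, .a, .b, .c, .a, .c, .a, .b, .a, .c, .d, .a, .c, .d, .a, .c, .a, .c, .d, .e,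 .a, .c, .d, .b, .d, .a, .e]) (lf [.a, .c, .b, .c, .a, .e, .b, .c, .e, .d, .c, .a, .b, .a, .c, .d, .c, .b, .d, .a, .b, .a, .b, .c, .d, .c, .a, .b, .a, .c, .d, .c, .b, .a, .b, .a, .d, .b, .c, .e, .c, .b, .e, .c, .b, .d, .a, .b, .d, .a, .c, .b, .c, .b]))))) (nd 2648 (nd 2644 (nd 2642 (nd 2641 (lf [.b, .c, .b, .c, .b, .a, .b, .c, .d, .a, .d, .c, .a, .d, .a, .b, .c, .d, .a, .d, .c, .b, .a]) (lf [.c, .d, .b, .d, .a, .b, .c, .a, .b, .c, .a, .b, .c, .b, .a, .e, .a, .b, .e, .a, .c, .a, .c, .a, .d, .c, .b, .c, .b, .c, .d, .a, .c, .a, .c, .a, .d, .c, .b, .c, .b, .c, .d, .e, .b, .a, .e, .b, .c, .d, .a, .d])) (nd 2643 (lf [.d, .b, .d, .c, .b, .d, .a, .b, .a, .b, .c, .d, .b, .d, .b, .d, .c, .b, .a, .b, .a, .d, .b, .c, .e, .c, .b, .e, .b, .a, .d, .a, .d, .b, .c, .d, .b, .a, .c, .b, .a, .b, .a, .c, .b, .c, .a, .e, .b, .c, .e,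 .d, .b]) (lf [.c, .a, .a, .d, .c, .a, .c, .d, .a, .e, .d, .c, .e, .c, .b, .c, .b, .a, .c, .a, .c, .b, .d, .a, .c, .b, .c, .d, .e, .c, .d, .e, .a, .c, .b, .c, .b, .c, .b, .a, .a, .d, .c, .a, .c, .d, .a, .a, .b, .c, .b, .c, .b]))) (nd 2646 (nd 2645 (lf [.c, .d, .a, .c, .b, .a, .c, .e, .a, .e, .b, .d, .c, .d, .b, .a, .c, .a, .c, .a, .b, .d, .c, .d, .b, .a, .c, .a, .c, .a, .e, .a, .e, .c, .b, .a, .c, .b, .a, .c, .b, .c, .b]) (lf [.d, .a, .d, .a, .b, .e, .b, .c, .e, .c, .b, .d, .a, .b, .a, .b, .c, .d, .b, .d, .b, .d, .c, .b, .a, .b, .a, .d, .b, .c, .d, .b, .d, .b, .d, .e, .c, .b, .e, .a, .c, .b, .c, .a, .b, .a, .b, .c, .a, .b, .d, .c, .b])) (nd 2647 (lf [.c, .a, .e, .a, .e, .b, .d, .e, .d, .e, .a, .c, .b, .c, .a, .c, .b, .c, .e, .d, .e, .d, .b, .e, .a, .e, .d, .a, .d, .a, .c, .d, .a, .c, .b, .a, .c, .a, .b, .c, .a])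 (lf [.a, .b, .a, .c, .c, .b, .d, .a, .b, .a, .b, .c, .c, .a, .b, .a, .d, .c, .c, .b, .a, .b, .a, .d, .b, .c, .e, .c, .b, .e, .b, .a, .d, .a, .c, .b, .d, .b, .a, .c, .a, .c, .b, .a, .b, .e, .b, .c, .e, .c, .d])))) (nd 2652 (nd 2650 (nd 2649 (lf [.d, .b, .a, .c, .a, .b, .c, .d, .c, .d, .b, .a, .c, .a, .b, .d, .b, .e, .a, .d, .b, .d, .c, .a, .e, .a, .c, .d, .a, .d, .c, .a, .e, .a, .c, .d, .b, .d, .a, .e, .b, .d, .c, .d, .c, .b, .b]) (lf [.b, .e, .d, .e, .d, .b, .e, .a, .e, .b, .a, .c, .b, .c, .b, .a, .b, .c, .a, .b, .d, .c, .d, .a, .c, .b, .a, .e, .a, .e, .b, .d, .e, .d, .e, .d, .b, .d, .b, .c, .b, .d, .b, .d, .b, .c])) (nd 2651 (lf [.c, .a, .d, .c, .b, .c, .b, .c, .d, .a, .c, .a, .c, .a, .d, .c, .b, .c, .b, .c, .d, .e, .b, .a, .e, .b, .c, .d, .a, .d, .c, .d, .b, .d, .a, .b, .c, .a, .b, .c, .a, .b, .c, .b, .a, .e,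 .a, .b, .e, .a, .c, .a]) (lf [.b, .a, .c, .a, .b, .c, .a, .c, .b, .c, .a, .c, .a, .b, .d, .b, .e, .a, .d, .b, .d, .c, .a, .e, .b, .a, .c, .a, .b, .c, .a, .c, .a, .b, .a, .c, .d, .a, .c, .d, .a, .c, .a, .c, .d, .e, .a, .c, .d, .b, .d, .a, .e, .c, .b, .c, .a, .c, .b, .b, .d]))) (nd 2654 (nd 2653 (lf [.a, .b, .a, .e, .a, .e, .b, .d, .e, .d, .e, .c, .b, .c, .d, .b, .d, .c, .b, .c, .d, .b, .d, .e, .d, .e, .d, .b, .e, .a, .e, .b, .d, .a, .b, .a, .c, .a, .d, .a, .b, .a, .b, .c, .b, .c, .b, .a, .c, .b]) (lf [.c, .a, .d, .a, .c, .b, .c, .b, .c, .a, .e, .a, .e, .d, .b, .a, .b, .d, .c, .d, .a, .d, .c, .d, .b, .a, .b, .d, .c, .d, .a, .d, .c, .e, .a, .e, .a, .b, .c, .b, .c, .b, .a, .c, .a])) (nd 2655 (lf [.d, .c, .d, .b, .a, .c, .a, .c, .a, .e, .a, .e, .c, .b, .a, .c, .b, .a, .c, .b, .c, .b, .c, .d, .a, .c, .b, .a, .c, .e,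 .a, .e, .b, .d, .c, .d, .b, .a, .c, .a, .c, .a, .b]) (lf [.b, .a, .b, .d, .b, .d, .c, .d, .b, .d, .b, .a, .b, .d, .e, .a, .e, .c, .d, .a, .b, .d, .c, .d, .b, .c, .b, .c, .b, .a, .c, .b, .a, .c, .b, .c, .b, .a, .b, .a, .e, .a, .e, .b, .d, .c, .d, .b, .d])))))) (nd 2672 (nd 2664 (nd 2660 (nd 2658 (nd 2657 (lf [.b, .d, .b, .d, .b, .c, .a, .e, .b, .a, .b, .a, .c, .d, .c, .b, .d, .a, .b, .c, .b, .c, .b, .a, .b, .c, .a, .b, .c, .b, .e, .c, .d, .a, .b, .a, .c, .a, .c, .b, .d, .b, .d, .b, .c, .a, .c, .a, .b, .a, .d, .c, .a, .c]) (lf [.d, .c, .a, .c, .b, .c, .b, .e, .a, .c, .d, .b, .d, .a, .e, .c, .b, .c, .a, .c, .b, .a, .c, .d, .c, .a, .b, .c, .a, .c, .b, .c, .a, .c, .d, .c, .a, .e, .a, .d, .b, .d, .c, .a, .e, .b, .c, .a, .b, .a, .c, .a, .c, .b, .a, .b])) (nd 2659 (lf [.b, .c, .b, .e, .c, .d, .a, .b, .a, .c, .a, .c, .b,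 .d, .b, .d, .b, .c, .a, .c, .a, .b, .a, .d, .c, .a, .c, .b, .d, .b, .d, .b, .c, .a, .e, .b, .a, .b, .a, .c, .d, .c, .b, .d, .a, .b, .c, .b, .c, .b, .a, .b, .c, .a]) (lf [.a, .c, .a, .c, .a, .d, .c, .b, .c, .b, .c, .d, .a, .c, .a, .c, .a, .e, .b, .a, .e, .a, .b, .c, .b, .a, .c, .b, .a, .c, .b, .a, .d, .b, .d, .c, .d, .a, .d, .c, .b, .e, .a, .b, .e, .d, .c, .b, .c, .b, .c, .d]))) (nd 2662 (nd 2661 (lf [.a, .e, .a, .e, .b, .d, .e, .d, .e, .d, .b, .d, .b, .c, .b, .d, .b, .d, .b, .c, .b, .e, .d, .e, .d, .b, .e, .a, .e, .b, .a, .c, .b, .c, .b, .a, .b, .c, .a, .b, .d, .c, .d, .a, .c, .b]) (lf [.c, .b, .c, .a, .a, .c, .b, .d, .b, .d, .b, .c, .a, .e, .b, .a, .c, .b, .d, .a, .d, .b, .c, .b, .c, .a, .b, .a, .c, .b, .a, .b, .a, .e, .a, .c, .b, .c, .b, .c, .b, .a, .a, .c, .b, .d, .b, .d, .b, .c, .a, .a, .b, .c, .b])) (nd 2663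 (lf [.b, .c, .d, .c, .d, .b, .a, .c, .d, .c, .a, .e, .a, .d, .b, .d, .c, .a, .e, .b, .a, .b, .c, .b, .a, .c, .b, .c, .b, .a, .b, .a, .c, .b, .d, .b, .c, .a, .b, .c, .a, .e, .a, .c, .d, .b, .d, .a, .e, .b, .d, .c, .d, .c, .b, .a, .c, .d, .c, .a]) (lf [.a, .c, .d, .b, .d, .a, .c, .a, .c, .b, .a, .c, .a, .b, .a, .b, .a, .c, .a, .b, .a, .b, .a, .e, .b, .c, .e, .b, .c, .b, .d, .a, .b, .a, .b, .c, .b, .c, .b, .a, .b, .a, .d, .b, .c, .e, .c, .b, .e, .b, .a, .c, .d])))) (nd 2668 (nd 2666 (nd 2665 (lf [.e, .b, .d, .a, .b, .a, .c, .a, .d, .a, .b, .a, .b, .c, .b, .c, .b, .a, .c, .b, .a, .b, .a, .e, .a, .e, .b, .d, .e, .d, .e, .c, .b, .c, .d, .b, .d, .c, .b, .c, .d, .b, .d, .e, .d, .e, .d, .b, .e, .a]) (lf [.a, .b, .c, .a, .d, .c, .b, .c, .b, .a, .c, .b, .a, .c, .a, .c, .a, .b, .a, .e, .d, .a, .b, .a, .a, .c, .b, .d, .b, .d,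 .b, .c, .a, .a, .b, .a, .d, .a, .c, .b, .d, .b, .d, .b, .c, .a, .e, .a, .d, .b])) (nd 2667 (lf [.b, .c, .b, .c, .b, .c, .a, .e, .c, .d, .b, .d, .b, .d, .a, .b, .c, .b, .c, .a, .b, .a, .b, .e, .c, .d, .a, .b, .a, .c, .a, .c, .b, .c, .b, .c, .b, .a, .c, .a, .b, .a, .d, .c, .a]) (lf [.d, .b, .c, .a, .c, .a, .b, .a, .d, .c, .a, .c, .b, .d, .b, .d, .b, .c, .a, .e, .b, .a, .b, .a, .c, .d, .c, .b, .d, .a, .b, .c, .b, .c, .b, .a, .b, .c, .a, .b, .c, .b, .e, .c, .d, .a, .b, .a, .c, .a, .c, .b, .d, .b]))) (nd 2670 (nd 2669 (lf [.c, .d, .a, .c, .d, .a, .c, .a, .c, .d, .e, .a, .c, .d, .b, .d, .a, .e, .c, .b, .c, .a, .c, .b, .b, .d, .b, .a, .c, .a, .b, .c, .a, .c, .b, .c, .a, .c, .a, .b, .d, .b, .e, .a, .d, .b, .d, .c, .a, .e, .b, .a, .c, .a, .b, .c, .a, .c, .a, .b, .a]) (lf [.b, .a, .b, .d, .a, .c, .a, .c, .a, .d, .b, .a,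 .b, .d, .e, .a, .e, .b, .a, .b, .a, .c, .b, .a, .b, .d, .b, .c, .b, .c, .a, .b, .c, .a, .b, .c, .a, .b, .a, .b, .a, .e, .a, .e, .a, .c, .a, .c, .a, .d])) (nd 2671 (lf [.a, .e, .a, .e, .c, .d, .a, .d, .c, .d, .b, .a, .b, .d, .c, .d, .a, .d, .c, .d, .b, .a, .b, .d, .e, .a, .e, .a, .c, .b, .c, .b, .c, .a, .d, .a, .c, .a, .c, .a, .b, .c, .b, .c, .b]) (lf [.c, .b, .a, .b, .c, .a, .b, .d, .c, .d, .a, .c, .b, .a, .e, .a, .e, .b, .d, .e, .d, .e, .d, .b, .d, .b, .c, .b, .d, .b, .d, .b, .c, .b, .e, .d, .e, .d, .b, .e, .a, .e, .b, .a, .c, .b]))))) (nd 2680 (nd 2676 (nd 2674 (nd 2673 (lf [.b, .c, .e, .b, .c, .e, .c, .b, .d, .a, .b, .a, .b, .c, .d, .c, .a, .b, .a, .c, .d, .c, .b, .a, .b, .a, .d, .b, .c, .d, .c, .a, .b, .a, .c, .d, .e, .c, .b, .e, .a, .c, .b, .c, .a, .b, .c, .b, .c, .a, .d, .b, .a, .d]) (lf [.a, .c, .d, .a,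 .c, .a, .c, .d, .e, .a, .c, .d, .b, .d, .a, .e, .c, .b, .c, .a, .c, .b, .b, .d, .b, .a, .c, .a, .b, .c, .a, .c, .b, .c, .a, .c, .a, .b, .d, .b, .e, .a, .d, .b, .d, .c, .a, .e, .b, .a, .c, .a, .b, .c, .a, .c, .a, .b, .a, .c, .d])) (nd 2675 (lf [.b, .a, .b, .a, .e, .a, .e, .a, .c, .a, .c, .a, .d, .b, .a, .b, .d, .a, .c, .a, .c, .a, .d, .b, .a, .b, .d, .e, .a, .e, .b, .a, .b, .a, .c, .b, .a, .b, .d, .b, .c, .b, .c, .a, .b, .c, .a, .b, .c, .a]) (lf [.a, .b, .d, .b, .d, .b, .a, .d, .c, .a, .c, .d, .a, .e, .d, .c, .e, .b, .a, .c, .d, .b, .a, .b, .d, .a, .b, .c, .a, .b, .c, .a, .c, .b, .a, .e, .c, .d, .e, .b, .d, .b, .d, .b, .a, .d, .c, .a, .c, .d]))) (nd 2678 (nd 2677 (lf [.a, .d, .c, .e, .a, .e, .a, .b, .c, .b, .c, .b, .a, .c, .a, .c, .a, .d, .a, .c, .b, .c, .b, .c, .a, .e, .a, .e, .d, .b, .a, .b, .d, .c, .d, .a, .d,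 .c, .d, .b, .a, .b, .d, .c, .d]) (lf [.c, .a, .b, .c, .b, .c, .b, .a, .e, .a, .e, .c, .d, .a, .d, .c, .d, .b, .a, .b, .d, .c, .d, .a, .d, .c, .d, .b, .a, .b, .d, .e, .a, .e, .a, .c, .b, .c, .b, .c, .a, .d, .a, .c, .a])) (nd 2679 (lf [.b, .c, .e, .a, .d, .b, .d, .c, .a, .e, .d, .c, .a, .c, .a, .d, .c, .a, .d, .c, .a, .b, .a, .c, .a, .c, .b, .a, .c, .a, .b, .e, .a, .c, .d, .b, .d, .a, .e, .b, .d, .b, .a, .c, .a, .c, .b, .c, .a, .c, .b, .a, .c, .a, .b, .d, .b, .b, .c, .a, .c]) (lf [.c, .a, .c, .a, .b, .e, .a, .e, .b, .d, .e, .d, .e, .a, .d, .b, .d, .a, .d, .b, .d, .e, .d, .e, .d, .b, .e, .a, .e, .a, .c, .a, .b, .c, .a, .d, .a, .c, .b, .a, .c, .a, .b])))) (nd 2684 (nd 2682 (nd 2681 (lf [.a, .c, .d, .a, .b, .a, .c, .a, .b, .c, .b, .c, .b, .c, .a, .c, .a, .b, .a, .d, .c, .e, .b, .a, .b, .a, .c, .b, .c, .b, .a, .d, .b,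 .d, .b, .d, .c, .e, .a, .c, .b, .c, .b, .c, .b]) (lf [.c, .a, .b, .e, .a, .e, .b, .d, .e, .d, .e, .a, .b, .c, .b, .a, .b, .c, .b, .e, .d, .e, .d, .b, .e, .a, .e, .b, .a, .b, .a, .c, .d, .a, .c, .b, .c, .b, .a, .b, .c, .a, .b])) (nd 2683 (lf [.b, .d, .c, .d, .a, .c, .b, .a, .e, .a, .e, .b, .d, .e, .d, .e, .d, .b, .d, .b, .c, .b, .d, .b, .d, .b, .c, .b, .e, .d, .e, .d, .b, .e, .a, .e, .b, .a, .c, .b, .c, .b, .a, .b, .c, .a]) (lf [.d, .a, .c, .a, .c, .a, .d, .b, .c, .b, .a, .b, .c, .b, .d, .a, .c, .a, .c, .a, .e, .b, .a, .e, .a, .b, .a, .b, .a, .c, .a, .b, .c, .a, .b, .c, .a, .c, .d, .a, .c, .b, .d, .a, .c, .a, .b, .e, .a, .b, .e, .d, .b, .c, .b, .a, .b, .c, .b]))) (nd 2686 (nd 2685 (lf [.c, .e, .a, .c, .d, .b, .d, .a, .e, .b, .d, .b, .a, .c, .a, .a, .c, .d, .c, .a, .a, .c, .a, .b, .d, .b, .a, .c, .d, .c, .a, .e,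 .a, .d, .b, .d, .c, .a, .e, .b, .a, .b, .c, .a, .b, .c, .b, .c, .b, .a, .b, .d, .b, .c, .d, .a, .d, .b]) (lf [.c, .a, .b, .a, .c, .d, .e, .c, .b, .e, .b, .a, .d, .c, .d, .b, .d, .c, .b, .c, .a, .b, .c, .a, .b, .a, .b, .a, .c, .b, .a, .e, .b, .c, .e, .d, .b, .d, .b, .d, .d, .c, .a, .b, .a, .c, .d, .d, .b, .d, .b, .d, .d])) (nd 2687 (lf [.c, .b, .c, .a, .b, .e, .a, .e, .b, .d, .e, .d, .e, .b, .c, .b, .d, .b, .d, .b, .c, .b, .d, .b, .d, .e, .d, .e, .d, .b, .e, .a, .e, .a, .b, .c, .a, .d, .c, .d, .b, .a, .c, .b, .a, .b]) (lf [.a, .c, .a, .c, .b, .a, .c, .a, .b, .c, .a, .d, .a, .c, .b, .a, .c, .a, .e, .a, .e, .b, .d, .e, .d, .e, .d, .b, .d, .a, .d, .b, .d, .a, .e, .d, .e, .d, .b, .e, .a, .e, .b])))))))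
noncomputable def tc3kw_circT_c42 : ℕ → List Gen := (nd 2720 (nd 2704 (nd 2696 (nd 2692 (nd 2690 (nd 2689 (lf [.b, .a, .e, .a, .e, .b, .d, .e, .d, .e, .d, .b, .d, .b, .c, .b, .d, .b, .d, .b, .c, .b, .e, .d, .e, .d, .b, .e, .a, .e, .b, .a, .c, .b, .c, .b, .a, .b, .c, .a, .b, .d, .c, .d, .a, .c]) (lf [.d, .b, .a, .c, .a, .b, .d, .b, .e, .a, .d, .b, .d, .c, .a, .e, .a, .c, .d, .a, .d, .c, .a, .e, .a, .c, .d, .b, .d, .a, .e, .b, .d, .c, .d, .c, .b, .b, .d, .b, .a, .c, .a, .b, .c, .d, .c])) (nd 2691 (lf [.b, .e, .b, .c, .e, .c, .b, .d, .a, .b, .a, .b, .c, .d, .b, .d, .b, .d, .c, .b, .a, .b, .a, .d, .b, .c, .d, .b, .d, .b, .d, .e, .c, .b, .e, .a, .c, .b, .c, .a, .b, .a, .b, .c, .a, .b, .d, .c, .b, .d, .a, .d, .a]) (lf [.b, .e, .b, .c, .e, .c, .d, .a, .b, .a, .c, .b, .c, .a, .b, .a, .d, .c, .b, .e, .c, .b, .e, .a, .b,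 .a, .c, .a, .c, .a, .b, .c, .a, .b, .c, .a, .d, .c, .d, .a, .d, .c]))) (nd 2694 (nd 2693 (lf [.c, .b, .a, .b, .a, .e, .a, .e, .a, .c, .a, .c, .a, .c, .d, .a, .d, .c, .a, .c, .a, .c, .a, .c, .d, .a, .d, .c, .e, .a, .e, .b, .c, .a, .c, .d, .b, .d, .a, .c, .a, .b, .c, .b, .c, .a, .b]) (lf [.b, .c, .b, .a, .c, .b, .c, .a, .e, .b, .c, .e, .d, .c, .a, .b, .a, .c, .d, .c, .b, .d, .a, .b, .a, .b, .c, .d, .c, .a, .b, .a, .c, .d, .c, .b, .a, .b, .a, .d, .b, .c, .e, .c, .b, .e, .c, .b, .d, .a, .b, .d, .a, .c])) (nd 2695 (lf [.b, .a, .c, .c, .b, .d, .b, .d, .b, .c, .c, .a, .b, .a, .d, .c, .c, .b, .d, .b, .d, .b, .c, .e, .b, .d, .c, .d, .c, .b, .a, .c, .a, .b, .a, .c, .a, .c, .b, .e, .c, .d, .a]) (lf [.a, .b, .e, .b, .c, .e, .c, .d, .a, .b, .a, .c, .c, .b, .d, .a, .b, .a, .b, .c, .c, .a, .b, .a, .d, .c, .c, .b, .a, .b, .a,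 .d, .b, .c, .e, .c, .b, .e, .b, .a, .d, .a, .c, .b, .d, .b, .a, .c, .a, .c, .b])))) (nd 2700 (nd 2698 (nd 2697 (lf [.b, .c, .b, .c, .b, .a, .b, .c, .a, .b, .c, .b, .e, .c, .d, .a, .b, .a, .c, .a, .c, .b, .d, .b, .d, .b, .c, .a, .c, .a, .b, .a, .d, .c, .a, .c, .b, .d, .b, .d, .b, .c, .a, .e, .b, .a, .b, .a, .c, .d, .c, .b, .d, .a]) (lf [.b, .e, .a, .e, .b, .d, .e, .d, .e, .a, .d, .b, .d, .a, .d, .b, .d, .e, .d, .e, .d, .b, .e, .a, .e, .a, .c, .a, .b, .c, .a, .d, .a, .c, .b, .a, .c, .a, .b, .c, .a, .c, .a])) (nd 2699 (lf [.c, .a, .b, .c, .a, .b, .c, .e, .a, .e, .a, .c, .a, .c, .a, .b, .d, .c, .d, .b, .a, .c, .a, .c, .a, .b, .d, .c, .d, .b, .e, .a, .e, .c, .a, .b, .c, .a, .d, .c, .b, .c, .b]) (lf [.c, .b, .e, .b, .c, .e, .d, .b, .d, .b, .d, .c, .d, .a, .b, .a, .c, .d, .b, .d, .b, .d, .c, .a, .b, .a, .d, .c, .e, .c,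 .b, .e, .b, .d, .c, .b, .c, .a, .d, .b, .c, .a, .c, .a, .b, .c, .b]))) (nd 2702 (nd 2701 (lf [.d, .b, .e, .a, .b, .e, .d, .b, .c, .b, .a, .b, .c, .b, .d, .d, .c, .b, .c, .b, .c, .d, .d, .b, .c, .b, .a, .b, .c, .b, .d, .d, .c, .b, .c, .b, .c, .d, .e, .b, .a, .e, .a, .b, .a, .b, .a, .c, .a, .b, .c, .a, .b, .c, .b, .c, .d, .a, .c, .a, .c, .d, .b]) (lf [.a, .d, .a, .c, .b, .a, .c, .a, .b, .c, .a, .c, .a, .b, .e, .a, .e, .b, .d, .e, .d, .e, .a, .d, .b, .d, .a, .d, .b, .d, .e, .d, .e, .d, .b, .e, .a, .e, .a, .c, .a, .b, .c])) (nd 2703 (lf [.c, .d, .b, .d, .c, .b, .c, .a, .b, .c, .a, .b, .a, .b, .a, .c, .b, .a, .e, .b, .c, .e, .d, .b, .d, .b, .d, .d, .c, .a, .b, .a, .c, .d, .d, .b, .d, .b, .d, .d, .c, .a, .b, .a, .c, .d, .e, .c, .b, .e, .b, .a, .d]) (lf [.c, .b, .a, .c, .a, .b, .e, .a, .c, .d, .b, .d, .a, .e, .b, .d,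 .b, .a, .c, .a, .c, .b, .c, .a, .c, .b, .a, .c, .a, .b, .d, .b, .b, .c, .a, .c, .b, .c, .e, .a, .d, .b, .d, .c, .a, .e, .d, .c, .a, .c, .a, .d, .c, .a, .d, .c, .a, .b, .a, .c, .a]))))) (nd 2712 (nd 2708 (nd 2706 (nd 2705 (lf [.a, .c, .a, .b, .c, .a, .b, .a, .c, .d, .b, .c, .b, .c, .b, .c, .e, .b, .c, .e, .d, .c, .a, .b, .a, .c, .d, .b, .d, .c, .a, .b, .a, .c, .d, .b, .e, .c, .b, .e, .b]) (lf [.d, .a, .b, .a, .c, .a, .d, .a, .b, .a, .b, .c, .b, .c, .b, .a, .c, .b, .a, .b, .a, .e, .a, .e, .b, .d, .e, .d, .e, .c, .b, .c, .d, .b, .d, .c, .b, .c, .d, .b, .d, .e, .d, .e, .d, .b, .e, .a, .e, .b])) (nd 2707 (lf [.b, .c, .a, .b, .a, .b, .c, .b, .c, .a, .b, .c, .b, .a, .b, .e, .a, .c, .d, .b, .d, .a, .e, .a, .c, .d, .c, .a, .b, .d, .c, .d, .c, .b, .a, .c, .d, .c, .a, .b, .c, .d, .c, .d, .b, .e, .a, .d, .b, .d, .c, .a, .e,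 .a, .c, .b, .a, .c, .b, .d]) (lf [.b, .a, .c, .b, .a, .b, .a, .c, .b, .c, .a, .e, .b, .c, .e, .d, .b, .d, .b, .d, .c, .b, .d, .a, .b, .a, .b, .c, .d, .b, .d, .b, .d, .c, .b, .a, .b, .a, .d, .b, .c, .e, .c, .b, .e, .b, .a, .d, .a, .d, .b, .c, .d]))) (nd 2710 (nd 2709 (lf [.c, .a, .c, .a, .e, .b, .a, .e, .a, .b, .a, .c, .b, .a, .c, .b, .a, .b, .c, .a, .d, .b, .d, .b, .d, .c, .e, .a, .b, .e, .b, .a, .b, .d, .b, .a, .b, .a, .a, .c, .a, .c, .a, .a, .b, .a, .b, .d, .b, .a, .b, .a]) (lf [.d, .c, .b, .e, .b, .c, .e, .c, .d, .a, .b, .a, .c, .b, .c, .a, .b, .a, .d, .c, .b, .e, .c, .b, .e, .a, .b, .a, .c, .a, .c, .a, .b, .c, .a, .b, .c, .a, .d, .c, .d, .a])) (nd 2711 (lf [.b, .a, .c, .b, .d, .b, .c, .a, .b, .a, .b, .c, .b, .c, .a, .b, .c, .b, .a, .b, .e, .a, .c, .d, .b, .d, .a, .e, .a, .c, .d, .c, .a, .b, .d, .c, .d, .c,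 .b, .a, .c, .d, .c, .a, .b, .c, .d, .c, .d, .b, .e, .a, .d, .b, .d, .c, .a, .e, .a, .c]) (lf [.a, .d, .b, .a, .b, .d, .c, .a, .b, .e, .c, .d, .e, .a, .d, .c, .a, .c, .d, .a, .b, .d, .b, .d, .b, .a, .d, .c, .a, .c, .d, .a, .b, .d, .b, .d, .b, .e, .d, .c, .e, .a, .b, .c, .a, .c, .b, .a, .c, .b])))) (nd 2716 (nd 2714 (nd 2713 (lf [.c, .a, .c, .d, .a, .a, .b, .c, .b, .c, .b, .c, .a, .a, .d, .c, .a, .c, .d, .a, .e, .d, .c, .e, .c, .b, .c, .b, .a, .c, .a, .c, .b, .d, .a, .c, .b, .c, .d, .e, .c, .d, .e, .a, .c, .b, .c, .b, .c, .b, .a, .a, .d]) (lf [.b, .a, .c, .b, .c, .b, .a, .b, .c, .a, .b, .d, .c, .d, .a, .c, .b, .a, .e, .a, .e, .b, .d, .e, .d, .e, .d, .b, .d, .b, .c, .b, .d, .b, .d, .b, .c, .b, .e, .d, .e, .d, .b, .e, .a, .e])) (nd 2715 (lf [.a, .c, .b, .d, .a, .c, .a, .b, .e, .a, .b, .e, .d, .b, .c, .b, .a, .b, .c,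 .b, .d, .a, .c, .a, .c, .a, .d, .b, .c, .b, .a, .b, .c, .b, .d, .a, .c, .a, .c, .a, .e, .b, .a, .e, .a, .b, .a, .b, .a, .c, .a, .b, .c, .a, .b, .c, .a, .c, .d]) (lf [.c, .d, .a, .d, .c, .a, .c, .a, .c, .a, .c, .d, .a, .d, .c, .e, .a, .e, .b, .c, .a, .c, .d, .b, .d, .a, .c, .a, .b, .c, .b, .c, .a, .b, .c, .b, .a, .b, .a, .e, .a, .e, .a, .c, .a, .c, .a]))) (nd 2718 (nd 2717 (lf [.d, .c, .a, .e, .b, .a, .c, .a, .b, .c, .a, .c, .a, .b, .a, .c, .d, .a, .c, .d, .a, .c, .a, .c, .d, .e, .a, .c, .d, .b, .d, .a, .e, .c, .b, .c, .a, .c, .b, .b, .d, .b, .a, .c, .a, .b, .c, .a, .c, .b, .c, .a, .c, .a, .b, .d, .b, .e, .a, .d, .b]) (lf [.a, .c, .a, .c, .a, .b, .c, .a, .b, .c, .a, .d, .c, .d, .a, .d, .c, .b, .e, .b, .c, .e, .c, .d, .a, .b, .a, .c, .b, .c, .a, .b, .a, .d, .c, .b, .e, .c, .b, .e, .a, .b])) (nd 2719 (lf [.c, .b,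 .c, .b, .a, .b, .d, .b, .d, .b, .a, .b, .c, .b, .c, .b, .c, .a, .b, .d, .b, .d, .b, .e, .d, .c, .e, .a, .b, .a, .d, .e, .c, .d, .e, .a, .c, .b]) (lf [.d, .c, .d, .b, .a, .c, .b, .a, .b, .c, .b, .c, .a, .b, .e, .a, .e, .b, .d, .e, .d, .e, .b, .c, .b, .d, .b, .d, .b, .c, .b, .d, .b, .d, .e, .d, .e, .d, .b, .e, .a, .e, .a, .b, .c, .a])))))) (nd 2736 (nd 2728 (nd 2724 (nd 2722 (nd 2721 (lf [.e, .b, .a, .c, .a, .b, .c, .a, .c, .a, .b, .a, .c, .d, .a, .c, .d, .a, .c, .a, .c, .d, .e, .a, .c, .d, .b, .d, .a, .e, .c, .b, .c, .a, .c, .b, .b, .d, .b, .a, .c, .a, .b, .c, .a, .c, .b, .c, .a, .c, .a, .b, .d, .b, .e, .a, .d, .b, .d, .c, .a]) (lf [.b, .a, .b, .e, .a, .e, .b, .d, .e, .d, .e, .b, .c, .b, .a, .b, .c, .b, .a, .e, .d, .e, .d, .b, .e, .a, .e, .b, .a, .c, .b, .a, .c, .b, .a, .b, .c, .b, .c, .a, .d, .c, .a])) (nd 2723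 (lf [.e, .a, .e, .b, .d, .e, .d, .e, .d, .b, .d, .c, .b, .c, .d, .b, .d, .c, .b, .c, .e, .d, .e, .d, .b, .e, .a, .e, .a, .b, .a, .b, .c, .a, .b, .c, .b, .c, .b, .a, .b, .a, .d, .a, .c, .a, .b, .a, .d, .b]) (lf [.b, .d, .a, .c, .a, .b, .e, .a, .b, .e, .d, .b, .c, .b, .a, .b, .c, .b, .d, .a, .c, .a, .c, .a, .d, .b, .c, .b, .a, .b, .c, .b, .d, .a, .c, .a, .c, .a, .e, .b, .a, .e, .a, .b, .a, .b, .a, .c, .a, .b, .c, .a, .b, .c, .a, .c, .d, .a, .c]))) (nd 2726 (nd 2725 (lf [.c, .a, .e, .c, .b, .d, .c, .a, .d, .a, .d, .a, .b, .c, .a, .b, .c, .a, .b, .c, .a, .b, .a, .c, .a, .b, .e, .a, .c, .d, .b, .d, .a, .e, .b, .d, .c, .d, .c, .b, .c, .b, .c, .a, .c, .b, .b, .c, .d, .c, .d, .b, .b, .c, .a, .c, .b, .c, .e, .a, .d, .b, .d]) (lf [.b, .a, .c, .e, .a, .e, .b, .d, .c, .d, .b, .a, .c, .a, .c, .a, .b, .d, .c, .d, .b, .a, .c,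 .a, .c, .a, .e, .a, .e, .c, .b, .a, .c, .b, .a, .c, .b, .c, .b, .c, .d, .a, .c])) (nd 2727 (lf [.b, .a, .d, .b, .c, .b, .a, .b, .c, .b, .d, .a, .b, .a, .b, .d, .b, .a, .b, .e, .b, .a, .e, .b, .a, .c, .b, .c, .a, .b, .c, .a, .b, .a, .d, .a, .c, .a, .c, .a, .b, .a, .c, .e, .a, .b, .e, .d, .b, .c, .b, .a, .b, .c, .b, .d, .b, .a, .b, .d, .b, .a]) (lf [.d, .a, .e, .d, .c, .e, .b, .a, .c, .d, .b, .a, .b, .d, .a, .b, .c, .a, .b, .c, .a, .c, .b, .a, .e, .c, .d, .e, .b, .d, .b, .d, .b, .a, .d, .c, .a, .c, .d, .a, .b, .d, .b, .d, .b, .a, .d, .c, .a, .c])))) (nd 2732 (nd 2730 (nd 2729 (lf [.b, .c, .d, .b, .d, .c, .b, .c, .e, .d, .e, .d, .b, .e, .a, .e, .a, .b, .a, .b, .c, .a, .b, .c, .b, .c, .b, .a, .b, .a, .d, .a, .c, .a, .b, .a, .d, .b, .e, .a, .e, .b, .d, .e, .d, .e, .d, .b, .d, .c]) (lf [.b, .c, .a, .b, .c, .b, .c, .b,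 .a, .b, .d, .b, .c, .d, .a, .d, .b, .c, .e, .a, .c, .d, .b, .d, .a, .e, .b, .d, .b, .a, .c, .a, .a, .c, .d, .c, .a, .a, .c, .a, .b, .d, .b, .a, .c, .d, .c, .a, .e, .a, .d, .b, .d, .c, .a, .e, .b, .a])) (nd 2731 (lf [.d, .b, .c, .b, .c, .a, .b, .c, .a, .b, .c, .a, .b, .a, .b, .a, .e, .a, .e, .a, .c, .a, .c, .a, .d, .b, .a, .b, .d, .a, .c, .a, .c, .a, .d, .b, .a, .b, .d, .e, .a, .e, .b, .a, .b, .a, .c, .b, .a, .b]) (lf [.a, .e, .a, .e, .b, .d, .e, .d, .e, .d, .b, .d, .a, .d, .b, .d, .a, .e, .d, .e, .d, .b, .e, .a, .e, .b, .a, .c, .a, .c, .b, .a, .c, .a, .b, .c, .a, .d, .a, .c, .b, .a, .c]))) (nd 2734 (nd 2733 (lf [.d, .a, .c, .b, .d, .a, .c, .a, .b, .e, .a, .b, .e, .d, .b, .c, .b, .a, .b, .c, .b, .d, .a, .c, .a, .c, .a, .d, .b, .c, .b, .a, .b, .c, .b, .d, .a, .c, .a, .c, .a, .e, .b, .a, .e, .a, .b, .a, .b, .a, .c,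 .a, .b, .c, .a, .b, .c, .a, .c]) (lf [.b, .a, .c, .d, .b, .e, .c, .b, .e, .b, .a, .c, .a, .b, .c, .a, .b, .a, .c, .d, .b, .c, .b, .c, .b, .c, .e, .b, .c, .e, .d, .c, .a, .b, .a, .c, .d, .b, .d, .c, .a])) (nd 2735 (lf [.c, .a, .b, .c, .a, .c, .b, .a, .e, .c, .d, .e, .b, .d, .b, .d, .b, .a, .d, .c, .a, .c, .d, .a, .b, .d, .b, .d, .b, .a, .d, .c, .a, .c, .d, .a, .e, .d, .c, .e, .b, .a, .c, .d, .b, .a, .b, .d, .a, .b]) (lf [.c, .b, .a, .c, .a, .b, .c, .a, .c, .a, .e, .a, .e, .b, .d, .e, .d, .e, .a, .c, .b, .c, .a, .c, .b, .c, .e, .d, .e, .d, .b, .e, .a, .e, .d, .a, .d, .a, .c, .d, .a]))))) (nd 2744 (nd 2740 (nd 2738 (nd 2737 (lf [.a, .b, .a, .b, .a, .c, .a, .c, .a, .b, .a, .c, .b, .c, .b, .d, .a, .c, .d, .c, .d, .b, .a, .d, .c, .b, .d]) (lf [.d, .b, .c, .a, .c, .d, .a, .b, .a, .c, .a, .c, .b, .d, .b, .d, .b, .c, .a,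 .c, .a, .b, .a, .d, .c, .e, .b, .c, .b, .a, .c, .b, .a, .b, .c, .b, .c, .b, .a, .d, .b, .c, .d, .c, .a, .b, .a, .b, .e, .a, .c, .b, .d, .b])) (nd 2739 (lf [.d, .b, .b, .c, .d, .c, .d, .b, .e, .a, .d, .b, .d, .c, .a, .e, .a, .c, .d, .a, .d, .c, .a, .e, .a, .c, .d, .b, .d, .a, .e, .b, .d, .b, .a, .c, .a, .b, .d, .c, .d, .c, .b, .a, .c, .a, .b]) (lf [.d, .b, .a, .b, .d, .b, .d, .c, .d, .b, .e, .a, .e, .a, .b, .a, .b, .c, .b, .c, .a, .b, .c, .a, .b, .c, .b, .c, .b, .d, .c, .d, .b, .a, .d, .c, .e, .a, .e, .d, .b, .a, .b, .d, .b, .d, .c, .d, .b]))) (nd 2742 (nd 2741 (lf [.c, .a, .b, .c, .b, .c, .b, .e, .b, .c, .e, .d, .b, .d, .b, .d, .c, .d, .a, .b, .a, .c, .d, .b, .d, .b, .d, .c, .a, .b, .a, .d, .c, .e, .c, .b, .e, .b, .d, .c, .b, .c, .a, .d, .b, .c, .a]) (lf [.d, .b, .d, .b, .a, .b, .d, .e, .a, .e, .c, .d, .a, .b,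 .d, .c, .d, .b, .c, .b, .c, .b, .a, .c, .b, .a, .c, .b, .c, .b, .a, .b, .a, .e, .a, .e, .b, .d, .c, .d, .b, .d, .b, .a, .b, .d, .b, .d, .c])) (nd 2743 (lf [.b, .c, .a, .b, .d, .c, .d, .a, .c, .b, .a, .e, .a, .e, .b, .d, .e, .d, .e, .d, .b, .d, .b, .c, .b, .d, .b, .d, .b, .c, .b, .e, .d, .e, .d, .b, .e, .a, .e, .b, .a, .c, .b, .c, .b, .a]) (lf [.a, .c, .d, .d, .b, .d, .b, .d, .d, .c, .a, .b, .a, .c, .d, .d, .b, .d, .b, .d, .e, .c, .b, .e, .a, .b, .c, .a, .b, .a, .b, .a, .c, .b, .a, .c, .b, .c, .d, .b, .d, .c, .d, .a, .b, .e, .b, .c, .e, .d, .c, .a, .b])))) (nd 2748 (nd 2746 (nd 2745 (lf [.a, .b, .e, .a, .c, .d, .b, .d, .a, .e, .a, .c, .d, .c, .a, .b, .d, .c, .d, .c, .b, .a, .c, .d, .c, .a, .b, .c, .d, .c, .d, .b, .e, .a, .d, .b, .d, .c, .a, .e, .a, .c, .b, .a, .c, .b, .d, .b, .c, .a, .b, .a, .b, .c, .b, .c, .a,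 .b, .c, .b]) (lf [.c, .b, .c, .e, .c, .d, .e, .a, .d, .c, .a, .c, .d, .a, .a, .c, .b, .c, .b, .c, .b, .a, .a, .d, .c, .a, .c, .d, .a, .a, .b, .c, .b, .c, .b, .c, .a, .e, .d, .c, .e, .d, .c, .b, .c, .a, .d, .b, .c, .a, .c, .a, .b])) (nd 2747 (lf [.c, .d, .b, .c, .b, .c, .b, .c, .e, .b, .c, .e, .d, .c, .a, .b, .a, .c, .d, .b, .d, .c, .a, .b, .a, .c, .d, .b, .e, .c, .b, .e, .b, .a, .c, .a, .b, .c, .a, .b, .a]) (lf [.c, .d, .b, .d, .b, .d, .e, .c, .b, .e, .b, .c, .b, .c, .b, .a, .c, .a, .c, .b, .d, .a, .c, .b, .c, .d, .b, .e, .b, .c, .e, .c, .d, .a, .b, .a, .c, .d, .b, .d, .b, .d, .c, .a, .b, .a, .d]))) (nd 2750 (nd 2749 (lf [.d, .b, .d, .d, .c, .a, .b, .a, .c, .d, .d, .b, .d, .b, .d, .e, .c, .b, .e, .a, .b, .c, .a, .b, .a, .b, .a, .c, .b, .a, .c, .b, .c, .d, .b, .d, .c, .d, .a, .b, .e, .b, .c, .e, .d, .c, .a, .b,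 .a, .c, .d, .d, .b]) (lf [.a, .e, .a, .e, .b, .d, .e, .d, .e, .c, .b, .c, .d, .b, .d, .c, .b, .c, .d, .b, .d, .e, .d, .e, .d, .b, .e, .a, .e, .b, .d, .a, .b, .a, .c, .a, .d, .a, .b, .a, .b, .c, .b, .c, .b, .a, .c, .b, .a, .b])) (nd 2751 (lf [.b, .a, .b, .a, .c, .d, .a, .c, .b, .c, .b, .a, .b, .c, .a, .b, .c, .a, .b, .e, .a, .e, .b, .d, .e, .d, .e, .a, .b, .c, .b, .a, .b, .c, .b, .e, .d, .e, .d, .b, .e, .a, .e]) (lf [.c, .d, .a, .c, .b, .d, .a, .c, .a, .b, .e, .a, .b, .e, .d, .b, .c, .b, .a, .b, .c, .b, .d, .a, .c, .a, .c, .a, .d, .b, .c, .b, .a, .b, .c, .b, .d, .a, .c, .a, .c, .a, .e, .b, .a, .e, .a, .b, .a, .b, .a, .c, .a, .b, .c, .a, .b, .c, .a])))))))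
noncomputable def tc3kw_circT_c43 : ℕ → List Gen := (nd 2784 (nd 2768 (nd 2760 (nd 2756 (nd 2754 (nd 2753 (lf [.b, .c, .a, .b, .e, .a, .e, .b, .d, .e, .d, .e, .b, .c, .b, .d, .b, .d, .b, .c, .b, .d, .b, .d, .e, .d, .e, .d, .b, .e, .a, .e, .a, .b, .c, .a, .d, .c, .d, .b, .a, .c, .b, .a, .b, .c]) (lf [.d, .b, .e, .a, .e, .c, .a, .b, .c, .a, .d, .c, .b, .c, .b, .c, .a, .b, .c, .a, .b, .c, .e, .a, .e, .a, .c, .a, .c, .a, .b, .d, .c, .d, .b, .a, .c, .a, .c, .a, .b, .d, .c])) (nd 2755 (lf [.d, .c, .a, .e, .a, .c, .d, .b, .d, .a, .e, .b, .d, .c, .d, .c, .b, .b, .d, .b, .a, .c, .a, .b, .c, .d, .c, .d, .b, .a, .c, .a, .b, .d, .b, .e, .a, .d, .b, .d, .c, .a, .e, .a, .c, .d, .a]) (lf [.c, .a, .c, .a, .e, .a, .e, .b, .d, .e, .d, .e, .a, .c, .b, .c, .a, .c, .b, .c, .e, .d, .e, .d, .b, .e, .a, .e, .d, .a, .d, .a, .c, .d, .a,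 .c, .b, .a, .c, .a, .b]))) (nd 2758 (nd 2757 (lf [.a, .b, .a, .c, .a, .b, .c, .b, .c, .b, .c, .a, .c, .a, .b, .a, .d, .c, .e, .b, .a, .b, .a, .c, .b, .c, .b, .a, .d, .b, .d, .b, .d, .c, .e, .a, .c, .b, .c, .b, .c, .b, .a, .c, .d]) (lf [.a, .b, .c, .a, .b, .c, .a, .b, .c, .a, .b, .a, .c, .a, .b, .e, .a, .c, .d, .b, .d, .a, .e, .b, .d, .c, .d, .c, .b, .c, .b, .c, .a, .c, .b, .b, .c, .d, .c, .d, .b, .b, .c, .a, .c, .b, .c, .e, .a, .d, .b, .d, .c, .a, .e, .c, .b, .d, .c, .a, .d, .a, .d])) (nd 2759 (lf [.a, .d, .c, .b, .a, .b, .c, .b, .c, .b, .a, .b, .c, .d, .a, .d, .c, .a, .d, .a, .b, .c, .d]) (lf [.b, .a, .a, .c, .b, .d, .b, .d, .b, .c, .a, .a, .b, .a, .d, .e, .a, .b, .a, .c, .a, .c, .a, .b, .c, .a, .b, .c, .b, .c, .d, .a, .c, .b, .a, .b, .d, .a, .e, .a, .c, .b, .d, .b, .d, .b, .c, .a, .d, .a])))) (nd 2764 (nd 2762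 (nd 2761 (lf [.b, .c, .b, .a, .b, .c, .b, .d, .d, .c, .b, .c, .b, .c, .d, .d, .b, .c, .b, .a, .b, .c, .b, .d, .d, .c, .b, .c, .b, .c, .d, .e, .b, .a, .e, .a, .b, .a, .b, .a, .c, .a, .b, .c, .a, .b, .c, .b, .c, .d, .a, .c, .a, .c, .d, .b, .d, .b, .e, .a, .b, .e, .d]) (lf [.c, .b, .c, .b, .c, .d, .e, .b, .a, .e, .a, .b, .a, .b, .a, .c, .a, .b, .c, .a, .b, .c, .b, .c, .d, .a, .c, .a, .c, .d, .b, .d, .b, .e, .a, .b, .e, .d, .b, .c, .b, .a, .b, .c, .b, .d, .d, .c, .b, .c, .b, .c, .d, .d, .b, .c, .b, .a, .b, .c, .b, .d, .d])) (nd 2763 (lf [.c, .d, .c, .b, .d, .a, .b, .a, .b, .c, .d, .c, .a, .b, .a, .c, .d, .c, .b, .a, .b, .a, .d, .b, .c, .e, .c, .b, .e, .c, .b, .d, .a, .b, .d, .a, .c, .b, .c, .b, .a, .c, .b, .c, .a, .e, .b, .c, .e, .d, .c, .a, .b, .a]) (lf [.b, .c, .b, .a, .c, .b, .d, .b, .d, .b, .c, .a, .b, .c, .b,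 .c, .b, .c, .a, .c, .b, .d, .b, .d, .b, .c, .e, .c, .b, .c, .b, .c, .a, .b, .a, .d, .c, .d, .b, .e, .a, .c, .b, .c]))) (nd 2766 (nd 2765 (lf [.b, .a, .c, .a, .c, .b, .a, .c, .a, .b, .c, .a, .d, .a, .c, .b, .a, .c, .a, .e, .a, .e, .b, .d, .e, .d, .e, .d, .b, .d, .a, .d, .b, .d, .a, .e, .d, .e, .d, .b, .e, .a, .e]) (lf [.b, .d, .b, .d, .b, .c, .a, .c, .d, .a, .b, .a, .c, .a, .c, .b, .d, .b, .d, .b, .c, .a, .c, .a, .b, .a, .d, .c, .e, .b, .c, .b, .a, .c, .b, .a, .b, .c, .b, .c, .b, .a, .d, .b, .c, .d, .c, .a, .b, .a, .b, .e, .a, .c])) (nd 2767 (lf [.c, .d, .a, .e, .d, .c, .e, .c, .b, .c, .b, .a, .c, .a, .c, .b, .d, .a, .c, .b, .c, .d, .e, .c, .d, .e, .a, .c, .b, .c, .b, .c, .b, .a, .a, .d, .c, .a, .c, .d, .a, .a, .b, .c, .b, .c, .b, .c, .a, .a, .d, .c, .a]) (lf [.a, .b, .a, .e, .a, .e, .a, .c, .a, .c, .a, .c, .d,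 .a, .d, .c, .a, .c, .a, .c, .a, .c, .d, .a, .d, .c, .e, .a, .e, .b, .c, .a, .c, .d, .b, .d, .a, .c, .a, .b, .c, .b, .c, .a, .b, .c, .b]))))) (nd 2776 (nd 2772 (nd 2770 (nd 2769 (lf [.a, .d, .b, .d, .c, .a, .c, .b, .e, .a, .e, .c, .d, .a, .d, .c, .a, .c, .a, .c, .a, .c, .d, .a, .d, .c, .a, .c, .a, .c, .a, .e, .a, .e, .a, .b, .a, .b, .c, .b, .a, .c, .b, .c, .b, .a, .c]) (lf [.d, .c, .d, .b, .e, .a, .d, .b, .d, .c, .a, .e, .b, .a, .c, .a, .b, .a, .c, .b, .a, .c, .b, .a, .c, .b, .a, .d, .a, .d, .a, .c, .d, .b, .c, .e, .a, .c, .d, .b, .d, .a, .e, .c, .b, .c, .a, .c, .b, .b, .d, .c, .d, .c, .b, .b, .c, .a, .c, .b, .c, .b, .c])) (nd 2771 (lf [.c, .e, .c, .d, .e, .a, .d, .c, .a, .c, .d, .a, .a, .c, .b, .c, .b, .c, .b, .a, .a, .d, .c, .a, .c, .d, .a, .a, .b, .c, .b, .c, .b, .c, .a, .e, .d, .c, .e, .d, .c, .b, .c, .a, .d,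 .b, .c, .a, .c, .a, .b, .c, .b]) (lf [.b, .a, .b, .c, .b, .a, .c, .b, .c, .b, .a, .b, .a, .c, .b, .d, .b, .c, .a, .b, .c, .a, .e, .a, .c, .d, .b, .d, .a, .e, .b, .d, .c, .d, .c, .b, .a, .c, .d, .c, .a, .b, .c, .d, .c, .d, .b, .a, .c, .d, .c, .a, .e, .a, .d, .b, .d, .c, .a, .e]))) (nd 2774 (nd 2773 (lf [.b, .d, .c, .a, .c, .b, .c, .b, .e, .a, .c, .d, .b, .d, .a, .e, .c, .b, .c, .a, .c, .b, .a, .c, .d, .c, .a, .b, .c, .a, .c, .b, .c, .a, .c, .d, .c, .a, .e, .a, .d, .b, .d, .c, .a, .e, .b, .c, .a, .b, .a, .c, .a, .c, .b, .a]) (lf [.a, .c, .d, .e, .c, .b, .e, .c, .b, .c, .b, .c, .b, .d, .c, .a, .b, .a, .c, .b, .a, .c, .a, .b, .e, .b, .c, .e, .b, .d, .c, .a, .b, .a, .c, .d, .b, .d, .c, .a, .b])) (nd 2775 (lf [.d, .e, .a, .e, .c, .d, .a, .b, .d, .c, .d, .b, .c, .b, .c, .b, .a, .c, .b, .a, .c, .b, .c, .b, .a, .b, .a,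 .e, .a, .e, .b, .d, .c, .d, .b, .d, .b, .a, .b, .d, .b, .d, .c, .d, .b, .d, .b, .a, .b]) (lf [.a, .c, .c, .b, .d, .b, .d, .b, .c, .c, .a, .b, .a, .d, .c, .e, .b, .c, .a, .c, .a, .b, .a, .c, .a, .b, .c, .d, .c, .d, .b, .e, .c, .b, .d, .b, .d, .b, .c, .c, .d, .a, .b])))) (nd 2780 (nd 2778 (nd 2777 (lf [.b, .d, .c, .b, .c, .a, .d, .b, .c, .a, .c, .a, .b, .c, .b, .c, .b, .e, .b, .c, .e, .d, .b, .d, .b, .d, .c, .d, .a, .b, .a, .c, .d, .b, .d, .b, .d, .c, .a, .b, .a, .d, .c, .e, .c, .b, .e]) (lf [.a, .b, .a, .b, .c, .b, .c, .b, .a, .c, .b, .a, .b, .a, .e, .a, .e, .b, .d, .e, .d, .e, .c, .b, .c, .d, .b, .d, .c, .b, .c, .d, .b, .d, .e, .d, .e, .d, .b, .e, .a, .e, .b, .d, .a, .b, .a, .c, .a, .d])) (nd 2779 (lf [.d, .a, .d, .c, .d, .b, .a, .b, .d, .c, .d, .a, .d, .c, .e, .a, .e, .a, .b, .c, .b, .c, .b, .a, .c, .a, .c, .a,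 .d, .a, .c, .b, .c, .b, .c, .a, .e, .a, .e, .d, .b, .a, .b, .d, .c]) (lf [.a, .b, .a, .c, .d, .c, .b, .d, .a, .b, .c, .b, .c, .b, .a, .b, .c, .a, .b, .c, .b, .e, .c, .d, .a, .b, .a, .c, .a, .c, .b, .d, .b, .d, .b, .c, .a, .c, .a, .b, .a, .d, .c, .a, .c, .b, .d, .b, .d, .b, .c, .a, .e, .b]))) (nd 2782 (nd 2781 (lf [.c, .a, .a, .b, .c, .b, .c, .b, .c, .a, .a, .c, .b, .d, .b, .d, .b, .c, .a, .e, .b, .a, .c, .b, .d, .a, .d, .b, .c, .b, .c, .a, .b, .a, .c, .b, .a, .b, .a, .e, .a, .c, .b, .c, .b, .c, .b, .a, .a, .c, .b, .d, .b, .d, .b]) (lf [.d, .b, .a, .d, .c, .a, .c, .d, .a, .e, .d, .c, .e, .b, .a, .c, .d, .b, .a, .b, .d, .a, .b, .c, .a, .b, .c, .a, .c, .b, .a, .e, .c, .d, .e, .b, .d, .b, .d, .b, .a, .d, .c, .a, .c, .d, .a, .b, .d, .b])) (nd 2783 (lf [.b, .a, .c, .b, .a, .c, .b, .c, .b, .a, .b, .a, .e, .a, .e, .b,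 .d, .c, .d, .b, .d, .b, .a, .b, .d, .b, .d, .c, .d, .b, .d, .b, .a, .b, .d, .e, .a, .e, .c, .d, .a, .b, .d, .c, .d, .b, .c, .b, .c]) (lf [.a, .c, .a, .d, .b, .a, .b, .d, .e, .a, .e, .b, .a, .b, .a, .c, .b, .a, .b, .d, .b, .c, .b, .c, .a, .b, .c, .a, .b, .c, .a, .b, .a, .b, .a, .e, .a, .e, .a, .c, .a, .c, .a, .d, .b, .a, .b, .d, .a, .c])))))) (nd 2800 (nd 2792 (nd 2788 (nd 2786 (nd 2785 (lf [.a, .c, .d, .b, .d, .a, .c, .a, .b, .c, .b, .c, .a, .b, .c, .b, .a, .b, .a, .e, .a, .e, .a, .c, .a, .c, .a, .c, .d, .a, .d, .c, .a, .c, .a, .c, .a, .c, .d, .a, .d, .c, .e, .a, .e, .b, .c]) (lf [.a, .c, .d, .a, .b, .d, .b, .d, .b, .a, .d, .c, .a, .c, .d, .a, .b, .d, .b, .d, .b, .e, .d, .c, .e, .a, .b, .c, .a, .c, .b, .a, .c, .b, .a, .d, .b, .a, .b, .d, .c, .a, .b, .e, .c, .d, .e, .a, .d, .c])) (nd 2787 (lf [.e, .a, .d, .b, .d,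 .c, .a, .e, .b, .a, .c, .a, .b, .a, .c, .b, .a, .c, .b, .a, .c, .b, .a, .d, .a, .d, .a, .c, .d, .b, .c, .e, .a, .c, .d, .b, .d, .a, .e, .c, .b, .c, .a, .c, .b, .b, .d, .c, .d, .c, .b, .b, .c, .a, .c, .b, .c, .b, .c, .d, .c, .d, .b]) (lf [.d, .a, .b, .a, .c, .d, .b, .d, .b, .d, .c, .a, .b, .a, .d, .c, .d, .b, .d, .b, .d, .e, .c, .b, .e, .b, .c, .b, .c, .b, .a, .c, .a, .c, .b, .d, .a, .c, .b, .c, .d, .b, .e, .b, .c, .e, .c]))) (nd 2790 (nd 2789 (lf [.e, .a, .e, .b, .d, .e, .d, .e, .d, .b, .d, .a, .d, .b, .d, .a, .e, .d, .e, .d, .b, .e, .a, .e, .b, .a, .c, .a, .c, .b, .a, .c, .a, .b, .c, .a, .d, .a, .c, .b, .a, .c, .a]) (lf [.c, .b, .c, .b, .a, .b, .c, .a, .b, .d, .c, .d, .a, .c, .b, .a, .e, .a, .e, .b, .d, .e, .d, .e, .d, .b, .d, .b, .c, .b, .d, .b, .d, .b, .c, .b, .e, .d, .e, .d, .b, .e, .a, .e, .b, .a])) (nd 2791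 (lf [.a, .c, .d, .e, .c, .b, .e, .b, .a, .d, .c, .d, .b, .d, .c, .b, .c, .a, .b, .c, .a, .b, .a, .b, .a, .c, .b, .a, .e, .b, .c, .e, .d, .b, .d, .b, .d, .d, .c, .a, .b, .a, .c, .d, .d, .b, .d, .b, .d, .d, .c, .a, .b]) (lf [.a, .c, .a, .b, .c, .a, .d, .c, .a, .d, .a, .d, .e, .a, .e, .b, .d, .e, .d, .e, .c, .b, .c, .a, .c, .b, .c, .a, .e, .d, .e, .d, .b, .e, .a, .e, .a, .c, .a, .c, .b])))) (nd 2796 (nd 2794 (nd 2793 (lf [.b, .a, .c, .b, .a, .c, .b, .c, .b, .c, .d, .a, .c, .b, .a, .c, .e, .a, .e, .b, .d, .c, .d, .b, .a, .c, .a, .c, .a, .b, .d, .c, .d, .b, .a, .c, .a, .c, .a, .e, .a, .e, .c]) (lf [.b, .e, .b, .c, .e, .c, .b, .d, .a, .b, .a, .b, .c, .b, .c, .b, .a, .b, .a, .d, .b, .c, .b, .e, .c, .b, .e, .a, .b, .a, .b, .a, .c, .a, .b, .a, .b, .a, .c, .a, .b, .c, .a, .c, .a, .d, .b, .d, .c, .a, .d, .c, .a])) (nd 2795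 (lf [.c, .b, .d, .d, .c, .b, .c, .b, .c, .d, .d, .b, .c, .b, .a, .b, .c, .b, .d, .e, .b, .a, .e, .b, .d, .b, .d, .c, .a, .c, .a, .d, .c, .b, .c, .b, .a, .c, .b, .a, .c, .a, .b, .a, .b, .a, .e, .a, .b, .e, .d, .c, .b, .c, .b, .c, .d, .d, .b, .c, .b, .a, .b]) (lf [.b, .c, .a, .b, .e, .a, .c, .b, .d, .b, .d, .b, .c, .a, .a, .c, .b, .c, .b, .c, .b, .a, .a, .c, .b, .d, .b, .d, .b, .c, .a, .a, .b, .c, .b, .c, .b, .c, .a, .e, .a, .b, .a, .b, .c, .a, .b, .a, .c, .b, .c, .b, .d, .a, .d]))) (nd 2798 (nd 2797 (lf [.a, .b, .c, .e, .a, .e, .a, .c, .a, .c, .a, .b, .d, .c, .d, .b, .a, .c, .a, .c, .a, .b, .d, .c, .d, .b, .e, .a, .e, .c, .a, .b, .c, .a, .d, .c, .b, .c, .b, .c, .a, .b, .c]) (lf [.d, .b, .c, .b, .c, .b, .a, .c, .b, .a, .c, .b, .c, .b, .a, .b, .a, .e, .a, .e, .b, .d, .c, .d, .b, .d, .b, .a, .b, .d, .b, .d, .c, .d,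 .b, .d, .b, .a, .b, .d, .e, .a, .e, .c, .d, .a, .b, .d, .c])) (nd 2799 (lf [.d, .a, .d, .c, .d, .a, .c, .b, .a, .c, .b, .a, .c, .a, .c, .a, .b, .a, .e, .b, .c, .e, .b, .c, .d, .a, .b, .a, .c, .b, .c, .a, .b, .a, .d, .c, .e, .c, .b, .e, .b, .c]) (lf [.c, .a, .b, .a, .b, .a, .e, .a, .e, .a, .c, .a, .c, .a, .d, .b, .a, .b, .d, .a, .c, .a, .c, .a, .d, .b, .a, .b, .d, .e, .a, .e, .b, .a, .b, .a, .c, .b, .a, .b, .d, .b, .c, .b, .c, .a, .b, .c, .a, .b]))))) (nd 2808 (nd 2804 (nd 2802 (nd 2801 (lf [.a, .b, .a, .d, .c, .d, .b, .d, .b, .d, .e, .c, .b, .e, .b, .c, .b, .c, .b, .a, .c, .a, .c, .b, .d, .a, .c, .b, .c, .d, .b, .e, .b, .c, .e, .c, .d, .a, .b, .a, .c, .d, .b, .d, .b, .d, .c]) (lf [.d, .a, .b, .a, .c, .a, .b, .c, .b, .c, .b, .c, .a, .c, .a, .b, .a, .d, .c, .e, .b, .a, .b, .a, .c, .b, .c, .b, .a, .d, .b, .d, .b,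 .d, .c, .e, .a, .c, .b, .c, .b, .c, .b, .a, .c])) (nd 2803 (lf [.b, .a, .b, .a, .e, .a, .e, .b, .d, .c, .d, .b, .d, .b, .a, .b, .d, .b, .d, .c, .d, .b, .d, .b, .a, .b, .d, .e, .a, .e, .c, .d, .a, .b, .d, .c, .d, .b, .c, .b, .c, .b, .a, .c, .b, .a, .c, .b, .c]) (lf [.b, .a, .a, .c, .b, .c, .b, .c, .b, .a, .a, .b, .a, .d, .a, .b, .c, .b, .c, .b, .c, .a, .e, .c, .b, .a, .b, .a, .c, .b, .c, .a, .b, .a, .b, .e, .d, .a]))) (nd 2806 (nd 2805 (lf [.b, .a, .b, .e, .b, .a, .e, .c, .d, .b, .d, .b, .d, .a, .c, .b, .a, .b, .c, .a, .b, .c, .a, .b, .a, .e, .a, .b, .e, .a, .c, .a, .c, .a, .b, .a, .b, .d, .b, .a, .b, .a, .a, .c, .a, .c, .a, .a, .b, .a, .b, .d]) (lf [.a, .c, .d, .b, .d, .c, .a, .b, .a, .c, .d, .b, .e, .c, .b, .e, .b, .a, .c, .a, .b, .c, .a, .b, .a, .c, .d, .b, .c, .b, .c, .b, .c, .e, .b, .c, .e, .d, .c, .a, .b]))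 (nd 2807 (lf [.d, .b, .d, .c, .d, .a, .b, .e, .b, .c, .e, .d, .c, .a, .b, .a, .c, .d, .d, .b, .d, .b, .d, .d, .c, .a, .b, .a, .c, .d, .d, .b, .d, .b, .d, .e, .c, .b, .e, .a, .b, .c, .a, .b, .a, .b, .a, .c, .b, .a, .c, .b, .c]) (lf [.b, .a, .b, .c, .a, .d, .c, .b, .c, .b, .a, .c, .b, .a, .c, .a, .c, .a, .b, .a, .e, .d, .a, .b, .a, .a, .c, .b, .d, .b, .d, .b, .c, .a, .a, .b, .a, .d, .a, .c, .b, .d, .b, .d, .b, .c, .a, .e, .a, .d])))) (nd 2812 (nd 2810 (nd 2809 (lf [.b, .d, .b, .d, .b, .c, .b, .d, .b, .d, .e, .d, .e, .d, .b, .e, .a, .e, .a, .b, .c, .a, .d, .c, .d, .b, .a, .c, .b, .a, .b, .c, .b, .c, .a, .b, .e, .a, .e, .b, .d, .e, .d, .e, .b, .c]) (lf [.c, .a, .c, .a, .a, .b, .a, .b, .d, .b, .a, .b, .e, .b, .a, .e, .c, .d, .b, .d, .b, .d, .a, .c, .b, .a, .b, .c, .a, .b, .c, .a, .b, .a, .e, .a, .b, .e, .a, .c, .a,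 .c, .a, .b, .a, .b, .d, .b, .a, .b, .a, .a])) (nd 2811 (lf [.b, .c, .b, .c, .a, .b, .c, .a, .b, .c, .e, .a, .e, .a, .c, .a, .c, .a, .b, .d, .c, .d, .b, .a, .c, .a, .c, .a, .b, .d, .c, .d, .b, .e, .a, .e, .c, .a, .b, .c, .a, .d, .c]) (lf [.c, .d, .d, .b, .d, .b, .d, .d, .c, .a, .b, .a, .c, .d, .e, .c, .b, .e, .b, .a, .d, .c, .d, .b, .d, .c, .b, .c, .a, .b, .c, .a, .b, .a, .b, .a, .c, .b, .a, .e, .b, .c, .e, .d, .b, .d, .b, .d, .d, .c, .a, .b, .a]))) (nd 2814 (nd 2813 (lf [.b, .a, .b, .c, .a, .b, .c, .b, .e, .c, .d, .a, .b, .a, .c, .a, .c, .b, .d, .b, .d, .b, .c, .a, .c, .a, .b, .a, .d, .c, .a, .c, .b, .d, .b, .d, .b, .c, .a, .e, .b, .a, .b, .a, .c, .d, .c, .b, .d, .a, .b, .c, .b, .c]) (lf [.d, .b, .d, .c, .d, .b, .d, .b, .a, .b, .d, .b, .d, .c, .d, .b, .e, .a, .e, .a, .b, .a, .b, .c, .b, .c, .a, .b, .c, .a, .b,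 .c, .b, .c, .b, .d, .c, .d, .b, .a, .d, .c, .e, .a, .e, .d, .b, .a, .b])) (nd 2815 (lf [.b, .d, .b, .a, .b, .c, .b, .c, .b, .c, .a, .b, .d, .b, .d, .b, .e, .d, .c, .e, .a, .b, .a, .d, .e, .c, .d, .e, .a, .c, .b, .c, .b, .c, .b, .a, .b, .d]) (lf [.a, .b, .d, .a, .c, .a, .c, .a, .d, .b, .a, .b, .d, .a, .c, .a, .c, .a, .e, .a, .e, .a, .b, .a, .b, .a, .c, .b, .a, .c, .b, .a, .c, .b, .c, .b, .d, .b, .a, .b, .c, .a, .b, .a, .b, .e, .a, .e, .d, .b])))))))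
noncomputable def tc3kw_circT_c44 : ℕ → List Gen := (nd 2848 (nd 2832 (nd 2824 (nd 2820 (nd 2818 (nd 2817 (lf [.b, .a, .b, .c, .b, .d, .a, .b, .a, .b, .d, .b, .a, .b, .e, .b, .a, .e, .b, .a, .c, .b, .c, .a, .b, .c, .a, .b, .a, .d, .a, .c, .a, .c, .a, .b, .a, .c, .e, .a, .b, .e, .d, .b, .c, .b, .a, .b, .c, .b, .d, .b, .a, .b, .d, .b, .a, .b, .a, .d, .b, .c]) (lf [.c, .b, .a, .b, .c, .a, .d, .b, .d, .b, .d, .c, .e, .a, .b, .e, .b, .a, .b, .d, .b, .a, .b, .a, .a, .c, .a, .c, .a, .a, .b, .a, .b, .d, .b, .a, .b, .a, .c, .a, .c, .a, .e, .b, .a, .e, .a, .b, .a, .c, .b, .a])) (nd 2819 (lf [.a, .b, .c, .b, .c, .b, .a, .b, .c, .d, .a, .d, .c, .a, .d, .a, .b, .c, .d, .a, .d, .c, .b]) (lf [.d, .e, .b, .a, .e, .b, .a, .c, .a, .d, .b, .c, .a, .d, .c, .a, .c, .b, .a, .c, .b, .a, .c, .a, .b, .a, .b, .a, .e, .a, .b, .e, .a, .c,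 .a, .c, .a, .d, .b, .c, .b, .a, .b, .c, .b, .d, .a, .c, .a, .c, .a, .d, .b, .c, .b, .a, .b, .c, .b]))) (nd 2822 (nd 2821 (lf [.d, .a, .c, .b, .a, .c, .a, .b, .c, .a, .c, .a, .e, .a, .e, .b, .d, .e, .d, .e, .a, .c, .b, .c, .a, .c, .b, .c, .e, .d, .e, .d, .b, .e, .a, .e, .d, .a, .d, .a, .c]) (lf [.b, .d, .b, .a, .b, .d, .b, .d, .c, .d, .b, .e, .a, .e, .a, .b, .a, .b, .c, .b, .c, .a, .b, .c, .a, .b, .c, .b, .c, .b, .d, .c, .d, .b, .a, .d, .c, .e, .a, .e, .d, .b, .a, .b, .d, .b, .d, .c, .d])) (nd 2823 (lf [.c, .b, .a, .c, .b, .c, .b, .c, .d, .a, .c, .b, .a, .c, .e, .a, .e, .b, .d, .c, .d, .b, .a, .c, .a, .c, .a, .b, .d, .c, .d, .b, .a, .c, .a, .c, .a, .e, .a, .e, .c, .b, .a]) (lf [.b, .a, .b, .c, .d, .c, .a, .b, .a, .c, .d, .c, .b, .a, .b, .a, .d, .b, .c, .d, .c, .a, .b, .a, .c, .d, .e, .c, .b, .e, .a, .c, .b, .c,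 .a, .b, .c, .b, .c, .a, .d, .b, .a, .d, .b, .c, .e, .b, .c, .e, .c, .b, .d, .a])))) (nd 2828 (nd 2826 (nd 2825 (lf [.d, .b, .e, .a, .d, .b, .d, .c, .a, .e, .b, .a, .c, .a, .b, .c, .a, .c, .a, .b, .a, .c, .d, .a, .c, .d, .a, .c, .a, .c, .d, .e, .a, .c, .d, .b, .d, .a, .e, .c, .b, .c, .a, .c, .b, .b, .d, .b, .a, .c, .a, .b, .c, .a, .c, .b, .c, .a, .c, .a, .b]) (lf [.a, .c, .a, .c, .a, .b, .c, .b, .c, .b, .a, .e, .a, .e, .c, .d, .a, .d, .c, .d, .b, .a, .b, .d, .c, .d, .a, .d, .c, .d, .b, .a, .b, .d, .e, .a, .e, .a, .c, .b, .c, .b, .c, .a, .d])) (nd 2827 (lf [.a, .c, .d, .a, .d, .c, .e, .a, .e, .b, .c, .a, .c, .d, .b, .d, .a, .c, .a, .b, .c, .b, .c, .a, .b, .c, .b, .a, .b, .a, .e, .a, .e, .a, .c, .a, .c, .a, .c, .d, .a, .d, .c, .a, .c, .a, .c]) (lf [.d, .b, .c, .a, .e, .b, .a, .b, .a, .c, .d, .c, .b, .d, .a, .b, .c,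 .b, .c, .b, .a, .b, .c, .a, .b, .c, .b, .e, .c, .d, .a, .b, .a, .c, .a, .c, .b, .d, .b, .d, .b, .c, .a, .c, .a, .b, .a, .d, .c, .a, .c, .b, .d, .b]))) (nd 2830 (nd 2829 (lf [.a, .a, .c, .b, .c, .b, .c, .b, .a, .a, .d, .c, .a, .c, .d, .a, .a, .b, .c, .b, .c, .b, .c, .a, .e, .d, .c, .e, .d, .c, .b, .c, .a, .d, .b, .c, .a, .c, .a, .b, .c, .b, .c, .e, .c, .d, .e, .a, .d, .c, .a, .c, .d]) (lf [.b, .c, .b, .c, .b, .a, .a, .c, .b, .d, .b, .d, .b, .c, .a, .a, .b, .c, .b, .c, .b, .c, .a, .a, .c, .b, .d, .b, .d, .b, .c, .a, .e, .b, .a, .c, .b, .d, .a, .d, .b, .c, .b, .c, .a, .b, .a, .c, .b, .a, .b, .a, .e, .a, .c])) (nd 2831 (lf [.c, .b, .a, .b, .e, .b, .c, .e, .c, .d, .a, .b, .a, .c, .c, .b, .d, .a, .b, .a, .b, .c, .c, .a, .b, .a, .d, .c, .c, .b, .a, .b, .a, .d, .b, .c, .e, .c, .b, .e, .b, .a, .d, .a, .c, .b, .d, .b, .a,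 .c, .a]) (lf [.b, .a, .c, .b, .c, .b, .d, .a, .d, .b, .c, .a, .b, .e, .a, .c, .b, .d, .b, .d, .b, .c, .a, .a, .c, .b, .c, .b, .c, .b, .a, .a, .c, .b, .d, .b, .d, .b, .c, .a, .a, .b, .c, .b, .c, .b, .c, .a, .e, .a, .b, .a, .b, .c, .a]))))) (nd 2840 (nd 2836 (nd 2834 (nd 2833 (lf [.a, .b, .a, .b, .c, .d, .b, .d, .b, .d, .c, .b, .a, .b, .a, .d, .b, .c, .e, .c, .b, .e, .b, .a, .d, .a, .d, .b, .c, .d, .b, .a, .c, .b, .a, .b, .a, .c, .b, .c, .a, .e, .b, .c, .e, .d, .b, .d, .b, .d, .c, .b, .d]) (lf [.b, .c, .b, .c, .b, .c, .a, .c, .b, .d, .b, .d, .b, .c, .e, .c, .b, .c, .b, .c, .a, .b, .a, .d, .c, .d, .b, .e, .a, .c, .b, .c, .b, .c, .b, .a, .c, .b, .d, .b, .d, .b, .c, .a])) (nd 2835 (lf [.b, .d, .b, .d, .c, .b, .a, .b, .a, .d, .b, .c, .d, .b, .d, .b, .d, .e, .c, .b, .e, .a, .c, .b, .c, .a, .b, .a, .b, .c, .a, .b, .d,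 .c, .b, .d, .a, .d, .a, .b, .e, .b, .c, .e, .c, .b, .d, .a, .b, .a, .b, .c, .d]) (lf [.c, .d, .a, .c, .b, .a, .c, .b, .a, .c, .a, .c, .a, .b, .a, .e, .b, .c, .e, .b, .c, .d, .a, .b, .a, .c, .b, .c, .a, .b, .a, .d, .c, .e, .c, .b, .e, .b, .c, .d, .a, .d]))) (nd 2838 (nd 2837 (lf [.d, .c, .a, .d, .c, .a, .b, .a, .c, .a, .c, .b, .a, .c, .a, .b, .e, .a, .c, .d, .b, .d, .a, .e, .b, .d, .b, .a, .c, .a, .c, .b, .c, .a, .c, .b, .a, .c, .a, .b, .d, .b, .b, .c, .a, .c, .b, .c, .e, .a, .d, .b, .d, .c, .a, .e, .d, .c, .a, .c, .a]) (lf [.c, .b, .a, .b, .c, .b, .d, .d, .c, .b, .c, .b, .c, .d, .d, .b, .c, .b, .a, .b, .c, .b, .d, .d, .c, .b, .c, .b, .c, .d, .e, .b, .a, .e, .a, .b, .a, .b, .a, .c, .a, .b, .c, .a, .b, .c, .b, .c, .d, .a, .c, .a, .c, .d, .b, .d, .b, .e, .a, .b, .e, .d, .b])) (nd 2839 (lf [.c, .b, .a, .b, .a, .c,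 .b, .c, .a, .e, .b, .c, .e, .d, .b, .d, .b, .d, .c, .b, .d, .a, .b, .a, .b, .c, .d, .b, .d, .b, .d, .c, .b, .a, .b, .a, .d, .b, .c, .e, .c, .b, .e, .b, .a, .d, .a, .d, .b, .c, .d, .b, .a]) (lf [.a, .c, .b, .a, .c, .b, .a, .c, .b, .c, .b, .d, .b, .a, .b, .c, .a, .b, .a, .b, .e, .a, .e, .d, .b, .a, .b, .d, .a, .c, .a, .c, .a, .d, .b, .a, .b, .d, .a, .c, .a, .c, .a, .e, .a, .e, .a, .b, .a, .b])))) (nd 2844 (nd 2842 (nd 2841 (lf [.c, .b, .c, .b, .a, .a, .c, .b, .d, .b, .d, .b, .c, .a, .a, .b, .c, .b, .c, .b, .c, .a, .e, .a, .b, .a, .b, .c, .a, .b, .a, .c, .b, .c, .b, .d, .a, .d, .b, .c, .a, .b, .e, .a, .c, .b, .d, .b, .d, .b, .c, .a, .a, .c, .b]) (lf [.b, .c, .c, .a, .b, .a, .d, .c, .c, .b, .d, .b, .d, .b, .c, .e, .b, .d, .c, .d, .c, .b, .a, .c, .a, .b, .a, .c, .a, .c, .b, .e, .c, .d, .a, .b, .a, .c, .c, .b, .d, .b,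 .d])) (nd 2843 (lf [.c, .d, .c, .a, .b, .d, .c, .d, .c, .b, .a, .c, .d, .c, .a, .b, .c, .d, .c, .d, .b, .e, .a, .d, .b, .d, .c, .a, .e, .a, .c, .b, .a, .c, .b, .d, .b, .c, .a, .b, .a, .b, .c, .b, .c, .a, .b, .c, .b, .a, .b, .e, .a, .c, .d, .b, .d, .a, .e, .a]) (lf [.d, .b, .a, .c, .b, .a, .b, .c, .b, .c, .a, .b, .e, .a, .e, .b, .d, .e, .d, .e, .b, .c, .b, .d, .b, .d, .b, .c, .b, .d, .b, .d, .e, .d, .e, .d, .b, .e, .a, .e, .a, .b, .c, .a, .d, .c]))) (nd 2846 (nd 2845 (lf [.a, .b, .a, .c, .a, .c, .a, .b, .c, .a, .b, .c, .a, .d, .c, .d, .a, .d, .c, .b, .e, .b, .c, .e, .c, .d, .a, .b, .a, .c, .b, .c, .a, .b, .a, .d, .c, .b, .e, .c, .b, .e]) (lf [.b, .d, .b, .a, .c, .b, .c, .b, .c, .b, .a, .b, .d, .b, .d, .b, .a, .b, .c, .b, .c, .b, .c, .a, .e, .d, .c, .e, .d, .a, .b, .a, .e, .c, .d, .e, .b, .d])) (nd 2847 (lf [.a,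 .c, .b, .a, .c, .a, .b, .c, .a, .c, .a, .e, .a, .e, .b, .d, .e, .d, .e, .a, .c, .b, .c, .a, .c, .b, .c, .e, .d, .e, .d, .b, .e, .a, .e, .d, .a, .d, .a, .c, .d]) (lf [.c, .d, .b, .d, .a, .c, .a, .b, .c, .b, .c, .a, .b, .c, .b, .a, .b, .a, .e, .a, .e, .a, .c, .a, .c, .a, .c, .d, .a, .d, .c, .a, .c, .a, .c, .a, .c, .d, .a, .d, .c, .e, .a, .e, .b, .c, .a])))))) (nd 2864 (nd 2856 (nd 2852 (nd 2850 (nd 2849 (lf [.d, .c, .b, .c, .b, .a, .c, .b, .a, .c, .a, .b, .a, .b, .a, .e, .a, .b, .e, .d, .c, .b, .c, .b, .c, .d, .d, .b, .c, .b, .a, .b, .c, .b, .d, .d, .c, .b, .c, .b, .c, .d, .d, .b, .c, .b, .a, .b, .c, .b, .d, .e, .b, .a, .e, .b, .d, .b, .d, .c, .a, .c, .a]) (lf [.c, .b, .d, .b, .c, .a, .b, .c, .a, .e, .a, .c, .d, .b, .d, .a, .e, .b, .d, .c, .d, .c, .b, .a, .c, .d, .c, .a, .b, .c, .d, .c, .d, .b, .a, .c, .d, .c, .a,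 .e, .a, .d, .b, .d, .c, .a, .e, .b, .a, .b, .c, .b, .a, .c, .b, .c, .b, .a, .b, .a])) (nd 2851 (lf [.b, .c, .b, .a, .c, .b, .a, .c, .a, .c, .a, .b, .a, .e, .d, .a, .b, .a, .a, .c, .b, .d, .b, .d, .b, .c, .a, .a, .b, .a, .d, .a, .c, .b, .d, .b, .d, .b, .c, .a, .e, .a, .d, .b, .a, .b, .c, .a, .d, .c]) (lf [.a, .e, .b, .d, .e, .d, .e, .d, .b, .d, .c, .b, .c, .d, .b, .d, .c, .b, .c, .e, .d, .e, .d, .b, .e, .a, .e, .a, .b, .a, .b, .c, .a, .b, .c, .b, .c, .b, .a, .b, .a, .d, .a, .c, .a, .b, .a, .d, .b, .e]))) (nd 2854 (nd 2853 (lf [.d, .c, .d, .a, .d, .c, .b, .e, .b, .c, .e, .c, .d, .a, .b, .a, .c, .b, .c, .a, .b, .a, .d, .c, .b, .e, .c, .b, .e, .a, .b, .a, .c, .a, .c, .a, .b, .c, .a, .b, .c, .a]) (lf [.b, .a, .c, .b, .c, .b, .a, .b, .a, .c, .b, .d, .b, .c, .a, .b, .c, .a, .e, .a, .c, .d, .b, .d, .a, .e, .b, .d, .c,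 .d, .c, .b, .a, .c, .d, .c, .a, .b, .c, .d, .c, .d, .b, .a, .c, .d, .c, .a, .e, .a, .d, .b, .d, .c, .a, .e, .b, .a, .b, .c])) (nd 2855 (lf [.c, .b, .a, .c, .a, .b, .d, .b, .b, .c, .a, .c, .b, .c, .e, .a, .d, .b, .d, .c, .a, .e, .d, .c, .a, .c, .a, .d, .c, .a, .d, .c, .a, .b, .a, .c, .a, .c, .b, .a, .c, .a, .b, .e, .a, .c, .d, .b, .d, .a, .e, .b, .d, .b, .a, .c, .a, .c, .b, .c, .a]) (lf [.c, .b, .a, .b, .c, .b, .c, .b, .a, .b, .c, .d, .a, .d, .c, .a, .d, .a, .b, .c, .d, .a, .d])))) (nd 2860 (nd 2858 (nd 2857 (lf [.d, .b, .c, .b, .a, .b, .c, .b, .d, .d, .c, .b, .c, .b, .c, .d, .d, .b, .c, .b, .a, .b, .c, .b, .d, .d, .c, .b, .c, .b, .c, .d, .e, .b, .a, .e, .a, .b, .a, .b, .a, .c, .a, .b, .c, .a, .b, .c, .b, .c, .d, .a, .c, .a, .c, .d, .b, .d, .b, .e, .a, .b, .e]) (lf [.b, .d, .a, .d, .c, .b, .d, .b, .a, .b, .c, .b,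 .c, .b, .a, .c, .b, .a, .b, .e, .a, .c, .d, .b, .d, .a, .e, .a, .c, .d, .c, .a, .b, .d, .b, .a, .c, .a, .a, .c, .d, .c, .a, .a, .c, .a, .b, .d, .b, .e, .a, .d, .b, .d, .c, .a, .e, .c])) (nd 2859 (lf [.a, .b, .a, .c, .a, .c, .b, .d, .b, .d, .b, .c, .a, .c, .a, .b, .a, .d, .c, .a, .c, .b, .d, .b, .d, .b, .c, .a, .e, .b, .a, .b, .a, .c, .d, .c, .b, .d, .a, .b, .c, .b, .c, .b, .a, .b, .c, .a, .b, .c, .b, .e, .c, .d]) (lf [.a, .c, .a, .b, .c, .a, .c, .a, .e, .a, .e, .b, .d, .e, .d, .e, .a, .c, .b, .c, .a, .c, .b, .c, .e, .d, .e, .d, .b, .e, .a, .e, .d, .a, .d, .a, .c, .d, .a, .c, .b]))) (nd 2862 (nd 2861 (lf [.b, .a, .c, .d, .c, .a, .b, .c, .d, .c, .d, .b, .a, .c, .d, .c, .a, .e, .a, .d, .b, .d, .c, .a, .e, .b, .a, .b, .c, .b, .a, .c, .b, .c, .b, .a, .b, .a, .c, .b, .d, .b, .c, .a, .b, .c, .a, .e, .a, .c, .d, .b, .d,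 .a, .e, .b, .d, .c, .d, .c]) (lf [.b, .a, .b, .a, .c, .b, .d, .b, .c, .a, .b, .c, .a, .e, .a, .c, .d, .b, .d, .a, .e, .b, .d, .c, .d, .c, .b, .a, .c, .d, .c, .a, .b, .c, .d, .c, .d, .b, .a, .c, .d, .c, .a, .e, .a, .d, .b, .d, .c, .a, .e, .b, .a, .b, .c, .b, .a, .c, .b, .c])) (nd 2863 (lf [.a, .c, .a, .b, .d, .c, .d, .b, .a, .c, .a, .c, .a, .b, .d, .c, .d, .b, .e, .a, .e, .c, .a, .b, .c, .a, .d, .c, .b, .c, .b, .c, .a, .b, .c, .a, .b, .c, .e, .a, .e, .a, .c]) (lf [.b, .c, .a, .d, .c, .b, .c, .b, .a, .c, .b, .a, .c, .a, .c, .a, .b, .a, .e, .d, .a, .b, .a, .a, .c, .b, .d, .b, .d, .b, .c, .a, .a, .b, .a, .d, .a, .c, .b, .d, .b, .d, .b, .c, .a, .e, .a, .d, .b, .a]))))) (nd 2872 (nd 2868 (nd 2866 (nd 2865 (lf [.b, .c, .a, .b, .c, .a, .c, .b, .a, .e, .c, .d, .e, .b, .d, .b, .d, .b, .a, .d, .c, .a, .c, .d, .a, .b, .d,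 .b, .d, .b, .a, .d, .c, .a, .c, .d, .a, .e, .d, .c, .e, .b, .a, .c, .d, .b, .a, .b, .d, .a]) (lf [.c, .b, .e, .a, .b, .e, .d, .c, .b, .c, .b, .c, .d, .a, .c, .a, .c, .a, .d, .c, .b, .c, .b, .c, .d, .a, .c, .a, .c, .a, .e, .b, .a, .e, .a, .b, .c, .b, .a, .c, .b, .a, .c, .b, .a, .d, .b, .d, .c, .d, .a, .d])) (nd 2867 (lf [.c, .d, .c, .a, .e, .a, .d, .b, .d, .c, .a, .e, .b, .a, .b, .c, .b, .a, .c, .b, .c, .b, .a, .b, .a, .c, .b, .d, .b, .c, .a, .b, .c, .a, .e, .a, .c, .d, .b, .d, .a, .e, .b, .d, .c, .d, .c, .b, .a, .c, .d, .c, .a, .b, .c, .d, .c, .d, .b, .a]) (lf [.a, .d, .b, .d, .c, .d, .a, .d, .c, .b, .e, .a, .b, .e, .d, .c, .b, .c, .b, .c, .d, .a, .c, .a, .c, .a, .d, .c, .b, .c, .b, .c, .d, .a, .c, .a, .c, .a, .e, .b, .a, .e, .a, .b, .c, .b, .a, .c, .b, .a, .c, .b]))) (nd 2870 (nd 2869 (lf [.b, .e, .a, .e, .a,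 .b, .a, .b, .c, .b, .c, .a, .b, .c, .a, .b, .c, .b, .c, .b, .d, .c, .d, .b, .a, .d, .c, .e, .a, .e, .d, .b, .a, .b, .d, .b, .d, .c, .d, .b, .d, .b, .a, .b, .d, .b, .d, .c, .d]) (lf [.b, .a, .e, .a, .b, .e, .a, .c, .a, .c, .a, .d, .b, .c, .b, .a, .b, .c, .b, .d, .a, .c, .a, .c, .a, .d, .b, .c, .b, .a, .b, .c, .b, .d, .e, .b, .a, .e, .b, .a, .c, .a, .d, .b, .c, .a, .d, .c, .a, .c, .b, .a, .c, .b, .a, .c, .a, .b, .a])) (nd 2871 (lf [.a, .c, .a, .d, .b, .d, .c, .a, .c, .b, .e, .a, .e, .c, .d, .a, .d, .c, .a, .c, .a, .c, .a, .c, .d, .a, .d, .c, .a, .c, .a, .c, .a, .e, .a, .e, .a, .b, .a, .b, .c, .b, .a, .c, .b, .c, .b]) (lf [.d, .b, .d, .b, .a, .b, .c, .b, .c, .b, .c, .a, .e, .d, .c, .e, .d, .a, .b, .a, .e, .c, .d, .e, .b, .d, .b, .d, .b, .a, .c, .b, .c, .b, .c, .b, .a, .b])))) (nd 2876 (nd 2874 (nd 2873 (lf [.a, .b,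 .c, .a, .c, .a, .b, .a, .c, .d, .a, .c, .d, .a, .c, .a, .c, .d, .e, .a, .c, .d, .b, .d, .a, .e, .c, .b, .c, .a, .c, .b, .b, .d, .b, .a, .c, .a, .b, .c, .a, .c, .b, .c, .a, .c, .a, .b, .d, .b, .e, .a, .d, .b, .d, .c, .a, .e, .b, .a, .c]) (lf [.b, .d, .a, .c, .a, .c, .a, .e, .a, .e, .a, .b, .a, .b, .a, .c, .b, .a, .c, .b, .a, .c, .b, .c, .b, .d, .b, .a, .b, .c, .a, .b, .a, .b, .e, .a, .e, .d, .b, .a, .b, .d, .a, .c, .a, .c, .a, .d, .b, .a])) (nd 2875 (lf [.d, .c, .d, .b, .d, .b, .a, .b, .d, .e, .a, .e, .c, .d, .a, .b, .d, .c, .d, .b, .c, .b, .c, .b, .a, .c, .b, .a, .c, .b, .c, .b, .a, .b, .a, .e, .a, .e, .b, .d, .c, .d, .b, .d, .b, .a, .b, .d, .b]) (lf [.d, .c, .a, .b, .a, .b, .e, .a, .e, .b, .d, .e, .d, .e, .b, .c, .b, .a, .b, .c, .b, .a, .e, .d, .e, .d, .b, .e, .a, .e, .b, .a, .c, .b, .a, .c, .b, .a, .b, .c, .b,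 .c, .a]))) (nd 2878 (nd 2877 (lf [.b, .c, .b, .d, .b, .a, .b, .d, .b, .a, .b, .a, .d, .b, .c, .b, .a, .b, .c, .b, .d, .a, .b, .a, .b, .d, .b, .a, .b, .e, .b, .a, .e, .b, .a, .c, .b, .c, .a, .b, .c, .a, .b, .a, .d, .a, .c, .a, .c, .a, .b, .a, .c, .e, .a, .b, .e, .d, .b, .c, .b, .a]) (lf [.e, .a, .c, .d, .a, .d, .c, .a, .e, .a, .c, .d, .b, .d, .a, .e, .b, .d, .c, .d, .c, .b, .b, .d, .b, .a, .c, .a, .b, .c, .d, .c, .d, .b, .a, .c, .a, .b, .d, .b, .e, .a, .d, .b, .d, .c, .a])) (nd 2879 (lf [.c, .a, .c, .a, .c, .a, .e, .a, .e, .a, .b, .a, .b, .c, .b, .a, .c, .b, .c, .b, .a, .c, .a, .d, .b, .d, .c, .a, .c, .b, .e, .a, .e, .c, .d, .a, .d, .c, .a, .c, .a, .c, .a, .c, .d, .a, .d]) (lf [.b, .a, .c, .b, .a, .c, .b, .a, .b, .c, .a, .d, .b, .d, .b, .d, .c, .e, .a, .b, .e, .b, .a, .b, .d, .b, .a, .b, .a, .a, .c, .a, .c, .a,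 .a, .b, .a, .b, .d, .b, .a, .b, .a, .c, .a, .c, .a, .e, .b, .a, .e, .a])))))))
noncomputable def tc3kw_circT_c45 : ℕ → List Gen := (nd 2912 (nd 2896 (nd 2888 (nd 2884 (nd 2882 (nd 2881 (lf [.a, .e, .d, .c, .e, .b, .a, .c, .d, .b, .a, .b, .d, .a, .b, .c, .a, .b, .c, .a, .c, .b, .a, .e, .c, .d, .e, .b, .d, .b, .d, .b, .a, .d, .c, .a, .c, .d, .a, .b, .d, .b, .d, .b, .a, .d, .c, .a, .c, .d]) (lf [.b, .a, .c, .a, .d, .b, .d, .c, .a, .c, .b, .e, .a, .e, .c, .d, .a, .d, .c, .a, .c, .a, .c, .a, .c, .d, .a, .d, .c, .a, .c, .a, .c, .a, .e, .a, .e, .a, .b, .a, .b, .c, .b, .a, .c, .b, .c])) (nd 2883 (lf [.c, .b, .c, .a, .b, .c, .a, .b, .c, .e, .a, .e, .a, .c, .a, .c, .a, .b, .d, .c, .d, .b, .a, .c, .a, .c, .a, .b, .d, .c, .d, .b, .e, .a, .e, .c, .a, .b, .c, .a, .d, .c, .b]) (lf [.e, .a, .c, .d, .b, .d, .a, .e, .c, .b, .c,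 .a, .c, .b, .b, .d, .b, .a, .c, .a, .b, .c, .a, .c, .b, .c, .a, .c, .a, .b, .d, .b, .e, .a, .d, .b, .d, .c, .a, .e, .b, .a, .c, .a, .b, .c, .a, .c, .a, .b, .a, .c, .d, .a, .c, .d, .a, .c, .a, .c, .d]))) (nd 2886 (nd 2885 (lf [.a, .d, .c, .d, .b, .a, .c, .b, .a, .b, .c, .b, .c, .a, .b, .e, .a, .e, .b, .d, .e, .d, .e, .b, .c, .b, .d, .b, .d, .b, .c, .b, .d, .b, .d, .e, .d, .e, .d, .b, .e, .a, .e, .a, .b, .c]) (lf [.d, .b, .e, .a, .d, .b, .d, .c, .a, .e, .a, .c, .d, .a, .d, .c, .a, .e, .a, .c, .d, .b, .d, .a, .e, .b, .d, .b, .a, .c, .a, .b, .d, .c, .d, .c, .b, .a, .c, .a, .b, .d, .b, .b, .c, .d, .c])) (nd 2887 (lf [.d, .b, .d, .c, .b, .a, .b, .a, .d, .b, .c, .d, .b, .d, .b, .d, .e, .c, .b, .e, .a, .c, .b, .c, .a, .b, .a, .b, .c, .a, .b, .d, .c, .b, .d, .a, .d, .a, .b, .e, .b, .c, .e, .c, .b, .d, .a, .b, .a, .b, .c,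 .d, .b]) (lf [.b, .c, .a, .c, .d, .a, .b, .a, .c, .a, .c, .b, .d, .b, .d, .b, .c, .a, .c, .a, .b, .a, .d, .c, .e, .b, .c, .b, .a, .c, .b, .a, .b, .c, .b, .c, .b, .a, .d, .b, .c, .d, .c, .a, .b, .a, .b, .e, .a, .c, .b, .d, .b, .d])))) (nd 2892 (nd 2890 (nd 2889 (lf [.c, .a, .b, .c, .a, .b, .c, .b, .c, .d, .a, .c, .a, .c, .d, .b, .d, .b, .e, .a, .b, .e, .d, .b, .c, .b, .a, .b, .c, .b, .d, .d, .c, .b, .c, .b, .c, .d, .d, .b, .c, .b, .a, .b, .c, .b, .d, .d, .c, .b, .c, .b, .c, .d, .e, .b, .a, .e, .a, .b, .a, .b, .a]) (lf [.b, .d, .b, .d, .c, .a, .c, .a, .d, .c, .b, .c, .b, .a, .c, .b, .a, .c, .a, .b, .a, .b, .a, .e, .a, .b, .e, .d, .c, .b, .c, .b, .c, .d, .d, .b, .c, .b, .a, .b, .c, .b, .d, .d, .c, .b, .c, .b, .c, .d, .d, .b, .c, .b, .a, .b, .c, .b, .d, .e, .b, .a, .e])) (nd 2891 (lf [.a, .c, .a, .b, .d, .c, .d, .b,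 .a, .c, .a, .c, .a, .e, .a, .e, .c, .b, .a, .c, .b, .a, .c, .b, .c, .b, .c, .d, .a, .c, .b, .a, .c, .e, .a, .e, .b, .d, .c, .d, .b, .a, .c]) (lf [.c, .a, .d, .a, .d, .e, .a, .e, .b, .d, .e, .d, .e, .c, .b, .c, .a, .c, .b, .c, .a, .e, .d, .e, .d, .b, .e, .a, .e, .a, .c, .a, .c, .b, .a, .c, .a, .b, .c, .a, .d]))) (nd 2894 (nd 2893 (lf [.c, .b, .a, .c, .b, .d, .b, .c, .a, .b, .a, .b, .c, .b, .c, .a, .b, .c, .b, .a, .b, .e, .a, .c, .d, .b, .d, .a, .e, .a, .c, .d, .c, .a, .b, .d, .c, .d, .c, .b, .a, .c, .d, .c, .a, .b, .c, .d, .c, .d, .b, .e, .a, .d, .b, .d, .c, .a, .e, .a]) (lf [.b, .d, .b, .a, .b, .c, .a, .b, .a, .b, .e, .a, .e, .d, .b, .a, .b, .d, .a, .c, .a, .c, .a, .d, .b, .a, .b, .d, .a, .c, .a, .c, .a, .e, .a, .e, .a, .b, .a, .b, .a, .c, .b, .a, .c, .b, .a, .c, .b, .c])) (nd 2895 (lf [.b, .c, .b, .c, .a, .c,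 .d, .b, .a, .b, .c, .a, .c, .a, .b, .a, .c, .b, .e, .a, .c, .d, .b, .d, .a, .e, .a, .c, .d, .c, .a, .c, .b, .c, .a, .c, .b, .a, .c, .d, .c, .a, .b, .c, .a, .c, .b, .c, .e, .a, .d, .b, .d, .c, .a, .e]) (lf [.d, .a, .b, .d, .b, .d, .b, .a, .d, .c, .a, .c, .d, .a, .e, .d, .c, .e, .b, .a, .c, .d, .b, .a, .b, .d, .a, .b, .c, .a, .b, .c, .a, .c, .b, .a, .e, .c, .d, .e, .b, .d, .b, .d, .b, .a, .d, .c, .a, .c]))))) (nd 2904 (nd 2900 (nd 2898 (nd 2897 (lf [.c, .a, .b, .c, .b, .a, .e, .a, .b, .e, .a, .c, .a, .c, .a, .d, .c, .b, .c, .b, .c, .d, .a, .c, .a, .c, .a, .d, .c, .b, .c, .b, .c, .d, .e, .b, .a, .e, .b, .c, .d, .a, .d, .c, .d, .b, .d, .a, .b, .c, .a, .b]) (lf [.d, .c, .d, .a, .c, .b, .a, .c, .b, .a, .c, .a, .c, .a, .b, .a, .e, .b, .c, .e, .b, .c, .d, .a, .b, .a, .c, .b, .c, .a, .b, .a, .d, .c, .e, .c, .b, .e, .b,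 .c, .d, .a])) (nd 2899 (lf [.d, .a, .d, .c, .d, .b, .a, .b, .d, .e, .a, .e, .a, .c, .b, .c, .b, .c, .a, .d, .a, .c, .a, .c, .a, .b, .c, .b, .c, .b, .a, .e, .a, .e, .c, .d, .a, .d, .c, .d, .b, .a, .b, .d, .c]) (lf [.b, .d, .a, .c, .a, .c, .a, .d, .b, .c, .b, .a, .b, .c, .b, .d, .e, .b, .a, .e, .b, .a, .c, .a, .d, .b, .c, .a, .d, .c, .a, .c, .b, .a, .c, .b, .a, .c, .a, .b, .a, .b, .a, .e, .a, .b, .e, .a, .c, .a, .c, .a, .d, .b, .c, .b, .a, .b, .c]))) (nd 2902 (nd 2901 (lf [.c, .a, .c, .b, .d, .b, .d, .b, .c, .a, .c, .a, .b, .a, .d, .c, .a, .c, .b, .d, .b, .d, .b, .c, .a, .e, .b, .a, .b, .a, .c, .d, .c, .b, .d, .a, .b, .c, .b, .c, .b, .a, .b, .c, .a, .b, .c, .b, .e, .c, .d, .a, .b, .a]) (lf [.b, .c, .b, .d, .e, .b, .a, .e, .b, .d, .b, .d, .c, .a, .c, .a, .d, .c, .b, .c, .b, .a, .c, .b, .a, .c, .a, .b, .a, .b, .a,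 .e, .a, .b, .e, .d, .c, .b, .c, .b, .c, .d, .d, .b, .c, .b, .a, .b, .c, .b, .d, .d, .c, .b, .c, .b, .c, .d, .d, .b, .c, .b, .a])) (nd 2903 (lf [.c, .a, .b, .c, .a, .b, .c, .b, .c, .d, .a, .c, .b, .a, .b, .d, .a, .e, .a, .c, .b, .d, .b, .d, .b, .c, .a, .d, .a, .b, .a, .a, .c, .b, .d, .b, .d, .b, .c, .a, .a, .b, .a, .d, .e, .a, .b, .a, .c, .a]) (lf [.b, .a, .c, .a, .b, .c, .a, .c, .a, .b, .a, .c, .d, .a, .c, .d, .a, .c, .a, .c, .d, .e, .a, .c, .d, .b, .d, .a, .e, .c, .b, .c, .a, .c, .b, .b, .d, .b, .a, .c, .a, .b, .c, .a, .c, .b, .c, .a, .c, .a, .b, .d, .b, .e, .a, .d, .b, .d, .c, .a, .e])))) (nd 2908 (nd 2906 (nd 2905 (lf [.b, .e, .a, .d, .b, .d, .c, .a, .e, .b, .a, .c, .a, .b, .c, .a, .c, .a, .b, .a, .c, .d, .a, .c, .d, .a, .c, .a, .c, .d, .e, .a, .c, .d, .b, .d, .a, .e, .c, .b, .c, .a, .c, .b, .b, .d, .b, .a,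 .c, .a, .b, .c, .a, .c, .b, .c, .a, .c, .a, .b, .d]) (lf [.a, .b, .c, .a, .b, .d, .c, .d, .a, .c, .b, .a, .e, .a, .e, .b, .d, .e, .d, .e, .d, .b, .d, .b, .c, .b, .d, .b, .d, .b, .c, .b, .e, .d, .e, .d, .b, .e, .a, .e, .b, .a, .c, .b, .c, .b])) (nd 2907 (lf [.c, .a, .b, .a, .d, .c, .a, .b, .c, .b, .c, .b, .c, .a, .e, .c, .d, .b, .d, .b, .d, .a, .b, .c, .b, .c, .a, .b, .a, .b, .e, .c, .d, .a, .b, .a, .c, .a, .c, .b, .c, .b, .c, .b, .a]) (lf [.c, .d, .a, .c, .a, .c, .d, .b, .d, .b, .e, .a, .b, .e, .d, .b, .c, .b, .a, .b, .c, .b, .d, .d, .c, .b, .c, .b, .c, .d, .d, .b, .c, .b, .a, .b, .c, .b, .d, .d, .c, .b, .c, .b, .c, .d, .e, .b, .a, .e, .a, .b, .a, .b, .a, .c, .a, .b, .c, .a, .b, .c, .b]))) (nd 2910 (nd 2909 (lf [.d, .b, .d, .d, .c, .a, .b, .a, .c, .d, .d, .b, .d, .b, .d, .d, .c, .a, .b, .a, .c, .d, .e, .c, .b,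 .e, .b, .a, .d, .c, .d, .b, .d, .c, .b, .c, .a, .b, .c, .a, .b, .a, .b, .a, .c, .b, .a, .e, .b, .c, .e, .d, .b]) (lf [.b, .d, .e, .c, .b, .e, .b, .c, .b, .c, .b, .a, .c, .a, .c, .b, .d, .a, .c, .b, .c, .d, .b, .e, .b, .c, .e, .c, .d, .a, .b, .a, .c, .d, .b, .d, .b, .d, .c, .a, .b, .a, .d, .c, .d, .b, .d])) (nd 2911 (lf [.a, .e, .d, .c, .e, .d, .a, .b, .a, .e, .c, .d, .e, .b, .d, .b, .d, .b, .a, .c, .b, .c, .b, .c, .b, .a, .b, .d, .b, .d, .b, .a, .b, .c, .b, .c, .b, .c]) (lf [.a, .c, .b, .a, .c, .a, .b, .c, .a, .d, .c, .a, .d, .a, .d, .e, .a, .e, .b, .d, .e, .d, .e, .c, .b, .c, .a, .c, .b, .c, .a, .e, .d, .e, .d, .b, .e, .a, .e, .a, .c])))))) (nd 2928 (nd 2920 (nd 2916 (nd 2914 (nd 2913 (lf [.d, .c, .a, .c, .b, .c, .a, .c, .b, .a, .c, .d, .c, .a, .b, .c, .a, .c, .b, .c, .e, .a, .d, .b, .d, .c, .a, .e, .b, .c, .b,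 .c, .a, .c, .d, .b, .a, .b, .c, .a, .c, .a, .b, .a, .c, .b, .e, .a, .c, .d, .b, .d, .a, .e, .a, .c]) (lf [.c, .a, .d, .c, .a, .b, .a, .c, .a, .c, .b, .a, .c, .a, .b, .e, .a, .c, .d, .b, .d, .a, .e, .b, .d, .b, .a, .c, .a, .c, .b, .c, .a, .c, .b, .a, .c, .a, .b, .d, .b, .b, .c, .a, .c, .b, .c, .e, .a, .d, .b, .d, .c, .a, .e, .d, .c, .a, .c, .a, .d])) (nd 2915 (lf [.a, .c, .a, .b, .a, .d, .c, .a, .b, .c, .b, .c, .b, .c, .a, .e, .c, .d, .b, .d, .b, .d, .a, .b, .c, .b, .c, .a, .b, .a, .b, .e, .c, .d, .a, .b, .a, .c, .a, .c, .b, .c, .b, .c, .b]) (lf [.b, .d, .b, .d, .c, .d, .b, .d, .b, .a, .b, .d, .b, .d, .c, .d, .b, .e, .a, .e, .a, .b, .a, .b, .c, .b, .c, .a, .b, .c, .a, .b, .c, .b, .c, .b, .d, .c, .d, .b, .a, .d, .c, .e, .a, .e, .d, .b, .a]))) (nd 2918 (nd 2917 (lf [.e, .a, .b, .a, .b, .c, .a, .b, .c, .b, .c, .b,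 .a, .b, .a, .d, .a, .c, .a, .b, .a, .d, .b, .e, .a, .e, .b, .d, .e, .d, .e, .d, .b, .d, .c, .b, .c, .d, .b, .d, .c, .b, .c, .e, .d, .e, .d, .b, .e, .a]) (lf [.c, .b, .e, .b, .c, .e, .c, .d, .a, .b, .a, .c, .b, .c, .a, .b, .a, .d, .c, .b, .e, .c, .b, .e, .a, .b, .a, .c, .a, .c, .a, .b, .c, .a, .b, .c, .a, .d, .c, .d, .a, .d])) (nd 2919 (lf [.a, .d, .c, .d, .b, .d, .a, .b, .c, .a, .b, .c, .a, .b, .c, .b, .a, .e, .a, .b, .e, .a, .c, .a, .c, .a, .d, .c, .b, .c, .b, .c, .d, .a, .c, .a, .c, .a, .d, .c, .b, .c, .b, .c, .d, .e, .b, .a, .e, .b, .c, .d]) (lf [.c, .b, .e, .c, .b, .e, .a, .b, .a, .b, .a, .c, .a, .b, .a, .b, .a, .c, .a, .b, .c, .a, .c, .a, .d, .b, .d, .c, .a, .d, .c, .a, .b, .e, .b, .c, .e, .c, .b, .d, .a, .b, .a, .b, .c, .b, .c, .b, .a, .b, .a, .d, .b])))) (nd 2924 (nd 2922 (nd 2921 (lf [.d, .b, .a, .b, .a,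 .a, .c, .a, .c, .a, .a, .b, .a, .b, .d, .b, .a, .b, .e, .b, .a, .e, .c, .d, .b, .d, .b, .d, .a, .c, .b, .a, .b, .c, .a, .b, .c, .a, .b, .a, .e, .a, .b, .e, .a, .c, .a, .c, .a, .b, .a, .b]) (lf [.b, .d, .b, .a, .c, .a, .b, .d, .c, .d, .c, .b, .a, .c, .a, .b, .d, .b, .b, .c, .d, .c, .d, .b, .e, .a, .d, .b, .d, .c, .a, .e, .a, .c, .d, .a, .d, .c, .a, .e, .a, .c, .d, .b, .d, .a, .e])) (nd 2923 (lf [.c, .b, .c, .d, .a, .c, .a, .c, .a, .d, .c, .b, .c, .b, .c, .d, .e, .b, .a, .e, .b, .c, .d, .a, .d, .c, .d, .b, .d, .a, .b, .c, .a, .b, .c, .a, .b, .c, .b, .a, .e, .a, .b, .e, .a, .c, .a, .c, .a, .d, .c, .b]) (lf [.a, .c, .b, .c, .b, .c, .d, .b, .d, .a, .b, .c, .a, .c, .b, .a, .c, .d, .a, .b, .a, .b, .c, .b]))) (nd 2926 (nd 2925 (lf [.d, .a, .c, .d, .a, .c, .a, .c, .d, .e, .a, .c, .d, .b, .d, .a, .e, .c, .b, .c, .a, .c,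 .b, .b, .d, .b, .a, .c, .a, .b, .c, .a, .c, .b, .c, .a, .c, .a, .b, .d, .b, .e, .a, .d, .b, .d, .c, .a, .e, .b, .a, .c, .a, .b, .c, .a, .c, .a, .b, .a, .c]) (lf [.d, .c, .b, .a, .b, .a, .d, .b, .c, .d, .c, .a, .b, .a, .c, .d, .e, .c, .b, .e, .a, .c, .b, .c, .a, .b, .c, .b, .c, .a, .d, .b, .a, .d, .b, .c, .e, .b, .c, .e, .c, .b, .d, .a, .b, .a, .b, .c, .d, .c, .a, .b, .a, .c])) (nd 2927 (lf [.d, .a, .c, .b, .a, .c, .a, .b, .c, .a, .c, .a, .b, .e, .a, .e, .b, .d, .e, .d, .e, .a, .d, .b, .d, .a, .d, .b, .d, .e, .d, .e, .d, .b, .e, .a, .e, .a, .c, .a, .b, .c, .a]) (lf [.d, .b, .a, .c, .a, .c, .b, .c, .a, .c, .b, .a, .c, .a, .b, .d, .b, .b, .c, .a, .c, .b, .c, .e, .a, .d, .b, .d, .c, .a, .e, .d, .c, .a, .c, .a, .d, .c, .a, .d, .c, .a, .b, .a, .c, .a, .c, .b, .a, .c, .a, .b, .e, .a, .c, .d, .b, .d, .a, .e, .b]))))) (nd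 2936 (nd 2932 (nd 2930 (nd 2929 (lf [.c, .b, .c, .b, .c, .a, .b, .d, .b, .d, .b, .e, .d, .c, .e, .a, .b, .a, .d, .e, .c, .d, .e, .a, .c, .b, .c, .b, .c, .b, .a, .b, .d, .b, .d, .b, .a, .b]) (lf [.a, .d, .c, .b, .c, .b, .c, .a, .b, .c, .a, .b, .c, .e, .a, .e, .a, .c, .a, .c, .a, .b, .d, .c, .d, .b, .a, .c, .a, .c, .a, .b, .d, .c, .d, .b, .e, .a, .e, .c, .a, .b, .c])) (nd 2931 (lf [.d, .a, .d, .b, .c, .e, .a, .c, .d, .b, .d, .a, .e, .b, .d, .b, .a, .c, .a, .a, .c, .d, .c, .a, .a, .c, .a, .b, .d, .b, .a, .c, .d, .c, .a, .e, .a, .d, .b, .d, .c, .a, .e, .b, .a, .b, .c, .a, .b, .c, .b, .c, .b, .a, .b, .d, .b, .c]) (lf [.c, .d, .b, .d, .b, .e, .a, .b, .e, .d, .b, .c, .b, .a, .b, .c, .b, .d, .d, .c, .b, .c, .b, .c, .d, .d, .b, .c, .b, .a, .b, .c, .b, .d, .d, .c, .b, .c, .b, .c, .d, .e, .b, .a, .e, .a, .b, .a, .b, .a, .c,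 .a, .b, .c, .a, .b, .c, .b, .c, .d, .a, .c, .a]))) (nd 2934 (nd 2933 (lf [.d, .c, .d, .b, .e, .a, .d, .b, .d, .c, .a, .e, .a, .c, .d, .a, .d, .c, .a, .e, .a, .c, .d, .b, .d, .a, .e, .b, .d, .b, .a, .c, .a, .b, .d, .c, .d, .c, .b, .a, .c, .a, .b, .d, .b, .b, .c]) (lf [.b, .c, .a, .a, .b, .c, .b, .c, .b, .c, .a, .a, .c, .b, .d, .b, .d, .b, .c, .a, .e, .b, .a, .c, .b, .d, .a, .d, .b, .c, .b, .c, .a, .b, .a, .c, .b, .a, .b, .a, .e, .a, .c, .b, .c, .b, .c, .b, .a, .a, .c, .b, .d, .b, .d])) (nd 2935 (lf [.b, .d, .a, .c, .a, .c, .a, .d, .b, .a, .b, .d, .e, .a, .e, .b, .a, .b, .a, .c, .b, .a, .b, .d, .b, .c, .b, .c, .a, .b, .c, .a, .b, .c, .a, .b, .a, .b, .a, .e, .a, .e, .a, .c, .a, .c, .a, .d, .b, .a]) (lf [.c, .a, .c, .b, .d, .b, .d, .b, .c, .a, .e, .b, .a, .b, .a, .c, .d, .c, .b, .d, .a, .b, .c, .b, .c, .b, .a, .b,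 .c, .a, .b, .c, .b, .e, .c, .d, .a, .b, .a, .c, .a, .c, .b, .d, .b, .d, .b, .c, .a, .c, .a, .b, .a, .d])))) (nd 2940 (nd 2938 (nd 2937 (lf [.d, .c, .d, .a, .d, .c, .e, .a, .e, .a, .b, .c, .b, .c, .b, .a, .c, .a, .c, .a, .d, .a, .c, .b, .c, .b, .c, .a, .e, .a, .e, .d, .b, .a, .b, .d, .c, .d, .a, .d, .c, .d, .b, .a, .b]) (lf [.b, .c, .a, .d, .a, .b, .e, .b, .c, .e, .c, .b, .d, .a, .b, .a, .b, .c, .c, .d, .a, .b, .a, .c, .c, .b, .a, .b, .a, .d, .b, .c, .c, .a, .b, .a, .d, .c, .e, .c, .b, .e, .b, .a, .b, .c, .a, .c, .a, .b, .d])) (nd 2939 (lf [.e, .a, .e, .b, .d, .e, .d, .e, .a, .b, .c, .b, .a, .b, .c, .b, .e, .d, .e, .d, .b, .e, .a, .e, .b, .a, .b, .a, .c, .d, .a, .c, .b, .c, .b, .a, .b, .c, .a, .b, .c, .a, .b]) (lf [.a, .c, .d, .c, .a, .b, .c, .d, .c, .d, .b, .a, .c, .d, .c, .a, .e, .a, .d, .b, .d, .c, .a, .e, .b,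 .a, .b, .c, .b, .a, .c, .b, .c, .b, .a, .b, .a, .c, .b, .d, .b, .c, .a, .b, .c, .a, .e, .a, .c, .d, .b, .d, .a, .e, .b, .d, .c, .d, .c, .b]))) (nd 2942 (nd 2941 (lf [.c, .b, .c, .b, .c, .a, .a, .d, .c, .a, .c, .d, .a, .e, .d, .c, .e, .c, .b, .c, .b, .a, .c, .a, .c, .b, .d, .a, .c, .b, .c, .d, .e, .c, .d, .e, .a, .c, .b, .c, .b, .c, .b, .a, .a, .d, .c, .a, .c, .d, .a, .a, .b]) (lf [.b, .a, .b, .d, .e, .a, .e, .c, .d, .a, .b, .d, .c, .d, .b, .c, .b, .c, .b, .a, .c, .b, .a, .c, .b, .c, .b, .a, .b, .a, .e, .a, .e, .b, .d, .c, .d, .b, .d, .b, .a, .b, .d, .b, .d, .c, .d, .b, .d])) (nd 2943 (lf [.d, .a, .b, .a, .b, .c, .d, .c, .a, .b, .a, .c, .d, .c, .b, .a, .b, .a, .d, .b, .c, .e, .c, .b, .e, .c, .b, .d, .a, .b, .d, .a, .c, .b, .c, .b, .a, .c, .b, .c, .a, .e, .b, .c, .e, .d, .c, .a, .b, .a, .c, .d, .c, .b]) (lf [.d,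 .b, .a, .b, .a, .a, .c, .a, .c, .a, .a, .b, .a, .b, .d, .b, .a, .b, .a, .c, .a, .c, .a, .e, .b, .a, .e, .a, .b, .a, .c, .b, .a, .c, .b, .a, .b, .c, .a, .d, .b, .d, .b, .d, .c, .e, .a, .b, .e, .b, .a, .b])))))))
noncomputable def tc3kw_circT_c46 : ℕ → List Gen := (nd 2976 (nd 2960 (nd 2952 (nd 2948 (nd 2946 (nd 2945 (lf [.a, .b, .c, .b, .c, .b, .a, .b, .c, .a, .b, .c, .b, .e, .c, .d, .a, .b, .a, .c, .a, .c, .b, .d, .b, .d, .b, .c, .a, .c, .a, .b, .a, .d, .c, .a, .c, .b, .d, .b, .d, .b, .c, .a, .e, .b, .a, .b, .a, .c, .d, .c, .b, .d]) (lf [.c, .a, .e, .b, .c, .e, .d, .b, .d, .b, .d, .c, .b, .d, .a, .b, .a, .b, .c, .d, .b, .d, .b, .d, .c, .b, .a, .b, .a, .d, .b, .c, .e, .c, .b, .e, .b, .a, .d, .a, .d, .b, .c, .d, .b, .a, .c, .b, .a, .b, .a, .c, .b])) (nd 2947 (lf [.c, .b, .c, .b, .c, .d, .a, .c, .a, .c, .a, .d, .c,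 .b, .c, .b, .c, .d, .e, .b, .a, .e, .b, .c, .d, .a, .d, .c, .d, .b, .d, .a, .b, .c, .a, .b, .c, .a, .b, .c, .b, .a, .e, .a, .b, .e, .a, .c, .a, .c, .a, .d]) (lf [.b, .a, .b, .a, .e, .a, .e, .a, .c, .a, .c, .a, .c, .d, .a, .d, .c, .a, .c, .a, .c, .a, .c, .d, .a, .d, .c, .e, .a, .e, .b, .c, .a, .c, .d, .b, .d, .a, .c, .a, .b, .c, .b, .c, .a, .b, .c]))) (nd 2950 (nd 2949 (lf [.d, .a, .c, .a, .c, .a, .d, .c, .b, .c, .b, .c, .d, .e, .b, .a, .e, .b, .c, .d, .a, .d, .c, .d, .b, .d, .a, .b, .c, .a, .b, .c, .a, .b, .c, .b, .a, .e, .a, .b, .e, .a, .c, .a, .c, .a, .d, .c, .b, .c, .b, .c]) (lf [.b, .c, .a, .c, .d, .c, .b, .c, .b, .d, .b, .d, .c, .d, .b, .c, .a, .c, .b, .a])) (nd 2951 (lf [.b, .a, .c, .b, .a, .c, .a, .b, .a, .b, .a, .e, .a, .b, .e, .a, .c, .a, .c, .a, .d, .b, .c, .b, .a, .b, .c, .b, .d, .a, .c, .a, .c, .a,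 .d, .b, .c, .b, .a, .b, .c, .b, .d, .e, .b, .a, .e, .b, .a, .c, .a, .d, .b, .c, .a, .d, .c, .a, .c]) (lf [.b, .d, .b, .d, .b, .a, .b, .c, .b, .c, .b, .c, .a, .e, .d, .c, .e, .d, .a, .b, .a, .e, .c, .d, .e, .b, .d, .b, .d, .b, .a, .c, .b, .c, .b, .c, .b, .a])))) (nd 2956 (nd 2954 (nd 2953 (lf [.c, .b, .c, .b, .a, .b, .c, .a, .b, .c, .a, .b, .e, .a, .e, .b, .d, .e, .d, .e, .a, .b, .c, .b, .a, .b, .c, .b, .e, .d, .e, .d, .b, .e, .a, .e, .b, .a, .b, .a, .c, .d, .a]) (lf [.a, .b, .a, .c, .a, .d, .a, .b, .a, .b, .c, .b, .c, .b, .a, .c, .b, .a, .b, .a, .e, .a, .e, .b, .d, .e, .d, .e, .c, .b, .c, .d, .b, .d, .c, .b, .c, .d, .b, .d, .e, .d, .e, .d, .b, .e, .a, .e, .b, .d])) (nd 2955 (lf [.a, .b, .c, .b, .c, .b, .a, .c, .a, .c, .a, .d, .a, .c, .b, .c, .b, .c, .a, .e, .a, .e, .d, .b, .a, .b, .d, .c, .d, .a, .d, .c, .d, .b,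 .a, .b, .d, .c, .d, .a, .d, .c, .e, .a, .e]) (lf [.c, .a, .c, .a, .d, .c, .b, .c, .b, .c, .d, .a, .c, .a, .c, .a, .d, .c, .b, .c, .b, .c, .d, .e, .b, .a, .e, .b, .c, .d, .a, .d, .c, .d, .b, .d, .a, .b, .c, .a, .b, .c, .a, .b, .c, .b, .a, .e, .a, .b, .e, .a]))) (nd 2958 (nd 2957 (lf [.b, .a, .b, .a, .c, .a, .b, .c, .a, .b, .c, .a, .c, .d, .a, .c, .b, .d, .a, .c, .a, .b, .e, .a, .b, .e, .d, .b, .c, .b, .a, .b, .c, .b, .d, .a, .c, .a, .c, .a, .d, .b, .c, .b, .a, .b, .c, .b, .d, .a, .c, .a, .c, .a, .e, .b, .a, .e, .a]) (lf [.d, .b, .d, .b, .c, .a, .c, .a, .b, .a, .d, .c, .a, .c, .b, .d, .b, .d, .b, .c, .a, .e, .b, .a, .b, .a, .c, .d, .c, .b, .d, .a, .b, .c, .b, .c, .b, .a, .b, .c, .a, .b, .c, .b, .e, .c, .d, .a, .b, .a, .c, .a, .c, .b])) (nd 2959 (lf [.b, .d, .e, .b, .a, .e, .b, .a, .c, .a, .d, .b, .c, .a, .d, .c,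 .a, .c, .b, .a, .c, .b, .a, .c, .a, .b, .a, .b, .a, .e, .a, .b, .e, .a, .c, .a, .c, .a, .d, .b, .c, .b, .a, .b, .c, .b, .d, .a, .c, .a, .c, .a, .d, .b, .c, .b, .a, .b, .c]) (lf [.b, .d, .b, .d, .c, .d, .a, .b, .a, .c, .d, .b, .d, .b, .d, .c, .a, .b, .a, .d, .c, .e, .c, .b, .e, .b, .d, .c, .b, .c, .a, .d, .b, .c, .a, .c, .a, .b, .c, .b, .c, .b, .e, .b, .c, .e, .d]))))) (nd 2968 (nd 2964 (nd 2962 (nd 2961 (lf [.b, .a, .d, .c, .e, .a, .e, .d, .b, .a, .b, .d, .b, .d, .c, .d, .b, .d, .b, .a, .b, .d, .b, .d, .c, .d, .b, .e, .a, .e, .a, .b, .a, .b, .c, .b, .c, .a, .b, .c, .a, .b, .c, .b, .c, .b, .d, .c, .d]) (lf [.d, .b, .c, .b, .a, .b, .c, .b, .d, .b, .a, .b, .d, .b, .a, .b, .a, .d, .b, .c, .b, .a, .b, .c, .b, .d, .a, .b, .a, .b, .d, .b, .a, .b, .e, .b, .a, .e, .b, .a, .c, .b, .c, .a, .b, .c, .a, .b, .a, .d, .a, .c,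 .a, .c, .a, .b, .a, .c, .e, .a, .b, .e])) (nd 2963 (lf [.a, .d, .b, .d, .c, .a, .e, .b, .a, .c, .a, .b, .c, .a, .c, .a, .b, .a, .c, .d, .a, .c, .d, .a, .c, .a, .c, .d, .e, .a, .c, .d, .b, .d, .a, .e, .c, .b, .c, .a, .c, .b, .b, .d, .b, .a, .c, .a, .b, .c, .a, .c, .b, .c, .a, .c, .a, .b, .d, .b, .e]) (lf [.b, .d, .c, .d, .c, .b, .a, .c, .d, .c, .a, .b, .c, .d, .c, .d, .b, .a, .c, .d, .c, .a, .e, .a, .d, .b, .d, .c, .a, .e, .b, .a, .b, .c, .b, .a, .c, .b, .c, .b, .a, .b, .a, .c, .b, .d, .b, .c, .a, .b, .c, .a, .e, .a, .c, .d, .b, .d, .a, .e]))) (nd 2966 (nd 2965 (lf [.b, .a, .c, .b, .c, .b, .a, .c, .a, .d, .b, .d, .c, .a, .c, .b, .e, .a, .e, .c, .d, .a, .d, .c, .a, .c, .a, .c, .a, .c, .d, .a, .d, .c, .a, .c, .a, .c, .a, .e, .a, .e, .a, .b, .a, .b, .c]) (lf [.a, .b, .c, .a, .b, .c, .a, .b, .c, .b, .a, .e, .a, .b,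 .e, .a, .c, .a, .c, .a, .d, .c, .b, .c, .b, .c, .d, .a, .c, .a, .c, .a, .d, .c, .b, .c, .b, .c, .d, .e, .b, .a, .e, .b, .c, .d, .a, .d, .c, .d, .b, .d])) (nd 2967 (lf [.a, .b, .a, .d, .c, .e, .c, .b, .e, .b, .a, .b, .c, .a, .c, .a, .b, .d, .b, .c, .a, .d, .a, .b, .e, .b, .c, .e, .c, .b, .d, .a, .b, .a, .b, .c, .c, .d, .a, .b, .a, .c, .c, .b, .a, .b, .a, .d, .b, .c, .c]) (lf [.a, .d, .b, .d, .c, .a, .d, .c, .a, .b, .e, .b, .c, .e, .c, .b, .d, .a, .b, .a, .b, .c, .b, .c, .b, .a, .b, .a, .d, .b, .c, .b, .e, .c, .b, .e, .a, .b, .a, .b, .a, .c, .a, .b, .a, .b, .a, .c, .a, .b, .c, .a, .c])))) (nd 2972 (nd 2970 (nd 2969 (lf [.a, .c, .a, .c, .a, .b, .a, .e, .d, .a, .b, .a, .a, .c, .b, .d, .b, .d, .b, .c, .a, .a, .b, .a, .d, .a, .c, .b, .d, .b, .d, .b, .c, .a, .e, .a, .d, .b, .a, .b, .c, .a, .d, .c, .b, .c, .b, .a, .c,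 .b]) (lf [.c, .b, .c, .a, .c, .b, .a, .c, .d, .c, .a, .b, .c, .a, .c, .b, .c, .a, .c, .d, .c, .a, .e, .a, .d, .b, .d, .c, .a, .e, .b, .c, .a, .b, .a, .c, .a, .c, .b, .a, .b, .d, .c, .a, .c, .b, .c, .b, .e, .a, .c, .d, .b, .d, .a, .e])) (nd 2971 (lf [.b, .c, .b, .c, .a, .b, .c, .b, .a, .b, .a, .e, .a, .e, .a, .c, .a, .c, .a, .c, .d, .a, .d, .c, .a, .c, .a, .c, .a, .c, .d, .a, .d, .c, .e, .a, .e, .b, .c, .a, .c, .d, .b, .d, .a, .c, .a]) (lf [.d, .b, .e, .a, .d, .b, .d, .c, .a, .e, .a, .c, .b, .a, .c, .b, .d, .b, .c, .a, .b, .a, .b, .c, .b, .c, .a, .b, .c, .b, .a, .b, .e, .a, .c, .d, .b, .d, .a, .e, .a, .c, .d, .c, .a, .b, .d, .c, .d, .c, .b, .a, .c, .d, .c, .a, .b, .c, .d, .c]))) (nd 2974 (nd 2973 (lf [.b, .d, .c, .b, .a, .b, .a, .d, .b, .c, .d, .b, .d, .b, .d, .e, .c, .b, .e, .a, .c, .b, .c, .a, .b, .a, .b, .c,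 .a, .b, .d, .c, .b, .d, .a, .d, .a, .b, .e, .b, .c, .e, .c, .b, .d, .a, .b, .a, .b, .c, .d, .b, .d]) (lf [.d, .b, .a, .d, .c, .e, .a, .e, .d, .b, .a, .b, .d, .b, .d, .c, .d, .b, .d, .b, .a, .b, .d, .b, .d, .c, .d, .b, .e, .a, .e, .a, .b, .a, .b, .c, .b, .c, .a, .b, .c, .a, .b, .c, .b, .c, .b, .d, .c])) (nd 2975 (lf [.d, .a, .c, .a, .c, .a, .b, .a, .c, .e, .a, .b, .e, .d, .b, .c, .b, .a, .b, .c, .b, .d, .b, .a, .b, .d, .b, .a, .b, .a, .d, .b, .c, .b, .a, .b, .c, .b, .d, .a, .b, .a, .b, .d, .b, .a, .b, .e, .b, .a, .e, .b, .a, .c, .b, .c, .a, .b, .c, .a, .b, .a]) (lf [.b, .a, .a, .c, .a, .c, .a, .a, .b, .a, .b, .d, .b, .a, .b, .e, .b, .a, .e, .c, .d, .b, .d, .b, .d, .a, .c, .b, .a, .b, .c, .a, .b, .c, .a, .b, .a, .e, .a, .b, .e, .a, .c, .a, .c, .a, .b, .a, .b, .d, .b, .a])))))) (nd 2992 (nd 2984 (nd 2980 (nd 2978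 (nd 2977 (lf [.b, .c, .a, .c, .a, .b, .e, .a, .e, .b, .d, .e, .d, .e, .a, .d, .b, .d, .a, .d, .b, .d, .e, .d, .e, .d, .b, .e, .a, .e, .a, .c, .a, .b, .c, .a, .d, .a, .c, .b, .a, .c, .a]) (lf [.c, .a, .b, .c, .d, .c, .d, .b, .a, .c, .d, .c, .a, .e, .a, .d, .b, .d, .c, .a, .e, .b, .a, .b, .c, .b, .a, .c, .b, .c, .b, .a, .b, .a, .c, .b, .d, .b, .c, .a, .b, .c, .a, .e, .a, .c, .d, .b, .d, .a, .e, .b, .d, .c, .d, .c, .b, .a, .c, .d])) (nd 2979 (lf [.a, .e, .a, .e, .c, .b, .a, .c, .b, .a, .c, .b, .c, .b, .c, .d, .a, .c, .b, .a, .c, .e, .a, .e, .b, .d, .c, .d, .b, .a, .c, .a, .c, .a, .b, .d, .c, .d, .b, .a, .c, .a, .c]) (lf [.b, .c, .a, .c, .a, .e, .a, .e, .b, .d, .e, .d, .e, .a, .c, .b, .c, .a, .c, .b, .c, .e, .d, .e, .d, .b, .e, .a, .e, .d, .a, .d, .a, .c, .d, .a, .c, .b, .a, .c, .a]))) (nd 2982 (nd 2981 (lf [.e, .b,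 .d, .c, .d, .c, .b, .b, .d, .b, .a, .c, .a, .b, .c, .d, .c, .d, .b, .a, .c, .a, .b, .d, .b, .e, .a, .d, .b, .d, .c, .a, .e, .a, .c, .d, .a, .d, .c, .a, .e, .a, .c, .d, .b, .d, .a]) (lf [.d, .b, .c, .a, .c, .a, .b, .a, .d, .c, .e, .b, .c, .b, .a, .c, .b, .a, .b, .c, .b, .c, .b, .a, .d, .b, .c, .d, .c, .a, .b, .a, .b, .e, .a, .c, .b, .d, .b, .d, .b, .c, .a, .c, .d, .a, .b, .a, .c, .a, .c, .b, .d, .b])) (nd 2983 (lf [.d, .a, .b, .d, .c, .d, .b, .c, .b, .c, .b, .a, .c, .b, .a, .c, .b, .c, .b, .a, .b, .a, .e, .a, .e, .b, .d, .c, .d, .b, .d, .b, .a, .b, .d, .b, .d, .c, .d, .b, .d, .b, .a, .b, .d, .e, .a, .e, .c]) (lf [.b, .a, .c, .b, .a, .c, .b, .a, .b, .c, .b, .c, .a, .d, .c, .a, .b, .a, .b, .e, .a, .e, .b, .d, .e, .d, .e, .b, .c, .b, .a, .b, .c, .b, .a, .e, .d, .e, .d, .b, .e, .a, .e])))) (nd 2988 (nd 2986 (nd 2985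 (lf [.e, .a, .c, .d, .b, .d, .a, .e, .b, .d, .c, .d, .c, .b, .a, .c, .d, .c, .a, .b, .c, .d, .c, .d, .b, .a, .c, .d, .c, .a, .e, .a, .d, .b, .d, .c, .a, .e, .b, .a, .b, .c, .b, .a, .c, .b, .c, .b, .a, .b, .a, .c, .b, .d, .b, .c, .a, .b, .c, .a]) (lf [.b, .e, .a, .c, .b, .d, .b, .d, .b, .c, .a, .c, .d, .a, .b, .a, .c, .a, .c, .b, .d, .b, .d, .b, .c, .a, .c, .a, .b, .a, .d, .c, .e, .b, .c, .b, .a, .c, .b, .a, .b, .c, .b, .c, .b, .a, .d, .b, .c, .d, .c, .a, .b, .a])) (nd 2987 (lf [.b, .a, .b, .c, .b, .d, .a, .c, .a, .c, .a, .d, .b, .c, .b, .a, .b, .c, .b, .d, .e, .b, .a, .e, .b, .a, .c, .a, .d, .b, .c, .a, .d, .c, .a, .c, .b, .a, .c, .b, .a, .c, .a, .b, .a, .b, .a, .e, .a, .b, .e, .a, .c, .a, .c, .a, .d, .b, .c]) (lf [.a, .c, .b, .a, .c, .b, .d, .b, .c, .a, .b, .a, .b, .c, .b, .c, .a, .b, .c, .b, .a, .b, .e, .a, .c,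 .d, .b, .d, .a, .e, .a, .c, .d, .c, .a, .b, .d, .c, .d, .c, .b, .a, .c, .d, .c, .a, .b, .c, .d, .c, .d, .b, .e, .a, .d, .b, .d, .c, .a, .e]))) (nd 2990 (nd 2989 (lf [.b, .a, .b, .d, .b, .a, .b, .a, .a, .c, .a, .c, .a, .a, .b, .a, .b, .d, .b, .a, .b, .e, .b, .a, .e, .c, .d, .b, .d, .b, .d, .a, .c, .b, .a, .b, .c, .a, .b, .c, .a, .b, .a, .e, .a, .b, .e, .a, .c, .a, .c, .a]) (lf [.b, .a, .c, .d, .c, .b, .d, .a, .b, .c, .b, .c, .b, .a, .b, .c, .a, .b, .c, .b, .e, .c, .d, .a, .b, .a, .c, .a, .c, .b, .d, .b, .d, .b, .c, .a, .c, .a, .b, .a, .d, .c, .a, .c, .b, .d, .b, .d, .b, .c, .a, .e, .b, .a])) (nd 2991 (lf [.b, .d, .b, .d, .b, .c, .e, .b, .d, .c, .d, .c, .b, .a, .c, .a, .b, .a, .c, .a, .c, .b, .e, .c, .d, .a, .b, .a, .c, .c, .b, .d, .b, .d, .b, .c, .c, .a, .b, .a, .d, .c, .c]) (lf [.d, .b, .a, .b, .d, .c, .d, .a,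 .d, .c, .e, .a, .e, .a, .b, .c, .b, .c, .b, .a, .c, .a, .c, .a, .d, .a, .c, .b, .c, .b, .c, .a, .e, .a, .e, .d, .b, .a, .b, .d, .c, .d, .a, .d, .c]))))) (nd 3000 (nd 2996 (nd 2994 (nd 2993 (lf [.c, .d, .c, .d, .b, .e, .a, .d, .b, .d, .c, .a, .e, .a, .c, .b, .a, .c, .b, .d, .b, .c, .a, .b, .a, .b, .c, .b, .c, .a, .b, .c, .b, .a, .b, .e, .a, .c, .d, .b, .d, .a, .e, .a, .c, .d, .c, .a, .b, .d, .c, .d, .c, .b, .a, .c, .d, .c, .a, .b]) (lf [.b, .c, .e, .c, .b, .e, .b, .a, .c, .d, .a, .c, .d, .b, .d, .a, .c, .a, .c, .b, .a, .c, .a, .b, .a, .b, .a, .c, .a, .b, .a, .b, .a, .e, .b, .c, .e, .b, .c, .b, .d, .a, .b, .a, .b, .c, .b, .c, .b, .a, .b, .a, .d])) (nd 2995 (lf [.b, .e, .a, .e, .b, .d, .e, .d, .e, .a, .b, .c, .b, .a, .b, .c, .b, .e, .d, .e, .d, .b, .e, .a, .e, .b, .a, .b, .a, .c, .d, .a, .c, .b, .c, .b, .a, .b, .c,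 .a, .b, .c, .a]) (lf [.a, .b, .a, .e, .a, .e, .b, .d, .c, .d, .b, .d, .b, .a, .b, .d, .b, .d, .c, .d, .b, .d, .b, .a, .b, .d, .e, .a, .e, .c, .d, .a, .b, .d, .c, .d, .b, .c, .b, .c, .b, .a, .c, .b, .a, .c, .b, .c, .b]))) (nd 2998 (nd 2997 (lf [.c, .a, .c, .d, .a, .b, .d, .b, .d, .b, .e, .d, .c, .e, .a, .b, .c, .a, .c, .b, .a, .c, .b, .a, .d, .b, .a, .b, .d, .c, .a, .b, .e, .c, .d, .e, .a, .d, .c, .a, .c, .d, .a, .b, .d, .b, .d, .b, .a, .d]) (lf [.d, .b, .d, .b, .d, .c, .a, .b, .a, .d, .c, .e, .c, .b, .e, .b, .d, .c, .b, .c, .a, .d, .b, .c, .a, .c, .a, .b, .c, .b, .c, .b, .e, .b, .c, .e, .d, .b, .d, .b, .d, .c, .d, .a, .b, .a, .c])) (nd 2999 (lf [.c, .e, .c, .b, .e, .c, .b, .d, .a, .b, .d, .a, .c, .b, .c, .b, .a, .c, .b, .c, .a, .e, .b, .c, .e, .d, .c, .a, .b, .a, .c, .d, .c, .b, .d, .a, .b, .a, .b, .c, .d, .c,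 .a, .b, .a, .c, .d, .c, .b, .a, .b, .a, .d, .b]) (lf [.d, .a, .c, .a, .c, .a, .e, .b, .a, .e, .a, .b, .c, .b, .a, .c, .b, .a, .c, .b, .a, .d, .b, .d, .c, .d, .a, .d, .c, .b, .e, .a, .b, .e, .d, .c, .b, .c, .b, .c, .d, .a, .c, .a, .c, .a, .d, .c, .b, .c, .b, .c])))) (nd 3004 (nd 3002 (nd 3001 (lf [.a, .b, .a, .b, .a, .c, .b, .a, .c, .b, .a, .c, .b, .c, .b, .d, .b, .a, .b, .c, .a, .b, .a, .b, .e, .a, .e, .d, .b, .a, .b, .d, .a, .c, .a, .c, .a, .d, .b, .a, .b, .d, .a, .c, .a, .c, .a, .e, .a, .e]) (lf [.a, .e, .b, .c, .e, .d, .b, .d, .b, .d, .c, .b, .d, .a, .b, .a, .b, .c, .d, .b, .d, .b, .d, .c, .b, .a, .b, .a, .d, .b, .c, .e, .c, .b, .e, .b, .a, .d, .a, .d, .b, .c, .d, .b, .a, .c, .b, .a, .b, .a, .c, .b, .c])) (nd 3003 (lf [.c, .a, .b, .a, .e, .b, .c, .e, .b, .c, .d, .a, .b, .a, .c, .b, .c, .a, .b, .a, .d, .c, .e,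 .c, .b, .e, .b, .c, .d, .a, .d, .c, .d, .a, .c, .b, .a, .c, .b, .a, .c, .a]) (lf [.d, .c, .a, .c, .b, .a, .c, .b, .a, .c, .a, .b, .a, .b, .a, .e, .a, .b, .e, .a, .c, .a, .c, .a, .d, .b, .c, .b, .a, .b, .c, .b, .d, .a, .c, .a, .c, .a, .d, .b, .c, .b, .a, .b, .c, .b, .d, .e, .b, .a, .e, .b, .a, .c, .a, .d, .b, .c, .a]))) (nd 3006 (nd 3005 (lf [.b, .a, .c, .b, .a, .c, .b, .a, .c, .b, .c, .b, .d, .b, .a, .b, .c, .a, .b, .a, .b, .e, .a, .e, .d, .b, .a, .b, .d, .a, .c, .a, .c, .a, .d, .b, .a, .b, .d, .a, .c, .a, .c, .a, .e, .a, .e, .a, .b, .a]) (lf [.c, .d, .a, .d, .c, .e, .a, .e, .b, .c, .a, .c, .d, .b, .d, .a, .c, .a, .b, .c, .b, .c, .a, .b, .c, .b, .a, .b, .a, .e, .a, .e, .a, .c, .a, .c, .a, .c, .d, .a, .d, .c, .a, .c, .a, .c, .a])) (nd 3007 (lf [.b, .d, .b, .d, .b, .c, .a, .b, .c, .b, .c, .b, .c, .a, .e, .b, .d,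 .c, .d, .a, .b, .a, .c, .b, .c, .b, .c, .e, .c, .b, .d, .b, .d, .b, .c, .a, .c, .b, .c, .b, .c, .b, .a, .c]) (lf [.d, .a, .b, .a, .b, .c, .d, .b, .d, .b, .d, .c, .b, .a, .b, .a, .d, .b, .c, .d, .b, .d, .b, .d, .e, .c, .b, .e, .a, .c, .b, .c, .a, .b, .a, .b, .c, .a, .b, .d, .c, .b, .d, .a, .d, .a, .b, .e, .b, .c, .e, .c, .b])))))))
noncomputable def tc3kw_circT_c47 : ℕ → List Gen := (nd 3015 (nd 3011 (nd 3009 (lf [.d, .b, .a, .b, .d, .c, .d, .a, .d, .c, .d, .b, .a, .b, .d, .e, .a, .e, .a, .c, .b, .c, .b, .c, .a, .d, .a, .c, .a, .c, .a, .b, .c, .b, .c, .b, .a, .e, .a, .e, .c, .d, .a, .d, .c]) (nd 3010 (lf [.a, .d, .a, .b, .c, .a, .b, .c, .a, .b, .c, .a, .b, .a, .c, .a, .b, .e, .a, .c, .d, .b, .d, .a, .e, .b, .d, .c, .d, .c, .b, .c, .b, .c, .a, .c, .b, .b, .c, .d, .c, .d, .b, .b, .c, .a, .c, .b, .c, .e, .a, .d, .b,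 .d, .c, .a, .e, .c, .b, .d, .c, .a, .d]) (lf [.d, .b, .d, .b, .a, .d, .c, .a, .c, .d, .a, .e, .d, .c, .e, .b, .a, .c, .d, .b, .a, .b, .d, .a, .b, .c, .a, .b, .c, .a, .c, .b, .a, .e, .c, .d, .e, .b, .d, .b, .d, .b, .a, .d, .c, .a, .c, .d, .a, .b]))) (nd 3013 (nd 3012 (lf [.d, .b, .d, .e, .c, .b, .e, .b, .c, .b, .c, .b, .a, .c, .a, .c, .b, .d, .a, .c, .b, .c, .d, .b, .e, .b, .c, .e, .c, .d, .a, .b, .a, .c, .d, .b, .d, .b, .d, .c, .a, .b, .a, .d, .c, .d, .b]) (lf [.b, .c, .d, .a, .c, .a, .c, .a, .d, .c, .b, .c, .b, .c, .d, .e, .b, .a, .e, .b, .c, .d, .a, .d, .c, .d, .b, .d, .a, .b, .c, .a, .b, .c, .a, .b, .c, .b, .a, .e, .a, .b, .e, .a, .c, .a, .c, .a, .d, .c, .b, .c])) (nd 3014 (lf [.d, .b, .d, .c, .a, .c, .a, .d, .c, .b, .c, .b, .a, .c, .b, .a, .c, .a, .b, .a, .b, .a, .e, .a, .b, .e, .d, .c, .b, .c, .b, .c, .d,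 .d, .b, .c, .b, .a, .b, .c, .b, .d, .d, .c, .b, .c, .b, .c, .d, .d, .b, .c, .b, .a, .b, .c, .b, .d, .e, .b, .a, .e, .b]) (lf [.a, .d, .b, .d, .c, .a, .e, .a, .c, .d, .a, .d, .c, .a, .e, .a, .c, .d, .b, .d, .a, .e, .b, .d, .c, .d, .c, .b, .b, .d, .b, .a, .c, .a, .b, .c, .d, .c, .d, .b, .a, .c, .a, .b, .d, .b, .e])))) (nd 3018 (nd 3016 (lf [.d, .b, .c, .b, .a, .b, .c, .b, .d, .a, .b, .a, .b, .d, .b, .a, .b, .d, .b, .c, .b, .a, .b, .c, .b, .d, .e, .b, .a, .e, .c, .a, .b, .a, .c, .a, .c, .a, .d, .a, .b, .a, .c, .b, .a, .c, .b, .c, .a, .b, .e, .a, .b, .e, .b, .a, .b, .d, .b, .a, .b, .a]) (nd 3017 (lf [.d, .c, .d, .b, .a, .c, .a, .c, .a, .b, .d, .c, .d, .b, .a, .c, .a, .c, .a, .e, .a, .e, .c, .b, .a, .c, .b, .a, .c, .b, .c, .b, .c, .d, .a, .c, .b, .a, .c, .e, .a, .e, .b]) (lf [.b, .d, .c, .d, .b, .e, .a, .e, .c, .a,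 .b, .c, .a, .d, .c, .b, .c, .b, .c, .a, .b, .c, .a, .b, .c, .e, .a, .e, .a, .c, .a, .c, .a, .b, .d, .c, .d, .b, .a, .c, .a, .c, .a]))) (nd 3020 (nd 3019 (lf [.a, .d, .a, .b, .e, .b, .c, .e, .c, .b, .d, .a, .b, .a, .b, .c, .d, .b, .d, .b, .d, .c, .b, .a, .b, .a, .d, .b, .c, .d, .b, .d, .b, .d, .e, .c, .b, .e, .a, .c, .b, .c, .a, .b, .a, .b, .c, .a, .b, .d, .c, .b, .d]) (lf [.c, .d, .a, .b, .a, .c, .a, .c, .b, .d, .b, .d, .b, .c, .a, .c, .a, .b, .a, .d, .c, .e, .b, .c, .b, .a, .c, .b, .a, .b, .c, .b, .c, .b, .a, .d, .b, .c, .d, .c, .a, .b, .a, .b, .e, .a, .c, .b, .d, .b, .d, .b, .c, .a])) (nd 3021 (lf [.c, .a, .c, .a, .b, .a, .c, .e, .a, .b, .e, .d, .b, .c, .b, .a, .b, .c, .b, .d, .b, .a, .b, .d, .b, .a, .b, .a, .d, .b, .c, .b, .a, .b, .c, .b, .d, .a, .b, .a, .b, .d, .b, .a, .b, .e, .b, .a, .e, .b, .a, .c, .b, .c,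 .a, .b, .c, .a, .b, .a, .d, .a]) (lf [.a, .e, .a, .b, .e, .a, .c, .a, .c, .a, .d, .c, .b, .c, .b, .c, .d, .a, .c, .a, .c, .a, .d, .c, .b, .c, .b, .c, .d, .e, .b, .a, .e, .b, .c, .d, .a, .d, .c, .d, .b, .d, .a, .b, .c, .a, .b, .c, .a, .b, .c, .b])))))
noncomputable def tc3kw_circT : ℕ → List Gen := (nd 1536 (nd 768 (nd 384 (nd 192 (nd 64 tc3kw_circT_c0 (nd 128 tc3kw_circT_c1 tc3kw_circT_c2)) (nd 256 tc3kw_circT_c3 (nd 320 tc3kw_circT_c4 tc3kw_circT_c5))) (nd 576 (nd 448 tc3kw_circT_c6 (nd 512 tc3kw_circT_c7 tc3kw_circT_c8)) (nd 640 tc3kw_circT_c9 (nd 704 tc3kw_circT_c10 tc3kw_circT_c11)))) (nd 1152 (nd 960 (nd 832 tc3kw_circT_c12 (nd 896 tc3kw_circT_c13 tc3kw_circT_c14)) (nd 1024 tc3kw_circT_c15 (nd 1088 tc3kw_circT_c16 tc3kw_circT_c17))) (nd 1344 (nd 1216 tc3kw_circT_c18 (nd 1280 tc3kw_circT_c19 tc3kw_circT_c20))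 (nd 1408 tc3kw_circT_c21 (nd 1472 tc3kw_circT_c22 tc3kw_circT_c23))))) (nd 2304 (nd 1920 (nd 1728 (nd 1600 tc3kw_circT_c24 (nd 1664 tc3kw_circT_c25 tc3kw_circT_c26)) (nd 1792 tc3kw_circT_c27 (nd 1856 tc3kw_circT_c28 tc3kw_circT_c29))) (nd 2112 (nd 1984 tc3kw_circT_c30 (nd 2048 tc3kw_circT_c31 tc3kw_circT_c32)) (nd 2176 tc3kw_circT_c33 (nd 2240 tc3kw_circT_c34 tc3kw_circT_c35)))) (nd 2688 (nd 2496 (nd 2368 tc3kw_circT_c36 (nd 2432 tc3kw_circT_c37 tc3kw_circT_c38)) (nd 2560 tc3kw_circT_c39 (nd 2624 tc3kw_circT_c40 tc3kw_circT_c41))) (nd 2880 (nd 2752 tc3kw_circT_c42 (nd 2816 tc3kw_circT_c43 tc3kw_circT_c44)) (nd 2944 tc3kw_circT_c45 (nd 3008 tc3kw_circT_c46 tc3kw_circT_c47))))))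
def tc3kw_ccert : List (ℕ × ℕ × Bool) := [(8, 1, false), (16, 2, false), (0, 0, false), (16, 0, false), (17, 0, false), (2, 0, false), (5, 1, false), (1, 0, false), (7, 1, false), (3, 0, false), (16, 1, false), (7, 0, false), (16, 3, false), (6, 1, false), (20, 0, true), (5, 0, false), (64, 2, true), (18, 2, false), (28, 2, false), (28, 5, false), (38, 31, false), (41, 10, true), (19, 1, false), (20, 1, false), (20, 0, false), (17, 1, false), (18, 3, false), (28, 1, false), (20, 2, false), (20, 2, true), (19, 0, false), (43, 5, true), (9, 1, false), (40, 7, true), (29, 12, true), (6, 0, false), (4, 0, false), (35, 2, false), (21, 0, false), (20, 1, true), (21, 2, false), (23, 0, false), (21, 1, false), (35, 6, false), (23, 2, false), (23, 1, false), (23, 3, false), (35, 3, true), (21, 3, false), (28, 0, false),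 (35, 1, false), (35, 3, false), (9, 0, false), (10, 1, false), (10, 2, false), (35, 0, false), (29, 6, false), (29, 14, false), (28, 3, false), (10, 3, false), (22, 0, false), (29, 15, true), (35, 5, false), (29, 3, false), (22, 1, false), (18, 0, false), (28, 4, false), (29, 2, false), (10, 0, false), (22, 2, false), (29, 7, false), (35, 14, false), (8, 0, false), (35, 4, false), (35, 1, true), (29, 16, true), (29, 1, false), (11, 3, false), (15, 14, false), (14, 17, false), (15, 3, false), (14, 11, false), (11, 0, false), (44, 10, true), (29, 8, false), (15, 20, false), (11, 1, false), (18, 1, false), (31, 5, false), (15, 18, true), (35, 10, false), (29, 4, false), (34, 23, true), (22, 3, false), (32, 2, true), (15, 15, true), (14, 13, false), (31, 4, false), (15, 0, false), (14, 9, false), (15, 13, false), (14,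 2, false), (15, 5, false), (32, 2, false), (31, 16, true), (15, 7, false), (15, 20, true), (14, 1, false), (30, 14, true), (30, 15, true), (15, 16, true), (14, 6, false), (35, 7, false), (31, 6, false), (31, 3, false), (34, 3, false), (34, 9, true), (37, 32, true), (29, 10, false), (31, 11, false), (31, 18, false), (31, 7, false), (31, 15, false), (29, 5, false), (31, 13, true), (31, 4, true), (31, 8, true), (29, 12, false), (15, 14, true), (39, 39, false), (35, 0, true), (15, 11, false), (36, 2, false), (32, 5, false), (35, 12, true), (32, 15, true), (37, 33, false), (15, 13, true), (11, 2, false), (29, 13, true), (31, 17, true), (31, 15, true), (14, 7, false), (13, 2, false), (15, 2, false), (15, 17, true), (30, 4, false), (14, 16, false), (14, 3, false), (34, 24, true), (14, 14, false), (15, 19, false), (31,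 2, false), (32, 13, true), (15, 5, true), (15, 4, false), (14, 12, false), (14, 10, false), (30, 17, true), (30, 13, true), (14, 18, false), (32, 8, false), (13, 0, false), (30, 6, false), (30, 19, false), (15, 1, false), (30, 13, false), (15, 12, false), (31, 14, true), (32, 12, true), (31, 18, true), (32, 6, false), (30, 7, false), (30, 2, false), (30, 9, false), (30, 1, false), (15, 3, true), (30, 5, false), (14, 5, false), (15, 19, true), (14, 19, false), (14, 4, false), (15, 17, false), (30, 16, true), (30, 11, true), (30, 19, true), (15, 9, true), (14, 8, false), (14, 15, false), (36, 17, true), (29, 9, false), (36, 4, true), (15, 9, false), (34, 22, true), (32, 4, false), (34, 8, false), (30, 10, true), (30, 20, true), (30, 8, false), (38, 15, false), (38, 32, false), (15, 6, false), (35, 10, true), (32,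 16, true), (15, 11, true), (30, 6, true), (30, 10, false), (13, 3, false), (15, 8, false), (13, 1, false), (30, 18, true), (12, 2, true), (14, 0, false), (15, 7, true), (15, 12, true), (15, 8, true), (32, 18, true), (30, 11, false), (15, 0, true), (15, 16, false), (35, 13, false), (36, 14, true), (31, 19, true), (42, 40, false), (30, 3, false), (29, 9, true), (30, 14, false), (12, 2, false), (15, 10, false), (30, 8, true), (30, 12, true), (15, 2, true), (36, 18, true), (31, 14, false), (15, 15, false), (12, 0, true), (34, 18, true), (32, 7, false), (34, 7, false), (12, 0, false), (29, 13, false), (36, 0, true), (29, 10, true), (31, 13, false), (33, 8, false), (34, 1, false), (31, 0, false), (12, 1, true), (36, 13, true), (30, 0, false), (36, 19, true), (15, 18, false), (33, 5, false), (35, 8, false), (35, 13, true),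 (31, 1, false), (29, 5, true), (36, 5, false), (15, 6, true), (29, 2, true), (36, 16, false), (12, 1, false), (32, 14, true), (15, 10, true), (32, 11, true), (36, 12, true), (35, 14, true), (36, 1, false), (36, 23, true), (30, 0, true), (31, 16, false), (36, 12, false), (29, 14, true), (33, 4, false), (36, 7, false), (32, 10, true), (33, 9, false), (34, 13, false), (36, 6, false), (32, 0, true), (32, 1, false), (36, 3, false), (34, 19, true), (30, 2, true), (33, 6, false), (33, 12, false), (32, 10, false), (31, 8, false), (32, 3, false), (33, 2, false), (30, 15, false), (32, 4, true), (34, 5, true), (32, 9, true), (35, 6, true), (36, 13, false), (26, 0, false), (34, 10, false), (34, 21, true), (35, 11, false), (36, 10, true), (35, 9, true), (31, 12, true), (34, 20, true), (34, 14, true), (34, 11, true), (34, 10,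 true), (36, 11, true), (31, 11, true), (29, 15, false), (33, 19, true), (34, 13, true), (36, 5, true), (29, 0, true), (31, 9, true), (33, 18, false), (29, 4, true), (32, 18, false), (32, 9, false), (36, 9, true), (31, 10, false), (31, 5, true), (33, 11, false), (33, 4, true), (34, 14, false), (34, 4, false), (36, 22, true), (24, 2, false), (27, 2, false), (25, 3, false), (34, 2, false), (34, 17, false), (36, 4, false), (36, 15, false), (32, 7, true), (31, 3, true), (32, 19, true), (34, 3, true), (34, 20, false), (36, 14, false), (25, 1, false), (33, 3, false), (36, 18, false), (36, 22, false), (29, 11, true), (34, 16, true), (36, 19, false), (36, 16, true), (31, 12, false), (34, 15, false), (33, 17, false), (27, 3, false), (34, 21, false), (36, 17, false), (26, 2, false), (29, 6, true), (35, 8, true), (30, 17,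 false), (34, 9, false), (29, 0, false), (32, 1, true), (32, 13, false), (33, 0, false), (33, 13, false), (34, 7, true), (34, 12, true), (36, 1, true), (30, 9, true), (31, 17, false), (36, 10, false), (32, 17, false), (26, 1, false), (30, 7, true), (33, 16, false), (34, 17, true), (24, 3, false), (35, 9, false), (35, 4, true), (35, 5, true), (36, 7, true), (34, 11, false), (27, 1, false), (31, 10, true), (33, 7, false), (32, 11, false), (34, 26, true), (31, 1, true), (34, 25, true), (33, 22, false), (32, 17, true), (32, 12, false), (32, 19, false), (34, 0, false), (34, 22, false), (36, 0, false), (25, 2, false), (24, 1, false), (33, 10, false), (33, 11, true), (26, 3, false), (30, 12, false), (36, 20, true), (27, 0, false), (34, 12, false), (33, 16, true), (34, 19, false), (33, 1, false), (36, 21, true), (30, 1,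 true), (33, 15, true), (36, 8, false), (30, 5, true), (33, 15, false), (34, 5, false), (32, 5, true), (34, 16, false), (34, 18, false), (29, 3, true), (34, 23, false), (33, 19, false), (35, 12, false), (33, 8, true), (15, 4, true), (33, 18, true), (36, 15, true), (29, 16, false), (25, 0, false), (33, 14, false), (36, 11, false), (32, 16, false), (33, 20, false), (32, 0, false), (36, 9, false), (36, 8, true), (31, 9, false), (50, 3, false), (36, 3, true), (49, 21, true), (49, 44, true), (45, 24, false), (45, 0, false), (45, 42, true), (45, 23, false), (49, 1, false), (49, 20, true), (45, 19, true), (48, 3, false), (48, 25, true), (49, 22, true), (61, 17, true), (57, 50, true), (61, 33, false), (58, 27, false), (61, 49, true), (58, 28, false), (55, 2, false), (57, 24, false), (57, 51, true), (61, 2, false), (56,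 23, false), (61, 3, false), (61, 34, false), (58, 46, true), (61, 35, false), (60, 51, true), (55, 20, false), (60, 31, false), (45, 41, true), (49, 43, true), (47, 24, false), (60, 52, true), (58, 45, true), (32, 14, false), (56, 3, false), (62, 35, false), (58, 19, true), (61, 48, true), (55, 39, true), (57, 1, false), (46, 23, true), (62, 18, true), (62, 2, false), (45, 18, true), (56, 21, false), (56, 40, true), (59, 29, false), (58, 2, false), (56, 18, true), (57, 23, false), (62, 17, true), (45, 1, false), (49, 24, false), (56, 1, false), (57, 2, false), (55, 3, false), (55, 22, true), (62, 19, true), (62, 36, false), (55, 1, false), (56, 19, true), (61, 32, false), (55, 23, true), (60, 1, false), (56, 2, false), (30, 18, false), (45, 2, false), (60, 2, false), (59, 51, true), (60, 21, true), (61, 50, true),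 (57, 0, true), (61, 0, true), (61, 4, false), (61, 47, true), (56, 22, false), (45, 25, false), (46, 45, true), (46, 1, false), (40, 1, false), (43, 32, false), (38, 25, false), (40, 0, false), (41, 29, false), (37, 20, true), (38, 14, true), (40, 29, false), (41, 15, true), (43, 33, false), (43, 13, true), (38, 26, false), (39, 1, true), (41, 31, false), (41, 0, false), (41, 1, true), (41, 17, true), (42, 1, true), (43, 39, false), (43, 43, true), (37, 40, false), (39, 1, false), (40, 27, false), (42, 32, false), (42, 1, false), (37, 1, false), (38, 0, false), (39, 24, true), (41, 32, false), (43, 14, true), (38, 1, false), (39, 2, false), (40, 28, false), (40, 16, true), (42, 2, false), (43, 0, false), (44, 39, false), (39, 0, false), (44, 37, false), (38, 37, false), (41, 16, true), (42, 23, true), (43, 12,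 true), (37, 2, true), (42, 53, true), (43, 31, false), (37, 23, false), (39, 49, false), (44, 2, false), (37, 0, true), (38, 2, false), (40, 0, true), (42, 31, false), (43, 2, false), (46, 23, false), (58, 29, false), (42, 52, false), (37, 18, true), (44, 21, true), (64, 34, false), (63, 29, false), (41, 30, false), (39, 0, true), (44, 1, false), (37, 24, false), (37, 2, false), (38, 1, true), (44, 0, false), (40, 17, true), (42, 52, true), (43, 13, false), (53, 3, false), (44, 36, false), (54, 41, false), (39, 6, false), (38, 37, true), (38, 15, true), (41, 44, true), (49, 25, false), (53, 4, false), (46, 25, false), (47, 5, false), (47, 22, false), (48, 23, false), (48, 28, false), (48, 26, false), (37, 41, true), (40, 26, false), (40, 2, false), (42, 29, false), (37, 40, true), (39, 49, true), (43, 1, false),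 (47, 1, false), (47, 26, true), (39, 27, false), (41, 2, false), (64, 3, false), (50, 25, true), (37, 0, false), (39, 22, true), (38, 0, true), (41, 2, true), (40, 15, true), (55, 19, false), (37, 35, true), (38, 28, false), (40, 42, true), (42, 53, false), (44, 54, true), (42, 22, true), (31, 6, true), (32, 15, false), (24, 0, false), (37, 25, false), (38, 27, false), (40, 1, true), (41, 18, true), (57, 22, false), (61, 16, true), (37, 26, false), (39, 29, false), (43, 0, true), (56, 20, true), (55, 21, true), (39, 25, false), (42, 0, false), (50, 1, false), (50, 1, true), (50, 21, true), (63, 48, true), (64, 34, true), (50, 2, false), (54, 42, false), (38, 12, true), (40, 14, true), (41, 0, true), (44, 35, false), (44, 33, false), (51, 34, false), (57, 28, true), (59, 4, false), (59, 31, false), (62, 35, true),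 (43, 9, false), (64, 36, true), (37, 13, false), (38, 7, false), (40, 33, false), (38, 36, true), (64, 33, false), (64, 4, false), (49, 2, false), (50, 30, false), (50, 22, true), (52, 2, false), (50, 32, false), (46, 24, false), (65, 17, true), (47, 25, true), (59, 24, true), (43, 11, true), (56, 16, true), (64, 6, true), (41, 1, false), (41, 43, true), (44, 1, true), (48, 0, false), (56, 21, true), (60, 1, true), (61, 0, false), (37, 19, true), (56, 37, true), (58, 21, true), (44, 19, true), (63, 23, true), (69, 39, true), (39, 23, true), (43, 27, true), (51, 21, true), (57, 26, false), (37, 17, true), (42, 24, true), (64, 0, false), (38, 10, false), (41, 12, false), (42, 50, true), (39, 25, true), (48, 1, false), (46, 44, true), (49, 23, false), (47, 25, false), (37, 36, true), (43, 25, false), (43, 1, true),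 (45, 26, false), (62, 0, false), (64, 30, false), (51, 30, false), (62, 37, false), (64, 37, true), (69, 0, false), (70, 22, true), (47, 2, false), (48, 23, true), (49, 30, false), (46, 21, true), (48, 25, false), (54, 39, false), (53, 59, true), (40, 40, false), (58, 44, false), (43, 34, false), (45, 40, true), (55, 25, true), (47, 23, false), (38, 13, true), (62, 25, false), (34, 8, true), (39, 36, false), (41, 42, true), (67, 31, true), (40, 18, true), (44, 20, true), (46, 0, false), (42, 0, true), (48, 24, false), (71, 56, true), (59, 52, true), (65, 15, true), (60, 3, false), (51, 50, true), (43, 2, true), (52, 25, false), (59, 26, false), (63, 21, true), (50, 20, true), (59, 1, false), (61, 15, true), (64, 0, true), (51, 31, false), (43, 43, false), (57, 52, true), (58, 1, false), (51, 48, true), (60, 22,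 true), (37, 5, false), (39, 28, false), (41, 27, false), (64, 37, false), (54, 59, true), (47, 0, false), (50, 48, true), (54, 23, true), (48, 48, true), (68, 18, true), (52, 3, false), (51, 19, true), (62, 3, false), (56, 38, true), (58, 43, true), (60, 0, false), (45, 9, false), (71, 1, false), (60, 49, true), (57, 51, false), (65, 49, true), (39, 3, false), (50, 0, true), (65, 0, true), (66, 30, false), (44, 54, false), (52, 25, true), (61, 1, true), (38, 35, true), (64, 7, true), (66, 37, false), (42, 16, true), (49, 0, false), (70, 33, false), (63, 46, true), (65, 0, false), (57, 3, false), (43, 37, false), (33, 13, true), (51, 22, true), (51, 35, false), (60, 30, false), (52, 34, false), (42, 50, false), (64, 35, false), (57, 19, false), (41, 13, true), (64, 4, true), (34, 4, true), (37, 34, true), (69, 33,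 false), (49, 42, true), (58, 18, true), (38, 12, false), (48, 2, false), (48, 20, true), (44, 42, false), (46, 0, true), (47, 48, true), (60, 20, true), (62, 50, true), (40, 42, false), (58, 3, false), (62, 51, true), (66, 20, true), (64, 31, false), (59, 32, false), (62, 1, false), (15, 1, true), (61, 20, true), (40, 13, true), (50, 28, false), (41, 3, false), (51, 20, true), (53, 38, false), (65, 50, true), (48, 46, true), (53, 26, true), (47, 24, true), (37, 22, true), (53, 62, true), (53, 61, true), (49, 19, true), (48, 24, true), (56, 20, false), (44, 38, false), (44, 3, true), (37, 16, true), (41, 12, true), (39, 48, true), (57, 25, false), (42, 30, false), (69, 44, false), (52, 33, false), (59, 22, true), (65, 52, true), (65, 2, false), (65, 51, true), (54, 1, false), (64, 2, false), (48, 47, true), (52,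 0, true), (66, 9, false), (63, 47, true), (69, 11, true), (46, 27, false), (48, 48, false), (48, 22, true), (50, 49, true), (65, 36, false), (66, 25, true), (50, 29, false), (46, 1, true), (65, 35, false), (66, 21, true), (45, 22, false), (51, 33, false), (65, 3, false), (53, 23, true), (46, 46, true), (52, 26, true), (55, 38, true), (63, 2, false), (64, 8, true), (50, 50, true), (54, 3, false), (51, 2, false), (53, 39, false), (51, 49, true), (52, 35, false), (64, 3, true), (59, 23, true), (60, 19, true), (64, 1, false), (63, 20, true), (65, 1, false), (63, 19, true), (30, 16, false), (54, 40, false), (53, 2, false), (59, 2, false), (51, 3, false), (63, 31, false), (64, 32, false), (43, 9, true), (54, 2, false), (52, 58, true), (54, 0, false), (60, 50, true), (51, 1, false), (63, 3, false), (48, 0, true), (67,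 27, true), (46, 3, false), (71, 6, false), (56, 35, false), (52, 1, false), (37, 30, false), (63, 49, true), (63, 13, true), (61, 18, true), (63, 30, false), (67, 59, true), (67, 32, false), (69, 5, false), (67, 3, false), (63, 5, false), (48, 26, true), (46, 22, true), (67, 26, true), (52, 57, true), (57, 27, true), (59, 30, false), (56, 39, true), (59, 49, true), (68, 4, false), (54, 38, false), (68, 21, true), (65, 37, false), (68, 6, false), (54, 60, true), (59, 50, true), (62, 22, true), (54, 22, true), (58, 44, true), (38, 27, true), (65, 16, true), (45, 3, false), (64, 36, false), (66, 34, false), (64, 35, true), (52, 55, true), (64, 1, true), (54, 61, true), (61, 46, true), (63, 1, false), (68, 3, false), (69, 43, false), (50, 31, false), (48, 4, false), (61, 1, false), (54, 4, false), (67, 28, true), (67,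 4, false), (67, 34, false), (45, 0, true), (55, 40, true), (55, 41, true), (49, 3, false), (53, 36, false), (52, 56, true), (67, 57, true), (70, 25, true), (70, 38, false), (57, 29, true), (63, 32, false), (65, 38, false), (69, 41, false), (65, 18, true), (60, 32, false), (30, 20, false), (57, 30, true), (52, 28, true), (69, 3, true), (55, 18, false), (66, 24, true), (53, 24, true), (66, 3, false), (69, 45, false), (68, 24, true), (68, 32, false), (50, 23, true), (64, 5, true), (53, 60, true), (63, 0, false), (59, 28, false), (71, 34, false), (69, 3, false), (70, 26, true), (66, 33, false), (69, 35, false), (69, 42, false), (38, 17, true), (43, 10, true), (72, 12, false), (55, 34, true), (66, 23, true), (70, 37, false), (66, 52, true), (71, 27, true), (41, 5, true), (55, 21, false), (38, 7, true), (57, 0, false),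 (70, 55, true), (66, 4, false), (41, 8, true), (44, 27, true), (66, 0, false), (61, 31, false), (61, 45, true), (51, 32, false), (52, 23, true), (66, 35, false), (44, 30, false), (38, 18, true), (43, 7, true), (39, 10, false), (43, 8, true), (38, 21, false), (41, 6, true), (56, 12, false), (38, 35, false), (67, 1, false), (39, 27, true), (38, 4, true), (43, 41, false), (39, 23, false), (38, 8, false), (41, 11, true), (40, 25, false), (37, 7, false), (42, 13, false), (40, 3, false), (40, 40, true), (43, 42, false), (29, 11, false), (44, 44, false), (41, 40, false), (68, 19, true), (38, 11, true), (57, 14, false), (38, 16, false), (66, 32, false), (55, 36, true), (44, 5, true), (63, 5, true), (67, 37, false), (40, 37, false), (63, 46, false), (59, 21, true), (63, 43, false), (55, 31, true), (41, 14, true), (41, 29,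 true), (43, 42, true), (35, 2, true), (62, 7, true), (40, 34, false), (51, 25, false), (37, 35, false), (55, 4, false), (61, 30, false), (37, 18, false), (36, 21, false), (40, 9, true), (56, 40, false), (43, 36, false), (40, 31, false), (40, 11, true), (40, 2, true), (32, 3, true), (38, 33, false), (40, 36, false), (40, 39, false), (37, 41, false), (35, 11, true), (54, 54, false), (37, 6, true), (42, 11, true), (39, 21, true), (40, 20, true), (40, 35, true), (50, 4, true), (66, 50, true), (42, 9, false), (43, 26, false), (63, 36, false), (37, 39, true), (44, 52, true), (50, 24, false), (44, 34, false), (41, 8, false), (42, 15, true), (37, 25, true), (43, 12, false), (56, 18, false), (55, 10, false), (38, 9, false), (38, 9, true), (39, 46, false), (44, 4, false), (45, 36, true), (37, 23, true), (42, 7, false), (37,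 11, false), (40, 31, true), (40, 26, true), (46, 26, true), (49, 14, true), (31, 7, true), (42, 36, false), (43, 20, false), (49, 15, true), (34, 15, true), (39, 43, true), (41, 17, false), (47, 27, true), (42, 10, true), (29, 7, true), (42, 49, false), (42, 7, true), (40, 33, true), (48, 13, false), (62, 5, false), (64, 8, false), (29, 8, true), (31, 19, false), (36, 20, false), (38, 30, false), (38, 10, true), (60, 40, false), (37, 8, false), (51, 10, true), (58, 0, false), (53, 37, false), (37, 1, true), (71, 0, false), (44, 40, false), (51, 47, false), (37, 27, true), (42, 15, false), (71, 9, true), (40, 35, false), (42, 11, false), (59, 38, false), (65, 34, false), (63, 18, false), (63, 44, true), (37, 14, false), (37, 22, false), (65, 39, false), (37, 31, false), (69, 32, false), (49, 36, false), (49, 27,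 false), (41, 11, false), (43, 35, false), (50, 16, true), (74, 5, false), (50, 0, false), (53, 15, true), (75, 7, false), (56, 22, true), (39, 8, false), (51, 18, true), (46, 2, false), (37, 34, false), (39, 12, false), (47, 47, true), (73, 2, false), (71, 31, false), (58, 0, true), (50, 2, true), (63, 0, true), (62, 52, true), (65, 4, false), (74, 14, false), (66, 6, false), (68, 23, true), (58, 20, true), (56, 0, false), (66, 54, true), (48, 1, true), (72, 17, false), (73, 17, false), (46, 19, false), (75, 24, true), (47, 26, false), (75, 6, false), (75, 39, true), (67, 25, true), (68, 34, false), (38, 6, true), (72, 7, false), (74, 17, false), (46, 30, false), (52, 24, true), (73, 38, true), (52, 32, false), (67, 56, true), (63, 28, false), (74, 6, false), (57, 31, true), (50, 51, true), (53, 25, true), (73,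 5, false), (73, 18, true), (53, 1, false), (45, 17, true), (72, 18, false), (52, 36, false), (62, 34, false), (74, 7, false), (67, 35, false), (73, 18, false), (55, 17, false), (43, 3, true), (68, 5, false), (67, 2, false), (38, 29, false), (70, 36, false), (38, 8, true), (72, 26, true), (72, 1, false), (66, 36, false), (38, 2, true), (38, 36, false), (74, 27, true), (72, 30, true), (73, 21, true), (76, 6, false), (73, 19, true), (73, 21, false), (73, 20, false), (67, 33, false), (72, 25, true), (73, 7, false), (72, 21, false), (74, 37, true), (67, 5, false), (73, 26, true), (66, 5, false), (73, 14, false), (38, 5, true), (73, 6, false), (40, 12, true), (68, 33, false), (74, 10, false), (74, 16, false), (61, 43, false), (67, 55, true), (72, 4, false), (38, 34, false), (74, 22, true), (76, 7, false), (60, 17, true),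 (37, 9, false), (66, 22, true), (72, 3, false), (72, 10, false), (73, 10, false), (41, 33, false), (73, 28, true), (67, 36, false), (66, 2, false), (44, 20, false), (44, 13, false), (43, 6, true), (40, 19, true), (56, 34, false), (63, 49, false), (37, 7, true), (55, 12, false), (73, 13, false), (69, 4, false), (72, 28, true), (68, 35, false), (74, 15, false), (74, 26, true), (73, 29, true), (66, 53, true), (74, 33, true), (40, 8, true), (41, 3, true), (44, 41, false), (66, 56, true), (41, 7, true), (43, 38, false), (69, 17, false), (55, 37, true), (41, 9, true), (68, 22, true), (55, 14, false), (69, 40, false), (67, 8, false), (43, 4, true), (73, 22, false), (75, 42, true), (73, 35, true), (73, 4, false), (41, 4, true), (45, 31, false), (73, 27, true), (72, 6, false), (73, 32, true), (76, 12, false), (43, 40, false),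 (74, 29, true), (66, 57, true), (74, 21, false), (61, 4, true), (68, 52, true), (43, 27, false), (74, 23, true), (63, 33, false), (38, 24, false), (76, 20, false), (76, 42, true), (76, 23, false), (75, 3, false), (41, 39, false), (70, 4, false), (51, 36, false), (40, 41, true), (73, 16, false), (66, 31, false), (72, 14, false), (75, 18, false), (44, 14, false), (40, 39, true), (62, 40, false), (63, 44, false), (62, 13, true), (68, 12, true), (37, 37, false), (42, 17, true), (45, 13, true), (54, 16, true), (45, 42, false), (70, 10, false), (40, 3, true), (41, 34, false), (40, 38, true), (66, 1, false), (38, 29, true), (39, 39, true), (44, 17, true), (45, 9, true), (56, 0, true), (60, 16, true), (63, 10, true), (75, 25, false), (39, 42, true), (59, 2, true), (39, 13, false), (55, 15, false), (38, 3, true), (72, 16,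 false), (38, 31, true), (63, 7, true), (72, 38, true), (44, 40, true), (63, 34, false), (74, 35, true), (61, 41, false), (45, 26, true), (71, 40, false), (62, 45, false), (41, 42, false), (53, 11, true), (51, 15, true), (29, 1, true), (57, 47, false), (75, 32, true), (59, 34, false), (39, 46, true), (39, 7, false), (69, 12, false), (54, 21, true), (41, 4, false), (40, 38, false), (61, 43, true), (63, 39, false), (40, 22, false), (38, 23, false), (63, 15, true), (41, 35, false), (76, 26, false), (73, 22, true), (74, 9, false), (41, 37, false), (56, 6, false), (55, 0, false), (56, 4, false), (47, 19, true), (62, 5, true), (61, 44, false), (61, 24, true), (74, 18, false), (72, 20, false), (60, 11, false), (44, 31, false), (67, 43, false), (39, 19, false), (44, 53, true), (37, 26, true), (57, 17, false), (71, 47, true),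 (66, 10, false), (38, 20, true), (38, 22, true), (61, 40, false), (38, 6, false), (57, 43, true), (40, 34, true), (47, 21, false), (44, 48, false), (57, 11, false), (68, 46, true), (37, 28, true), (61, 39, true), (55, 26, true), (40, 10, true), (39, 38, false), (56, 23, true), (57, 32, true), (75, 24, false), (55, 16, false), (72, 9, false), (38, 22, false), (33, 17, true), (70, 42, false), (51, 0, false), (56, 36, false), (55, 16, true), (60, 38, false), (40, 5, true), (49, 20, false), (47, 30, false), (68, 25, false), (37, 36, false), (61, 21, true), (39, 35, false), (51, 49, false), (61, 14, true), (69, 38, false), (73, 39, true), (56, 34, true), (40, 41, false), (40, 30, false), (67, 31, false), (52, 22, true), (74, 21, true), (76, 27, true), (61, 36, false), (55, 20, true), (48, 30, false), (37, 10, false),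 (37, 13, true), (67, 23, true), (37, 33, true), (43, 6, false), (72, 5, false), (75, 22, false), (75, 11, false), (72, 8, false), (39, 47, true), (57, 21, false), (41, 36, false), (44, 11, true), (66, 28, true), (71, 43, false), (41, 44, false), (66, 47, true), (51, 14, true), (75, 33, true), (37, 38, true), (71, 54, false), (50, 5, true), (44, 4, true), (43, 11, false), (65, 8, true), (40, 9, false), (64, 31, true), (63, 16, true), (42, 38, false), (39, 18, true), (61, 16, false), (41, 20, true), (39, 42, false), (41, 36, true), (63, 37, false), (74, 11, false), (59, 25, true), (41, 18, false), (70, 6, false), (72, 40, true), (61, 5, false), (41, 38, false), (33, 12, true), (50, 34, false), (62, 38, false), (37, 21, false), (39, 41, true), (65, 41, false), (44, 43, false), (73, 37, true), (39, 11, false), (58,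 30, true), (60, 4, true), (58, 15, true), (68, 1, true), (49, 11, true), (51, 20, false), (46, 26, false), (63, 38, false), (47, 41, true), (68, 9, false), (67, 21, true), (58, 11, true), (66, 14, true), (42, 13, true), (57, 18, true), (57, 49, true), (62, 9, true), (40, 10, false), (38, 19, false), (41, 13, false), (30, 4, true), (65, 12, true), (76, 36, true), (73, 25, true), (76, 32, true), (71, 52, true), (68, 47, true), (49, 40, false), (53, 17, true), (59, 33, false), (67, 41, false), (61, 45, false), (75, 21, false), (41, 37, true), (52, 41, true), (62, 15, true), (73, 34, true), (76, 21, false), (74, 2, false), (47, 37, true), (60, 43, false), (67, 24, true), (72, 19, false), (62, 53, true), (49, 13, true), (63, 35, false), (40, 24, true), (45, 20, false), (39, 44, false), (60, 8, true), (44, 16, true),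 (45, 15, true), (58, 14, false), (58, 6, true), (45, 27, false), (37, 39, false), (44, 32, false), (62, 52, false), (43, 19, true), (63, 1, true), (39, 31, true), (61, 19, true), (68, 48, false), (42, 23, false), (72, 22, true), (44, 13, true), (33, 14, true), (62, 8, true), (41, 41, false), (61, 8, true), (76, 45, true), (68, 39, false), (43, 30, false), (60, 35, false), (37, 17, false), (66, 51, true), (39, 44, true), (39, 30, true), (37, 28, false), (46, 32, false), (75, 20, true), (40, 32, false), (40, 6, false), (65, 2, true), (37, 6, false), (66, 7, true), (37, 20, false), (60, 5, false), (60, 48, true), (59, 27, false), (73, 30, true), (72, 32, true), (43, 31, true), (49, 26, false), (35, 7, true), (65, 6, true), (42, 35, true), (74, 40, true), (32, 8, true), (61, 48, false), (74, 3, false), (76, 46, true),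 (74, 36, true), (76, 37, true), (73, 24, true), (76, 48, true), (50, 36, false), (68, 40, false), (37, 15, false), (39, 10, true), (43, 28, false), (41, 22, true), (56, 6, true), (68, 50, false), (65, 10, true), (33, 21, false), (71, 50, true), (42, 48, false), (65, 45, false), (72, 13, false), (73, 36, true), (33, 10, true), (68, 19, false), (69, 21, false), (60, 41, false), (74, 41, true), (47, 27, false), (58, 32, false), (61, 12, true), (37, 12, true), (58, 16, true), (60, 37, false), (76, 17, false), (38, 21, true), (66, 49, true), (63, 11, false), (63, 25, false), (46, 18, true), (58, 31, false), (57, 39, true), (71, 11, false), (73, 9, false), (62, 41, false), (70, 59, true), (42, 20, false), (39, 21, false), (58, 17, true), (40, 4, true), (58, 8, true), (56, 17, true), (68, 30, true), (59, 0, true), (60,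 37, true), (52, 39, false), (55, 7, false), (72, 21, true), (67, 12, true), (44, 45, false), (34, 6, false), (37, 29, false), (49, 29, true), (37, 15, true), (69, 27, true), (65, 42, false), (56, 29, false), (39, 20, false), (56, 11, false), (39, 26, false), (52, 9, true), (68, 36, false), (55, 15, true), (74, 8, false), (50, 7, true), (63, 14, true), (55, 35, true), (70, 59, false), (44, 11, false), (71, 7, false), (53, 50, false), (54, 19, true), (69, 39, false), (75, 43, true), (73, 23, true), (71, 31, true), (49, 17, false), (71, 33, true), (48, 20, false), (58, 29, true), (43, 38, true), (52, 5, false), (67, 53, false), (62, 6, true), (56, 36, true), (71, 15, false), (61, 39, false), (37, 21, true), (42, 18, true), (57, 35, false), (75, 25, true), (42, 25, false), (49, 3, true), (49, 17, true), (72, 24, true),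 (65, 43, false), (55, 1, true), (69, 6, false), (37, 27, false), (69, 46, false), (67, 45, true), (48, 18, false), (66, 48, true), (66, 38, false), (68, 37, false), (65, 25, true), (39, 20, true), (54, 20, true), (45, 20, true), (30, 3, true), (66, 1, true), (47, 45, true), (74, 38, true), (68, 46, false), (58, 10, true), (75, 19, true), (55, 29, false), (70, 32, false), (72, 39, true), (76, 33, true), (51, 51, true), (71, 18, true), (57, 36, true), (76, 26, true), (39, 16, false), (68, 6, true), (69, 19, true), (61, 11, true), (75, 0, false), (68, 17, true), (42, 12, true), (70, 34, false), (56, 27, true), (44, 46, false), (62, 16, true), (50, 21, false), (75, 12, false), (39, 2, true), (74, 30, true), (66, 44, false), (74, 19, false), (69, 38, true), (58, 27, true), (62, 48, true), (54, 49, false), (66, 28, false),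 (73, 33, true), (73, 1, false), (74, 39, true), (68, 0, false), (59, 12, false), (58, 38, false), (49, 15, false), (58, 12, true), (39, 33, false), (46, 22, false), (73, 25, false), (63, 32, true), (52, 0, false), (76, 44, true), (45, 22, true), (76, 3, false), (72, 23, true), (68, 16, true), (63, 12, true), (67, 52, true), (64, 14, false), (57, 4, false), (57, 8, false), (47, 4, false), (72, 8, true), (74, 34, true), (71, 39, true), (72, 15, false), (60, 4, false), (75, 29, false), (64, 27, true), (73, 19, false), (48, 5, false), (37, 11, true), (72, 36, true), (76, 24, true), (72, 35, true), (71, 54, true), (66, 27, true), (44, 22, true), (52, 27, true), (59, 3, false), (73, 3, false), (71, 29, true), (31, 0, true), (58, 33, false), (76, 28, true), (54, 58, true), (58, 26, false), (72, 22, false), (73, 40, false),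 (39, 38, true), (49, 40, true), (39, 15, true), (42, 47, true), (41, 28, false), (59, 20, true), (58, 4, false), (56, 26, false), (62, 11, true), (75, 40, true), (67, 56, false), (42, 14, true), (67, 17, true), (75, 5, false), (39, 28, true), (33, 6, true), (43, 29, false), (65, 46, false), (72, 37, true), (58, 7, false), (49, 23, true), (76, 18, false), (62, 0, true), (76, 16, false), (75, 8, false), (71, 32, false), (37, 32, false), (50, 12, true), (58, 16, false), (70, 28, true), (59, 37, false), (39, 8, true), (46, 42, true), (74, 25, true), (37, 30, true), (61, 10, true), (66, 43, false), (72, 27, true), (47, 49, true), (63, 6, true), (50, 46, true), (57, 29, false), (60, 33, false), (34, 2, true), (75, 20, false), (75, 38, true), (72, 19, true), (68, 41, false), (73, 15, false), (46, 31, false), (71, 4, false),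 (59, 18, false), (55, 11, true), (58, 23, false), (44, 18, true), (51, 48, false), (69, 1, false), (52, 42, false), (76, 13, false), (74, 4, false), (70, 24, true), (54, 61, false), (40, 15, false), (48, 10, false), (71, 3, false), (72, 2, false), (39, 9, true), (69, 41, true), (47, 9, true), (31, 2, true), (75, 22, true), (73, 17, true), (59, 0, false), (52, 4, false), (75, 23, true), (62, 4, false), (64, 33, true), (76, 22, false), (39, 14, true), (76, 43, true), (40, 17, false), (50, 17, true), (49, 38, true), (63, 18, true), (52, 45, false), (72, 41, true), (51, 37, false), (72, 23, false), (38, 20, false), (47, 10, false), (55, 6, false), (67, 37, true), (47, 48, false), (45, 15, false), (66, 26, true), (74, 20, false), (40, 32, true), (53, 0, false), (52, 18, true), (56, 10, true), (40, 37, true), (70, 19,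 true), (44, 53, false), (45, 29, false), (36, 23, false), (73, 0, true), (76, 21, true), (68, 48, true), (70, 1, false), (46, 3, true), (76, 48, false), (57, 45, true), (76, 2, false), (56, 29, true), (55, 32, true), (56, 5, false), (75, 26, false), (67, 7, false), (65, 47, false), (48, 44, true), (68, 25, true), (67, 29, true), (70, 27, true), (62, 10, true), (71, 36, false), (70, 50, false), (70, 5, true), (53, 58, true), (76, 35, true), (56, 14, false), (41, 5, false), (74, 28, true), (48, 8, true), (69, 7, false), (51, 39, false), (57, 48, true), (69, 15, true), (68, 20, false), (75, 27, false), (48, 34, true), (39, 24, false), (74, 22, false), (68, 53, true), (75, 18, true), (76, 29, true), (47, 42, true), (51, 5, false), (75, 44, true), (76, 25, false), (49, 22, false), (63, 22, true), (44, 7, true), (68,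 51, true), (74, 13, true), (42, 37, false), (69, 36, false), (70, 40, false), (55, 5, false), (61, 42, false), (56, 35, true), (33, 20, true), (73, 40, true), (74, 24, true), (73, 20, true), (63, 45, true), (71, 17, true), (74, 13, false), (75, 13, false), (33, 22, true), (75, 4, false), (60, 19, false), (59, 13, false), (44, 51, false), (69, 2, true), (62, 38, true), (62, 20, true), (74, 31, true), (66, 55, true), (70, 2, false), (74, 1, false), (42, 39, false), (40, 5, false), (71, 58, true), (71, 8, false), (71, 38, false), (75, 13, true), (71, 57, true), (53, 46, false), (76, 0, false), (51, 4, false), (56, 30, false), (46, 21, false), (62, 43, false), (49, 5, false), (66, 7, false), (75, 41, true), (37, 16, false), (73, 24, false), (66, 11, false), (46, 37, false), (66, 12, false), (76, 5, false), (62, 42,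 true), (71, 61, true), (51, 0, true), (57, 33, true), (45, 4, false), (46, 12, false), (50, 24, true), (75, 21, true), (55, 24, true), (50, 13, true), (71, 33, false), (52, 40, false), (44, 0, true), (69, 6, true), (76, 24, false), (46, 20, true), (71, 19, true), (40, 23, false), (68, 1, false), (58, 21, false), (58, 25, false), (54, 0, true), (69, 37, false), (70, 3, false), (51, 40, false), (48, 6, false), (63, 4, false), (65, 19, true), (74, 20, true), (61, 5, true), (70, 53, true), (72, 20, true), (58, 43, false), (58, 18, false), (65, 11, true), (60, 12, true), (66, 14, false), (49, 8, true), (71, 30, true), (38, 28, true), (71, 35, false), (56, 24, false), (71, 25, true), (75, 45, true), (52, 47, false), (48, 43, true), (69, 7, true), (39, 9, false), (71, 59, true), (45, 8, true), (45, 28, false), (73, 16,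 true), (69, 2, false), (60, 23, true), (65, 33, false), (58, 6, false), (68, 7, false), (49, 16, false), (41, 43, false), (70, 5, false), (75, 23, false), (75, 31, true), (71, 26, true), (72, 33, true), (67, 58, true), (48, 15, false), (65, 48, false), (67, 6, false), (76, 1, false), (74, 12, false), (69, 34, false), (56, 24, true), (74, 42, true), (39, 22, false), (40, 6, true), (40, 24, false), (68, 49, true), (58, 36, false), (60, 0, true), (62, 3, true), (56, 14, true), (56, 28, true), (51, 17, true), (68, 42, false), (51, 26, false), (53, 35, false), (73, 8, false), (66, 0, true), (40, 8, false), (73, 14, true), (70, 7, false), (63, 38, true), (45, 16, true), (71, 5, false), (74, 23, false), (75, 17, false), (70, 56, true), (56, 38, false), (70, 58, true), (65, 7, true), (51, 29, false), (47, 35, false), (61,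 2, true), (62, 50, false), (67, 30, false), (62, 4, true), (51, 19, false), (72, 29, true), (76, 38, true), (68, 20, true), (47, 3, false), (61, 50, false), (59, 46, true), (69, 5, true), (75, 26, true), (51, 51, false), (38, 18, false), (76, 30, true), (75, 16, false), (75, 36, true), (72, 11, false), (64, 19, false), (68, 50, true), (56, 30, true), (72, 31, true), (55, 22, false), (46, 6, false), (61, 12, false), (68, 2, false), (45, 41, false), (75, 19, false), (57, 38, true), (68, 51, false), (74, 32, true), (62, 2, true), (49, 4, true), (45, 35, false), (76, 11, false), (53, 0, true), (46, 16, false), (43, 19, false), (44, 50, false), (58, 3, true), (49, 18, true), (57, 12, false), (73, 23, false), (51, 41, false), (55, 8, false), (76, 8, false), (62, 1, true), (68, 30, false), (61, 3, true), (63, 3, true),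 (71, 60, true), (49, 1, true), (64, 12, false), (51, 7, false), (40, 30, true), (51, 47, true), (48, 40, true), (54, 47, false), (39, 26, true), (70, 47, false), (67, 18, true), (75, 9, false), (60, 29, false), (61, 7, true), (38, 19, true), (66, 18, true), (50, 38, false), (76, 15, false), (46, 25, true), (45, 32, true), (45, 23, true), (76, 39, true), (59, 16, true), (62, 44, false), (42, 5, true), (37, 12, false), (70, 28, false), (42, 19, true), (66, 10, true), (54, 7, true), (73, 11, false), (49, 24, true), (56, 31, false), (68, 13, true), (57, 46, true), (69, 1, true), (46, 36, true), (61, 38, false), (43, 5, false), (53, 16, true), (65, 51, false), (46, 28, true), (68, 34, true), (59, 8, true), (73, 12, false), (60, 24, true), (75, 27, true), (57, 18, false), (49, 31, false), (47, 6, true), (37, 3, false),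 (60, 28, false), (52, 22, false), (58, 37, false), (48, 37, true), (75, 34, true), (39, 16, true), (74, 26, false), (42, 8, true), (44, 10, false), (70, 31, true), (49, 7, true), (50, 4, false), (66, 16, true), (63, 9, false), (44, 12, true), (55, 30, false), (76, 19, false), (65, 13, true), (61, 13, true), (61, 22, false), (63, 45, false), (46, 43, true), (42, 45, false), (37, 9, true), (66, 8, true), (47, 8, true), (49, 19, false), (45, 14, false), (53, 33, false), (76, 4, false), (38, 30, true), (44, 51, true), (76, 40, true), (75, 14, false), (76, 18, true), (49, 2, true), (72, 29, false), (47, 13, false), (50, 33, false), (75, 11, true), (73, 6, true), (63, 8, true), (76, 25, true), (62, 53, false), (59, 41, false), (53, 45, false), (59, 51, false), (44, 2, true), (75, 15, false), (72, 12, true), (58, 4, true),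 (59, 18, true), (70, 57, false), (37, 14, true), (49, 33, false), (42, 42, true), (46, 17, true), (75, 2, false), (56, 5, true), (59, 5, false), (55, 10, true), (70, 30, true), (48, 40, false), (76, 47, true), (45, 12, true), (68, 54, false), (51, 13, false), (76, 41, true), (53, 60, false), (53, 57, false), (44, 19, false), (61, 21, false), (44, 48, true), (76, 40, false), (50, 49, false), (50, 47, false), (62, 51, false), (65, 44, false), (39, 3, true), (76, 10, false), (59, 45, true), (45, 2, true), (46, 11, false), (70, 39, false), (37, 8, true), (63, 47, false), (41, 40, true), (73, 31, true), (62, 23, true), (76, 31, true), (55, 29, true), (33, 9, true), (34, 26, false), (38, 11, false), (51, 13, true), (64, 24, false), (69, 30, true), (69, 18, false), (46, 24, true), (59, 11, true), (72, 41, false), (76,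 43, false), (64, 28, false), (73, 27, false), (59, 42, true), (76, 28, false), (74, 2, true), (48, 2, true), (53, 9, false), (56, 11, true), (71, 10, false), (46, 4, false), (74, 40, false), (67, 53, true), (76, 14, false), (37, 31, true), (60, 48, false), (72, 42, true), (68, 55, false), (63, 42, true), (59, 15, true), (57, 7, false), (43, 41, true), (73, 8, true), (67, 44, false), (54, 59, false), (44, 39, true), (61, 6, true), (46, 9, false), (58, 34, false), (68, 44, true), (74, 14, true), (75, 28, false), (72, 1, true), (70, 8, false), (48, 7, false), (37, 3, true), (46, 39, true), (66, 53, false), (58, 12, false), (44, 12, false), (37, 38, false), (73, 10, true), (74, 12, true), (74, 24, false), (44, 7, false), (55, 34, false), (66, 48, false), (72, 34, true), (37, 4, true), (66, 11, true), (58, 1, true),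 (68, 0, true), (45, 38, true), (58, 9, true), (45, 19, false), (49, 43, false), (56, 10, false), (62, 14, false), (58, 39, false), (45, 10, false), (63, 17, true), (58, 14, true), (51, 43, false), (58, 46, false), (45, 11, true), (45, 38, false), (56, 12, true), (49, 32, false), (75, 9, true), (68, 14, true), (75, 1, false), (48, 9, true), (43, 4, false), (58, 13, true), (45, 7, false), (44, 14, true), (68, 45, false), (63, 4, true), (73, 15, true), (54, 57, false), (67, 12, false), (46, 14, false), (49, 18, false), (70, 45, true), (51, 12, true), (44, 49, false), (45, 4, true), (75, 30, true), (67, 54, true), (50, 11, true), (47, 35, true), (47, 43, true), (63, 40, false), (39, 17, true), (39, 33, true), (37, 10, true), (39, 40, false), (75, 35, true), (73, 0, false), (68, 11, false), (74, 31, false), (68, 7,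 true), (66, 13, true), (63, 34, true), (46, 34, false), (66, 45, false), (69, 16, true), (40, 18, false), (47, 28, true), (69, 36, true), (45, 34, true), (67, 0, false), (63, 11, true), (59, 19, true), (58, 36, true), (48, 12, false), (50, 27, false), (75, 43, false), (67, 14, true), (51, 44, false), (56, 28, false), (39, 29, true), (65, 40, false), (48, 17, true), (73, 3, true), (75, 28, true), (48, 8, false), (56, 7, true), (56, 27, false), (68, 4, true), (67, 27, false), (70, 11, false), (45, 32, false), (65, 24, true), (55, 27, true), (47, 38, false), (54, 15, true), (42, 18, false), (70, 32, true), (70, 14, true), (47, 17, true), (39, 32, true), (50, 14, true), (65, 14, true), (58, 41, false), (37, 19, false), (45, 11, false), (60, 34, false), (41, 20, false), (41, 23, false), (68, 55, true), (47, 38, true),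 (67, 2, true), (60, 39, true), (61, 37, false), (71, 22, true), (54, 50, false), (45, 24, true), (76, 9, false), (70, 0, false), (46, 13, false), (71, 39, false), (54, 43, true), (47, 19, false), (67, 20, true), (44, 52, false), (64, 24, true), (45, 6, false), (58, 17, false), (55, 28, false), (42, 26, false), (72, 28, false), (75, 29, true), (74, 33, false), (63, 2, true), (65, 4, true), (38, 17, false), (55, 12, true), (53, 19, true), (48, 42, true), (50, 18, false), (68, 8, true), (66, 45, true), (73, 38, false), (50, 6, true), (64, 9, true), (48, 33, true), (53, 57, true), (45, 8, false), (54, 16, false), (54, 56, false), (58, 35, false), (59, 7, false), (75, 45, false), (44, 29, false), (75, 12, true), (47, 39, true), (48, 17, false), (60, 5, true), (61, 9, false), (54, 9, false), (71, 49, true), (68, 8, false),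 (66, 5, true), (69, 10, false), (65, 9, true), (49, 4, false), (56, 3, true), (51, 16, true), (43, 8, false), (65, 9, false), (75, 15, true), (42, 9, true), (49, 31, true), (42, 19, false), (55, 25, false), (58, 39, true), (70, 46, true), (71, 9, false), (71, 35, true), (61, 46, false), (58, 42, true), (44, 47, false), (73, 28, false), (49, 6, true), (60, 13, false), (47, 30, true), (70, 44, false), (50, 22, false), (53, 43, false), (66, 8, false), (57, 19, true), (56, 19, false), (33, 5, true), (55, 33, true), (74, 17, true), (74, 0, false), (38, 34, true), (71, 62, true), (39, 11, true), (51, 24, false), (46, 14, true), (67, 16, true), (39, 19, true), (41, 19, false), (59, 43, false), (56, 37, false), (62, 39, false), (61, 29, false), (75, 33, false), (70, 23, true), (43, 22, false), (51, 9, true), (47, 12, false),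 (72, 11, true), (57, 44, false), (72, 6, true), (57, 32, false), (38, 16, true), (66, 42, false), (67, 1, true), (71, 23, true), (39, 17, false), (71, 61, false), (58, 31, true), (47, 14, false), (73, 26, false), (49, 25, true), (41, 41, true), (59, 17, true), (58, 10, false), (60, 7, true), (51, 3, true), (65, 48, true), (46, 10, false), (59, 26, true), (67, 46, false), (39, 41, false), (47, 8, false), (73, 1, true), (50, 9, false), (55, 39, false), (71, 53, true), (46, 40, true), (49, 10, false), (54, 41, true), (60, 45, false), (67, 21, false), (37, 24, true), (64, 26, false), (47, 36, false), (49, 41, true), (65, 5, true), (49, 30, true), (68, 54, true), (57, 23, true), (43, 36, true), (46, 12, true), (59, 1, true), (39, 34, false), (59, 52, false), (72, 15, true), (56, 33, false), (70, 29, true), (62, 49,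 false), (33, 3, true), (50, 37, false), (60, 6, false), (65, 40, true), (45, 10, true), (60, 14, true), (73, 39, false), (61, 6, false), (69, 22, true), (75, 37, true), (50, 7, false), (70, 37, true), (76, 47, false), (49, 9, true), (45, 31, true), (48, 9, false), (42, 24, false), (68, 11, true), (42, 51, false), (50, 31, true), (75, 17, true), (44, 22, false), (67, 41, true), (57, 30, false), (76, 27, false), (39, 31, false), (41, 22, false), (42, 12, false), (70, 11, true), (47, 9, false), (49, 44, false), (75, 4, true), (62, 14, true), (70, 13, true), (47, 46, false), (63, 15, false), (49, 39, true), (49, 37, false), (70, 30, false), (74, 38, false), (41, 23, true), (72, 40, false), (75, 10, true), (52, 35, true), (66, 19, true), (59, 22, false), (75, 41, false), (74, 1, true), (75, 16, true), (69, 31, true),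 (60, 18, true), (55, 19, true), (46, 42, false), (62, 46, false), (40, 4, false), (61, 49, false), (42, 42, false), (74, 42, false), (45, 36, false), (58, 45, false), (53, 21, true), (74, 29, false), (59, 35, false), (70, 55, false), (56, 1, true), (76, 29, false), (67, 45, false), (60, 42, false), (51, 44, true), (55, 17, true), (67, 40, false), (63, 9, true), (65, 29, true), (75, 0, true), (52, 15, true), (46, 8, false), (70, 57, true), (55, 2, true), (64, 11, true), (75, 32, false), (70, 60, true), (72, 16, true), (76, 22, true), (52, 17, true), (71, 37, false), (45, 14, true), (54, 39, true), (63, 26, false), (76, 34, true), (66, 2, true), (47, 34, false), (74, 18, true), (52, 14, true), (56, 32, true), (63, 42, false), (73, 31, false), (34, 0, true), (42, 28, true), (69, 24, false), (48, 36, true), (58, 40,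 false), (48, 16, false), (75, 7, true), (59, 29, true), (67, 58, false), (65, 50, false), (56, 9, true), (58, 37, true), (59, 34, true), (76, 49, false), (72, 24, false), (52, 13, true), (75, 42, false), (45, 21, false), (69, 4, true), (73, 37, false), (41, 26, true), (71, 48, false), (33, 21, true), (39, 34, true), (53, 28, true), (53, 53, true), (62, 9, false), (43, 17, true), (74, 0, true), (42, 25, true), (65, 46, true), (46, 44, false), (46, 13, true), (71, 51, true), (65, 52, false), (67, 0, true), (68, 10, true), (56, 17, false), (48, 22, false), (40, 27, true), (58, 30, false), (76, 36, false), (49, 28, true), (42, 33, false), (44, 16, false), (63, 19, false), (48, 37, false), (47, 15, false), (46, 28, false), (63, 25, true), (71, 55, true), (58, 22, true), (74, 19, true), (75, 2, true), (59, 25, false),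 (73, 5, true), (45, 1, true), (57, 26, true), (53, 17, false), (44, 15, true), (45, 40, false), (48, 32, false), (55, 24, false), (47, 44, false), (58, 33, true), (41, 25, true), (48, 45, false), (38, 3, false), (51, 27, false), (56, 25, true), (59, 14, true), (39, 30, false), (75, 10, false), (51, 18, false), (45, 33, false), (59, 14, false), (42, 46, false), (48, 30, true), (64, 18, true), (47, 29, true), (54, 44, true), (51, 6, true), (33, 2, true), (52, 31, false), (73, 29, false), (48, 35, true), (45, 3, true), (62, 24, true), (70, 51, true), (49, 34, false), (46, 17, false), (42, 27, false), (65, 10, false), (44, 3, false), (61, 47, false), (44, 6, true), (60, 12, false), (43, 29, true), (60, 32, true), (55, 27, false), (70, 45, false), (53, 29, true), (60, 44, false), (47, 4, true), (44, 32, true), (40,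 12, false), (67, 9, false), (75, 34, false), (55, 0, true), (64, 6, false), (73, 30, false), (46, 29, false), (53, 48, false), (67, 13, true), (39, 37, false), (76, 23, true), (55, 13, true), (67, 4, true), (70, 18, false), (33, 0, true), (53, 27, true), (66, 39, false), (42, 3, false), (73, 33, false), (67, 35, true), (67, 9, true), (45, 5, false), (39, 32, false), (63, 41, false), (50, 18, true), (67, 48, true), (50, 10, true), (48, 45, true), (52, 57, false), (46, 11, true), (64, 18, false), (70, 3, true), (47, 40, true), (48, 14, false), (72, 13, true), (54, 29, true), (69, 46, true), (46, 38, true), (51, 1, true), (63, 27, false), (46, 10, true), (45, 34, false), (70, 21, true), (75, 31, false), (69, 30, false), (60, 33, true), (42, 29, true), (53, 5, true), (53, 40, false), (45, 27, true), (73, 12, true),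 (67, 39, false), (47, 14, true), (68, 38, false), (63, 14, false), (50, 46, false), (55, 26, false), (49, 14, false), (52, 16, false), (42, 6, false), (53, 32, false), (39, 5, true), (70, 0, true), (70, 52, true), (75, 6, true), (41, 15, false), (53, 13, true), (59, 6, false), (58, 41, true), (64, 29, false), (73, 2, true), (68, 10, false), (70, 46, false), (41, 14, false), (48, 29, true), (76, 49, true), (55, 18, true), (50, 35, false), (57, 47, true), (51, 12, false), (69, 8, false), (50, 12, false), (36, 6, true), (70, 12, true), (62, 34, true), (74, 30, false), (70, 9, false), (64, 23, true), (45, 30, false), (66, 15, true), (53, 18, true), (69, 28, false), (44, 15, false), (47, 11, false), (42, 21, false), (49, 36, true), (61, 9, true), (72, 0, false), (67, 36, true), (65, 36, true), (48, 19, false), (62,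 13, false), (51, 25, true), (42, 41, false), (60, 51, false), (50, 10, false), (46, 43, false), (50, 15, false), (32, 6, true), (52, 48, false), (64, 17, false), (72, 31, false), (76, 30, false), (49, 0, true), (50, 5, false), (52, 1, true), (42, 10, false), (52, 30, false), (58, 5, false), (48, 19, true), (54, 24, true), (70, 54, true), (67, 30, true), (46, 5, true), (50, 41, false), (61, 42, true), (57, 17, true), (39, 43, false), (68, 26, true), (46, 36, false), (67, 28, false), (60, 34, true), (48, 18, true), (54, 11, true), (51, 15, false), (74, 37, false), (67, 39, true), (45, 39, true), (73, 36, false), (69, 14, true), (42, 43, true), (48, 27, false), (72, 0, true), (67, 22, true), (42, 21, true), (52, 12, false), (67, 38, false), (51, 9, false), (42, 34, false), (40, 21, false), (49, 32, true), (67, 25,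 false), (57, 20, false), (72, 42, false), (48, 46, false), (63, 36, true), (58, 15, false), (62, 33, false), (50, 42, true), (47, 0, true), (60, 52, false), (55, 38, false), (52, 44, false), (47, 3, true), (46, 18, false), (43, 17, false), (60, 25, true), (49, 8, false), (71, 46, false), (63, 17, false), (58, 40, true), (50, 13, false), (53, 41, false), (69, 40, true), (54, 12, false), (45, 21, true), (45, 18, false), (60, 15, true), (42, 32, true), (54, 13, true), (50, 51, false)]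
noncomputable def tc3kw_hc1T_c0 : ℕ → List Gen := (nd 2 (nd 1 (lf [.a]) (lf [.b])) (nd 3 (lf [.c]) (lf [.d])))
noncomputable def tc3kw_hc1T : ℕ → List Gen := tc3kw_hc1T_c0
noncomputable def tc3kw_hc2T_c0 : ℕ → List Gen := (nd 2 (nd 1 (lf []) (lf [])) (nd 3 (lf []) (lf [])))
noncomputable def tc3kw_hc2T : ℕ → List Gen := tc3kw_hc2T_c0

noncomputable def tc3kw_rd : W.RData Gen := ⟨wrapRow 80234 tc3kw_rrowT, 80234, 48600, c3kw_gi, c3kw_gof, c3kw_gens, circTab 3022 tc3kw_circT, circTab 4 tc3kw_hc1T, circTab 4 tc3kw_hc2T, 5⟩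
noncomputable def tc3kw_rf (p : ℕ) : Bool := tc3kw_rd.chk p
def tc3kw_rsw : List (List Gen) := [[.a], [.b], [.c], [.d]]

end Cfsg.Agent.H41.C3P
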